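import Cfsg.Agent.BabyM.ConcEq
import Cfsg.Agent.BabyM.InstZ

/-!
# The concrete model: membership of words in `Q`, `C`, `G`
-/

set_option autoImplicit false

namespace Cfsg.Agent.BabyM.InstMem

open Cfsg.Agent.BabyM.Conc Cfsg.Agent.BabyM.Model Cfsg.Agent.BabyM.Inst Cfsg.Agent.BabyM.InstZ
  Cfsg.Agent.BabyM.ConcEq

theorem W_two (a b : Ltr) : W [a, b] = E b * E a := by
  rw [W_cons, W_single]

theorem z_mem_Q : E .z ∈ Q := by
  have h : E .z = W [.X0, .Z0, .X0, .Z0] := by rw [w_z, W_single]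
  rw [h, W_cons, W_cons, W_cons, W_single]
  have hX : E .X0 ∈ Q := E_mem_Q rfl
  have hZ : E .Z0 ∈ Q := E_mem_Q rfl
  exact Q.mul_mem (Q.mul_mem (Q.mul_mem hZ hX) hZ) hX

theorem z_mem_C : E .z ∈ C := Q_le_C z_mem_Q

theorem p_mem : E .p ∈ C := E_mem_C rfl

theorem step {a b : Ltr} (h : W [a, .p] = W [b]) (ha : E a ∈ C) : E b ∈ C := by
  rw [W_two, W_single] at h
  rw [← h]
  exact C.mul_mem p_mem ha

theorem p2_mem : E .p2 ∈ C := step w_p2 p_mem

theorem p3_mem : E .p3 ∈ C := step w_p3 p2_mem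

theorem p4_mem : E .p4 ∈ C := step w_p4 p3_mem

theorem p5_mem : E .p5 ∈ C := step w_p5 p4_mem

theorem p6_mem : E .p6 ∈ C := step w_p6 p5_mem

theorem p7_mem : E .p7 ∈ C := step w_p7 p6_mem

theorem p8_mem : E .p8 ∈ C := step w_p8 p7_mem

theorem p9_mem : E .p9 ∈ C := step w_p9 p8_mem

theorem p10_mem : E .p10 ∈ C := step w_p10 p9_mem

theorem eq_inv {a b : Ltr} (h : W [a, b] = W []) : E b = (E a)⁻¹ := by
  rw [W_two, W_nil] at h
  exact eq_inv_of_mul_eq_one_left h

theorem hi_eq : E .hi = (E .h)⁻¹ := eq_inv w_hi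

theorem xii_eq : E .xii = (E .xi)⁻¹ := eq_inv w_xii

theorem taui_eq : E .taui = (E .tau)⁻¹ := eq_inv w_taui

/-- the letters different from `τ`, `τ⁻¹` -/
def noT : Ltr → Bool
  | .tau => false
  | .taui => false
  | _ => true

theorem E_mem_C_of {l : Ltr} (h : noT l = true) : E l ∈ C := by
  cases l
  case z => exact z_mem_C
  case p2 => exact p2_mem
  case p3 => exact p3_mem
  case p4 => exact p4_mem
  case p5 => exact p5_mem
  case p6 => exact p6_mem
  case p7 => exact p7_mem
  case p8 => exact p8_mem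
  case p9 => exact p9_mem
  case p10 => exact p10_mem
  case hi => rw [hi_eq]; exact C.inv_mem (E_mem_C rfl)
  case xii => rw [xii_eq]; exact C.inv_mem (E_mem_C rfl)
  case tau => exact absurd h (by decide)
  case taui => exact absurd h (by decide)
  all_goals exact E_mem_C rfl

theorem C_le_G : C ≤ M.G := fun _ h => Subgroup.subset_closure (Or.inl h)

theorem tau_mem_G : E .tau ∈ M.G := Subgroup.subset_closure (Or.inr rfl)

theorem E_mem_G (l : Ltr) : E l ∈ M.G := by
  by_cases h : noT l = true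
  · exact C_le_G (E_mem_C_of h)
  · cases l
    case tau => exact tau_mem_G
    case taui => rw [taui_eq]; exact M.G.inv_mem tau_mem_G
    all_goals exact absurd rfl h

theorem W_mem_C_of {v : List Ltr} (h : v.all noT = true) : W v ∈ C :=
  W_mem_C fun l hl => E_mem_C_of (List.all_eq_true.1 h l hl)

theorem W_mem_G (v : List Ltr) : W v ∈ M.G := by
  induction v with
  | nil => exact M.G.one_mem
  | cons l v ih => rw [W_cons]; exact M.G.mul_mem ih (E_mem_G l)

theorem W_mem_Q_of {v : List Ltr} (h : v.all (fun l => l.isQ) = true) : W v ∈ Q := by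
  induction v with
  | nil => exact Q.one_mem
  | cons l v ih =>
    rw [List.all_cons, Bool.and_eq_true] at h
    rw [W_cons]
    exact Q.mul_mem (ih h.2) (E_mem_Q h.1)

/-- inverse letters of `τ` -/
theorem tau_taui (v : List Ltr) : W (v ++ [.tau, .taui]) = W v := by
  rw [W_append, w_taui, W_nil, one_mul]

end Cfsg.Agent.BabyM.InstMem
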