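import Cfsg.Prelude.Def_SporadicB
import Cfsg.Prelude.Def_Sporadic
import Cfsg.Agent.BabyM.ModTwo

/-!
# S0465 from a faithful rational representation of degree 4371

`of_rational`: a group satisfying `Cfsg.IsB` with a faithful rational representation of degree
4371 gives the statement S0465.
-/

set_option autoImplicit false

namespace Cfsg.Agent.BabyM.Glue

/-- Degree-free form: a faithful rational representation of odd degree `n`, `2 ≤ n ≤ m + 1`. -/
theorem of_rational_degree {K : Type*} [Group K] (hK : Cfsg.IsB K) {n m : ℕ} (hn : Odd n)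
    (hn2 : 2 ≤ n) (hm : n - 1 ≤ m) (ρ : K →* GL (Fin n) ℚ) (hρ : Function.Injective ρ) :
    ∃ H : Subgroup (GL (Fin m) (ZMod 2)), Cfsg.IsB H := by
  obtain ⟨hs, hc⟩ := hK
  have : Finite K := Nat.finite_of_card_ne_zero (by rw [hc]; norm_num)
  obtain ⟨f, hf⟩ := Cfsg.Agent.BabyM.ModTwo.exists_of_rational (K := K) (p := 3) (by norm_num)
    (by norm_num) (by rw [hc]; norm_num) hn hn2 ρ hρ hm
  let e : K ≃* f.range := MonoidHom.ofInjective hf
  have hs' : IsSimpleGroup f.range := e.symm.isSimpleGroup
  exact ⟨f.range, hs', by rw [← Nat.card_congr e.toEquiv, hc]⟩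

/-- A group satisfying `Cfsg.IsB` with a faithful rational representation of degree 4371 gives
S0465. -/
theorem of_rational {K : Type*} [Group K] (hK : Cfsg.IsB K)
    (ρ : K →* GL (Fin 4371) ℚ) (hρ : Function.Injective ρ) :
    ∃ (F : Type) (_ : Field F) (_ : Fintype F), CharP F 2 ∧
      ∃ H : Subgroup (GL (Fin 4370) F), Cfsg.IsB H :=
  ⟨ZMod 2, inferInstance, inferInstance, inferInstance,
    of_rational_degree hK (by decide) (by norm_num) (by norm_num) ρ hρ⟩

/-- The same for a representation on a rational vector space of dimension 4371. -/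
theorem of_rational_module {K V : Type*} [Group K] (hK : Cfsg.IsB K) [AddCommGroup V]
    [Module ℚ V] (hV : Module.finrank ℚ V = 4371) (ρ : Representation ℚ K V)
    (hρ : Function.Injective ρ) :
    ∃ (F : Type) (_ : Field F) (_ : Fintype F), CharP F 2 ∧
      ∃ H : Subgroup (GL (Fin 4370) F), Cfsg.IsB H := by
  have : FiniteDimensional ℚ V := FiniteDimensional.of_finrank_pos (by rw [hV]; norm_num)
  obtain ⟨f, hf⟩ := Cfsg.Agent.BabyM.ModTwo.exists_injective_GL ρ hρ (m := 4371) hV.le
  exact of_rational hK f hf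

end Cfsg.Agent.BabyM.Glue
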