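import Cfsg.Agent.BabyM.AbsFinal
import Cfsg.Agent.BabyM.Glue

/-!
# S0465 from the model of the Baby Monster
-/

set_option autoImplicit false

namespace Cfsg.Agent.BabyM.GlueModel

open Cfsg.Agent.BabyM.Model

/-- The complete model gives the statement S0465. -/
theorem s0465 {W : Type} [AddCommGroup W] [Module ℚ W] {M : BData W} {K₀ : Type} [Group K₀]
    (A : BAll M K₀) :
    ∃ (F : Type) (_ : Field F) (_ : Fintype F), CharP F 2 ∧
      ∃ H : Subgroup (GL (Fin 4370) F), Cfsg.IsB H := by
  let ρ : Representation ℚ M.G W :=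
    { toFun := fun g => ((g : W ≃ₗ[ℚ] W) : W →ₗ[ℚ] W)
      map_one' := rfl
      map_mul' := fun _ _ => rfl }
  refine Cfsg.Agent.BabyM.Glue.of_rational_module A.isB A.rep.finrank_eq ρ ?_
  intro g h hgh
  apply Subtype.ext
  apply LinearEquiv.toLinearMap_injective
  exact hgh

end Cfsg.Agent.BabyM.GlueModel
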