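import Cfsg.Agent.BabyM.HeadAct

/-!
# `Hyp23` for the concrete model

`C` acts on the head through the stabiliser of `l₀ = (4, -4, 0, …)` in `Co0`, onto.
-/

set_option autoImplicit false

namespace Cfsg.Agent.BabyM.HeadHyp

open Cfsg Cfsg.Agent.Leech.Code Cfsg.Agent.Leech.Basic Cfsg.Agent.Leech.Co0Elts
  Cfsg.Agent.Leech.Xi Cfsg.Agent.Leech.Min Cfsg.Agent.Leech.Trans Cfsg.Agent.Leech.TransPair
  Cfsg.Agent.SporadicA
open Cfsg.Agent.Monster.VecEngine Cfsg.Agent.Monster.VecSpace Cfsg.Agent.BabyM.Conc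
open Cfsg.Agent.BabyM.Co2GenStd Cfsg.Agent.BabyM.HeadAct Cfsg.Agent.BabyM.Rigid23Thm
  Cfsg.Agent.BabyM.RigidField Cfsg.Agent.BabyM.Design Cfsg.Agent.BabyM.RepOf
open Cfsg.Agent.BabyM.NbAct (pPerm hPerm pPerm_tab hPerm_tab idx_eq_pidx)
open Cfsg.Agent.SporadicA.GolayBase (idx pt idx_lt pt_idx idx_pt idx_injective mem_fin)

/-! ### The groups -/

/-- `p ∈ M24` -/
theorem p_mem : pPerm ∈ M24 := DuadGen.p_mem pPerm_tab

/-- `h ∈ M24` -/
theorem h_mem : hPerm ∈ M24 := DuadGen.h_mem hPerm_tab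

/-- The explicit generators generate the stabiliser. -/
theorem gen_eq : Subgroup.closure {g | IsGen p_mem h_mem g} = MulAction.stabilizer Co0 l₀ :=
  genGroup_eq pPerm_tab hPerm_tab

/-- every letter of `C` acts on the head as an element of `Co0` fixing `l₀` -/
theorem exists_acts {l : Ltr} (h : l.isC = true) : ∃ c : Co0, c ∈ MulAction.stabilizer Co0 l₀ ∧ Acts l c := by
  have key : ∀ {c : Co0}, IsGen p_mem h_mem c → c ∈ MulAction.stabilizer Co0 l₀ := by
    intro c hc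
    rw [← gen_eq]
    exact Subgroup.subset_closure hc
  have one : (1 : Co0) ∈ MulAction.stabilizer Co0 l₀ := one_mem _
  cases l
  case X0 => exact ⟨1, one, acts_one ok_X0⟩
  case X1 => exact ⟨1, one, acts_one ok_X1⟩
  case X2 => exact ⟨1, one, acts_one ok_X2⟩
  case X3 => exact ⟨1, one, acts_one ok_X3⟩
  case X4 => exact ⟨1, one, acts_one ok_X4⟩
  case X5 => exact ⟨1, one, acts_one ok_X5⟩
  case X6 => exact ⟨1, one, acts_one ok_X6⟩
  case X7 => exact ⟨1, one, acts_one ok_X7⟩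
  case X8 => exact ⟨1, one, acts_one ok_X8⟩
  case X9 => exact ⟨1, one, acts_one ok_X9⟩
  case X10 => exact ⟨1, one, acts_one ok_X10⟩
  case Z0 => exact ⟨1, one, acts_one ok_Z0⟩
  case Z1 => exact ⟨1, one, acts_one ok_Z1⟩
  case Z2 => exact ⟨1, one, acts_one ok_Z2⟩
  case Z3 => exact ⟨1, one, acts_one ok_Z3⟩
  case Z4 => exact ⟨1, one, acts_one ok_Z4⟩
  case Z5 => exact ⟨1, one, acts_one ok_Z5⟩
  case Z6 => exact ⟨1, one, acts_one ok_Z6⟩
  case Z7 => exact ⟨1, one, acts_one ok_Z7⟩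
  case Z8 => exact ⟨1, one, acts_one ok_Z8⟩
  case Z9 => exact ⟨1, one, acts_one ok_Z9⟩
  case Z10 => exact ⟨1, one, acts_one ok_Z10⟩
  case y1 => exact ⟨_, key (.sgn 0 (by norm_num)), acts_sgn (by norm_num) ok_y1⟩
  case y2 => exact ⟨_, key (.sgn 1 (by norm_num)), acts_sgn (by norm_num) ok_y2⟩
  case y3 => exact ⟨_, key (.sgn 2 (by norm_num)), acts_sgn (by norm_num) ok_y3⟩
  case y4 => exact ⟨_, key (.sgn 3 (by norm_num)), acts_sgn (by norm_num) ok_y4⟩
  case y5 => exact ⟨_, key (.sgn 4 (by norm_num)), acts_sgn (by norm_num) ok_y5⟩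
  case y6 => exact ⟨_, key (.sgn 5 (by norm_num)), acts_sgn (by norm_num) ok_y6⟩
  case y7 => exact ⟨_, key (.sgn 6 (by norm_num)), acts_sgn (by norm_num) ok_y7⟩
  case y8 => exact ⟨_, key (.sgn 7 (by norm_num)), acts_sgn (by norm_num) ok_y8⟩
  case y9 => exact ⟨_, key (.sgn 8 (by norm_num)), acts_sgn (by norm_num) ok_y9⟩
  case y10 => exact ⟨_, key (.sgn 9 (by norm_num)), acts_sgn (by norm_num) ok_y10⟩
  case p => exact ⟨_, key .p, acts_perm pPerm_tab _ ok_p⟩
  case h => exact ⟨_, key .h, acts_neg hPerm_tab _ ok_h⟩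
  case xi => exact ⟨_, key .xi, acts_xi ok_xi⟩
  all_goals exact absurd (show false = true from h) (by simp)

/-- every generator of the stabiliser comes from a letter of `C` -/
theorem exists_letter {c : Co0} (h : IsGen p_mem h_mem c) : ∃ l : Ltr, l.isC = true ∧ Acts l c := by
  cases h with
  | sgn k hk =>
    interval_cases k
    · exact ⟨.y1, rfl, acts_sgn (by norm_num) ok_y1⟩
    · exact ⟨.y2, rfl, acts_sgn (by norm_num) ok_y2⟩
    · exact ⟨.y3, rfl, acts_sgn (by norm_num) ok_y3⟩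
    · exact ⟨.y4, rfl, acts_sgn (by norm_num) ok_y4⟩
    · exact ⟨.y5, rfl, acts_sgn (by norm_num) ok_y5⟩
    · exact ⟨.y6, rfl, acts_sgn (by norm_num) ok_y6⟩
    · exact ⟨.y7, rfl, acts_sgn (by norm_num) ok_y7⟩
    · exact ⟨.y8, rfl, acts_sgn (by norm_num) ok_y8⟩
    · exact ⟨.y9, rfl, acts_sgn (by norm_num) ok_y9⟩
    · exact ⟨.y10, rfl, acts_sgn (by norm_num) ok_y10⟩
  | p => exact ⟨.p, rfl, acts_perm pPerm_tab _ ok_p⟩
  | «h» => exact ⟨.h, rfl, acts_neg hPerm_tab _ ok_h⟩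
  | xi => exact ⟨.xi, rfl, acts_xi ok_xi⟩

/-- `C` acts on the head through the stabiliser of `l₀`. -/
theorem act : ∀ g ∈ C, ∃ c : Co0, c • l₀ = l₀ ∧ ∀ x : leechLattice, g (ω x) = ω (c • x) := by
  intro g hg
  induction hg using Subgroup.closure_induction with
  | mem g hg =>
    obtain ⟨l, hl, rfl⟩ := hg
    obtain ⟨c, hc, h⟩ := exists_acts hl
    exact ⟨c, hc, h⟩
  | one => exact ⟨1, one_smul _ _, fun x => by rw [one_smul]; rfl⟩
  | mul a b _ _ ha hb =>
    obtain ⟨c, hc, hc'⟩ := ha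
    obtain ⟨d, hd, hd'⟩ := hb
    exact ⟨c * d, by rw [mul_smul, hd, hc], fun x => by
      rw [LinearEquiv.mul_apply, hd', hc', mul_smul]⟩
  | inv a _ ha =>
    obtain ⟨c, hc, hc'⟩ := ha
    refine ⟨c⁻¹, by rw [inv_smul_eq_iff, hc], fun x => ?_⟩
    have h1 := hc' (c⁻¹ • x)
    rw [smul_inv_smul] at h1
    rw [← h1, ← LinearEquiv.mul_apply, inv_mul_cancel]
    rfl

/-- The full stabiliser occurs. -/
theorem onto : ∀ c : Co0, c • l₀ = l₀ → ∃ g ∈ C, ∀ x : leechLattice, g (ω x) = ω (c • x) := by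
  intro c hc
  have h1 : c ∈ Subgroup.closure {g | IsGen p_mem h_mem g} := by rw [gen_eq]; exact hc
  clear hc
  induction h1 using Subgroup.closure_induction with
  | mem c hc =>
    obtain ⟨l, hl, h⟩ := exists_letter hc
    exact ⟨E l, E_mem_C hl, h⟩
  | one => exact ⟨1, one_mem _, fun x => by rw [one_smul]; rfl⟩
  | mul a b _ _ ha hb =>
    obtain ⟨g, hg, hg'⟩ := ha
    obtain ⟨k, hk, hk'⟩ := hb
    exact ⟨g * k, mul_mem hg hk, fun x => by rw [LinearEquiv.mul_apply, hk', hg', mul_smul]⟩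
  | inv a _ ha =>
    obtain ⟨g, hg, hg'⟩ := ha
    refine ⟨g⁻¹, inv_mem hg, fun x => ?_⟩
    have h1 := hg' (a⁻¹ • x)
    rw [smul_inv_smul] at h1
    rw [← h1, ← LinearEquiv.mul_apply, inv_mul_cancel]
    rfl

/-! ### The form -/

theorem ln_mem : ∀ n < 24, U.testBit (ln n) = true := by decide +kernel

theorem ln_eq : ∀ n < 24, ∀ k < 24, (ln n = ln k ↔ n = k ∨ (n = 0 ∧ k = 23) ∨ (n = 23 ∧ k = 0)) := by
  decide +kernel

theorem wt_ln : ∀ n < 24, val wt (ln n) = if n = 0 ∨ n = 23 then 0 else -1 := by decide +kernel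

/-- the lane of a point -/
def lane (i : GolayPt) : Lane U := ⟨ln (idx i), ln_mem _ (idx_lt i)⟩

theorem D_eq (i : GolayPt) : D i = Pi.single (lane i) 1 := by
  funext j
  show (if j.1 = ln (idx i) then (1 : ℚ) else 0) = _
  by_cases h : j = lane i
  · subst h; rw [Pi.single_eq_same]; exact if_pos rfl
  · rw [Pi.single_eq_of_ne h, if_neg]
    intro h2; exact h (Subtype.ext h2)

theorem idx_none : idx none = 23 := rfl

theorem idx_zero : idx (some 0) = 0 := rfl

theorem idx_eq_23 (i : GolayPt) : idx i = 23 ↔ i = none :=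
  ⟨fun h => idx_injective (h.trans idx_none.symm), fun h => by rw [h]; rfl⟩

theorem idx_eq_0 (i : GolayPt) : idx i = 0 ↔ i = some 0 :=
  ⟨fun h => idx_injective (h.trans idx_zero.symm), fun h => by rw [h]; rfl⟩

theorem l₀_apply (i : GolayPt) : (l₀ : GolayPt → ℤ) i =
    if i = none then 4 else if i = some 0 then -4 else 0 := by
  by_cases h1 : i = none
  · subst h1; rw [if_pos rfl]; exact v0_left hne
  · by_cases h2 : i = some 0
    · subst h2; rw [if_neg h1, if_pos rfl]; exact v0_right hne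
    · rw [if_neg h1, if_neg h2]; exact v0_other hne h1 h2

theorem F_D (i k : GolayPt) : F (D i) (D k) =
    (if i = k then 1 / 8 else 0) - (((l₀ : GolayPt → ℤ) i : ℤ) : ℚ) * (((l₀ : GolayPt → ℤ) k : ℤ) : ℚ) / 256 := by
  have h1 : F (D i) (D k) = 1 / 16 * ((2 : ℚ) ^ (-(val wt (ln (idx k)))) *
      (if ln (idx k) = ln (idx i) then (1 : ℚ) else 0) * 1) := by
    conv_lhs => rw [D_eq k]
    rw [Inst.F_single]
    rfl
  rw [h1, wt_ln _ (idx_lt k), l₀_apply, l₀_apply]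
  have h2 := ln_eq _ (idx_lt k) _ (idx_lt i)
  simp only [idx_eq_23, idx_eq_0] at h2 ⊢
  by_cases hk1 : k = none
  · subst hk1
    by_cases hi1 : i = none
    · subst hi1; simp; norm_num
    · by_cases hi2 : i = some 0
      · subst hi2
        have h3 : ln (idx none) = ln (idx (some 0 : GolayPt)) := by decide
        rw [if_pos h3]; simp; norm_num
      · have h3 : ¬ ln (idx none) = ln (idx i) := by
          rw [h2]
          rintro (h | ⟨h, -⟩ | ⟨-, h⟩)
          · exact hi1 (idx_injective h.symm)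
          · exact absurd h (by decide)
          · exact hi2 h
        rw [if_neg h3]; simp [hi1, hi2]
  · by_cases hk2 : k = some 0
    · subst hk2
      by_cases hi1 : i = none
      · subst hi1
        have h3 : ln (idx (some 0 : GolayPt)) = ln (idx none) := by decide
        rw [if_pos h3]; simp; norm_num
      · by_cases hi2 : i = some 0
        · subst hi2; simp; norm_num
        · have h3 : ¬ ln (idx (some 0 : GolayPt)) = ln (idx i) := by
            rw [h2]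
            rintro (h | ⟨-, h⟩ | ⟨h, -⟩)
            · exact hi2 (idx_injective h.symm)
            · exact hi1 h
            · exact absurd h (by decide)
          rw [if_neg h3]; simp [hi1, hi2]
    · by_cases hik : i = k
      · subst hik
        simp [hk1, hk2]; norm_num
      · have h3 : ¬ ln (idx k) = ln (idx i) := by
          rw [h2]
          rintro (h | ⟨h, -⟩ | ⟨h, -⟩)
          · exact hik (idx_injective h.symm)
          · exact hk2 h
          · exact hk1 h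
        rw [if_neg h3]; simp [hk1, hk2, hik]

theorem form (x y : leechLattice) : F (ω x) (ω y) =
    (dotInt (x : GolayPt → ℤ) y : ℚ) / 32 -
      (dotInt (x : GolayPt → ℤ) l₀ : ℚ) * (dotInt (y : GolayPt → ℤ) l₀ : ℚ) / 1024 := by
  rw [ω_apply, ω_apply]
  simp only [map_smul, map_sum, LinearMap.smul_apply, LinearMap.sum_apply, smul_eq_mul]
  have h1 : ∀ i k : GolayPt, (((x : GolayPt → ℤ) i : ℤ) : ℚ) *
      ((((y : GolayPt → ℤ) k : ℤ) : ℚ) * F (D i) (D k)) =
      (if i = k then (((x : GolayPt → ℤ) i : ℤ) : ℚ) * (((y : GolayPt → ℤ) k : ℤ) : ℚ) / 8 else 0) -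
      ((((x : GolayPt → ℤ) i : ℤ) : ℚ) * (((l₀ : GolayPt → ℤ) i : ℤ) : ℚ)) *
      ((((y : GolayPt → ℤ) k : ℤ) : ℚ) * (((l₀ : GolayPt → ℤ) k : ℤ) : ℚ)) / 256 := by
    intro i k
    rw [F_D]
    split_ifs <;> ring
  have h2 : ∑ k : GolayPt, (((y : GolayPt → ℤ) k : ℤ) : ℚ) *
      ∑ i : GolayPt, (((x : GolayPt → ℤ) i : ℤ) : ℚ) * F (D i) (D k) =
      (dotInt (x : GolayPt → ℤ) y : ℚ) / 8 -
      (dotInt (x : GolayPt → ℤ) l₀ : ℚ) * (dotInt (y : GolayPt → ℤ) l₀ : ℚ) / 256 := by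
    have h3 : ∀ k : GolayPt, (((y : GolayPt → ℤ) k : ℤ) : ℚ) *
        ∑ i : GolayPt, (((x : GolayPt → ℤ) i : ℤ) : ℚ) * F (D i) (D k) =
        (((x : GolayPt → ℤ) k : ℤ) : ℚ) * (((y : GolayPt → ℤ) k : ℤ) : ℚ) / 8 -
        (dotInt (x : GolayPt → ℤ) l₀ : ℚ) *
          ((((y : GolayPt → ℤ) k : ℤ) : ℚ) * (((l₀ : GolayPt → ℤ) k : ℤ) : ℚ)) / 256 := by
      intro k
      rw [Finset.mul_sum]
      have h4 : ∀ i : GolayPt, (((y : GolayPt → ℤ) k : ℤ) : ℚ) *
          ((((x : GolayPt → ℤ) i : ℤ) : ℚ) * F (D i) (D k)) =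
          (if i = k then (((x : GolayPt → ℤ) i : ℤ) : ℚ) * (((y : GolayPt → ℤ) k : ℤ) : ℚ) / 8 else 0) -
          ((((x : GolayPt → ℤ) i : ℤ) : ℚ) * (((l₀ : GolayPt → ℤ) i : ℤ) : ℚ)) *
          ((((y : GolayPt → ℤ) k : ℤ) : ℚ) * (((l₀ : GolayPt → ℤ) k : ℤ) : ℚ)) / 256 := by
        intro i
        rw [← h1]; ring
      rw [Finset.sum_congr rfl fun i _ => h4 i, Finset.sum_sub_distrib, Finset.sum_ite_eq',
        if_pos (Finset.mem_univ k), ← Finset.sum_div, ← Finset.sum_mul]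
      congr 3
      unfold dotInt
      push_cast
      rfl
    rw [Finset.sum_congr rfl fun k _ => h3 k, Finset.sum_sub_distrib, ← Finset.sum_div,
      ← Finset.sum_div, ← Finset.mul_sum]
    unfold dotInt
    push_cast
    rfl
  have h5 : (-(1 / 2) : ℚ) * ((-(1 / 2) : ℚ) * ((dotInt (x : GolayPt → ℤ) y : ℚ) / 8 -
      (dotInt (x : GolayPt → ℤ) l₀ : ℚ) * (dotInt (y : GolayPt → ℤ) l₀ : ℚ) / 256)) =
      (dotInt (x : GolayPt → ℤ) y : ℚ) / 32 -
      (dotInt (x : GolayPt → ℤ) l₀ : ℚ) * (dotInt (y : GolayPt → ℤ) l₀ : ℚ) / 1024 := by ring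
  rw [← h5, ← h2]
  congr 1
  rw [Finset.mul_sum]
  exact Finset.sum_congr rfl fun k _ => by ring

/-! ### The base vectors -/

theorem ω_l₀ : ω l₀ = 0 := by
  apply F_self_eq_zero
  have h := sqNorm_v0 hne
  rw [form, dotInt_self, h]
  push_cast
  norm_num

theorem r₀_type4 : Type4 (Rigid23.e (some 0) (-4) + Rigid23.e (some 1) 4) :=
  Rigid23.type4_e (by decide) (Or.inr rfl) (Or.inl rfl)

/-- `r₀ = (0, -4, 4, 0, …)` (points `∞, 0, 1`) -/
def r₀ : leechLattice := ⟨_, (isLeech_of_type4 r₀_type4).mem⟩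

theorem r₀_apply (i : GolayPt) : (r₀ : GolayPt → ℤ) i =
    (if i = some 0 then -4 else 0) + (if i = some 1 then 4 else 0) := rfl

theorem r₀_mem : (r₀ : GolayPt → ℤ) ∈ RR l₀ := by
  refine ⟨r₀.2, sqNorm_of_type4 r₀_type4, ?_⟩
  rw [dotInt_comm, dot_v0, r₀_apply, r₀_apply]
  decide

theorem u₀_eq : Inst.u₀ = ω (vv l₀ r₀) := by
  have z1 : ¬ ((0 : ZMod 23) = 1) := by decide
  have z2 : ¬ ((1 : ZMod 23) = 0) := by decide
  rw [ω_apply, Inst.u₀_eq]
  have h1 : ∀ i : GolayPt, (((vv l₀ r₀ : leechLattice) : GolayPt → ℤ) i : ℤ) =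
      (if i = none then -4 else 0) + (if i = some 0 then -4 else 0) + (if i = some 1 then 8 else 0) := by
    intro i
    rw [vv_coe, Pi.sub_apply, Pi.add_apply, l₀_apply, r₀_apply]
    by_cases h1 : i = none
    · subst h1; simp
    · by_cases h2 : i = some 0
      · subst h2; simp [z1, z2]
      · by_cases h3 : i = some 1
        · subst h3; simp [z1, z2]
        · simp [h1, h2, h3]
  have h2 : ∑ i : GolayPt, (((vv l₀ r₀ : leechLattice) : GolayPt → ℤ) i : ℚ) • D i =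
      (-4 : ℚ) • D none + (-4 : ℚ) • D (some 0) + (8 : ℚ) • D (some 1) := by
    have h3 : ∀ i : GolayPt, (((vv l₀ r₀ : leechLattice) : GolayPt → ℤ) i : ℚ) • D i =
        (if i = none then (-4 : ℚ) • D none else 0) + (if i = some 0 then (-4 : ℚ) • D (some 0) else 0) +
        (if i = some 1 then (8 : ℚ) • D (some 1) else 0) := by
      intro i
      rw [h1]
      by_cases h1 : i = none
      · subst h1; simp
      · by_cases h2 : i = some 0
        · subst h2; simp [z1, z2]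
        · by_cases h3 : i = some 1
          · subst h3; simp [z1, z2]
          · simp [h1, h2, h3]
    rw [Finset.sum_congr rfl fun i _ => h3 i, Finset.sum_add_distrib, Finset.sum_add_distrib,
      Finset.sum_ite_eq', Finset.sum_ite_eq', Finset.sum_ite_eq', if_pos (Finset.mem_univ _),
      if_pos (Finset.mem_univ _), if_pos (Finset.mem_univ _)]
  rw [h2]
  funext j
  have hI : Inst.laneI.1 = 1344 := rfl
  have hA : Inst.laneA.1 = 1345 := rfl
  have hs : ∀ (L : Lane U) (c : ℚ), (Pi.single L c : V) j = if j.1 = L.1 then c else 0 := by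
    intro L c
    by_cases h : j = L
    · subst h; rw [Pi.single_eq_same, if_pos rfl]
    · rw [Pi.single_eq_of_ne h, if_neg]
      intro h2; exact h (Subtype.ext h2)
  have hD1 : D none j = if j.1 = 1344 then 1 else 0 := rfl
  have hD2 : D (some 0) j = if j.1 = 1344 then 1 else 0 := rfl
  have hD3 : D (some 1) j = if j.1 = 1345 then 1 else 0 := rfl
  rw [Pi.add_apply, hs, hs, hI, hA, Pi.smul_apply, Pi.add_apply, Pi.add_apply, Pi.smul_apply,
    Pi.smul_apply, Pi.smul_apply, hD1, hD2, hD3]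
  simp only [smul_eq_mul]
  by_cases h1 : j.1 = 1344
  · have h2 : ¬ j.1 = 1345 := by rw [h1]; decide
    rw [if_pos h1, if_neg h2, if_pos h1, if_neg h2]; norm_num
  · rw [if_neg h1, if_neg h1]
    split_ifs <;> norm_num

/-- **The action on the head of the concrete model.** -/
theorem hyp23 : Hyp23 Inst.M l₀ r₀ ω where
  norm_l := sqNorm_v0 hne
  r₀_mem := r₀_mem
  ω_l := ω_l₀
  u₀_eq := u₀_eq
  form := form
  act := act
  onto := onto

/-- field `rigid` of `BRep` -/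
theorem rigid : ∀ k : V ≃ₗ[ℚ] V,
    (∀ x ∈ Inst.M.U, ∀ y ∈ Inst.M.U, Inst.M.F (k x) (k y) = Inst.M.F x y) →
    (∀ g ∈ Inst.M.C, ∃ h ∈ Inst.M.C, k (g Inst.M.u₀) = h Inst.M.u₀) →
    ∃ c ∈ Inst.M.C, (∀ g ∈ Inst.M.C, k (g Inst.M.u₀) = c (g Inst.M.u₀)) ∨
      (∀ g ∈ Inst.M.C, k (g Inst.M.u₀) = - c (g Inst.M.u₀)) := hyp23.rigid

/-- field `U_span` of `BRep` -/
theorem U_span : ∀ g ∈ Inst.M.C, g Inst.M.u₀ ∈ Submodule.span ℚ
    {x | ∃ h ∈ Inst.M.C, Inst.M.F (h Inst.M.u₀) Inst.M.u₀ = -1 ∧ x = h Inst.M.u₀} := hyp23.U_span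

end Cfsg.Agent.BabyM.HeadHyp
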