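import Cfsg.Agent.BabyM.KTab
import Cfsg.Agent.BabyM.HeadHyp
import Cfsg.Agent.BabyM.LinkTrans

/-!
# Transitivity on the `2300` lines: the concrete model
-/

set_option autoImplicit false

namespace Cfsg.Agent.BabyM.LinkX

open Cfsg Cfsg.Agent.Monster.VecEngine Cfsg.Agent.Monster.VecSpace Cfsg.Agent.BabyM.Conc
open Cfsg.Agent.BabyM.KTab Cfsg.Agent.BabyM.QAct

/-- the bits below `n`, with `m` at position `s` removed -/
noncomputable def mask (n s m : ℕ) : ℕ := Nat.xor (Nat.sub (Nat.pow 2 n) 1) (Nat.shiftLeft m s)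

theorem testBit_mask (n s m i : ℕ) :
    (mask n s m).testBit i = xor (decide (i < n)) (decide (i ≥ s) && m.testBit (i - s)) := by
  show ((2 ^ n - 1) ^^^ (m <<< s)).testBit i = _
  rw [Nat.testBit_xor, Nat.testBit_two_pow_sub_one, Nat.testBit_shiftLeft]

/-- the mask of the `X`-lanes -/
noncomputable def mX : ℕ := Nat.land U (mask 4096 1344 0x7fffff)

theorem mX_lt : mX < 2 ^ 8192 := by decide +kernel

theorem card_mX : Fintype.card (Lane mX) = 2300 := by
  have h1 := sum_lane mX_lt (fun _ => (1 : ℕ))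
  rw [Finset.sum_const, Finset.card_univ, smul_eq_mul, mul_one] at h1
  rw [h1, ← Finset.sum_filter, ← Finset.card_eq_sum_ones]
  exact Cfsg.Agent.Monster.PlaneArith.cardIs_sound (k := 13) (m := 13) (by norm_num) (by decide +kernel)

theorem testBit_mX {i : ℕ} (h1 : U.testBit i = true) (h2 : i < 4096) (h3 : ¬ (1344 ≤ i ∧ i ≤ 1366)) :
    mX.testBit i = true := by
  have h0 : ∀ a b : ℕ, (Nat.land a b).testBit i = (a.testBit i && b.testBit i) :=
    fun a b => Nat.testBit_and a b i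
  unfold mX
  rw [h0, h1, Bool.true_and, testBit_mask, decide_eq_true h2, show (0x7fffff : ℕ) = 2 ^ 23 - 1 by norm_num,
    Nat.testBit_two_pow_sub_one]
  have h4 : (decide (i ≥ 1344) && decide (i - 1344 < 23)) = false := by
    by_contra h
    rw [Bool.not_eq_false, Bool.and_eq_true, decide_eq_true_eq, decide_eq_true_eq] at h
    omega
  rw [h4]
  rfl

attribute [irreducible] mX

theorem card_X : Nat.card {i : Lane U // Cd.isX i} ≤ 2300 := by
  rw [← card_mX, ← Nat.card_eq_fintype_card]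
  have hf : ∀ i : {i : Lane U // Cd.isX i}, mX.testBit i.1.1 = true := by
    intro i
    have h1 := isX_iff.mp i.2
    refine testBit_mX i.1.2 h1.1 ?_
    rw [← cd_eq_zero_iff i.1.2 h1.1]
    exact h1.2
  refine Nat.card_le_card_of_injective (fun i => (⟨i.1.1, hf i⟩ : Lane mX)) ?_
  intro i j hij
  have h1 : i.1.1 = j.1.1 := congrArg (fun x : Lane mX => x.1) hij
  exact Subtype.ext (Subtype.ext h1)

/-- Field `trans` of `KCore.Link` for the concrete model. -/
theorem trans {wt' : Lane U → ℚ} (h : KCore.Hyp Cd u wt' Inst.M.C) {i₀ : Lane U} (hi₀ : Cd.isX i₀)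
    (hu : Inst.M.u₀ = u i₀) :
    ∀ i, Cd.isX i → ∃ g ∈ Inst.M.C, g (u i₀) = u i ∨ g (u i₀) = - u i :=
  LinkTrans.trans h HeadHyp.hyp23 hu hi₀ card_X

end Cfsg.Agent.BabyM.LinkX
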