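/-
The identities `τ v_r = n v_(tp r)` and `τ⁻¹ v_r = n v_(tm r)`.
Generated file (blueprints/R19/model_B_512).
-/
import Cfsg.Agent.BabyM.CertVec

set_option autoImplicit false
set_option maxRecDepth 100000

namespace Cfsg.Agent.BabyM.CertTau

open Cfsg.Agent.Monster.VecEngine Cfsg.Agent.Monster.VecSpace Cfsg.Agent.BabyM.Conc Cfsg.Agent.BabyM.CertVec

/-- `τ v_r` is in the `N`-orbit of `v_(tp r)`. -/
def tp : ℕ → ℕ
  | 0 => 0
  | 1 => 2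
  | 2 => 2
  | 3 => 6
  | 4 => 7
  | 5 => 5
  | 6 => 6
  | 7 => 7
  | 8 => 11
  | 9 => 9
  | 10 => 13
  | 11 => 11
  | 12 => 15
  | 13 => 13
  | 14 => 14
  | 15 => 15
  | 16 => 17
  | 17 => 16
  | _ => 18

/-- The words `n` with `τ v_r = n v_(tp r)`. -/
def wp : ℕ → List Ltr
  | 0 => [.p, .p, .h, .p, .h, .p, .h, .p, .p, .p, .p, .h, .p, .p, .p, .y1, .y3, .y4, .y5, .y6, .y9]
  | 1 => [.p, .p, .p, .p, .p, .p, .h, .p, .p, .p, .p, .p, .y1, .y3, .y5, .y8, .y10, .X5, .X7, .X8, .X9]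
  | 2 => [.p, .p, .p, .p, .p, .p, .h, .p, .h, .p, .p, .h, .p, .p, .y2, .y4, .y6, .y7, .y8, .y9, .y10, .X5, .X7, .X8, .X9, .X10]
  | 3 => [.h, .p, .h, .p, .h, .p, .p, .p, .p, .p, .h, .p, .y1, .y2, .y5, .y8, .y10, .X0, .X1, .X2, .X3, .X4, .X7, .X8, .X9]
  | 4 => [.p, .p, .p, .p, .p, .p, .p, .p, .h, .p, .p, .p, .y4, .y5, .y6, .y7, .y8, .y10, .X0, .X1, .X2, .X3, .X4, .X6, .X7, .X8, .X9]
  | 5 => [.p, .p, .p, .h, .p, .h, .p, .h, .p, .p, .p, .h, .y1, .y3, .y6, .y7, .y8, .y10, .Z7, .Z8, .Z9, .X10]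
  | 6 => [.p, .p, .p, .p, .p, .p, .h, .p, .p, .p, .h, .p, .p, .y2, .y3, .y4, .y7, .y9, .X0, .X2, .X4, .X5, .X7, .X9, .X10, .X0, .Z0, .X0, .Z0]
  | 7 => [.p, .p, .p, .p, .p, .p, .p, .p, .h, .p, .p, .p, .y4, .y5, .y6, .y7, .y9, .Z5, .Z7, .Z8, .X1, .X4, .X5, .X10, .X0, .Z0, .X0, .Z0]
  | 8 => [.p, .p, .h, .p, .h, .p, .p, .p, .p, .p, .y1, .y2, .y3, .y4, .y7, .y8, .y9, .y10, .Z3, .X2, .X3, .X5, .X9]
  | 9 => [.p, .p, .h, .p, .p, .p, .h, .p, .p, .p, .p, .p, .h, .p, .h, .y2, .y3, .y4, .y5, .y6, .y7, .y9, .y10, .Z6, .Z7, .Z8, .Z10, .X1, .X3, .X6, .X8, .X9]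
  | 10 => [.y2, .y3, .y5, .y6, .y9, .Z7, .Z9, .Z10, .X1, .X2, .X4, .X7]
  | 11 => [.p, .p, .p, .p, .p, .h, .p, .h, .p, .h, .p, .p, .p, .y1, .y3, .y4, .y5, .y7, .y8, .y9, .Z9, .X0, .X5, .X9, .X10, .X0, .Z0, .X0, .Z0]
  | 12 => [.p, .p, .p, .p, .p, .p, .h, .p, .p, .p, .p, .h, .p, .y3, .y4, .y5, .y9, .y10, .Z6, .Z10, .X2, .X4, .X5, .X6, .X8]
  | 13 => [.h, .p, .h, .p, .h, .p, .h, .p, .h, .y1, .y3, .y4, .y6, .y8, .y10, .Z0, .Z4, .Z6, .X0, .X5, .X7, .X10]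
  | 14 => [.p, .p, .p, .p, .p, .p, .p, .h, .p, .p, .p, .p, .y2, .y3, .y4, .y10, .Z0, .Z4, .Z5, .Z8, .Z9, .X1, .X3, .X7, .X9]
  | 15 => [.p, .p, .p, .p, .p, .p, .h, .p, .p, .p, .p, .h, .p, .y2, .y3, .y5, .y6, .y8, .y9, .y10, .Z2, .Z8, .X2, .X4, .X5, .X6, .X8, .X10]
  | 16 => [.h, .p, .h, .p, .p, .p, .h, .p, .p, .p, .p, .h, .p, .h, .p, .y3, .y9, .y10, .Z4, .Z5, .Z6, .Z7, .Z8, .Z9, .Z10, .X0, .X1, .X7, .X9, .X10, .X0, .Z0, .X0, .Z0]
  | 17 => [.p, .p, .p, .p, .p, .h, .p, .p, .h, .p, .p, .p, .y2, .y3, .y4, .y5, .y10, .Z2, .Z5, .Z6, .Z7, .Z8, .Z10, .X2, .X4, .X10, .X0, .Z0, .X0, .Z0]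
  | _ => [.h, .p, .h, .p, .p, .p, .h, .p, .p, .p, .p, .h, .y2, .y3, .y4, .y6, .y7, .Z0, .Z1, .Z4, .Z5, .Z6, .Z8, .Z10, .X2, .X3, .X5, .X7, .X9, .X0, .Z0, .X0, .Z0]

/-- `τ⁻¹ v_r` is in the `N`-orbit of `v_(tm r)`. -/
def tm : ℕ → ℕ
  | 0 => 0
  | 1 => 2
  | 2 => 1
  | 3 => 6
  | 4 => 7
  | 5 => 5
  | 6 => 3
  | 7 => 4
  | 8 => 11
  | 9 => 9
  | 10 => 13
  | 11 => 8
  | 12 => 15
  | 13 => 10
  | 14 => 14
  | 15 => 12
  | 16 => 17
  | 17 => 17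
  | _ => 18

/-- The words `n` with `τ⁻¹ v_r = n v_(tm r)`. -/
def wm : ℕ → List Ltr
  | 0 => [.p, .h, .p, .h, .p, .h, .p, .h, .p, .h, .p, .h, .p, .h, .p, .p, .p, .h, .y4, .y5, .y7, .y9, .X10]
  | 1 => [.p, .p, .p, .p, .p, .p, .p, .h, .p, .p, .p, .p, .y2, .y3, .y4, .y5, .y10, .X5, .X7, .X8, .X10]
  | 2 => [.h, .p, .p, .p, .p, .p, .p, .h, .p, .h, .p, .h, .p, .p, .p, .y1, .y2, .y6, .y7, .y10, .X10]
  | 3 => [.p, .p, .p, .h, .p, .p, .p, .h, .p, .p, .y2, .y3, .y6, .y9, .y10, .X0, .X5, .X6, .X7, .X10]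
  | 4 => [.p, .p, .p, .p, .p, .p, .p, .p, .h, .p, .p, .p, .y3, .y6, .y7, .y8, .Z5, .Z7, .X2, .X6, .X7, .X8, .X10]
  | 5 => [.p, .p, .p, .h, .p, .h, .p, .h, .p, .p, .p, .h, .y1, .y2, .y3, .y4, .y5, .y7, .y8, .y9, .Z7, .Z8, .Z9, .X7, .X8, .X9, .X10]
  | 6 => [.p, .h, .p, .h, .p, .p, .p, .h, .p, .h, .p, .p, .h, .p, .p, .p, .h, .y8, .y9, .Z10, .X10]
  | 7 => [.y2, .y5, .y7, .y9, .Z5, .Z7, .Z8, .Z9, .X10, .X10]
  | 8 => [.p, .p, .h, .p, .p, .h, .p, .p, .p, .p, .y1, .y3, .Z0, .Z9, .X2, .X5, .X7, .X10]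
  | 9 => [.y2, .y3, .y5, .y7, .y8, .y10, .Z5, .X6, .X9, .X0, .Z0, .X0, .Z0, .X10]
  | 10 => [.h, .p, .h, .p, .h, .p, .h, .p, .h, .y1, .y2, .y5, .y6, .y8, .y10, .Z0, .Z5, .Z6, .Z7, .Z8, .X0, .X5, .X7, .X10]
  | 11 => [.p, .p, .h, .p, .h, .p, .p, .p, .p, .p, .y1, .y9, .Z3, .Z5, .Z7, .Z10, .X10]
  | 12 => [.h, .p, .p, .h, .p, .h, .p, .h, .y3, .y5, .y7, .y9, .y10, .Z3, .Z4, .Z5, .Z7, .Z8, .Z9, .X0, .X1, .X2, .X3, .X5, .X6, .X7, .X8, .X9, .X10]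
  | 13 => [.y2, .y5, .y8, .y9, .Z0, .Z4, .Z5, .Z6, .Z7, .Z9, .Z10, .X0, .X1, .X2, .X3, .X6, .X0, .Z0, .X0, .Z0, .X10]
  | 14 => [.p, .p, .p, .p, .p, .p, .p, .p, .h, .p, .p, .p, .y1, .y4, .y7, .y8, .y9, .y10, .Z0, .Z3, .Z6, .Z9, .X3, .X4, .X8, .X9, .X10, .X10]
  | 15 => [.p, .p, .p, .h, .p, .p, .h, .p, .p, .h, .p, .h, .p, .h, .p, .h, .y1, .y5, .y6, .y7, .y9, .Z3, .Z7, .Z9, .Z10, .X1, .X2, .X3, .X5, .X6, .X8, .X9, .X0, .Z0, .X0, .Z0, .X10]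
  | 16 => [.p, .y2, .y3, .y4, .y5, .y6, .y8, .y9, .y10, .Z1, .Z2, .Z3, .Z5, .Z6, .Z8, .Z10, .X3, .X10, .X10]
  | 17 => [.p, .p, .p, .p, .p, .p, .p, .p, .h, .p, .h, .p, .p, .y1, .y2, .y5, .y6, .y8, .Z2, .Z3, .Z5, .Z7, .X0, .X7, .X8, .X9, .X0, .Z0, .X0, .Z0, .X10]
  | _ => [.p, .h, .p, .p, .h, .p, .h, .p, .h, .p, .h, .p, .p, .h, .p, .y1, .y2, .y3, .y5, .y6, .y7, .y8, .y9, .y10, .Z1, .Z2, .Z5, .Z6, .Z8, .Z9, .X1, .X3, .X4, .X5, .X7, .X8, .X0, .Z0, .X0, .Z0, .X10]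

theorem cp0 : check ([Ltr.tau].map Ltr.prog) v0 ((wp 0).map Ltr.prog) v0 = true := by decide +kernel

theorem cp1 : check ([Ltr.tau].map Ltr.prog) v1 ((wp 1).map Ltr.prog) v2 = true := by decide +kernel

theorem cp2 : check ([Ltr.tau].map Ltr.prog) v2 ((wp 2).map Ltr.prog) v2 = true := by decide +kernel

theorem cp3 : check ([Ltr.tau].map Ltr.prog) v3 ((wp 3).map Ltr.prog) v6 = true := by decide +kernel

theorem cp4 : check ([Ltr.tau].map Ltr.prog) v4 ((wp 4).map Ltr.prog) v7 = true := by decide +kernel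

theorem cp5 : check ([Ltr.tau].map Ltr.prog) v5 ((wp 5).map Ltr.prog) v5 = true := by decide +kernel

theorem cp6 : check ([Ltr.tau].map Ltr.prog) v6 ((wp 6).map Ltr.prog) v6 = true := by decide +kernel

theorem cp7 : check ([Ltr.tau].map Ltr.prog) v7 ((wp 7).map Ltr.prog) v7 = true := by decide +kernel

theorem cp8 : check ([Ltr.tau].map Ltr.prog) v8 ((wp 8).map Ltr.prog) v11 = true := by decide +kernel

theorem cp9 : check ([Ltr.tau].map Ltr.prog) v9 ((wp 9).map Ltr.prog) v9 = true := by decide +kernel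

theorem cp10 : check ([Ltr.tau].map Ltr.prog) v10 ((wp 10).map Ltr.prog) v13 = true := by decide +kernel

theorem cp11 : check ([Ltr.tau].map Ltr.prog) v11 ((wp 11).map Ltr.prog) v11 = true := by decide +kernel

theorem cp12 : check ([Ltr.tau].map Ltr.prog) v12 ((wp 12).map Ltr.prog) v15 = true := by decide +kernel

theorem cp13 : check ([Ltr.tau].map Ltr.prog) v13 ((wp 13).map Ltr.prog) v13 = true := by decide +kernel

theorem cp14 : check ([Ltr.tau].map Ltr.prog) v14 ((wp 14).map Ltr.prog) v14 = true := by decide +kernel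

theorem cp15 : check ([Ltr.tau].map Ltr.prog) v15 ((wp 15).map Ltr.prog) v15 = true := by decide +kernel

theorem cp16 : check ([Ltr.tau].map Ltr.prog) v16 ((wp 16).map Ltr.prog) v17 = true := by decide +kernel

theorem cp17 : check ([Ltr.tau].map Ltr.prog) v17 ((wp 17).map Ltr.prog) v16 = true := by decide +kernel

theorem cp18 : check ([Ltr.tau].map Ltr.prog) v18 ((wp 18).map Ltr.prog) v18 = true := by decide +kernel

theorem cp (r : ℕ) (hr : r < 19) :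
    check ([Ltr.tau].map Ltr.prog) (yv r) ((wp r).map Ltr.prog) (yv (tp r)) = true := by
  interval_cases r
  · exact cp0
  · exact cp1
  · exact cp2
  · exact cp3
  · exact cp4
  · exact cp5
  · exact cp6
  · exact cp7
  · exact cp8
  · exact cp9
  · exact cp10
  · exact cp11
  · exact cp12
  · exact cp13
  · exact cp14
  · exact cp15
  · exact cp16
  · exact cp17
  · exact cp18

theorem cm0 : check ([Ltr.taui].map Ltr.prog) v0 ((wm 0).map Ltr.prog) v0 = true := by decide +kernel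

theorem cm1 : check ([Ltr.taui].map Ltr.prog) v1 ((wm 1).map Ltr.prog) v2 = true := by decide +kernel

theorem cm2 : check ([Ltr.taui].map Ltr.prog) v2 ((wm 2).map Ltr.prog) v1 = true := by decide +kernel

theorem cm3 : check ([Ltr.taui].map Ltr.prog) v3 ((wm 3).map Ltr.prog) v6 = true := by decide +kernel

theorem cm4 : check ([Ltr.taui].map Ltr.prog) v4 ((wm 4).map Ltr.prog) v7 = true := by decide +kernel

theorem cm5 : check ([Ltr.taui].map Ltr.prog) v5 ((wm 5).map Ltr.prog) v5 = true := by decide +kernel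

theorem cm6 : check ([Ltr.taui].map Ltr.prog) v6 ((wm 6).map Ltr.prog) v3 = true := by decide +kernel

theorem cm7 : check ([Ltr.taui].map Ltr.prog) v7 ((wm 7).map Ltr.prog) v4 = true := by decide +kernel

theorem cm8 : check ([Ltr.taui].map Ltr.prog) v8 ((wm 8).map Ltr.prog) v11 = true := by decide +kernel

theorem cm9 : check ([Ltr.taui].map Ltr.prog) v9 ((wm 9).map Ltr.prog) v9 = true := by decide +kernel

theorem cm10 : check ([Ltr.taui].map Ltr.prog) v10 ((wm 10).map Ltr.prog) v13 = true := by decide +kernel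

theorem cm11 : check ([Ltr.taui].map Ltr.prog) v11 ((wm 11).map Ltr.prog) v8 = true := by decide +kernel

theorem cm12 : check ([Ltr.taui].map Ltr.prog) v12 ((wm 12).map Ltr.prog) v15 = true := by decide +kernel

theorem cm13 : check ([Ltr.taui].map Ltr.prog) v13 ((wm 13).map Ltr.prog) v10 = true := by decide +kernel

theorem cm14 : check ([Ltr.taui].map Ltr.prog) v14 ((wm 14).map Ltr.prog) v14 = true := by decide +kernel

theorem cm15 : check ([Ltr.taui].map Ltr.prog) v15 ((wm 15).map Ltr.prog) v12 = true := by decide +kernel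

theorem cm16 : check ([Ltr.taui].map Ltr.prog) v16 ((wm 16).map Ltr.prog) v17 = true := by decide +kernel

theorem cm17 : check ([Ltr.taui].map Ltr.prog) v17 ((wm 17).map Ltr.prog) v17 = true := by decide +kernel

theorem cm18 : check ([Ltr.taui].map Ltr.prog) v18 ((wm 18).map Ltr.prog) v18 = true := by decide +kernel

theorem cm (r : ℕ) (hr : r < 19) :
    check ([Ltr.taui].map Ltr.prog) (yv r) ((wm r).map Ltr.prog) (yv (tm r)) = true := by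
  interval_cases r
  · exact cm0
  · exact cm1
  · exact cm2
  · exact cm3
  · exact cm4
  · exact cm5
  · exact cm6
  · exact cm7
  · exact cm8
  · exact cm9
  · exact cm10
  · exact cm11
  · exact cm12
  · exact cm13
  · exact cm14
  · exact cm15
  · exact cm16
  · exact cm17
  · exact cm18

theorem tau_p (r : ℕ) (hr : r < 19) : W [.tau] (vecU ℚ U (yv r)) = W (wp r) (vecU ℚ U (yv (tp r))) :=
  W_eq_of_check (cp r hr)

theorem tau_m (r : ℕ) (hr : r < 19) : W [.taui] (vecU ℚ U (yv r)) = W (wm r) (vecU ℚ U (yv (tm r))) :=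
  W_eq_of_check (cm r hr)

theorem isN_wp (r : ℕ) (hr : r < 19) : (wp r).all isN = true := by interval_cases r <;> rfl

theorem isN_wm (r : ℕ) (hr : r < 19) : (wm r).all isN = true := by interval_cases r <;> rfl

theorem tp_lt (r : ℕ) (hr : r < 19) : tp r < 19 := by interval_cases r <;> decide

theorem tm_lt (r : ℕ) (hr : r < 19) : tm r < 19 := by interval_cases r <;> decide

end Cfsg.Agent.BabyM.CertTau
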