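import Cfsg.Agent.BabyM.Conc
import Cfsg.Agent.BabyM.InstVec
import Cfsg.Agent.BabyM.Model

/-!
# The concrete data `M : BData V` of the Baby Monster model (integrator: helper630)

`V`, the form, the letters and the groups are those of `Conc.lean`; the base axis is `d₀ = u₀ + e₀` with
`u₀ = (4 at I, -4 at A₁)`, `e₀ = (8 at B₁)`, its transposition is `t₀ = Z0 Z2 Z4 Z5 Z6`.
-/

set_option autoImplicit false

namespace Cfsg.Agent.BabyM.Inst

open Cfsg.Agent.Monster.VecEngine Cfsg.Agent.Monster.VecSpace Cfsg.Agent.BabyM.Conc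
  Cfsg.Agent.BabyM.InstVec Cfsg.Agent.BabyM.Model

/-- the lane of the coordinate `I` -/
def laneI : Lane U := ⟨1344, by decide +kernel⟩

/-- the lane of the coordinate `A₁` -/
def laneA : Lane U := ⟨1345, by decide +kernel⟩

/-- the lane of the coordinate `B₁` (the first class) -/
def laneB : Lane U := ⟨1281, by decide +kernel⟩

/-- the `23`-part of the base axis -/
noncomputable def u₀ : V := (1 / 8 : ℚ) • vecU ℚ U u0P

/-- the `2300`-part of the base axis -/
noncomputable def e₀ : V := (1 / 8 : ℚ) • vecU ℚ U e0P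

/-- the transposition of the base axis -/
noncomputable def t₀ : V ≃ₗ[ℚ] V := W [.Z0, .Z2, .Z4, .Z5, .Z6]

/-- the representatives of the `C`-orbits of signed axes -/
noncomputable def d (j : Fin 5) : V := (1 / 8 : ℚ) • vecU ℚ U (dv j)

/-- The data of the concrete model. -/
noncomputable def M : BData V where
  F := F
  C := C
  Q := Q
  τ := τ
  z := z
  t₀ := t₀
  u₀ := u₀
  e₀ := e₀
  J := Fin 5
  j₀ := 0
  d := d

@[simp] theorem M_F : M.F = F := rfl

@[simp] theorem M_C : M.C = C := rfl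

@[simp] theorem M_Q : M.Q = Q := rfl

@[simp] theorem M_τ : M.τ = τ := rfl

@[simp] theorem M_z : M.z = z := rfl

@[simp] theorem M_t₀ : M.t₀ = t₀ := rfl

@[simp] theorem M_u₀ : M.u₀ = u₀ := rfl

@[simp] theorem M_e₀ : M.e₀ = e₀ := rfl

@[simp] theorem M_d (j : Fin 5) : M.d j = d j := rfl

theorem M_j₀ : M.j₀ = (0 : Fin 5) := rfl

/-! ### The base axis -/

theorem bt_two_pow (k i : ℕ) : bt (2 ^ k) i = if i = k then 1 else 0 := by
  unfold bt
  rw [Nat.testBit_two_pow]
  by_cases h : i = k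
  · subst h; simp
  · rw [if_neg h, if_neg]
    simpa using fun h' => h h'.symm

theorem bt_zero (i : ℕ) : bt 0 i = 0 := by simp [bt]

theorem bt_two_pow_or (k l i : ℕ) (h : k ≠ l) :
    bt (2 ^ k ||| 2 ^ l) i = (if i = k then 1 else 0) + if i = l then 1 else 0 := by
  rw [← bt_two_pow, ← bt_two_pow]
  have h2 : ¬ ((2 ^ k).testBit i = true ∧ (2 ^ l).testBit i = true) := by
    rw [Nat.testBit_two_pow, Nat.testBit_two_pow, decide_eq_true_eq, decide_eq_true_eq]
    rintro ⟨rfl, rfl⟩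
    exact h rfl
  unfold bt
  rw [Nat.testBit_or]
  cases h3 : (2 ^ k).testBit i <;> cases h4 : (2 ^ l).testBit i <;> simp_all

theorem val_e0P (i : ℕ) : val e0P i = if i = 1281 then 64 else 0 := by
  have h : e0P = .cons 0 (.cons 0 (.cons 0 (.cons 0 (.cons 0 (.cons 0 (.cons (2 ^ 1281) (.sgn 0))))))) :=
    eq_of_eqP (by decide +kernel)
  rw [h]
  simp only [val_cons, val_sgn, bt_two_pow, bt_zero]
  split_ifs <;> norm_num

theorem val_u0P (i : ℕ) : val u0P i = if i = 1344 then 32 else if i = 1345 then -32 else 0 := by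
  have h : u0P = .cons 0 (.cons 0 (.cons 0 (.cons 0 (.cons 0 (.cons (2 ^ 1344 ||| 2 ^ 1345)
      (.sgn (2 ^ 1345))))))) :=
    eq_of_eqP (by decide +kernel)
  rw [h]
  simp only [val_cons, val_sgn, bt_two_pow_or _ _ _ (show 1344 ≠ 1345 by norm_num), bt_two_pow, bt_zero]
  by_cases h1 : i = 1344
  · subst h1; norm_num
  · by_cases h2 : i = 1345
    · subst h2; norm_num
    · simp [h1, h2]

theorem e₀_eq : e₀ = Pi.single laneB 8 := by
  funext i
  show (1 / 8 : ℚ) * ((val e0P i.1 : ℤ) : ℚ) = _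
  rw [val_e0P]
  by_cases h : i = laneB
  · subst h
    rw [if_pos (show laneB.1 = 1281 from rfl), Pi.single_eq_same]
    norm_num
  · have h1 : i.1 ≠ 1281 := fun h2 => h (Subtype.ext h2)
    rw [if_neg h1, Pi.single_eq_of_ne h]
    norm_num

theorem u₀_eq : u₀ = Pi.single laneI 4 + Pi.single laneA (-4) := by
  have hIA : laneI ≠ laneA := fun h => by
    have := congrArg Subtype.val h
    exact absurd this (by decide)
  funext i
  show (1 / 8 : ℚ) * ((val u0P i.1 : ℤ) : ℚ) = _
  rw [val_u0P, Pi.add_apply]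
  by_cases h : i = laneI
  · subst h
    rw [if_pos (show laneI.1 = 1344 from rfl), Pi.single_eq_same, Pi.single_eq_of_ne hIA]
    norm_num
  · have h1 : i.1 ≠ 1344 := fun h2 => h (Subtype.ext h2)
    rw [if_neg h1, Pi.single_eq_of_ne h]
    by_cases h' : i = laneA
    · subst h'
      rw [if_pos (show laneA.1 = 1345 from rfl), Pi.single_eq_same]
      norm_num
    · have h1' : i.1 ≠ 1345 := fun h2 => h' (Subtype.ext h2)
      rw [if_neg h1', Pi.single_eq_of_ne h']
      norm_num

theorem vecU_add (x y : Pl) : vecU ℚ U (add x y 0) = vecU ℚ U x + vecU ℚ U y := by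
  funext i
  show ((val (add x y 0) i.1 : ℤ) : ℚ) = (val x i.1 : ℚ) + (val y i.1 : ℚ)
  rw [val_add, bt_zero, add_zero]
  push_cast
  rfl

theorem vecU_congr {x y : Pl} (h : eqP (norm x) (norm y) = true) : vecU ℚ U x = vecU ℚ U y := by
  funext i
  show (val x i.1 : ℚ) = (val y i.1 : ℚ)
  rw [← val_norm x, ← val_norm y, eq_of_eqP h]

theorem d_zero : d 0 = u₀ + e₀ := by
  show (1 / 8 : ℚ) • vecU ℚ U (dv 0) = (1 / 8 : ℚ) • vecU ℚ U u0P + (1 / 8 : ℚ) • vecU ℚ U e0P
  rw [← smul_add, ← vecU_add]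
  congr 1
  exact vecU_congr (show eqP (norm dv0) (norm (add u0P e0P 0)) = true by decide +kernel)

/-- field `d_j₀` of `BOrbit` -/
theorem d_j₀ : M.d M.j₀ = M.u₀ + M.e₀ := d_zero

/-- field `finite` of `BOrbit` -/
theorem finite_J : Finite M.J := inferInstanceAs (Finite (Fin 5))

theorem wt_B : val wt 1281 = 0 := by decide +kernel

theorem wt_I : val wt 1344 = 0 := by decide +kernel

theorem wt_A : val wt 1345 = -1 := by decide +kernel

theorem F_single (f : V) (i : Lane U) (c : ℚ) :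
    F f (Pi.single i c) = 1 / 16 * ((2 : ℚ) ^ (-(val wt i.1)) * f i * c) := by
  have h : (Pi.single i c : V) = c • Pi.single i 1 := by
    funext j
    by_cases hj : j = i
    · subst hj; simp
    · rw [Pi.smul_apply, Pi.single_eq_of_ne hj, Pi.single_eq_of_ne hj, smul_zero]
  rw [h, map_smul, smul_eq_mul, F_apply, dotW_single]
  ring

/-- field `e₀_norm` of `BRep` -/
theorem e₀_norm : F e₀ e₀ = 4 := by
  rw [e₀_eq, F_single, Pi.single_eq_same]
  show 1 / 16 * ((2 : ℚ) ^ (-(val wt 1281)) * 8 * 8) = 4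
  rw [wt_B]
  norm_num

/-- field `u₀_norm` of `BRep` -/
theorem u₀_norm : F u₀ u₀ = 3 := by
  have hIA : laneI ≠ laneA := fun h => by
    have := congrArg Subtype.val h
    exact absurd this (by decide)
  rw [u₀_eq, map_add, F_single, F_single, Pi.add_apply, Pi.add_apply, Pi.single_eq_same,
    Pi.single_eq_same, Pi.single_eq_of_ne hIA, Pi.single_eq_of_ne hIA.symm]
  show 1 / 16 * ((2 : ℚ) ^ (-(val wt 1344)) * (4 + 0) * 4) +
    1 / 16 * ((2 : ℚ) ^ (-(val wt 1345)) * (0 + -4) * -4) = 3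
  rw [wt_I, wt_A]
  norm_num

end Cfsg.Agent.BabyM.Inst
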