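import Cfsg.Agent.BabyM.BlockNorm
import Cfsg.Agent.BabyM.CertVec
import Cfsg.Agent.BabyM.Inst

/-!
# The frame stabiliser `N` and the disjointness of its orbits

`N = ⟨X_k, Z_k, y_k, p, h⟩`.  The sums of squares of the entries in the blocks `A`, `BC`, `T`, `X` are `N`-invariant and
separate the 19 vectors `yv r`.
-/

set_option autoImplicit false
set_option maxRecDepth 100000

namespace Cfsg.Agent.BabyM.CertInv

open Cfsg.Agent.Monster Cfsg.Agent.Lib.PermNet Cfsg.Agent.Monster.VecEngine Cfsg.Agent.Monster.VecSpace
  Cfsg.Agent.BabyM.Conc Cfsg.Agent.BabyM.CertVec Cfsg.Agent.BabyM.BlockNorm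

/-- The stabiliser of the standard frame. -/
noncomputable def N : Subgroup (V ≃ₗ[ℚ] V) := Subgroup.closure {g | ∃ l : Ltr, isN l = true ∧ g = E l}

theorem E_mem_N {l : Ltr} (h : isN l = true) : E l ∈ N := Subgroup.subset_closure ⟨l, h, rfl⟩

theorem W_mem_N {w : List Ltr} (h : w.all isN = true) : W w ∈ N := by
  induction w with
  | nil => exact N.one_mem
  | cons l w ih =>
    rw [List.all_cons, Bool.and_eq_true] at h
    rw [W_cons]
    exact N.mul_mem (ih h.2) (E_mem_N h.1)

theorem isC_of_isN {l : Ltr} (h : isN l = true) : l.isC = true := by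
  cases l <;> first | rfl | (exact absurd (show false = true from h) (by simp))

theorem N_le_C : N ≤ C := by
  apply Subgroup.closure_mono
  rintro g ⟨l, hl, rfl⟩
  exact ⟨l, isC_of_isN hl, rfl⟩

theorem isN_of_isQ {l : Ltr} (h : l.isQ = true) : isN l = true := by
  cases l <;> first | rfl | (exact absurd (show false = true from h) (by simp))

theorem Q_le_N : Q ≤ N := by
  apply Subgroup.closure_mono
  rintro g ⟨l, hl, rfl⟩
  exact ⟨l, isN_of_isQ hl, rfl⟩

theorem isC_iff {l : Ltr} (h : l.isC = true) : isN l = true ∨ l = .xi := by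
  cases l <;> first | exact Or.inl rfl | exact Or.inr rfl | (exact absurd (show false = true from h) (by simp))

theorem C_le : C ≤ Subgroup.closure ((N : Set (V ≃ₗ[ℚ] V)) ∪ {E .xi}) := by
  rw [show C = Subgroup.closure {g | ∃ l : Ltr, l.isC = true ∧ g = E l} from rfl, Subgroup.closure_le]
  rintro g ⟨l, hl, rfl⟩
  rcases isC_iff hl with h | h
  · exact Subgroup.subset_closure (Or.inl (E_mem_N h))
  · subst h
    exact Subgroup.subset_closure (Or.inr rfl)

theorem xi_mem : E .xi ∈ C := E_mem_C rfl

/-! ### The blocks -/

/-- The lanes `A_j`. -/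
def mA : ℕ := 0x7ffffe000000000000000000000000000000000000000000000000000000000000000000000000000000000000000000000000000000000000000000000000000000000000000000000000000000000000000000000000000000000000000000000000000000000000000000000000000000000000000000000000000000000000000000000000000000000000000000000000000000000000000000000000000000000000000000000000

/-- The lanes `B_j`, `C_j`. -/
def mBC : ℕ := 0x7ffffe007ffffe00000000000000000000000000000000000000000000000000000000000000000000000000000000000000000000000000000000000000000000000000000000000000000000000000000000000000000000000000000000000000000000000000000000000000000000000000000000000000000000000000000000000000000000000000000000000000000000000000000000000000000000000000000000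

/-- The lanes of the type `T`. -/
def mT : ℕ := 0xffffffffffffffffffffffffffffffffffffffffffffffffffffffffffffffffffffffffffffffffffffffffffffffffffffffffffffffffffffffffffffffffffffffffffffffffffffffffffffffffffffffffffffffffffffffffffffffffffffffffffffffffffffffffffffffffffffffffffffffffffffffffffffffffffffffffffffffffffffffffffffffffffffffffffffffffffff

/-- The lanes of the type `X`. -/
def mX : ℕ := 0xffffffffffffffffffffffffffffffffffffffffffffffffffffffffffffffffffffffffffffffffffffffffffffffffffffffffffffffffffffffffffffffffffffffffffffffffffffffffffffffffffffffffffffffffffffffffffffffffffffffffffffffffffffffffffffffffffffffffffffffffffffffffffffffff00000000000000000000000000000000000000000000000000000000000000000000000000000000000000000000000000000000000000000000000000000000000000000000000000000000000000000000000000000000000000000000000000000000000000000000000000000000000000000000000000000000000000000000000000000000000000000000000000000000000000000000000000000000000000000000000000000000000000000000000000000000000000000000000000000000000000000000000000000000000000000000000000000000000000000000000000000000000000000000000000000000000000000000000000000000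

theorem goodA (l : Ltr) (h : isN l = true) : Good (2 ^ 13) mA l.prog := by
  refine ⟨(good_prog l).ok, ?_⟩
  cases l <;> first | (exact absurd (show false = true from h) (by simp)) | decide +kernel

theorem ltA : mA < 2 ^ 2 ^ 13 := by decide +kernel

theorem subA : subM U mA = true := by decide +kernel

theorem goodBC (l : Ltr) (h : isN l = true) : Good (2 ^ 13) mBC l.prog := by
  refine ⟨(good_prog l).ok, ?_⟩
  cases l <;> first | (exact absurd (show false = true from h) (by simp)) | decide +kernel

theorem ltBC : mBC < 2 ^ 2 ^ 13 := by decide +kernel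

theorem subBC : subM U mBC = true := by decide +kernel

theorem goodT (l : Ltr) (h : isN l = true) : Good (2 ^ 13) mT l.prog := by
  refine ⟨(good_prog l).ok, ?_⟩
  cases l <;> first | (exact absurd (show false = true from h) (by simp)) | decide +kernel

theorem ltT : mT < 2 ^ 2 ^ 13 := by decide +kernel

theorem subT : subM U mT = true := by decide +kernel

theorem goodX (l : Ltr) (h : isN l = true) : Good (2 ^ 13) mX l.prog := by
  refine ⟨(good_prog l).ok, ?_⟩
  cases l <;> first | (exact absurd (show false = true from h) (by simp)) | decide +kernel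

theorem ltX : mX < 2 ^ 2 ^ 13 := by decide +kernel

theorem subX : subM U mX = true := by decide +kernel

theorem bn_N {B : ℕ} (hB : ∀ l, isN l = true → Good (2 ^ 13) B l.prog) {g : V ≃ₗ[ℚ] V} (hg : g ∈ N) (f : V) :
    bn U B (g f) = bn U B f := by
  refine bn_closure ?_ hg f
  rintro _ ⟨l, hl, rfl⟩ f
  exact bn_semE (good_prog l) (hB l hl) f

/-! ### The values -/

/-- The value of the block norm `A` on `yv r`. -/
def nA : ℕ → ℕ
  | 0 => 1024
  | 1 => 1536
  | 2 => 0
  | 3 => 1408
  | 4 => 0
  | 5 => 0
  | 6 => 0
  | 7 => 128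
  | 8 => 0
  | 9 => 96
  | 10 => 128
  | 11 => 0
  | 12 => 120
  | 13 => 0
  | 14 => 0
  | 15 => 16
  | 16 => 0
  | 17 => 24
  | _ => 22

/-- The value of the block norm `BC` on `yv r`. -/
def nBC : ℕ → ℕ
  | 0 => 4096
  | 1 => 0
  | 2 => 3072
  | 3 => 0
  | 4 => 512
  | 5 => 0
  | 6 => 2816
  | 7 => 256
  | 8 => 0
  | 9 => 384
  | 10 => 0
  | 11 => 0
  | 12 => 64
  | 13 => 256
  | 14 => 0
  | 15 => 272
  | 16 => 96
  | 17 => 48
  | _ => 88

/-- The value of the block norm `T` on `yv r`. -/
def nT : ℕ → ℕ
  | 0 => 0
  | 1 => 4096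
  | 2 => 4096
  | 3 => 0
  | 4 => 2560
  | 5 => 7168
  | 6 => 0
  | 7 => 2560
  | 8 => 4096
  | 9 => 384
  | 10 => 1792
  | 11 => 4096
  | 12 => 1344
  | 13 => 1792
  | 14 => 2560
  | 15 => 1344
  | 16 => 2080
  | 17 => 2080
  | _ => 1848

/-- The value of the block norm `X` on `yv r`. -/
def nX : ℕ → ℕ
  | 0 => 0
  | 1 => 0
  | 2 => 0
  | 3 => 4096
  | 4 => 4096
  | 5 => 0
  | 6 => 0
  | 7 => 0
  | 8 => 3072
  | 9 => 2048
  | 10 => 1024
  | 11 => 0
  | 12 => 1408
  | 13 => 2048
  | 14 => 1536
  | 15 => 2048
  | 16 => 1920
  | 17 => 1536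
  | _ => 1728

theorem valA (r : ℕ) (hr : r < 19) : bn U mA (vecU ℚ U (yv r)) = nA r := by
  have hc : nA r < 2 ^ 13 := by interval_cases r <;> decide
  refine bn_of_check (m := 13) (k := 13) subA ltA hc ?_
  interval_cases r <;> decide +kernel

theorem valBC (r : ℕ) (hr : r < 19) : bn U mBC (vecU ℚ U (yv r)) = nBC r := by
  have hc : nBC r < 2 ^ 13 := by interval_cases r <;> decide
  refine bn_of_check (m := 13) (k := 13) subBC ltBC hc ?_
  interval_cases r <;> decide +kernel

theorem valT (r : ℕ) (hr : r < 19) : bn U mT (vecU ℚ U (yv r)) = nT r := by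
  have hc : nT r < 2 ^ 13 := by interval_cases r <;> decide
  refine bn_of_check (m := 13) (k := 13) subT ltT hc ?_
  interval_cases r <;> decide +kernel

theorem valX (r : ℕ) (hr : r < 19) : bn U mX (vecU ℚ U (yv r)) = nX r := by
  have hc : nX r < 2 ^ 13 := by interval_cases r <;> decide
  refine bn_of_check (m := 13) (k := 13) subX ltX hc ?_
  interval_cases r <;> decide +kernel

theorem sep : ∀ r s : Fin 19, (nA r = nA s ∧ nBC r = nBC s ∧ nT r = nT s ∧ nX r = nX s) → r = s := by
  decide +kernel

/-- The representatives of the `N`-orbits. -/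
noncomputable def v (r : Fin 19) : V := (1 / 8 : ℚ) • vecU ℚ U (yv r)

theorem eight_v (r : Fin 19) : (8 : ℚ) • v r = vecU ℚ U (yv r) := by
  rw [v, smul_smul]; norm_num

theorem map_v (g : V ≃ₗ[ℚ] V) (r : Fin 19) : g (v r) = (1 / 8 : ℚ) • g (vecU ℚ U (yv r)) := by
  rw [v, map_smul]

/-- The vectors `v r` lie in different `N`-orbits. -/
theorem disj (r s : Fin 19) (h : v r ∈ MulAction.orbit N (v s)) : r = s := by
  obtain ⟨⟨g, hg⟩, h1⟩ := h
  have h2 : g (v s) = v r := h1
  have h3 : g (vecU ℚ U (yv s)) = vecU ℚ U (yv r) := by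
    rw [← eight_v, ← eight_v, map_smul, h2]
  have key : ∀ {B : ℕ}, (∀ l, isN l = true → Good (2 ^ 13) B l.prog) →
      bn U B (vecU ℚ U (yv r)) = bn U B (vecU ℚ U (yv s)) := by
    intro B hB
    rw [← h3, bn_N hB hg]
  have e1 := key goodA
  have e2 := key goodBC
  have e3 := key goodT
  have e4 := key goodX
  rw [valA r r.2, valA s s.2] at e1
  rw [valBC r r.2, valBC s s.2] at e2
  rw [valT r r.2, valT s s.2] at e3
  rw [valX r r.2, valX s s.2] at e4
  exact sep r s ⟨by exact_mod_cast e1, by exact_mod_cast e2, by exact_mod_cast e3, by exact_mod_cast e4⟩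

end Cfsg.Agent.BabyM.CertInv
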