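import Cfsg.Agent.BabyM.ConcRelT
import Cfsg.Agent.BabyM.CertInv
import Cfsg.Agent.BabyM.InstZ
import Cfsg.Agent.MonsterX.CertTau

/-!
# `TauData` for the model of the Baby Monster

`N₀ = ⟨X_0, …, X_9, Z_k, y_k, p, h⟩` is normalised by `τ` and by `e = X_10`, and `e τ e⁻¹ = τ⁻¹`.
-/

set_option autoImplicit false

namespace Cfsg.Agent.BabyM.CertTauD

open Cfsg.Agent.Monster.VecEngine Cfsg.Agent.Monster.VecSpace
open Cfsg.Agent.BabyM.Conc Cfsg.Agent.BabyM.ConcEq Cfsg.Agent.BabyM.ConcRelT Cfsg.Agent.BabyM.CertVec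
  Cfsg.Agent.BabyM.CertInv

/-- The letters generating `N₀`. -/
def isN0 : Ltr → Bool
  | .X10 => false
  | l => isN l

/-- The letters of `N₀`, and `z`. -/
def isN0z : Ltr → Bool
  | .z => true
  | l => isN0 l

/-- The generators of `N₀`. -/
def A : Set (V ≃ₗ[ℚ] V) := {g | ∃ l : Ltr, isN0 l = true ∧ g = E l}

/-- The group `N₀`. -/
noncomputable def N₀ : Subgroup (V ≃ₗ[ℚ] V) := Subgroup.closure A

theorem E_mem {l : Ltr} (h : isN0 l = true) : E l ∈ N₀ := Subgroup.subset_closure ⟨l, h, rfl⟩

theorem W_mem {w : List Ltr} (h : w.all isN0 = true) : W w ∈ N₀ := by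
  induction w with
  | nil => exact N₀.one_mem
  | cons l w ih =>
    rw [List.all_cons, Bool.and_eq_true] at h
    rw [W_cons]
    exact N₀.mul_mem (ih h.2) (E_mem h.1)

theorem z_mem : E .z ∈ N₀ := by
  rw [← W_single, ← w_z]
  exact W_mem rfl

theorem E_mem' {l : Ltr} (h : isN0z l = true) : E l ∈ N₀ := by
  by_cases hl : isN0 l = true
  · exact E_mem hl
  · have : l = .z := by
      revert h hl
      cases l <;> simp [isN0z]
    subst this
    exact z_mem

theorem W_mem' {w : List Ltr} (h : w.all isN0z = true) : W w ∈ N₀ := by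
  induction w with
  | nil => exact N₀.one_mem
  | cons l w ih =>
    rw [List.all_cons, Bool.and_eq_true] at h
    rw [W_cons]
    exact N₀.mul_mem (ih h.2) (E_mem' h.1)

theorem taui_eq : E .taui = τ⁻¹ := by
  have h := w_taui
  rw [W_cons, W_single, W_nil] at h
  exact eq_inv_of_mul_eq_one_left h

theorem X10_sq : E .X10 * E .X10 = 1 := by
  have h := w_X10
  rwa [W_cons, W_single, W_nil] at h

theorem X10_inv : (E .X10)⁻¹ = E .X10 := inv_eq_of_mul_eq_one_left X10_sq

theorem W3 (a b c : Ltr) : W [a, b, c] = E c * E b * E a := by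
  rw [W_cons, W_cons, W_single]

/-- The conjugates under `τ`. -/
def c1 : Ltr → List Ltr
  | .X0 => [.y1]
  | .X1 => [.y2]
  | .X2 => [.y3, .Z1]
  | .X3 => [.y4]
  | .X4 => [.y5]
  | .X5 => [.y6, .Z3]
  | .X6 => [.y7, .Z4]
  | .X7 => [.y8]
  | .X8 => [.y9]
  | .X9 => [.y10, .Z0]
  | .Z0 => [.Z0]
  | .Z1 => [.Z1]
  | .Z2 => [.Z2]
  | .Z3 => [.Z3]
  | .Z4 => [.Z4]
  | .Z5 => [.Z5]
  | .Z6 => [.Z6]
  | .Z7 => [.Z7]
  | .Z8 => [.Z8]
  | .Z9 => [.Z9]
  | .Z10 => [.Z10, .z]
  | .y1 => [.y1, .X0]
  | .y2 => [.y2, .X1]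
  | .y3 => [.y3, .Z1, .X2]
  | .y4 => [.y4, .X3]
  | .y5 => [.y5, .X4]
  | .y6 => [.y6, .Z3, .X5]
  | .y7 => [.y7, .Z4, .X6]
  | .y8 => [.y8, .X7]
  | .y9 => [.y9, .X8]
  | .y10 => [.y10, .Z0, .X9]
  | .p => [.p]
  | .h => [.h]
  | _ => []

theorem c1_eq (l : Ltr) (h : isN0 l = true) : W [.taui, l, .tau] = W (c1 l) := by
  cases l
  · exact absurd (show false = true from h) (by simp)
  · exact tau_X0
  · exact tau_X1
  · exact tau_X2
  · exact tau_X3
  · exact tau_X4
  · exact tau_X5
  · exact tau_X6
  · exact tau_X7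
  · exact tau_X8
  · exact tau_X9
  · exact absurd (show false = true from h) (by simp)
  · exact tau_Z0
  · exact tau_Z1
  · exact tau_Z2
  · exact tau_Z3
  · exact tau_Z4
  · exact tau_Z5
  · exact tau_Z6
  · exact tau_Z7
  · exact tau_Z8
  · exact tau_Z9
  · exact tau_Z10
  · exact tau_y1
  · exact tau_y2
  · exact tau_y3
  · exact tau_y4
  · exact tau_y5
  · exact tau_y6
  · exact tau_y7
  · exact tau_y8
  · exact tau_y9
  · exact tau_y10
  · exact tau_p
  · exact tau_h
  · exact absurd (show false = true from h) (by simp)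
  · exact absurd (show false = true from h) (by simp)
  · exact absurd (show false = true from h) (by simp)
  · exact absurd (show false = true from h) (by simp)
  · exact absurd (show false = true from h) (by simp)
  · exact absurd (show false = true from h) (by simp)
  · exact absurd (show false = true from h) (by simp)
  · exact absurd (show false = true from h) (by simp)
  · exact absurd (show false = true from h) (by simp)
  · exact absurd (show false = true from h) (by simp)
  · exact absurd (show false = true from h) (by simp)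
  · exact absurd (show false = true from h) (by simp)
  · exact absurd (show false = true from h) (by simp)
  · exact absurd (show false = true from h) (by simp)

theorem c1_all (l : Ltr) : (c1 l).all isN0z = true := by cases l <;> rfl

/-- The conjugates under `τ⁻¹`. -/
def c2 : Ltr → List Ltr
  | .X0 => [.y1, .X0]
  | .X1 => [.y2, .X1]
  | .X2 => [.y3, .X2]
  | .X3 => [.y4, .X3]
  | .X4 => [.y5, .X4]
  | .X5 => [.y6, .X5]
  | .X6 => [.y7, .X6]
  | .X7 => [.y8, .X7]
  | .X8 => [.y9, .X8]
  | .X9 => [.y10, .X9]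
  | .Z0 => [.Z0]
  | .Z1 => [.Z1]
  | .Z2 => [.Z2]
  | .Z3 => [.Z3]
  | .Z4 => [.Z4]
  | .Z5 => [.Z5]
  | .Z6 => [.Z6]
  | .Z7 => [.Z7]
  | .Z8 => [.Z8]
  | .Z9 => [.Z9]
  | .Z10 => [.z]
  | .y1 => [.X0]
  | .y2 => [.X1]
  | .y3 => [.Z1, .X2]
  | .y4 => [.X3]
  | .y5 => [.X4]
  | .y6 => [.Z3, .X5]
  | .y7 => [.Z4, .X6]
  | .y8 => [.X7]
  | .y9 => [.X8]
  | .y10 => [.Z0, .X9]
  | .p => [.p]
  | .h => [.h]
  | _ => []

theorem c2_eq (l : Ltr) (h : isN0 l = true) : W [.tau, l, .taui] = W (c2 l) := by
  cases l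
  · exact absurd (show false = true from h) (by simp)
  · exact taui_X0
  · exact taui_X1
  · exact taui_X2
  · exact taui_X3
  · exact taui_X4
  · exact taui_X5
  · exact taui_X6
  · exact taui_X7
  · exact taui_X8
  · exact taui_X9
  · exact absurd (show false = true from h) (by simp)
  · exact taui_Z0
  · exact taui_Z1
  · exact taui_Z2
  · exact taui_Z3
  · exact taui_Z4
  · exact taui_Z5
  · exact taui_Z6
  · exact taui_Z7
  · exact taui_Z8
  · exact taui_Z9
  · exact taui_Z10
  · exact taui_y1
  · exact taui_y2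
  · exact taui_y3
  · exact taui_y4
  · exact taui_y5
  · exact taui_y6
  · exact taui_y7
  · exact taui_y8
  · exact taui_y9
  · exact taui_y10
  · exact taui_p
  · exact taui_h
  · exact absurd (show false = true from h) (by simp)
  · exact absurd (show false = true from h) (by simp)
  · exact absurd (show false = true from h) (by simp)
  · exact absurd (show false = true from h) (by simp)
  · exact absurd (show false = true from h) (by simp)
  · exact absurd (show false = true from h) (by simp)
  · exact absurd (show false = true from h) (by simp)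
  · exact absurd (show false = true from h) (by simp)
  · exact absurd (show false = true from h) (by simp)
  · exact absurd (show false = true from h) (by simp)
  · exact absurd (show false = true from h) (by simp)
  · exact absurd (show false = true from h) (by simp)
  · exact absurd (show false = true from h) (by simp)
  · exact absurd (show false = true from h) (by simp)

theorem c2_all (l : Ltr) : (c2 l).all isN0z = true := by cases l <;> rfl

/-- The conjugates under `X_10`. -/
def c3 : Ltr → List Ltr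
  | .X0 => [.X0]
  | .X1 => [.X1]
  | .X2 => [.X2]
  | .X3 => [.X3]
  | .X4 => [.X4]
  | .X5 => [.X5]
  | .X6 => [.X6]
  | .X7 => [.X7]
  | .X8 => [.X8]
  | .X9 => [.X9]
  | .Z0 => [.Z0]
  | .Z1 => [.Z1]
  | .Z2 => [.Z2]
  | .Z3 => [.Z3]
  | .Z4 => [.Z4]
  | .Z5 => [.Z5]
  | .Z6 => [.Z6]
  | .Z7 => [.Z7]
  | .Z8 => [.Z8]
  | .Z9 => [.Z9]
  | .Z10 => [.Z10, .z]
  | .y1 => [.y1, .X0]
  | .y2 => [.y2, .X1]
  | .y3 => [.y3, .Z1, .X2]
  | .y4 => [.y4, .X3]
  | .y5 => [.y5, .X4]
  | .y6 => [.y6, .Z3, .X5]
  | .y7 => [.y7, .Z4, .X6]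
  | .y8 => [.y8, .X7]
  | .y9 => [.y9, .X8]
  | .y10 => [.y10, .Z0, .X9]
  | .p => [.p]
  | .h => [.h]
  | _ => []

theorem c3_eq (l : Ltr) (h : isN0 l = true) : W [.X10, l, .X10] = W (c3 l) := by
  cases l
  · exact absurd (show false = true from h) (by simp)
  · exact e_X0
  · exact e_X1
  · exact e_X2
  · exact e_X3
  · exact e_X4
  · exact e_X5
  · exact e_X6
  · exact e_X7
  · exact e_X8
  · exact e_X9
  · exact absurd (show false = true from h) (by simp)
  · exact e_Z0
  · exact e_Z1
  · exact e_Z2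
  · exact e_Z3
  · exact e_Z4
  · exact e_Z5
  · exact e_Z6
  · exact e_Z7
  · exact e_Z8
  · exact e_Z9
  · exact e_Z10
  · exact e_y1
  · exact e_y2
  · exact e_y3
  · exact e_y4
  · exact e_y5
  · exact e_y6
  · exact e_y7
  · exact e_y8
  · exact e_y9
  · exact e_y10
  · exact e_p
  · exact e_h
  · exact absurd (show false = true from h) (by simp)
  · exact absurd (show false = true from h) (by simp)
  · exact absurd (show false = true from h) (by simp)
  · exact absurd (show false = true from h) (by simp)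
  · exact absurd (show false = true from h) (by simp)
  · exact absurd (show false = true from h) (by simp)
  · exact absurd (show false = true from h) (by simp)
  · exact absurd (show false = true from h) (by simp)
  · exact absurd (show false = true from h) (by simp)
  · exact absurd (show false = true from h) (by simp)
  · exact absurd (show false = true from h) (by simp)
  · exact absurd (show false = true from h) (by simp)
  · exact absurd (show false = true from h) (by simp)
  · exact absurd (show false = true from h) (by simp)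

theorem c3_all (l : Ltr) : (c3 l).all isN0z = true := by cases l <;> rfl

/-- `Z_10` commutes with `N₀`. -/
theorem Z10_comm (l : Ltr) (h : isN0 l = true) : W [.Z10, l] = W [l, .Z10] := by
  cases l <;> first | (exact absurd (show false = true from h) (by simp)) | exact eqM (by decide +kernel)

theorem z_ne_one : E .z ≠ 1 := by
  intro h
  refine InstZ.z_ne (f := Pi.single InstZ.laneS2 1) InstZ.laneS2
    (show InstZ.mSpin.testBit 4985 = true by decide +kernel) ?_ ?_
  · rw [Pi.single_eq_same]; exact one_ne_zero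
  · show E .z _ = _
    rw [h]
    rfl

theorem closure_eq : Subgroup.closure (A ∪ {E .X10}) = N := by
  have h : A ∪ {E .X10} = {g | ∃ l : Ltr, isN l = true ∧ g = E l} := by
    ext g
    constructor
    · rintro (⟨l, hl, rfl⟩ | hg)
      · refine ⟨l, ?_, rfl⟩
        revert hl
        cases l <;> simp [isN0]
      · exact ⟨.X10, rfl, hg⟩
    · rintro ⟨l, hl, rfl⟩
      by_cases h1 : l = .X10
      · subst h1; exact Or.inr rfl
      · left
        refine ⟨l, ?_, rfl⟩
        revert hl h1
        cases l <;> simp [isN0]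
  rw [h]
  rfl

/-- The data for the `τ`-edges. -/
theorem tauData : MonsterX.CertOrb.TauData N N₀ τ (E .X10) := by
  rw [← closure_eq]
  refine MonsterX.CertTau.tauData_of_gens A τ (E .X10) (E .Z10) ?_ ?_ ?_ ?_ ?_ ?_ ?_ ?_
  · rintro _ ⟨l, hl, rfl⟩
    have h := c1_eq l hl
    rw [W3, taui_eq] at h
    change τ * E l * τ⁻¹ = _ at h
    rw [h]
    exact W_mem' (c1_all l)
  · rintro _ ⟨l, hl, rfl⟩
    have h := c2_eq l hl
    rw [W3, taui_eq] at h
    change τ⁻¹ * E l * τ = _ at h
    rw [h]
    exact W_mem' (c2_all l)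
  · rintro _ ⟨l, hl, rfl⟩
    have h := c3_eq l hl
    rw [W3] at h
    rw [X10_inv, h]
    exact W_mem' (c3_all l)
  · rintro _ ⟨l, hl, rfl⟩
    have h := c3_eq l hl
    rw [W3] at h
    rw [X10_inv, h]
    exact W_mem' (c3_all l)
  · rw [X10_sq]
    exact N₀.one_mem
  · have h := w_e
    rw [W_cons, W3, W_nil] at h
    -- `τ X τ X = 1`
    change τ * E .X10 * τ * E .X10 = 1 at h
    rw [X10_inv]
    have h2 : τ * (E .X10 * τ * E .X10) = 1 := by rw [← h]; group
    exact (inv_eq_of_mul_eq_one_right h2).symm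
  · rintro _ ⟨l, hl, rfl⟩
    have h := Z10_comm l hl
    rw [W_cons, W_single, W_cons, W_single] at h
    exact h
  · intro hc
    have h := e_Z10
    rw [W3, W_cons, W_single] at h
    rw [hc, mul_assoc, X10_sq, mul_one] at h
    apply z_ne_one
    exact (mul_eq_right.1 h.symm)

end Cfsg.Agent.BabyM.CertTauD
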