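/-
Operator identities with `ξ`: conjugates of generators of the stabiliser of `y_0` in `N` (`cert/hs.json`).
-/
import Cfsg.Agent.BabyM.ConcEq

set_option autoImplicit false

namespace Cfsg.Agent.BabyM.ConcRelS

open Cfsg.Agent.BabyM.Conc Cfsg.Agent.BabyM.ConcEq

theorem xi_S0 : W [.xii, .p6, .h, .p5, .xi] = W [.p6, .h, .p5, .Z0, .Z1, .Z2, .Z6, .X0, .X1, .X2, .X7, .X8, .X9, .z] :=
  eqX 4 (by unfold ChkX; and_intros <;> decide +kernel)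

theorem xi_S1 : W [.xii, .p, .h, .p10, .h, .p9, .h, .xi] = W [.p, .h, .p10, .h, .p9, .h, .y1, .y2, .y4, .y5, .y10, .Z0, .Z1, .Z3, .Z6, .Z7, .Z8, .Z10, .X0, .X6, .X7, .X8, .X9, .z] :=
  eqX 4 (by unfold ChkX; and_intros <;> decide +kernel)

theorem xi_E90 : W [.xii, .y1, .xi] = W [.p, .h, .p6, .h, .p3, .h, .p7, .h, .p3, .h, .p3, .y1, .y3, .y7, .y8, .y9, .Z0, .Z2, .Z3, .Z4, .Z5, .Z9, .X0, .X2, .X3, .X5, .X6, .X7, .X8, .X9] :=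
  eqX 4 (by unfold ChkX; and_intros <;> decide +kernel)

theorem xi_E91 : W [.xii, .y3, .xi] = W [.p, .h, .p, .h, .p8, .h, .p3, .h, .p10, .h, .p10, .y1, .y2, .y3, .y4, .y5, .y10, .Z1, .Z6, .Z7, .Z8, .X0, .X1, .X2, .X3, .X4, .X5, .X7, .X9] :=
  eqX 4 (by unfold ChkX; and_intros <;> decide +kernel)

theorem xi_E92 : W [.xii, .y2, .y4, .xi] = W [.p9, .h, .p8, .h, .p2, .h, .p, .h, .p2, .y1, .y5, .y6, .y7, .y9, .y10, .Z0, .Z1, .Z2, .Z5, .Z6, .Z7, .Z9, .Z10, .X0, .X1, .X3, .X4, .X9] :=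
  eqX 4 (by unfold ChkX; and_intros <;> decide +kernel)

theorem xi_E93 : W [.xii, .y5, .xi] = W [.p4, .h, .p4, .h, .p7, .h, .p7, .y1, .y4, .y5, .y7, .y9, .y10, .Z0, .Z2, .Z4, .Z9, .X0, .X3, .X6, .X8, .X9] :=
  eqX 4 (by unfold ChkX; and_intros <;> decide +kernel)

theorem xi_E94 : W [.xii, .y2, .y6, .xi] = W [.p4, .h, .p4, .h, .p7, .h, .p7, .y1, .y2, .y4, .y6, .y7, .y9, .y10, .Z0, .Z1, .Z2, .Z4, .Z6, .Z7, .Z9, .X1, .X4, .X5] :=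
  eqX 4 (by unfold ChkX; and_intros <;> decide +kernel)

theorem xi_E95 : W [.xii, .y2, .y7, .xi] = W [.p2, .h, .p5, .h, .p7, .h, .p4, .h, .p6, .h, .p9, .y1, .y2, .y3, .y4, .y7, .y8, .y10, .Z0, .Z2, .Z3, .Z4, .Z5, .Z9, .X1, .X4, .X5] :=
  eqX 4 (by unfold ChkX; and_intros <;> decide +kernel)

theorem xi_E96 : W [.xii, .y2, .y8, .xi] = W [.p10, .h, .p5, .h, .p5, .h, .p, .h, .p10, .h, .p10, .h, .y3, .y5, .y6, .y7, .y9, .Z0, .Z1, .Z2, .Z5, .Z7, .Z8, .Z9, .X1, .X4, .X5, .z] :=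
  eqX 4 (by unfold ChkX; and_intros <;> decide +kernel)

theorem xi_E97 : W [.xii, .y9, .xi] = W [.p7, .h, .p, .h, .p9, .h, .p, .h, .p4, .y2, .y3, .y5, .y6, .y7, .y8, .Z6, .Z8, .X1, .X2, .X4, .X7] :=
  eqX 4 (by unfold ChkX; and_intros <;> decide +kernel)

theorem xi_E98 : W [.xii, .y10, .xi] = W [.p5, .h, .p7, .h, .p8, .h, .p4, .h, .p3, .h, .p5, .h, .y1, .y3, .y4, .y6, .y7, .y8, .y9, .Z0, .Z3, .Z5, .Z7, .Z8, .Z10, .X0, .X2, .X3, .X5, .X6, .X7, .X8, .X9] :=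
  eqX 4 (by unfold ChkX; and_intros <;> decide +kernel)

end Cfsg.Agent.BabyM.ConcRelS
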