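/-
Operator identities with `τ` and with `X_10` (conjugates of the generators of `N_xyz`).
-/
import Cfsg.Agent.BabyM.ConcEq

set_option autoImplicit false

namespace Cfsg.Agent.BabyM.ConcRelT

open Cfsg.Agent.BabyM.Conc Cfsg.Agent.BabyM.ConcEq

theorem taui_X0 : W [.tau, .X0, .taui] = W [.y1, .X0] :=
  eqT 4 (by decide +kernel)

theorem taui_X1 : W [.tau, .X1, .taui] = W [.y2, .X1] :=
  eqT 4 (by decide +kernel)

theorem taui_X2 : W [.tau, .X2, .taui] = W [.y3, .X2] :=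
  eqT 4 (by decide +kernel)

theorem taui_X3 : W [.tau, .X3, .taui] = W [.y4, .X3] :=
  eqT 4 (by decide +kernel)

theorem taui_X4 : W [.tau, .X4, .taui] = W [.y5, .X4] :=
  eqT 4 (by decide +kernel)

theorem taui_X5 : W [.tau, .X5, .taui] = W [.y6, .X5] :=
  eqT 4 (by decide +kernel)

theorem taui_X6 : W [.tau, .X6, .taui] = W [.y7, .X6] :=
  eqT 4 (by decide +kernel)

theorem taui_X7 : W [.tau, .X7, .taui] = W [.y8, .X7] :=
  eqT 4 (by decide +kernel)

theorem taui_X8 : W [.tau, .X8, .taui] = W [.y9, .X8] :=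
  eqT 4 (by decide +kernel)

theorem taui_X9 : W [.tau, .X9, .taui] = W [.y10, .X9] :=
  eqT 4 (by decide +kernel)

theorem taui_Z0 : W [.tau, .Z0, .taui] = W [.Z0] :=
  eqT 4 (by decide +kernel)

theorem taui_Z1 : W [.tau, .Z1, .taui] = W [.Z1] :=
  eqT 4 (by decide +kernel)

theorem taui_Z2 : W [.tau, .Z2, .taui] = W [.Z2] :=
  eqT 4 (by decide +kernel)

theorem taui_Z3 : W [.tau, .Z3, .taui] = W [.Z3] :=
  eqT 4 (by decide +kernel)

theorem taui_Z4 : W [.tau, .Z4, .taui] = W [.Z4] :=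
  eqT 4 (by decide +kernel)

theorem taui_Z5 : W [.tau, .Z5, .taui] = W [.Z5] :=
  eqT 4 (by decide +kernel)

theorem taui_Z6 : W [.tau, .Z6, .taui] = W [.Z6] :=
  eqT 4 (by decide +kernel)

theorem taui_Z7 : W [.tau, .Z7, .taui] = W [.Z7] :=
  eqT 4 (by decide +kernel)

theorem taui_Z8 : W [.tau, .Z8, .taui] = W [.Z8] :=
  eqT 4 (by decide +kernel)

theorem taui_Z9 : W [.tau, .Z9, .taui] = W [.Z9] :=
  eqT 4 (by decide +kernel)

theorem taui_Z10 : W [.tau, .Z10, .taui] = W [.z] :=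
  eqT 4 (by decide +kernel)

theorem tau_X0 : W [.taui, .X0, .tau] = W [.y1] :=
  eqT 4 (by decide +kernel)

theorem tau_X1 : W [.taui, .X1, .tau] = W [.y2] :=
  eqT 4 (by decide +kernel)

theorem tau_X2 : W [.taui, .X2, .tau] = W [.y3, .Z1] :=
  eqT 4 (by decide +kernel)

theorem tau_X3 : W [.taui, .X3, .tau] = W [.y4] :=
  eqT 4 (by decide +kernel)

theorem tau_X4 : W [.taui, .X4, .tau] = W [.y5] :=
  eqT 4 (by decide +kernel)

theorem tau_X5 : W [.taui, .X5, .tau] = W [.y6, .Z3] :=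
  eqT 4 (by decide +kernel)

theorem tau_X6 : W [.taui, .X6, .tau] = W [.y7, .Z4] :=
  eqT 4 (by decide +kernel)

theorem tau_X7 : W [.taui, .X7, .tau] = W [.y8] :=
  eqT 4 (by decide +kernel)

theorem tau_X8 : W [.taui, .X8, .tau] = W [.y9] :=
  eqT 4 (by decide +kernel)

theorem tau_X9 : W [.taui, .X9, .tau] = W [.y10, .Z0] :=
  eqT 4 (by decide +kernel)

theorem tau_Z0 : W [.taui, .Z0, .tau] = W [.Z0] :=
  eqT 4 (by decide +kernel)

theorem tau_Z1 : W [.taui, .Z1, .tau] = W [.Z1] :=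
  eqT 4 (by decide +kernel)

theorem tau_Z2 : W [.taui, .Z2, .tau] = W [.Z2] :=
  eqT 4 (by decide +kernel)

theorem tau_Z3 : W [.taui, .Z3, .tau] = W [.Z3] :=
  eqT 4 (by decide +kernel)

theorem tau_Z4 : W [.taui, .Z4, .tau] = W [.Z4] :=
  eqT 4 (by decide +kernel)

theorem tau_Z5 : W [.taui, .Z5, .tau] = W [.Z5] :=
  eqT 4 (by decide +kernel)

theorem tau_Z6 : W [.taui, .Z6, .tau] = W [.Z6] :=
  eqT 4 (by decide +kernel)

theorem tau_Z7 : W [.taui, .Z7, .tau] = W [.Z7] :=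
  eqT 4 (by decide +kernel)

theorem tau_Z8 : W [.taui, .Z8, .tau] = W [.Z8] :=
  eqT 4 (by decide +kernel)

theorem tau_Z9 : W [.taui, .Z9, .tau] = W [.Z9] :=
  eqT 4 (by decide +kernel)

theorem tau_Z10 : W [.taui, .Z10, .tau] = W [.Z10, .z] :=
  eqT 4 (by decide +kernel)

theorem tau_y1 : W [.taui, .y1, .tau] = W [.y1, .X0] :=
  eqT 4 (by decide +kernel)

theorem tau_y2 : W [.taui, .y2, .tau] = W [.y2, .X1] :=
  eqT 4 (by decide +kernel)

theorem tau_y3 : W [.taui, .y3, .tau] = W [.y3, .Z1, .X2] :=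
  eqT 4 (by decide +kernel)

theorem tau_y4 : W [.taui, .y4, .tau] = W [.y4, .X3] :=
  eqT 4 (by decide +kernel)

theorem tau_y5 : W [.taui, .y5, .tau] = W [.y5, .X4] :=
  eqT 4 (by decide +kernel)

theorem tau_y6 : W [.taui, .y6, .tau] = W [.y6, .Z3, .X5] :=
  eqT 4 (by decide +kernel)

theorem tau_y7 : W [.taui, .y7, .tau] = W [.y7, .Z4, .X6] :=
  eqT 4 (by decide +kernel)

theorem tau_y8 : W [.taui, .y8, .tau] = W [.y8, .X7] :=
  eqT 4 (by decide +kernel)

theorem tau_y9 : W [.taui, .y9, .tau] = W [.y9, .X8] :=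
  eqT 4 (by decide +kernel)

theorem tau_y10 : W [.taui, .y10, .tau] = W [.y10, .Z0, .X9] :=
  eqT 4 (by decide +kernel)

theorem tau_p : W [.taui, .p, .tau] = W [.p] :=
  eqT 4 (by decide +kernel)

theorem tau_h : W [.taui, .h, .tau] = W [.h] :=
  eqT 4 (by decide +kernel)

theorem taui_y1 : W [.tau, .y1, .taui] = W [.X0] :=
  eqT 4 (by decide +kernel)

theorem taui_y2 : W [.tau, .y2, .taui] = W [.X1] :=
  eqT 4 (by decide +kernel)

theorem taui_y3 : W [.tau, .y3, .taui] = W [.Z1, .X2] :=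
  eqT 4 (by decide +kernel)

theorem taui_y4 : W [.tau, .y4, .taui] = W [.X3] :=
  eqT 4 (by decide +kernel)

theorem taui_y5 : W [.tau, .y5, .taui] = W [.X4] :=
  eqT 4 (by decide +kernel)

theorem taui_y6 : W [.tau, .y6, .taui] = W [.Z3, .X5] :=
  eqT 4 (by decide +kernel)

theorem taui_y7 : W [.tau, .y7, .taui] = W [.Z4, .X6] :=
  eqT 4 (by decide +kernel)

theorem taui_y8 : W [.tau, .y8, .taui] = W [.X7] :=
  eqT 4 (by decide +kernel)

theorem taui_y9 : W [.tau, .y9, .taui] = W [.X8] :=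
  eqT 4 (by decide +kernel)

theorem taui_y10 : W [.tau, .y10, .taui] = W [.Z0, .X9] :=
  eqT 4 (by decide +kernel)

theorem taui_p : W [.tau, .p, .taui] = W [.p] :=
  eqT 4 (by decide +kernel)

theorem taui_h : W [.tau, .h, .taui] = W [.h] :=
  eqT 4 (by decide +kernel)

theorem tau_z : W [.taui, .z, .tau] = W [.Z10] :=
  eqT 4 (by decide +kernel)

theorem taui_z : W [.tau, .z, .taui] = W [.Z10, .z] :=
  eqT 4 (by decide +kernel)

theorem e_X0 : W [.X10, .X0, .X10] = W [.X0] :=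
  eqM (by decide +kernel)

theorem e_X1 : W [.X10, .X1, .X10] = W [.X1] :=
  eqM (by decide +kernel)

theorem e_X2 : W [.X10, .X2, .X10] = W [.X2] :=
  eqM (by decide +kernel)

theorem e_X3 : W [.X10, .X3, .X10] = W [.X3] :=
  eqM (by decide +kernel)

theorem e_X4 : W [.X10, .X4, .X10] = W [.X4] :=
  eqM (by decide +kernel)

theorem e_X5 : W [.X10, .X5, .X10] = W [.X5] :=
  eqM (by decide +kernel)

theorem e_X6 : W [.X10, .X6, .X10] = W [.X6] :=
  eqM (by decide +kernel)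

theorem e_X7 : W [.X10, .X7, .X10] = W [.X7] :=
  eqM (by decide +kernel)

theorem e_X8 : W [.X10, .X8, .X10] = W [.X8] :=
  eqM (by decide +kernel)

theorem e_X9 : W [.X10, .X9, .X10] = W [.X9] :=
  eqM (by decide +kernel)

theorem e_Z0 : W [.X10, .Z0, .X10] = W [.Z0] :=
  eqM (by decide +kernel)

theorem e_Z1 : W [.X10, .Z1, .X10] = W [.Z1] :=
  eqM (by decide +kernel)

theorem e_Z2 : W [.X10, .Z2, .X10] = W [.Z2] :=
  eqM (by decide +kernel)

theorem e_Z3 : W [.X10, .Z3, .X10] = W [.Z3] :=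
  eqM (by decide +kernel)

theorem e_Z4 : W [.X10, .Z4, .X10] = W [.Z4] :=
  eqM (by decide +kernel)

theorem e_Z5 : W [.X10, .Z5, .X10] = W [.Z5] :=
  eqM (by decide +kernel)

theorem e_Z6 : W [.X10, .Z6, .X10] = W [.Z6] :=
  eqM (by decide +kernel)

theorem e_Z7 : W [.X10, .Z7, .X10] = W [.Z7] :=
  eqM (by decide +kernel)

theorem e_Z8 : W [.X10, .Z8, .X10] = W [.Z8] :=
  eqM (by decide +kernel)

theorem e_Z9 : W [.X10, .Z9, .X10] = W [.Z9] :=
  eqM (by decide +kernel)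

theorem e_Z10 : W [.X10, .Z10, .X10] = W [.Z10, .z] :=
  eqM (by decide +kernel)

theorem e_y1 : W [.X10, .y1, .X10] = W [.y1, .X0] :=
  eqM (by decide +kernel)

theorem e_y2 : W [.X10, .y2, .X10] = W [.y2, .X1] :=
  eqM (by decide +kernel)

theorem e_y3 : W [.X10, .y3, .X10] = W [.y3, .Z1, .X2] :=
  eqM (by decide +kernel)

theorem e_y4 : W [.X10, .y4, .X10] = W [.y4, .X3] :=
  eqM (by decide +kernel)

theorem e_y5 : W [.X10, .y5, .X10] = W [.y5, .X4] :=
  eqM (by decide +kernel)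

theorem e_y6 : W [.X10, .y6, .X10] = W [.y6, .Z3, .X5] :=
  eqM (by decide +kernel)

theorem e_y7 : W [.X10, .y7, .X10] = W [.y7, .Z4, .X6] :=
  eqM (by decide +kernel)

theorem e_y8 : W [.X10, .y8, .X10] = W [.y8, .X7] :=
  eqM (by decide +kernel)

theorem e_y9 : W [.X10, .y9, .X10] = W [.y9, .X8] :=
  eqM (by decide +kernel)

theorem e_y10 : W [.X10, .y10, .X10] = W [.y10, .Z0, .X9] :=
  eqM (by decide +kernel)

theorem e_p : W [.X10, .p, .X10] = W [.p] :=
  eqM (by decide +kernel)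

theorem e_h : W [.X10, .h, .X10] = W [.h] :=
  eqM (by decide +kernel)

theorem e_z : W [.X10, .z, .X10] = W [.z] :=
  eqM (by decide +kernel)

end Cfsg.Agent.BabyM.ConcRelT
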