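/-
Operator identities with `ξ`: conjugates of the Paulis.
-/
import Cfsg.Agent.BabyM.ConcEq

set_option autoImplicit false

namespace Cfsg.Agent.BabyM.ConcRelX

open Cfsg.Agent.BabyM.Conc Cfsg.Agent.BabyM.ConcEq

theorem xi_sq : W [.xi, .xi] = W [.Z2, .Z3, .Z5, .Z6, .Z7, .Z8, .Z10, .X0, .X1, .X3, .X4, .X5, .X6, .X8, .X9] :=
  eqX 4 (by unfold ChkX; and_intros <;> decide +kernel)

theorem xi_X0 : W [.xii, .X0, .xi] = W [.Z1, .Z4, .Z5, .Z9, .X0, .X2, .X6, .X7, .X8, .z] :=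
  eqX 4 (by unfold ChkX; and_intros <;> decide +kernel)

theorem xi_X1 : W [.xii, .X1, .xi] = W [.Z0, .Z2, .Z4, .Z7, .Z8, .Z9, .Z10, .X0, .X3, .X4, .X9, .X10, .z] :=
  eqX 4 (by unfold ChkX; and_intros <;> decide +kernel)

theorem xi_X2 : W [.xii, .X2, .xi] = W [.Z1, .Z3, .Z4, .Z5, .Z7, .Z9, .X1, .X4, .X5, .X6, .X7, .X8] :=
  eqX 4 (by unfold ChkX; and_intros <;> decide +kernel)

theorem xi_X3 : W [.xii, .X3, .xi] = W [.Z2, .Z4, .Z8, .Z9, .Z10, .X0, .X5, .X9, .X10, .z] :=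
  eqX 4 (by unfold ChkX; and_intros <;> decide +kernel)

theorem xi_X4 : W [.xii, .X4, .xi] = W [.Z0, .Z1, .Z2, .Z3, .Z7, .Z8, .Z9, .Z10, .X0, .X3, .X4, .X6, .X8, .X9, .z] :=
  eqX 4 (by unfold ChkX; and_intros <;> decide +kernel)

theorem xi_X5 : W [.xii, .X5, .xi] = W [.Z0, .Z2, .Z6, .Z8, .Z9, .Z10, .X0, .X1, .X2, .X3, .X4, .X5, .X6, .X7, .X8, .X9, .X10] :=
  eqX 4 (by unfold ChkX; and_intros <;> decide +kernel)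

theorem xi_X6 : W [.xii, .X6, .xi] = W [.Z5, .Z7, .Z9, .X2, .X5, .X6, .X7, .X10, .z] :=
  eqX 4 (by unfold ChkX; and_intros <;> decide +kernel)

theorem xi_X7 : W [.xii, .X7, .xi] = W [.Z1, .Z2, .Z4, .Z6, .Z8, .Z10, .X0, .X2, .X3, .X9, .X10] :=
  eqX 4 (by unfold ChkX; and_intros <;> decide +kernel)

theorem xi_X8 : W [.xii, .X8, .xi] = W [.Z1, .Z3, .Z4, .Z5, .Z7, .Z9, .X1, .X2, .X4, .X5, .X6, .X7] :=
  eqX 4 (by unfold ChkX; and_intros <;> decide +kernel)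

theorem xi_X9 : W [.xii, .X9, .xi] = W [.Z0, .Z1, .Z2, .Z3, .Z4, .Z5, .Z6, .Z8, .Z10, .X0, .X1, .X3, .X4, .z] :=
  eqX 4 (by unfold ChkX; and_intros <;> decide +kernel)

theorem xi_X10 : W [.xii, .X10, .xi] = W [.Z1, .Z3, .Z4, .Z5, .Z7, .Z9, .X1, .X2, .X4, .X5, .X6, .X7, .X8, .X10] :=
  eqX 4 (by unfold ChkX; and_intros <;> decide +kernel)

theorem xi_Z0 : W [.xii, .Z0, .xi] = W [.Z0, .Z1, .Z3, .Z4, .Z5, .Z7, .Z9, .X1, .X2, .X4, .X5, .X6, .X7, .X8, .z] :=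
  eqX 4 (by unfold ChkX; and_intros <;> decide +kernel)

theorem xi_Z1 : W [.xii, .Z1, .xi] = W [.Z2, .Z5, .Z8, .Z9, .Z10, .X0, .X2, .X3, .X5, .X6, .X7, .X8, .X9] :=
  eqX 4 (by unfold ChkX; and_intros <;> decide +kernel)

theorem xi_Z2 : W [.xii, .Z2, .xi] = W [.Z0, .Z5, .Z6, .Z7, .Z8, .Z10, .X0, .X1, .X3, .X4, .X5, .X6, .X8, .X9, .z] :=
  eqX 4 (by unfold ChkX; and_intros <;> decide +kernel)

theorem xi_Z3 : W [.xii, .Z3, .xi] = W [.Z1, .Z4, .Z5, .Z7, .Z9, .X1, .X2, .X4, .X5, .X6, .X7, .X8, .z] :=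
  eqX 4 (by unfold ChkX; and_intros <;> decide +kernel)

theorem xi_Z4 : W [.xii, .Z4, .xi] = W [.Z1, .Z2, .Z4, .Z5, .Z8, .Z9, .Z10, .X0, .X2, .X3, .X5, .X6, .X7, .X8, .X9] :=
  eqX 4 (by unfold ChkX; and_intros <;> decide +kernel)

theorem xi_Z5 : W [.xii, .Z5, .xi] = W [.Z2, .Z3, .Z5, .Z6, .Z8, .Z10, .X0, .X1, .X2, .X3, .X4, .X6, .X7, .X8, .X9] :=
  eqX 4 (by unfold ChkX; and_intros <;> decide +kernel)

theorem xi_Z6 : W [.xii, .Z6, .xi] = W [.Z0, .Z2, .Z4, .Z5, .Z6, .Z8, .Z10, .X0, .X1, .X2, .X3, .X4, .X5, .X7, .X9, .z] :=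
  eqX 4 (by unfold ChkX; and_intros <;> decide +kernel)

theorem xi_Z7 : W [.xii, .Z7, .xi] = W [.Z0, .Z2, .Z5, .Z6, .Z8, .Z10, .X0, .X1, .X3, .X4, .X5, .X6, .X8, .X9, .z] :=
  eqX 4 (by unfold ChkX; and_intros <;> decide +kernel)

theorem xi_Z8 : W [.xii, .Z8, .xi] = W [.Z0, .Z2, .Z4, .Z5, .Z10, .X0, .X1, .X2, .X3, .X4, .X5, .X7, .X9, .z] :=
  eqX 4 (by unfold ChkX; and_intros <;> decide +kernel)

theorem xi_Z9 : W [.xii, .Z9, .xi] = W [.Z1, .Z3, .Z4, .Z5, .Z7, .X1, .X2, .X4, .X5, .X6, .X7, .X8] :=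
  eqX 4 (by unfold ChkX; and_intros <;> decide +kernel)

theorem xi_Z10 : W [.xii, .Z10, .xi] = W [.Z1, .Z3, .Z5, .Z6, .Z7, .Z10] :=
  eqX 4 (by unfold ChkX; and_intros <;> decide +kernel)

end Cfsg.Agent.BabyM.ConcRelX
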