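import Cfsg.Agent.BabyM.FTable
import Cfsg.Agent.BabyM.InstZ

/-!
# The fields `t_d` and `card_pairs` of the concrete model
-/

set_option autoImplicit false

namespace Cfsg.Agent.BabyM.FFinal

open Cfsg.Agent.Lib.PermNet Cfsg.Agent.Monster Cfsg.Agent.Monster.VecEngine Cfsg.Agent.Monster.VecSpace
open Cfsg.Agent.Monster.PauliBasic Cfsg.Agent.Monster.PauliRep Cfsg.Agent.Monster.PauliClif Cfsg.Agent.Monster.PauliBits
open Cfsg.Agent.Monster.PlaneArith Cfsg.Agent.Monster.LevelSets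
open Cfsg.Agent.BabyM.QAct Cfsg.Agent.BabyM.QData Cfsg.Agent.BabyM.QData.Good Cfsg.Agent.BabyM.KCore
open Cfsg.Agent.BabyM.Conc Cfsg.Agent.BabyM.KTab Cfsg.Agent.BabyM.FRows Cfsg.Agent.BabyM.InstVec
open Cfsg.Agent.BabyM.Inst (M laneI laneA laneB)
open Cfsg.Agent.BabyM.FTable

/-! ### Words of Pauli elements -/

/-- Prepend a letter if a bit is set. -/
noncomputable def bitL (x k : ℕ) (l : Ltr) (r : List Ltr) : List Ltr :=
  Bool.rec (motive := fun _ => List Ltr) r (l :: r) (Nat.beq (Nat.land (Nat.shiftRight x k) 1) 1)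

/-- The word of the Pauli element with code `x`. -/
noncomputable def pw (x : ℕ) : List Ltr :=
  bitL x 0 .Z0 (bitL x 1 .Z1 (bitL x 2 .Z2 (bitL x 3 .Z3 (bitL x 4 .Z4 (bitL x 5 .Z5 (
    bitL x 6 .Z6 (bitL x 7 .Z7 (bitL x 8 .Z8 (bitL x 9 .Z9 (bitL x 10 .Z10 (bitL x 11 .X0 (
    bitL x 12 .X1 (bitL x 13 .X2 (bitL x 14 .X3 (bitL x 15 .X4 (bitL x 16 .X5 (bitL x 17 .X6 (
    bitL x 18 .X7 (bitL x 19 .X8 (bitL x 20 .X9 (bitL x 21 .X10 (bitL x 22 .z []))))))))))))))))))))))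

theorem beq_bit (x k : ℕ) : Nat.beq (Nat.land (Nat.shiftRight x k) 1) 1 = x.testBit k := by
  have h1 : Nat.land (Nat.shiftRight x k) 1 = (x >>> k) % 2 := Nat.and_one_is_mod _
  rw [h1]
  unfold Nat.testBit
  rw [Nat.and_comm, Nat.and_one_is_mod]
  rcases Nat.mod_two_eq_zero_or_one (x >>> k) with h | h <;> rw [h] <;> rfl

/-- The letters `X_k`. -/
def Xl : Fin 11 → Ltr := ![.X0, .X1, .X2, .X3, .X4, .X5, .X6, .X7, .X8, .X9, .X10]

/-- The letters `Z_k`. -/
def Zl : Fin 11 → Ltr := ![.Z0, .Z1, .Z2, .Z3, .Z4, .Z5, .Z6, .Z7, .Z8, .Z9, .Z10]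

/-- The letters act as the Pauli elements. -/
structure RHyp : Prop where
  hX : ∀ k : Fin 11, E (Xl k) = Cd.R ⟨0, Pi.single k 1, 0⟩
  hZ : ∀ k : Fin 11, E (Zl k) = Cd.R ⟨0, 0, Pi.single k 1⟩
  hz : E .z = Cd.R ⟨1, 0, 0⟩

theorem W_bitL {x k : ℕ} {l : Ltr} {r : List Ltr} {s : ZMod 2} {a b : B 11} (hl : E l = Cd.R ⟨s, a, b⟩)
    {p : Pauli 11} (hr : W r = Cd.R p) :
    W (bitL x k l r) = Cd.R (p * ⟨bit x k * s, bit x k • a, bit x k • b⟩) := by
  unfold bitL
  rw [beq_bit]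
  cases h : x.testBit k
  · have h0 : bit x k = 0 := by unfold bit; rw [h]; rfl
    rw [h0, zero_mul, zero_smul, zero_smul]
    show W r = Cd.R (p * 1)
    rw [mul_one, hr]
  · have h1 : bit x k = 1 := by unfold bit; rw [h]; rfl
    rw [h1, one_mul, one_smul, one_smul, map_mul, ← hl, ← hr]
    exact W_cons _ _

theorem mulX (s : ZMod 2) (a a' : B 11) : (⟨s, a, 0⟩ : Pauli 11) * ⟨0, a', 0⟩ = ⟨s, a + a', 0⟩ := by
  ext i <;> simp

theorem mulZ (s : ZMod 2) (a b b' : B 11) : (⟨s, a, b⟩ : Pauli 11) * ⟨0, 0, b'⟩ = ⟨s, a, b + b'⟩ := by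
  ext i <;> simp

theorem single_sum (f : Fin 11 → ZMod 2) :
    0 + f 10 • (Pi.single 10 1 : B 11) + f 9 • (Pi.single 9 1 : B 11) + f 8 • (Pi.single 8 1 : B 11) +
      f 7 • (Pi.single 7 1 : B 11) + f 6 • (Pi.single 6 1 : B 11) + f 5 • (Pi.single 5 1 : B 11) +
      f 4 • (Pi.single 4 1 : B 11) + f 3 • (Pi.single 3 1 : B 11) + f 2 • (Pi.single 2 1 : B 11) +
      f 1 • (Pi.single 1 1 : B 11) + f 0 • (Pi.single 0 1 : B 11) = f := by
  funext k
  fin_cases k <;> simp [Pi.single_apply]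

theorem W_pw (hR : RHyp) (x : ℕ) : W (pw x) = Cd.R (dec 11 x) := by
  unfold pw
  have h22 := W_bitL (x := x) (k := 22) hR.hz (W_nil.trans (map_one Cd.R).symm)
  have h21 := W_bitL (x := x) (k := 21) (hR.hX 10) h22
  have h20 := W_bitL (x := x) (k := 20) (hR.hX 9) h21
  have h19 := W_bitL (x := x) (k := 19) (hR.hX 8) h20
  have h18 := W_bitL (x := x) (k := 18) (hR.hX 7) h19
  have h17 := W_bitL (x := x) (k := 17) (hR.hX 6) h18
  have h16 := W_bitL (x := x) (k := 16) (hR.hX 5) h17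
  have h15 := W_bitL (x := x) (k := 15) (hR.hX 4) h16
  have h14 := W_bitL (x := x) (k := 14) (hR.hX 3) h15
  have h13 := W_bitL (x := x) (k := 13) (hR.hX 2) h14
  have h12 := W_bitL (x := x) (k := 12) (hR.hX 1) h13
  have h11 := W_bitL (x := x) (k := 11) (hR.hX 0) h12
  have h10 := W_bitL (x := x) (k := 10) (hR.hZ 10) h11
  have h9 := W_bitL (x := x) (k := 9) (hR.hZ 9) h10
  have h8 := W_bitL (x := x) (k := 8) (hR.hZ 8) h9
  have h7 := W_bitL (x := x) (k := 7) (hR.hZ 7) h8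
  have h6 := W_bitL (x := x) (k := 6) (hR.hZ 6) h7
  have h5 := W_bitL (x := x) (k := 5) (hR.hZ 5) h6
  have h4 := W_bitL (x := x) (k := 4) (hR.hZ 4) h5
  have h3 := W_bitL (x := x) (k := 3) (hR.hZ 3) h4
  have h2 := W_bitL (x := x) (k := 2) (hR.hZ 2) h3
  have h1 := W_bitL (x := x) (k := 1) (hR.hZ 1) h2
  have h0 := W_bitL (x := x) (k := 0) (hR.hZ 0) h1
  refine h0.trans ?_
  congr 1
  simp only [one_mul, mul_zero, smul_zero, mul_one, mulX, mulZ]
  have hX := single_sum (fun k => bit x (11 + k.1))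
  have hZ := single_sum (fun k => bit x k.1)
  unfold dec
  rw [← hX, ← hZ]
  rfl

/-! ### Fixed vectors -/

/-- The word of `z^s` times the Pauli element with code `c`. -/
noncomputable def ws (s : Bool) (c : ℕ) : List Ltr := Bool.rec (pw c) (pw c ++ [.z]) s

theorem W_ws (hR : RHyp) (s : ZMod 2) (c : ℕ) : W (ws (sB s) c) = Cd.R (⟨s, 0, 0⟩ * dec 11 c) := by
  rcases zmod2_cases s with rfl | rfl
  · show W (pw c) = Cd.R (1 * dec 11 c)
    rw [one_mul, W_pw hR]
  · show W (pw c ++ [.z]) = _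
    rw [W_append, W_single, W_pw hR, hR.hz, map_mul]

/-- All lanes of the list give words fixing `x`. -/
noncomputable def fixL (s : Bool) (L : List ℕ) (x : Pl) : Bool :=
  List.rec (motive := fun _ => Bool) true (fun i _ ih => and (checkFix ((ws s (cd i)).map Ltr.prog) x) ih) L

theorem fixL_sound {s : Bool} {L : List ℕ} {x : Pl} (h : fixL s L x = true) {i : ℕ} (hi : i ∈ L) :
    W (ws s (cd i)) (vecU ℚ U x) = vecU ℚ U x := by
  induction L with
  | nil => exact absurd hi (by simp)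
  | cons a L ih =>
    have h' : and (checkFix ((ws s (cd a)).map Ltr.prog) x) (fixL s L x) = true := h
    rw [Bool.and_eq_true] at h'
    rcases List.mem_cons.mp hi with rfl | hi
    · exact W_fix_of_check h'.1
    · exact ih h'.2 hi

theorem fix10 : fixL false L10 dv1 = true := by decide +kernel

theorem fix11 : fixL true L11 dv1 = true := by decide +kernel

theorem fix20 : fixL false L20 dv2 = true := by decide +kernel

theorem fix21 : fixL true L21 dv2 = true := by decide +kernel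

theorem fix41 : fixL true L41 dv4 = true := by decide +kernel


theorem G_iff {i : Lane U} (hi : Cd.isX i) (x : Pl) (s : ZMod 2) :
    (FAbs.G M KTab.u ((1 / 8 : ℚ) • vecU ℚ U x) i s = 1 ∨ FAbs.G M KTab.u ((1 / 8 : ℚ) • vecU ℚ U x) i s = -1) ↔
      (lv (sB s) x i.1 = 128 ∨ lv (sB s) x i.1 = -128) := by
  rw [G_eq hi, pm_one_iff]

theorem lt8192 {i : Lane U} (hi : Cd.isX i) : i.1 < 8192 := lt_trans (lt_of_isX hi) (by norm_num)

theorem fix_of (hR : RHyp) {x : Pl} {s : ZMod 2} {L : List ℕ} {n : ℕ}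
    (ht : flv (sB s) x (fun Lm B => and (Nat.beq B 0) (and (cardIs 13 12 n Lm) (sub? Lm L))) = true)
    (hf : fixL (sB s) L x = true) {i : Lane U} (hi : Cd.isX i)
    (hG : FAbs.G M KTab.u ((1 / 8 : ℚ) • vecU ℚ U x) i s = 1 ∨ FAbs.G M KTab.u ((1 / 8 : ℚ) • vecU ℚ U x) i s = -1) :
    Cd.R (⟨s, 0, 0⟩ * Cd.c i) ((1 / 8 : ℚ) • vecU ℚ U x) = (1 / 8 : ℚ) • vecU ℚ U x := by
  rw [G_iff hi] at hG
  obtain ⟨Lm, B, h1, -, hk⟩ := flv_sound ht
  simp only [Bool.and_eq_true] at hk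
  have h2 : i.1 ∈ L := mem_of_sub hk.2.2 ((h1 i.1).mpr ⟨isX_iff'.mp hi, lt8192 hi, hG⟩)
  have h3 := fixL_sound hf h2
  rw [W_ws hR] at h3
  rw [map_smul]
  exact congrArg _ h3

theorem not_of {x : Pl} {s : ZMod 2} {n : ℕ}
    (ht : flv (sB s) x (fun Lm B => and (Nat.beq B 0) (and (cardIs 13 12 n Lm) (sub? Lm []))) = true)
    {i : Lane U} (hi : Cd.isX i)
    (hG : FAbs.G M KTab.u ((1 / 8 : ℚ) • vecU ℚ U x) i s = 1 ∨ FAbs.G M KTab.u ((1 / 8 : ℚ) • vecU ℚ U x) i s = -1) :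
    False := by
  rw [G_iff hi] at hG
  obtain ⟨Lm, B, h1, -, hk⟩ := flv_sound ht
  simp only [Bool.and_eq_true] at hk
  have h2 : i.1 ∈ ([] : List ℕ) := mem_of_sub hk.2.2 ((h1 i.1).mpr ⟨isX_iff'.mp hi, lt8192 hi, hG⟩)
  exact absurd h2 (by simp)

/-! ### The base axis -/

theorem pc_iff {c : ℕ} (h : pc c = true) : bit c 11 + bit c 13 + bit c 15 + bit c 16 + bit c 17 = 0 := by
  unfold pc at h
  have h1 : (((c >>> 11) ^^^ ((c >>> 13) ^^^ ((c >>> 15) ^^^ ((c >>> 16) ^^^ (c >>> 17))))) &&& 1) = 0 :=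
    Nat.eq_of_beq_eq_true h
  have h2 := congrArg (fun x => bit x 0) h1
  simp only [bit_and, bit_xor, bit_shiftRight, bit_one, bit_zero, if_true, mul_one, add_zero] at h2
  rw [← h2]; ring

theorem cd_B : cd 1281 = 0x75 := by decide +kernel

theorem form_B {c : ℕ} (h : pc c = true) : Pauli.form (dec 11 c) (dec 11 0x75) = 0 := by
  have h1 := pc_iff h
  have hb : (dec 11 0x75).b = fun k : Fin 11 => if k.1 = 0 ∨ k.1 = 2 ∨ k.1 = 4 ∨ k.1 = 5 ∨ k.1 = 6 then 1 else 0 := by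
    funext k
    fin_cases k <;> decide
  have ha : (dec 11 0x75).a = 0 := by
    funext k
    fin_cases k <;> decide
  unfold Pauli.form
  rw [ha, hb, dotProduct_zero, zero_add]
  unfold dotProduct
  simp only [Fin.sum_univ_succ, dec]
  simp
  rw [← h1]
  ring

theorem comm_sound {L : ℕ} (h : comm L = true) {i : ℕ} (hi : i < 4096) (hL : L.testBit i = true) : pc (cd i) = true := by
  have h1 := allN_spec h (Nat.zero_le i) (by rw [zero_add]; exact hi)
  have h2 : (Nat.beq (Nat.land (Nat.shiftRight L i) 1) 0 || pc (cd i)) = true := h1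
  rw [Bool.or_eq_true] at h2
  rcases h2 with h3 | h3
  · exfalso
    have h4 := beq_bit L i
    rw [hL, Nat.eq_of_beq_eq_true h3] at h4
    exact absurd h4 (by decide)
  · exact h3

/-- The weights of the form. -/
noncomputable def w16 : Lane U → ℚ := fun i => 1 / 16 * (2 : ℚ) ^ (-(val wt i.1))

section link

variable {w : Lane U → ℚ} (h : Link Cd KTab.u w M laneB)

include h

theorem fix0 {s : ZMod 2} {i : Lane U} (hi : Cd.isX i) (hp : pc (cd i.1) = true) :
    Cd.R (⟨s, 0, 0⟩ * Cd.c i) (Inst.d 0) = Inst.d 0 := by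
  have hd : Inst.d 0 = KTab.u laneB + Pi.single laneB 8 := by
    rw [← h.u₀_eq, ← h.e₀_eq]; exact Inst.d_zero
  rw [hd, map_add, R_fix _ (fun j hj => h.hyp.good.u_supp laneB j h.i₀_X hj), R_single _ h.i₀_X.1]
  have hf : Pauli.form (⟨s, 0, 0⟩ * Cd.c i) (Cd.c laneB) = 0 := by
    rw [form_mul_left]
    have h1 : Pauli.form (⟨s, 0, 0⟩ : Pauli 11) (Cd.c laneB) = 0 := by
      simp [Pauli.form]
    have h2 : Cd.c laneB = dec 11 0x75 := congrArg (dec 11) cd_B
    rw [h1, zero_add, h2]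
    exact form_B hp
  rw [hf, sg_zero, one_smul]

/-- Field `t_d` of `BOrbit`. -/
theorem t_d (hR : RHyp) : ∀ j, ∀ g ∈ M.C, M.F (g M.d₀) (M.d j) = -1 → (g * M.t₀ * g⁻¹) (M.d j) = M.d j := by
  intro j
  have hsB0 : sB 0 = false := rfl
  have hsB1 : sB 1 = true := rfl
  apply FAbs.t_d_of h
  intro i hi s hG
  change Fin 5 at j
  have hcase : j = 0 ∨ j = 1 ∨ j = 2 ∨ j = 3 ∨ j = 4 := by
    have : ∀ j : Fin 5, j = 0 ∨ j = 1 ∨ j = 2 ∨ j = 3 ∨ j = 4 := by decide
    exact this j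
  rcases hcase with rfl | rfl | rfl | rfl | rfl
  · apply fix0 h hi
    have hG' : lv (sB s) dv0 i.1 = 128 ∨ lv (sB s) dv0 i.1 = -128 := (G_iff hi dv0 s).mp hG
    rcases zmod2_cases s with rfl | rfl
    · obtain ⟨Lm, B, h1, -, hk⟩ := flv_sound t00
      simp only [Bool.and_eq_true] at hk
      exact comm_sound hk.2.2 (lt_trans (lt_of_isX hi) (by norm_num)) ((h1 i.1).mpr ⟨isX_iff'.mp hi, lt8192 hi, hG'⟩)
    · obtain ⟨Lm, B, h1, -, hk⟩ := flv_sound t01
      simp only [Bool.and_eq_true] at hk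
      exact comm_sound hk.2.2 (lt_trans (lt_of_isX hi) (by norm_num)) ((h1 i.1).mpr ⟨isX_iff'.mp hi, lt8192 hi, hG'⟩)
  · rcases zmod2_cases s with rfl | rfl
    · exact fix_of hR (x := dv1) (s := 0) t10 fix10 hi hG
    · exact fix_of hR (x := dv1) (s := 1) t11 fix11 hi hG
  · rcases zmod2_cases s with rfl | rfl
    · exact fix_of hR (x := dv2) (s := 0) t20 fix20 hi hG
    · exact fix_of hR (x := dv2) (s := 1) t21 fix21 hi hG
  · exfalso
    rcases zmod2_cases s with rfl | rfl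
    · exact not_of (x := dv3) (s := 0) t30 hi hG
    · exact not_of (x := dv3) (s := 1) t31 hi hG
  · rcases zmod2_cases s with rfl | rfl
    · exact (not_of (x := dv4) (s := 0) t40 hi hG).elim
    · exact fix_of hR (x := dv4) (s := 1) t41 fix41 hi hG

end link

/-! ### Numbers -/

theorem ncard_lanes {x : Pl} {s : ZMod 2} {n Lm : ℕ} (hn : n < 2 ^ 12)
    (h1 : ∀ i, Lm.testBit i = true ↔ XM.testBit i = true ∧ i < 8192 ∧ (lv (sB s) x i = 128 ∨ lv (sB s) x i = -128))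
    (h2 : cardIs 13 12 n Lm = true) :
    {i : Lane U | Cd.isX i ∧ (FAbs.G M KTab.u ((1 / 8 : ℚ) • vecU ℚ U x) i s = 1 ∨
      FAbs.G M KTab.u ((1 / 8 : ℚ) • vecU ℚ U x) i s = -1)}.ncard = n := by
  classical
  have hinj : Function.Injective (fun i : Lane U => i.1) := fun a b hab => Subtype.ext hab
  have him : (fun i : Lane U => i.1) '' {i : Lane U | Cd.isX i ∧
      (FAbs.G M KTab.u ((1 / 8 : ℚ) • vecU ℚ U x) i s = 1 ∨ FAbs.G M KTab.u ((1 / 8 : ℚ) • vecU ℚ U x) i s = -1)} =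
      (((Finset.range (2 ^ 13)).filter (fun i => Lm.testBit i = true) : Finset ℕ) : Set ℕ) := by
    have h8 : (2 : ℕ) ^ 13 = 8192 := by norm_num
    rw [h8]
    ext i
    rw [Finset.coe_filter, Set.mem_image]
    constructor
    · rintro ⟨i, ⟨hi, hG⟩, rfl⟩
      rw [G_iff hi] at hG
      have h4 := (h1 i.1).mpr ⟨isX_iff'.mp hi, lt8192 hi, hG⟩
      exact ⟨Finset.mem_range.mpr (lt8192 hi), h4⟩
    · rintro ⟨hi, hL⟩
      obtain ⟨hX, h5, h6⟩ := (h1 i).mp hL
      have hU : U.testBit i = true := by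
        rw [testBit_XM, Bool.and_eq_true] at hX
        cases hU : U.testBit i with
        | true => rfl
        | false =>
          exfalso
          rw [hU, Bool.false_xor, decide_eq_true_eq] at hX
          have h7 := full_aux U_head hX.1.1 hX.1.2
          rw [hU] at h7
          exact absurd h7 (by simp)
      have hX' : Cd.isX (⟨i, hU⟩ : Lane U) := isX_iff'.mpr hX
      exact ⟨⟨i, hU⟩, ⟨hX', (G_iff hX' x s).mpr h6⟩, rfl⟩
  rw [← Set.ncard_image_of_injective _ hinj, him, Set.ncard_coe_finset]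
  exact cardIs_sound hn h2

theorem num_of {x : Pl} {s : ZMod 2} {n : ℕ} (hn : n < 2 ^ 12) {k : ℕ → ℕ → Bool} {k' : ℕ → Bool}
    (ht : flv (sB s) x (fun Lm B => and (k Lm B) (and (cardIs 13 12 n Lm) (k' Lm))) = true) :
    {i : Lane U | Cd.isX i ∧ (FAbs.G M KTab.u ((1 / 8 : ℚ) • vecU ℚ U x) i s = 1 ∨
      FAbs.G M KTab.u ((1 / 8 : ℚ) • vecU ℚ U x) i s = -1)}.ncard = n := by
  obtain ⟨Lm, B, h1, -, hk⟩ := flv_sound ht
  simp only [Bool.and_eq_true] at hk
  exact ncard_lanes hn h1 hk.2.1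

/-- The numbers of elements of the base orbit at inner product `-1` with `d j`. -/
def nn : Fin 5 → ℕ := ![1783, 56, 44, 0, 1]

section link

variable {w : Lane U → ℚ} (h : Link Cd KTab.u w M laneB)

include h

/-- The elements of `M.S` at inner product `-1` with `d j`. -/
theorem n_j (j : Fin 5) : {y | y ∈ M.S ∧ M.F y (M.d j) = -1}.ncard = nn j := by
  rw [FAbs.ncard_neg h (FAbs.sdesc h InstZ.neg)]
  have hcase : j = 0 ∨ j = 1 ∨ j = 2 ∨ j = 3 ∨ j = 4 := by
    have : ∀ j : Fin 5, j = 0 ∨ j = 1 ∨ j = 2 ∨ j = 3 ∨ j = 4 := by decide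
    exact this j
  rcases hcase with rfl | rfl | rfl | rfl | rfl
  · exact congrArg₂ (· + ·) (num_of (x := dv0) (s := 0) (n := 891) (by norm_num) t00)
      (num_of (x := dv0) (s := 1) (n := 892) (by norm_num) t01)
  · exact congrArg₂ (· + ·) (num_of (x := dv1) (s := 0) (n := 28) (by norm_num) t10)
      (num_of (x := dv1) (s := 1) (n := 28) (by norm_num) t11)
  · exact congrArg₂ (· + ·) (num_of (x := dv2) (s := 0) (n := 20) (by norm_num) t20)
      (num_of (x := dv2) (s := 1) (n := 24) (by norm_num) t21)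
  · exact congrArg₂ (· + ·) (num_of (x := dv3) (s := 0) (n := 0) (by norm_num) t30)
      (num_of (x := dv3) (s := 1) (n := 0) (by norm_num) t31)
  · exact congrArg₂ (· + ·) (num_of (x := dv4) (s := 0) (n := 0) (by norm_num) t40)
      (num_of (x := dv4) (s := 1) (n := 1) (by norm_num) t41)

/-- `M.S` is finite. -/
theorem S_finite : M.S.Finite := by
  have hS : M.S = Set.range (fun p : {i : Lane U // Cd.isX i} × ZMod 2 × ZMod 2 =>
      sg ℚ p.2.2 • (KTab.u p.1.1 + sg ℚ p.2.1 • (Pi.single p.1.1 8 : V))) := by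
    rw [show M.S = _ from FAbs.sdesc h InstZ.neg]
    ext x
    constructor
    · rintro ⟨i, hi, s, t, rfl⟩; exact ⟨(⟨i, hi⟩, s, t), rfl⟩
    · rintro ⟨⟨⟨i, hi⟩, s, t⟩, rfl⟩; exact ⟨i, hi, s, t, rfl⟩
  rw [hS]
  exact Set.finite_range _

/-- The sizes of the `C`-orbits of signed axes. -/
def NN : Fin 5 → ℕ := ![9200, 7286400, 381542400, 7461273600, 19293798400]

/-- Field `card_pairs` of `BOrbit`. -/
theorem card_pairs (hd : ∀ j k, ∀ g ∈ M.C, g (M.d j) = M.d k → j = k)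
    (hN : ∀ j : Fin 5, {x | ∃ g ∈ M.C, x = g (M.d j)}.ncard = NN j) :
    {p : V × V | p.1 ∈ M.D ∧ p.2 ∈ M.S ∧ M.F p.2 p.1 = -1}.ncard = 9200 * 3968055 := by
  letI : Fintype M.J := inferInstanceAs (Fintype (Fin 5))
  have hO : ∀ j : M.J, (FAbs.Orb M j).Finite := by
    intro j
    apply Set.finite_of_ncard_ne_zero
    show {x | ∃ g ∈ M.C, x = g (M.d j)}.ncard ≠ 0
    rw [hN j]
    have : ∀ j : Fin 5, NN j ≠ 0 := by decide
    exact this j
  rw [FAbs.card_pairs_of h.C_isom (-1) hd (S_finite h) hO NN nn hN (n_j h)]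
  show ∑ j : Fin 5, NN j * nn j = _
  rw [Fin.sum_univ_five]
  rfl

/-- The inner products of elements of the base orbit with the representatives are at most `1`. -/
theorem val : ∀ j, ∀ b ∈ M.S, b = M.d j ∨ M.F b (M.d j) ≤ 1 := by
  intro j b hb
  rw [show M.S = _ from FAbs.sdesc h InstZ.neg] at hb
  obtain ⟨i, hi, s, t, rfl⟩ := hb
  have key : ∀ (x : Pl) (Lm B : ℕ), (∀ i < 8192, XM.testBit i = true → B.testBit i = false →
      -128 ≤ lv (sB s) x i ∧ lv (sB s) x i ≤ 128) → B.testBit i.1 = false →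
      F (sg ℚ t • (KTab.u i + sg ℚ s • Pi.single i 8)) ((1 / 8 : ℚ) • vecU ℚ U x) ≤ 1 := by
    intro x Lm B h2 hB
    obtain ⟨h3, h4⟩ := h2 i.1 (lt8192 hi) (isX_iff'.mp hi) hB
    have h5 := G_eq hi x s
    unfold FAbs.G at h5
    have h6 : F (sg ℚ t • (KTab.u i + sg ℚ s • Pi.single i 8)) ((1 / 8 : ℚ) • vecU ℚ U x) =
        sg ℚ t * F (KTab.u i + sg ℚ s • Pi.single i 8) ((1 / 8 : ℚ) • vecU ℚ U x) := by
      rw [F_symm, map_smul, smul_eq_mul, F_symm]
    have h5' : F (KTab.u i + sg ℚ s • Pi.single i 8) ((1 / 8 : ℚ) • vecU ℚ U x) =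
        (1 / 128 : ℚ) * ((lv (sB s) x i.1 : ℤ) : ℚ) := h5
    rw [h6, h5']
    have h3' : (-128 : ℚ) ≤ ((lv (sB s) x i.1 : ℤ) : ℚ) := by exact_mod_cast h3
    have h4' : ((lv (sB s) x i.1 : ℤ) : ℚ) ≤ 128 := by exact_mod_cast h4
    rcases sg_eq_or ℚ t with h7 | h7 <;> rw [h7] <;> linarith
  have zero : ∀ {B : ℕ}, Nat.beq B 0 = true → B.testBit i.1 = false := fun hB => of_mask_zero hB _
  change Fin 5 at j
  have hcase : j = 0 ∨ j = 1 ∨ j = 2 ∨ j = 3 ∨ j = 4 := by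
    have : ∀ j : Fin 5, j = 0 ∨ j = 1 ∨ j = 2 ∨ j = 3 ∨ j = 4 := by decide
    exact this j
  have gen : ∀ {x : Pl} {n : ℕ} {k' : ℕ → Bool},
      flv (sB s) x (fun Lm B => and (Nat.beq B 0) (and (cardIs 13 12 n Lm) (k' Lm))) = true →
      F (sg ℚ t • (KTab.u i + sg ℚ s • Pi.single i 8)) ((1 / 8 : ℚ) • vecU ℚ U x) ≤ 1 := by
    intro x n k' ht
    obtain ⟨Lm, B, -, h2, hk⟩ := flv_sound ht
    simp only [Bool.and_eq_true] at hk
    exact key x Lm B h2 (zero hk.1)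
  rcases hcase with rfl | rfl | rfl | rfl | rfl
  · rcases zmod2_cases s with rfl | rfl
    · obtain ⟨Lm, B, -, h2, hk⟩ := flv_sound t00
      simp only [Bool.and_eq_true] at hk
      have hB : B = 2 ^ 1281 := Nat.eq_of_beq_eq_true hk.1
      by_cases hi1 : i.1 = 1281
      · have hiB : i = laneB := Subtype.ext hi1
        subst hiB
        have hd : M.d (0 : Fin 5) = KTab.u laneB + Pi.single laneB 8 := by
          rw [← h.u₀_eq, ← h.e₀_eq]; exact Inst.d_zero
        rcases zmod2_cases t with rfl | rfl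
        · left
          rw [hd, sg_zero, one_smul, one_smul]
        · right
          rw [hd, sg_one, sg_zero, one_smul, neg_smul, one_smul, map_neg, LinearMap.neg_apply]
          have : 0 ≤ F (KTab.u laneB + Pi.single laneB 8) (KTab.u laneB + Pi.single laneB 8) := F_self_nonneg _
          show - F _ _ ≤ 1
          linarith
      · right
        refine key dv0 Lm B h2 ?_
        rw [hB, Nat.testBit_two_pow]
        simpa using fun h' => hi1 h'.symm
    · right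
      exact gen (x := dv0) t01
  · right
    rcases zmod2_cases s with rfl | rfl
    · exact gen (x := dv1) t10
    · exact gen (x := dv1) t11
  · right
    rcases zmod2_cases s with rfl | rfl
    · exact gen (x := dv2) t20
    · exact gen (x := dv2) t21
  · right
    rcases zmod2_cases s with rfl | rfl
    · exact gen (x := dv3) t30
    · exact gen (x := dv3) t31
  · right
    rcases zmod2_cases s with rfl | rfl
    · exact gen (x := dv4) t40
    · exact gen (x := dv4) t41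

end link

end Cfsg.Agent.BabyM.FFinal
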