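import Cfsg.Agent.MonsterX.CertOrb

/-!
# Certificate layer of the Baby Monster: closure and orbit lengths from an orbit table

`N ≤ C` (`N` the stabiliser of the standard frame, `C = ⟨N, ξ⟩`), `Y` the set of neighbours of the standard frame
with base point `y0`, `v r` representatives of the `N`-orbits of axes, `d j` representatives of the `C`-orbits.
-/

set_option autoImplicit false

namespace Cfsg.Agent.BabyM.CertAbs

open Cfsg.Agent.Monster Cfsg.Agent.MonsterX.CertOrb MulAction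

variable {G V : Type*} [Group G] [MulAction G V]

/-- The setting of the extra element `ξ`. -/
structure XiData (N : Subgroup G) (ξ : G) {Y : Type*} [MulAction N Y] (y0 : Y) : Prop where
  trans : ∀ y : Y, ∃ k : N, k • y0 = y
  conj : ∀ k : N, k • y0 = y0 → ξ * k * ξ⁻¹ ∈ N
  conj' : ∀ k : N, k • y0 = y0 → ξ⁻¹ * k * ξ ∈ N
  sq : ∃ n : N, n • y0 = y0 ∧ ξ * ξ = n

/-- An orbit table. -/
structure Tab (N C : Subgroup G) (ξ τ : G) {Y : Type*} [MulAction N Y] (y0 : Y) {ρ J : Type*}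
    (v : ρ → V) (d : J → V) (jof : ρ → J) (root : J → ρ) (tp tm : ρ → ρ) (tgt : ρ → Y → ρ) : Prop where
  N_le : N ≤ C
  C_le : C ≤ Subgroup.closure ((N : Set G) ∪ {ξ})
  ξ_mem : ξ ∈ C
  /-- the representatives lie in different `N`-orbits -/
  disj : ∀ r s, v r ∈ orbit N (v s) → r = s
  tau_p : ∀ r, τ • v r ∈ orbit N (v (tp r))
  tau_m : ∀ r, τ⁻¹ • v r ∈ orbit N (v (tm r))
  xi : ∀ r y, ∃ k : N, k • y0 = y ∧ ξ • k⁻¹ • v r ∈ orbit N (v (tgt r y))
  jof_tgt : ∀ r y, jof (tgt r y) = jof r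
  jof_root : ∀ j, jof (root j) = j
  v_root : ∀ j, v (root j) = d j
  /-- every class of `jof` is connected by `ξ`-edges -/
  conn : ∃ (par : ρ → ρ) (rk : ρ → ℕ), ∀ r, r ≠ root (jof r) → rk (par r) < rk r ∧ ∃ y, tgt (par r) y = r

namespace Tab

variable {N C : Subgroup G} {ξ τ : G} {Y : Type*} [MulAction N Y] {y0 : Y} {ρ J : Type*}
  {v : ρ → V} {d : J → V} {jof : ρ → J} {root : J → ρ} {tp tm : ρ → ρ} {tgt : ρ → Y → ρ}

theorem edge_mem (h : Tab N C ξ τ y0 v d jof root tp tm tgt) (r : ρ) (y : Y) :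
    v (tgt r y) ∈ orbit C (v r) := by
  obtain ⟨k, -, n, hn⟩ := h.xi r y
  have hn' : (n : G) • v (tgt r y) = ξ • (k : G)⁻¹ • v r := hn
  refine ⟨⟨(n : G)⁻¹ * ξ * (k : G)⁻¹, C.mul_mem (C.mul_mem (C.inv_mem (h.N_le n.2)) h.ξ_mem)
    (C.inv_mem (h.N_le k.2))⟩, ?_⟩
  change ((n : G)⁻¹ * ξ * (k : G)⁻¹) • v r = _
  rw [mul_smul, mul_smul, ← hn', inv_smul_smul]

theorem rep (h : Tab N C ξ τ y0 v d jof root tp tm tgt) (r : ρ) : v r ∈ orbit C (d (jof r)) := by
  obtain ⟨par, rk, hp⟩ := h.conn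
  have key : ∀ n, ∀ r, rk r = n → v r ∈ orbit C (v (root (jof r))) := by
    intro n
    induction n using Nat.strong_induction_on with
    | _ n ih =>
      intro r hr
      by_cases h1 : r = root (jof r)
      · rw [← h1]; exact mem_orbit_self _
      · obtain ⟨h2, y, hy⟩ := hp r h1
        have h3 := ih _ (hr ▸ h2) (par r) rfl
        have h4 := h.edge_mem (par r) y
        have h5 : jof (par r) = jof r := by rw [← h.jof_tgt (par r) y, hy]
        rw [hy] at h4
        rw [h5] at h3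
        rw [← orbit_eq_iff] at h3 h4 ⊢
        rw [h4, h3]
  have := key _ r rfl
  rwa [h.v_root] at this

theorem cov (h : Tab N C ξ τ y0 v d jof root tp tm tgt) (hx : XiData N ξ y0) (j : J) (x : V)
    (hxj : x ∈ orbit C (d j)) : ∃ r, jof r = j ∧ x ∈ orbit N (v r) := by
  obtain ⟨⟨g, hg⟩, rfl⟩ := hxj
  change ∃ r, jof r = j ∧ g • d j ∈ orbit N (v r)
  have hN : ∀ n ∈ N, ∀ x : V, (∃ r, jof r = j ∧ x ∈ orbit N (v r)) →
      ∃ r, jof r = j ∧ n • x ∈ orbit N (v r) := by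
    rintro n hn x ⟨r, hr, hxr⟩
    exact ⟨r, hr, mem_orbit_of_mem_orbit (⟨n, hn⟩ : N) hxr⟩
  have hξ : ∀ x : V, (∃ r, jof r = j ∧ x ∈ orbit N (v r)) →
      ∃ r, jof r = j ∧ ξ • x ∈ orbit N (v r) := by
    rintro x ⟨r, hr, n, rfl⟩
    change ∃ s, jof s = j ∧ ξ • (n : G) • v r ∈ orbit N (v s)
    obtain ⟨k, hk, hkv⟩ := h.xi r (n⁻¹ • y0)
    refine ⟨tgt r (n⁻¹ • y0), by rw [h.jof_tgt, hr], ?_⟩
    have h1 : (n * k) • y0 = y0 := by rw [mul_smul, hk, ← mul_smul, mul_inv_cancel, one_smul]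
    have h2 := hx.conj _ h1
    have e1 : ξ • (n : G) • v r = (⟨_, h2⟩ : N) • (ξ • k⁻¹ • v r) := by
      change ξ • (n : G) • v r = (ξ * ((n * k : N) : G) * ξ⁻¹) • (ξ • (k : G)⁻¹ • v r)
      rw [← mul_smul, ← mul_smul, ← mul_smul]
      congr 1
      push_cast
      group
    rw [e1]
    exact mem_orbit_of_mem_orbit _ hkv
  have hξ' : ∀ x : V, (∃ r, jof r = j ∧ x ∈ orbit N (v r)) →
      ∃ r, jof r = j ∧ ξ⁻¹ • x ∈ orbit N (v r) := by
    intro x hx'
    obtain ⟨n, -, hn⟩ := hx.sq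
    have e1 : ξ⁻¹ = (n : G)⁻¹ * ξ := by rw [← hn]; group
    rw [e1, mul_smul]
    exact hN _ (N.inv_mem n.2) _ (hξ x hx')
  have hgc := h.C_le hg
  have hbase : ∃ r, jof r = j ∧ d j ∈ orbit N (v r) :=
    ⟨root j, h.jof_root j, by rw [h.v_root]; exact mem_orbit_self _⟩
  have key : ∀ g ∈ Subgroup.closure ((N : Set G) ∪ {ξ}), ∀ x : V,
      (∃ r, jof r = j ∧ x ∈ orbit N (v r)) → ∃ r, jof r = j ∧ g • x ∈ orbit N (v r) := by
    intro g hg
    induction hg using Subgroup.closure_induction'' with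
    | one => intro x hx'; rwa [one_smul]
    | mem g hg =>
      rcases hg with hg | hg
      · exact hN g hg
      · rw [Set.mem_singleton_iff] at hg
        rw [hg]; exact hξ
    | inv_mem g hg =>
      rcases hg with hg | hg
      · exact hN _ (N.inv_mem hg)
      · rw [Set.mem_singleton_iff] at hg
        rw [hg]; exact hξ'
    | mul a b _ _ iha ihb =>
      intro x hx'
      rw [mul_smul]
      exact iha _ (ihb x hx')
  exact key g hgc _ hbase

theorem refines (h : Tab N C ξ τ y0 v d jof root tp tm tgt) (hx : XiData N ξ y0) :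
    Refines C N d v jof where
  le := h.N_le
  rep := h.rep
  cov := fun j x hxj => h.cov hx j x hxj

/-- Different representatives `d j` lie in different `C`-orbits. -/
theorem disjoint (h : Tab N C ξ τ y0 v d jof root tp tm tgt) (hx : XiData N ξ y0) (i j : J)
    (g : G) (hg : g ∈ C) (hgd : g • d i = d j) : i = j := by
  refine ((h.refines hx).K_disj h.disj (fun j => ⟨root j, h.jof_root j⟩) j i ?_).symm
  exact ⟨⟨g, hg⟩, hgd⟩

/-- The union of the `C`-orbits is closed under `τ`. -/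
theorem closed (h : Tab N C ξ τ y0 v d jof root tp tm tgt) (hx : XiData N ξ y0)
    {N₀ : Subgroup G} {e : G} (ht : TauData N N₀ τ e) (j : J) (g : G) (hg : g ∈ C) :
    ∃ k, ∃ g' ∈ C, τ • g • d j = g' • d k := by
  obtain ⟨r, -, hr⟩ := h.cov hx j (g • d j) ⟨⟨g, hg⟩, rfl⟩
  have key : ∀ s, τ • g • d j ∈ orbit N (v s) → ∃ k, ∃ g' ∈ C, τ • g • d j = g' • d k := by
    intro s hs
    obtain ⟨g', hg'⟩ := (h.refines hx).mem_K hs
    exact ⟨jof s, g', g'.2, hg'.symm⟩
  rcases ht.closed v tp tm h.tau_p h.tau_m r hr with h1 | h1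
  · exact key _ h1
  · exact key _ h1

end Tab

/-! ### Lengths -/

/-- Orbit lengths up to a common factor. -/
theorem prop_of_tree {ρ : Type*} (x N : ρ → ℕ) (par : ρ → ρ) (rk : ρ → ℕ) (r₀ : ρ) (p q : ρ → ℕ)
    (hp : ∀ r, r ≠ r₀ → p r ≠ 0) (hrk : ∀ r, r ≠ r₀ → rk (par r) < rk r)
    (hx : ∀ r, r ≠ r₀ → x r * p r = x (par r) * q r) (hN : ∀ r, r ≠ r₀ → N r * p r = N (par r) * q r) :
    ∀ r, x r * N r₀ = x r₀ * N r := by
  have key : ∀ n, ∀ r, rk r = n → x r * N r₀ = x r₀ * N r := by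
    intro n
    induction n using Nat.strong_induction_on with
    | _ n ih =>
      intro r hr
      by_cases h : r = r₀
      · rw [h]
      · have h1 := ih _ (hr ▸ hrk r h) (par r) rfl
        have h2 := hx r h
        have h3 := hN r h
        refine Nat.eq_of_mul_eq_mul_right (Nat.pos_of_ne_zero (hp r h)) ?_
        calc x r * N r₀ * p r = (x r * p r) * N r₀ := by ring
          _ = (x (par r) * N r₀) * q r := by rw [h2]; ring
          _ = x r₀ * (N (par r) * q r) := by rw [h1]; ring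
          _ = x r₀ * N r * p r := by rw [← h3]; ring
  exact fun r => key _ r rfl

variable {N C : Subgroup G} {ξ τ : G} {Y : Type*} [MulAction N Y] {y0 : Y} {ρ J : Type*}
  {v : ρ → V} {d : J → V} {jof : ρ → J} {root : J → ρ} {tp tm : ρ → ρ} {tgt : ρ → Y → ρ}

theorem finite_orbit (H : Subgroup G) [Finite H] (x : V) : Finite (orbit H x) :=
  Finite.of_surjective (fun d : H => (⟨d • x, mem_orbit _ _⟩ : orbit H x))
    (by rintro ⟨_, d, rfl⟩; exact ⟨d, rfl⟩)

theorem xi_balance [Finite N] [Finite Y] (h : Tab N C ξ τ y0 v d jof root tp tm tgt) (hx : XiData N ξ y0)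
    (r s : ρ) : Nat.card (orbit N (v r)) * Nat.card {y : Y // tgt r y = s} =
      Nat.card (orbit N (v s)) * Nat.card {y : Y // tgt s y = r} := by
  obtain ⟨n, hn, hsq⟩ := hx.sq
  refine Abstract.balance N y0 hx.trans ξ hx.conj hx.conj' 1 n ?_ hn ?_ v h.disj
    (fun i => finite_orbit N (v i)) tgt h.xi r s
  · intro k; simp
  · rw [← hsq]; simp

theorem tau_balance [Finite N] [DecidableEq ρ] (h : Tab N C ξ τ y0 v d jof root tp tm tgt)
    {N₀ : Subgroup G} {e : G} (ht : TauData N N₀ τ e) (r s : ρ) :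
    Nat.card (orbit N (v r)) * ((if tp r = s then 1 else 0) + (if tm r = s then 1 else 0)) =
      Nat.card (orbit N (v s)) * ((if tp s = r then 1 else 0) + (if tm s = r then 1 else 0)) :=
  ht.balance v h.disj tp tm h.tau_p h.tau_m r s

/-- A spanning tree of balanced edges with root `r₀`. -/
structure Tree [DecidableEq ρ] (tp tm : ρ → ρ) (tgt : ρ → Y → ρ) (r₀ : ρ) (L : ρ → ℕ) (par : ρ → ρ)
    (rk : ρ → ℕ) : Prop where
  rk_lt : ∀ r, r ≠ r₀ → rk (par r) < rk r
  edge : ∀ r, r ≠ r₀ →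
    (∃ p q, p ≠ 0 ∧ Nat.card {y : Y // tgt r y = par r} = p ∧ Nat.card {y : Y // tgt (par r) y = r} = q ∧
      L r * p = L (par r) * q) ∨
    (∃ p q, p ≠ 0 ∧ (if tp r = par r then 1 else 0) + (if tm r = par r then 1 else 0) = p ∧
      (if tp (par r) = r then 1 else 0) + (if tm (par r) = r then 1 else 0) = q ∧ L r * p = L (par r) * q)

theorem prop_card [Finite N] [Finite Y] [DecidableEq ρ] (h : Tab N C ξ τ y0 v d jof root tp tm tgt)
    (hx : XiData N ξ y0) {N₀ : Subgroup G} {e : G} (ht : TauData N N₀ τ e) {r₀ : ρ} {L : ρ → ℕ} {par : ρ → ρ}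
    {rk : ρ → ℕ} (hT : Tree tp tm tgt r₀ L par rk) (r : ρ) :
    Nat.card (orbit N (v r)) * L r₀ = Nat.card (orbit N (v r₀)) * L r := by
  classical
  have hch : ∀ r, ∃ p q : ℕ, r ≠ r₀ → p ≠ 0 ∧
      Nat.card (orbit N (v r)) * p = Nat.card (orbit N (v (par r))) * q ∧ L r * p = L (par r) * q := by
    intro r
    by_cases hr : r = r₀
    · exact ⟨0, 0, fun h => absurd hr h⟩
    · rcases hT.edge r hr with ⟨p, q, hp, h1, h2, h3⟩ | ⟨p, q, hp, h1, h2, h3⟩
      · refine ⟨p, q, fun _ => ⟨hp, ?_, h3⟩⟩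
        rw [← h1, ← h2]
        exact xi_balance h hx r (par r)
      · refine ⟨p, q, fun _ => ⟨hp, ?_, h3⟩⟩
        rw [← h1, ← h2]
        exact tau_balance h ht r (par r)
  choose p q hpq using hch
  exact prop_of_tree (fun r => Nat.card (orbit N (v r))) L par rk r₀ p q
    (fun r hr => (hpq r hr).1) hT.rk_lt (fun r hr => (hpq r hr).2.1) (fun r hr => (hpq r hr).2.2) r

/-- The lengths of the `N`-orbits, calibrated by the length of one `C`-orbit. -/
theorem card_N [Finite C] [Finite Y] [Fintype ρ] [DecidableEq ρ] [DecidableEq J]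
    (h : Tab N C ξ τ y0 v d jof root tp tm tgt)
    (hx : XiData N ξ y0) {N₀ : Subgroup G} {e : G} (ht : TauData N N₀ τ e) {r₀ : ρ} {L : ρ → ℕ} {par : ρ → ρ}
    {rk : ρ → ℕ} (hT : Tree tp tm tgt r₀ L par rk) (j₀ : J) (hL₀ : L r₀ ≠ 0)
    (hcal : Nat.card (orbit C (d j₀)) = ∑ r, if jof r = j₀ then L r else 0)
    (hcal0 : (∑ r, if jof r = j₀ then L r else 0) ≠ 0) (r : ρ) :
    Nat.card (orbit N (v r)) = L r := by
  have : Finite N := Finite.of_injective _ (Subgroup.inclusion_injective h.N_le)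
  have hp := prop_card h hx ht hT
  have h1 := (h.refines hx).card_orbit_K h.disj j₀
  rw [hcal] at h1
  have h2 : (∑ r, if jof r = j₀ then L r else 0) * L r₀ =
      Nat.card (orbit N (v r₀)) * (∑ r, if jof r = j₀ then L r else 0) := by
    conv_lhs => rw [h1]
    rw [Finset.sum_mul, Finset.mul_sum]
    refine Finset.sum_congr rfl fun r _ => ?_
    split_ifs
    · exact hp r
    · simp
  have h3 : Nat.card (orbit N (v r₀)) = L r₀ := by
    rw [mul_comm] at h2
    exact (Nat.eq_of_mul_eq_mul_right (Nat.pos_of_ne_zero hcal0) h2).symm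
  have h4 := hp r
  rw [h3, mul_comm (L r₀)] at h4
  exact Nat.eq_of_mul_eq_mul_right (Nat.pos_of_ne_zero hL₀) h4

/-- The lengths of the `C`-orbits. -/
theorem card_C [Finite C] [Finite Y] [Fintype ρ] [DecidableEq ρ] [DecidableEq J]
    (h : Tab N C ξ τ y0 v d jof root tp tm tgt)
    (hx : XiData N ξ y0) {N₀ : Subgroup G} {e : G} (ht : TauData N N₀ τ e) {r₀ : ρ} {L : ρ → ℕ} {par : ρ → ρ}
    {rk : ρ → ℕ} (hT : Tree tp tm tgt r₀ L par rk) (j₀ : J) (hL₀ : L r₀ ≠ 0)
    (hcal : Nat.card (orbit C (d j₀)) = ∑ r, if jof r = j₀ then L r else 0)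
    (hcal0 : (∑ r, if jof r = j₀ then L r else 0) ≠ 0) (j : J) :
    Nat.card (orbit C (d j)) = ∑ r, if jof r = j then L r else 0 := by
  rw [(h.refines hx).card_orbit_K h.disj j]
  refine Finset.sum_congr rfl fun r _ => ?_
  rw [card_N h hx ht hT j₀ hL₀ hcal hcal0 r]

/-- The number of axes. -/
theorem card_union [Finite C] [Finite Y] [Fintype ρ] [DecidableEq ρ] [Fintype J] [DecidableEq J]
    (h : Tab N C ξ τ y0 v d jof root tp tm tgt)
    (hx : XiData N ξ y0) {N₀ : Subgroup G} {e : G} (ht : TauData N N₀ τ e) {r₀ : ρ} {L : ρ → ℕ} {par : ρ → ρ}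
    {rk : ρ → ℕ} (hT : Tree tp tm tgt r₀ L par rk) (j₀ : J) (hL₀ : L r₀ ≠ 0)
    (hcal : Nat.card (orbit C (d j₀)) = ∑ r, if jof r = j₀ then L r else 0)
    (hcal0 : (∑ r, if jof r = j₀ then L r else 0) ≠ 0) :
    {x : V | ∃ j, ∃ g ∈ C, x = g • d j}.ncard = ∑ r, L r := by
  classical
  have hfin : ∀ j, (orbit C (d j)).Finite := fun j => finite_orbit C (d j)
  have e1 : {x : V | ∃ j, ∃ g ∈ C, x = g • d j} = ⋃ j ∈ (Finset.univ : Finset J), orbit C (d j) := by
    ext x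
    simp only [Set.mem_ofPred_eq, Set.mem_iUnion, Finset.mem_univ, exists_prop, true_and]
    constructor
    · rintro ⟨j, g, hg, rfl⟩
      exact ⟨j, ⟨⟨g, hg⟩, rfl⟩⟩
    · rintro ⟨j, g, rfl⟩
      exact ⟨j, g, g.2, rfl⟩
  have hdis : ∀ i j, i ≠ j → Disjoint (orbit C (d i)) (orbit C (d j)) := by
    intro i j hij
    rw [Set.disjoint_left]
    rintro x ⟨g, rfl⟩ ⟨g', hg'⟩
    refine hij (h.disjoint hx i j ((g'⁻¹ * g : C) : G) (g'⁻¹ * g).2 ?_)
    have hg'' : (g' : G) • d j = (g : G) • d i := hg'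
    push_cast
    rw [mul_smul, ← hg'', inv_smul_smul]
  rw [e1]
  have key : ∀ s : Finset J, (⋃ j ∈ s, orbit C (d j)).ncard = ∑ j ∈ s, Nat.card (orbit C (d j)) := by
    intro s
    induction s using Finset.induction_on with
    | empty => simp
    | insert a s ha ih =>
      rw [Finset.set_biUnion_insert, Finset.sum_insert ha, Set.ncard_union_eq ?_ (hfin a) ?_, ih]
      · rfl
      · rw [Set.disjoint_iUnion₂_right]
        intro j hj
        exact hdis a j (fun e => ha (e ▸ hj))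
      · exact Set.Finite.biUnion s.finite_toSet (fun j _ => hfin j)
  rw [key]
  have h5 : ∀ j, Nat.card (orbit C (d j)) = ∑ r, if jof r = j then L r else 0 :=
    fun j => card_C h hx ht hT j₀ hL₀ hcal hcal0 j
  rw [Finset.sum_congr rfl (fun j _ => h5 j), Finset.sum_comm]
  refine Finset.sum_congr rfl fun r _ => ?_
  rw [Finset.sum_ite_eq]
  simp

end Cfsg.Agent.BabyM.CertAbs
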