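import Cfsg.Agent.BabyM.AbsBasic

/-!
The transposition `t₀` is determined by the axis `d₀`: an isometry permuting the axes and
fixing the line of `d₀` commutes with `t₀`.
-/

set_option linter.unusedSectionVars false

namespace Cfsg.Agent.BabyM.Model

variable {W : Type} [AddCommGroup W] [Module ℚ W]

/-- all facts together -/
structure BAll (M : BData W) (K₀ : Type) [Group K₀] : Prop where
  grp : BGroup M K₀
  rep : BRep M
  orb : BOrbit M

namespace BAll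

variable {M : BData W} {K₀ : Type} [Group K₀] (A : BAll M K₀)
include A

theorem Q_U : ∀ q ∈ M.Q, ∀ x ∈ M.U, q x = x := by
  intro q hq x hx
  induction hx using Submodule.span_induction with
  | mem x hx =>
    obtain ⟨g, hg, rfl⟩ := hx
    have h1 := A.rep.Q_u₀ _ (A.grp.Q_normal' g hg q hq)
    rw [LinearEquiv.mul_apply, LinearEquiv.mul_apply] at h1
    have h2 := congrArg g h1
    rwa [apply_inv_self'] at h2
  | zero => simp
  | add a b _ _ ha hb => rw [map_add, ha, hb]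
  | smul r a _ ha => rw [map_smul, ha]

theorem C_U : ∀ g ∈ M.C, ∀ x ∈ M.U, g x ∈ M.U := by
  intro g hg x hx
  induction hx using Submodule.span_induction with
  | mem x hx =>
    obtain ⟨h, hh, rfl⟩ := hx
    exact Submodule.subset_span ⟨g * h, M.C.mul_mem hg hh, rfl⟩
  | zero => simp
  | add a b _ _ ha hb => rw [map_add]; exact Submodule.add_mem _ ha hb
  | smul r a _ ha => rw [map_smul]; exact Submodule.smul_mem _ _ ha

theorem C_E : ∀ g ∈ M.C, ∀ x ∈ M.E, g x ∈ M.E := by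
  intro g hg x hx
  induction hx using Submodule.span_induction with
  | mem x hx =>
    obtain ⟨h, hh, rfl⟩ := hx
    exact Submodule.subset_span ⟨g * h, M.C.mul_mem hg hh, rfl⟩
  | zero => simp
  | add a b _ _ ha hb => rw [map_add]; exact Submodule.add_mem _ ha hb
  | smul r a _ ha => rw [map_smul]; exact Submodule.smul_mem _ _ ha

theorem z_E : ∀ x ∈ M.E, M.z x = x := by
  intro x hx
  induction hx using Submodule.span_induction with
  | mem x hx =>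
    obtain ⟨g, hg, rfl⟩ := hx
    have h1 := A.grp.z_comm g hg
    have h2 := congrArg (fun f : W ≃ₗ[ℚ] W => f M.e₀) h1
    simp only [LinearEquiv.mul_apply, A.rep.z_e₀] at h2
    exact h2.symm
  | zero => simp
  | add a b _ _ ha hb => rw [map_add, ha, hb]
  | smul r a _ ha => rw [map_smul, ha]

theorem z_U : ∀ x ∈ M.U, M.z x = x := A.Q_U _ A.grp.z_mem

/-- some `q ∈ Q` does not commute with `t₀` -/
theorem exists_q : ∃ q ∈ M.Q, q M.e₀ = - M.e₀ ∧ q * M.t₀ = M.t₀ * q * M.z := by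
  obtain ⟨q, hq, hne⟩ := A.grp.exists_noncomm _ A.rep.t₀_mem A.rep.t₀_ne A.rep.t₀_ne_z
  refine ⟨q, hq, A.rep.Q_e₀_neg q hq (fun h => hne h.symm), ?_⟩
  rcases A.grp.Q_comm q hq _ A.rep.t₀_mem with h | h
  · exact absurd h.symm hne
  · exact h

/-- for all `g ∈ C` some `q ∈ Q` negates `g e₀` -/
theorem exists_q' (g : W ≃ₗ[ℚ] W) (hg : g ∈ M.C) : ∃ q ∈ M.Q, q (g M.e₀) = - g M.e₀ := by
  obtain ⟨q, hq, h1, -⟩ := A.exists_q
  refine ⟨g * q * g⁻¹, A.grp.Q_normal g hg q hq, ?_⟩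
  rw [LinearEquiv.mul_apply, LinearEquiv.mul_apply, inv_apply_self', h1, map_neg]

theorem U_E_orth : ∀ u ∈ M.U, ∀ e ∈ M.E, M.F u e = 0 := by
  intro u hu e he
  induction he using Submodule.span_induction with
  | mem x hx =>
    obtain ⟨g, hg, rfl⟩ := hx
    obtain ⟨q, hq, h1⟩ := A.exists_q' g hg
    have h2 := A.rep.C_isom q (A.grp.Q_le hq) u (g M.e₀)
    rw [h1, A.Q_U q hq u hu, map_neg] at h2
    linarith
  | zero => simp
  | add a b _ _ ha hb => rw [map_add, ha, hb, add_zero]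
  | smul r a _ ha => rw [map_smul, ha, smul_zero]

theorem E_U_orth : ∀ e ∈ M.E, ∀ u ∈ M.U, M.F e u = 0 := by
  intro e he u hu
  rw [A.rep.F_symm]
  exact A.U_E_orth u hu e he

theorem fix_orth (x m : W) (hx : M.z x = x) (hm : M.z m = -m) : M.F x m = 0 := by
  have h2 := A.rep.C_isom _ A.grp.z_mem_C x m
  rw [hx, hm, map_neg] at h2
  linarith

/-- decomposition -/
theorem decomp (x : W) : ∃ u ∈ M.U, ∃ e ∈ M.E, ∃ m, M.z m = -m ∧ x = u + e + m := by
  have hzz : ∀ y, M.z (M.z y) = y := fun y => by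
    rw [← LinearEquiv.mul_apply, A.grp.z_sq]
    rfl
  obtain ⟨u, hu, e, he, h⟩ := A.rep.fix_z ((2 : ℚ)⁻¹ • (x + M.z x)) (by
    rw [map_smul, map_add, hzz, add_comm])
  refine ⟨u, hu, e, he, (2 : ℚ)⁻¹ • (x - M.z x), ?_, ?_⟩
  · rw [map_smul, map_sub, hzz, ← smul_neg, neg_sub]
  · rw [← h, ← smul_add]
    have : x + M.z x + (x - M.z x) = (2 : ℚ) • x := by rw [two_smul]; abel
    rw [this, smul_smul]
    norm_num

theorem eq_zero_of_orth (x : W) (h1 : ∀ u ∈ M.U, M.F x u = 0) (h2 : ∀ e ∈ M.E, M.F x e = 0)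
    (h3 : ∀ m, M.z m = -m → M.F x m = 0) : x = 0 := by
  refine A.rep.F_nondeg x fun y => ?_
  obtain ⟨u, hu, e, he, m, hm, rfl⟩ := A.decomp y
  rw [map_add, map_add, h1 u hu, h2 e he, h3 m hm]
  norm_num

theorem eq_zero_of_mem_U_E (x : W) (hx : x ∈ M.U) (hx' : x ∈ M.E) : x = 0 :=
  A.eq_zero_of_orth x (fun u hu => A.E_U_orth x hx' u hu) (fun e he => A.U_E_orth x hx e he)
    (fun m hm => A.fix_orth x m (A.z_U x hx) hm)

theorem u₀_mem : M.u₀ ∈ M.U := Submodule.subset_span ⟨1, M.C.one_mem, rfl⟩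

theorem e₀_mem : M.e₀ ∈ M.E := Submodule.subset_span ⟨1, M.C.one_mem, rfl⟩

/-- comparison of the two parts -/
theorem parts {u u' e e' : W} (hu : u ∈ M.U) (hu' : u' ∈ M.U) (he : e ∈ M.E) (he' : e' ∈ M.E)
    (h : u + e = u' + e') : u = u' ∧ e = e' := by
  have h1 : u - u' = e' - e := by
    rw [sub_eq_sub_iff_add_eq_add, h]
    abel
  have h2 := A.eq_zero_of_mem_U_E (u - u') (Submodule.sub_mem _ hu hu')
    (by rw [h1]; exact Submodule.sub_mem _ he' he)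
  rw [h2] at h1
  exact ⟨sub_eq_zero.1 h2, (sub_eq_zero.1 h1.symm).symm⟩

theorem d₀_eq : M.d₀ = M.d M.j₀ := A.orb.d_j₀.symm

theorem D_finite : M.D.Finite := by
  have := A.grp.finite_C
  have := A.orb.finite
  have : M.D = Set.range (fun p : M.J × M.C => (p.2 : W ≃ₗ[ℚ] W) (M.d p.1)) := by
    ext x
    constructor
    · rintro ⟨j, g, hg, rfl⟩
      exact ⟨(j, ⟨g, hg⟩), rfl⟩
    · rintro ⟨⟨j, g⟩, rfl⟩
      exact ⟨j, g, g.2, rfl⟩
  rw [this]
  exact Set.finite_range _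

theorem C_D : ∀ g ∈ M.C, ∀ x ∈ M.D, g x ∈ M.D := by
  rintro g hg _ ⟨j, h, hh, rfl⟩
  exact ⟨j, g * h, M.C.mul_mem hg hh, rfl⟩

theorem C_le : M.C ≤ M.Γ := by
  intro g hg
  refine ⟨A.rep.C_isom g hg, fun x => ⟨fun h => ?_, fun h => A.C_D g hg x h⟩⟩
  have := A.C_D g⁻¹ (M.C.inv_mem hg) _ h
  rwa [inv_apply_self'] at this

theorem τ_mem : M.τ ∈ M.Γ := by
  have h1 : ∀ x ∈ M.D, M.τ x ∈ M.D := by
    rintro _ ⟨j, g, hg, rfl⟩
    obtain ⟨k, h, hh, e⟩ := A.orb.closed j g hg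
    exact ⟨k, h, hh, e⟩
  have h2 : (fun x => M.τ x) '' M.D = M.D :=
    Set.eq_of_subset_of_ncard_le (by rintro _ ⟨x, hx, rfl⟩; exact h1 x hx)
      (by rw [Set.ncard_image_of_injective _ M.τ.injective]) A.D_finite
  refine ⟨A.orb.τ_isom, fun x => ⟨fun h => ?_, h1 x⟩⟩
  rw [← h2] at h
  obtain ⟨y, hy, e⟩ := h
  rwa [← M.τ.injective e]

theorem G_le : M.G ≤ M.Γ := by
  unfold BData.G
  rw [Subgroup.closure_le]
  rintro x (hx | hx)
  · exact A.C_le hx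
  · rw [Set.mem_singleton_iff.1 hx]
    exact A.τ_mem

theorem C_le_G : M.C ≤ M.G := fun _ h => Subgroup.subset_closure (Or.inl h)

theorem τ_mem_G : M.τ ∈ M.G := Subgroup.subset_closure (Or.inr rfl)

theorem d₀_mem : M.d₀ ∈ M.D := ⟨M.j₀, 1, M.C.one_mem, A.d₀_eq⟩

theorem D_eq (x : W) : x ∈ M.D ↔ ∃ g ∈ M.G, x = g M.d₀ := by
  constructor
  · rintro ⟨j, g, hg, rfl⟩
    obtain ⟨h, hh, e⟩ := A.orb.trans j
    refine ⟨g * h⁻¹, M.G.mul_mem (A.C_le_G hg) (M.G.inv_mem hh), ?_⟩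
    rw [LinearEquiv.mul_apply, ← e, inv_apply_self']
  · rintro ⟨g, hg, rfl⟩
    exact ((A.G_le hg).2 _).2 A.d₀_mem

theorem neg_D : ∀ x ∈ M.D, -x ∈ M.D := by
  intro x hx
  obtain ⟨g, hg, rfl⟩ := (A.D_eq x).1 hx
  obtain ⟨h, hh, e⟩ := A.rep.neg
  rw [← map_neg, ← e]
  exact (A.D_eq _).2 ⟨g * h, M.G.mul_mem hg (A.C_le_G hh), rfl⟩

/-- `-1` -/
theorem neg_mem : (LinearEquiv.neg ℚ : W ≃ₗ[ℚ] W) ∈ M.Γ := by
  refine ⟨fun x y => ?_, fun x => ?_⟩
  · simp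
  · rw [LinearEquiv.neg_apply]
    exact ⟨fun h => by simpa using A.neg_D _ h, A.neg_D x⟩

theorem neg_parts : ∃ g ∈ M.C, g M.u₀ = - M.u₀ ∧ g M.e₀ = - M.e₀ := by
  obtain ⟨g, hg, h⟩ := A.rep.neg
  refine ⟨g, hg, ?_⟩
  unfold BData.d₀ at h
  rw [map_add, neg_add] at h
  exact A.parts (A.C_U g hg _ A.u₀_mem) (Submodule.neg_mem _ A.u₀_mem) (A.C_E g hg _ A.e₀_mem)
    (Submodule.neg_mem _ A.e₀_mem) h

theorem d₁_mem' : ∃ q ∈ M.Q, q M.d₀ = M.d₁ ∧ q * M.t₀ = M.t₀ * q * M.z := by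
  obtain ⟨q, hq, h1, h2⟩ := A.exists_q
  refine ⟨q, hq, ?_, h2⟩
  unfold BData.d₀ BData.d₁
  rw [map_add, h1, A.rep.Q_u₀ q hq, sub_eq_add_neg]

theorem d₁_mem : M.d₁ ∈ M.D := by
  obtain ⟨q, hq, h1, -⟩ := A.d₁_mem'
  rw [← h1]
  exact A.C_D q (A.grp.Q_le hq) _ A.d₀_mem

theorem F_e (g : W ≃ₗ[ℚ] W) (hg : g ∈ M.C) (h1 : g M.e₀ ≠ M.e₀) (h2 : g M.e₀ ≠ - M.e₀) :
    M.F (g M.e₀) M.e₀ = 0 := by
  obtain ⟨q, hq, h3, h4⟩ := A.rep.sep g hg h1 h2
  have h5 := A.rep.C_isom q (A.grp.Q_le hq) (g M.e₀) M.e₀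
  rw [h3, h4, LinearMap.BilinForm.neg_left] at h5
  linarith

theorem F_parts (u u' e e' : W) (hu : u ∈ M.U) (hu' : u' ∈ M.U) (he : e ∈ M.E) (he' : e' ∈ M.E) :
    M.F (u + e) (u' + e') = M.F u u' + M.F e e' := by
  rw [LinearMap.BilinForm.add_left, map_add, map_add, A.U_E_orth u hu e' he', A.E_U_orth e he u' hu']
  ring

theorem F_d₀ : M.F M.d₀ M.d₀ = 7 := by
  unfold BData.d₀
  rw [A.F_parts _ _ _ _ A.u₀_mem A.u₀_mem A.e₀_mem A.e₀_mem, A.rep.u₀_norm, A.rep.e₀_norm]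
  norm_num

theorem F_D (x : W) (hx : x ∈ M.D) : M.F x x = 7 := by
  obtain ⟨g, hg, rfl⟩ := (A.D_eq x).1 hx
  rw [(A.G_le hg).1, A.F_d₀]

theorem F_d₁_d₀ : M.F M.d₁ M.d₀ = -1 := by
  unfold BData.d₀ BData.d₁
  rw [sub_eq_add_neg, A.F_parts _ _ _ _ A.u₀_mem A.u₀_mem (Submodule.neg_mem _ A.e₀_mem) A.e₀_mem,
    A.rep.u₀_norm, LinearMap.BilinForm.neg_left, A.rep.e₀_norm]
  norm_num

/-- the axes of inner product `-1` with `d₀` span this space -/
def _root_.Cfsg.Agent.BabyM.Model.BData.P (M : BData W) : Submodule ℚ W :=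
  Submodule.span ℚ {c | c ∈ M.D ∧ M.F c M.d₀ = -1}

theorem t₀_fix_P : ∀ x ∈ M.P, M.t₀ x = x := by
  intro x hx
  induction hx using Submodule.span_induction with
  | mem x hx =>
    obtain ⟨⟨j, g, hg, rfl⟩, h⟩ := hx
    have h1 : M.F (g⁻¹ M.d₀) (M.d j) = -1 := by
      rw [← A.rep.C_isom g hg, apply_inv_self', A.rep.F_symm, h]
    have h2 := A.orb.t_d j g⁻¹ (M.C.inv_mem hg) h1
    rw [inv_inv, LinearEquiv.mul_apply, LinearEquiv.mul_apply] at h2
    have h3 := congrArg g h2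
    rwa [apply_inv_self'] at h3
  | zero => simp
  | add a b _ _ ha hb => rw [map_add, ha, hb]
  | smul r a _ ha => rw [map_smul, ha]

theorem e_mem_P_aux (g : W ≃ₗ[ℚ] W) (hg : g ∈ M.C) (h : M.F (g M.u₀) M.u₀ = -1) :
    g M.u₀ ∈ M.P ∧ g M.e₀ ∈ M.P := by
  have hne : ∀ s : W, (s = M.e₀ ∨ s = - M.e₀) → g M.e₀ ≠ s := by
    rintro s hs rfl
    rcases A.rep.stab_e₀ g hg hs with h1 | h1
    · rw [h1, A.rep.u₀_norm] at h
      norm_num at h
    · rw [h1, LinearMap.BilinForm.neg_left, A.rep.u₀_norm] at h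
      norm_num at h
  have h0 := A.F_e g hg (hne _ (Or.inl rfl)) (hne _ (Or.inr rfl))
  have hgU := A.C_U g hg _ A.u₀_mem
  have hgE := A.C_E g hg _ A.e₀_mem
  obtain ⟨q, hq, h1⟩ := A.exists_q' g hg
  have m1 : g M.u₀ + g M.e₀ ∈ M.P := by
    refine Submodule.subset_span ⟨?_, ?_⟩
    · rw [← map_add]
      exact A.C_D g hg _ A.d₀_mem
    · unfold BData.d₀
      rw [A.F_parts _ _ _ _ hgU A.u₀_mem hgE A.e₀_mem, h, h0, add_zero]
  have m2 : g M.u₀ + -(g M.e₀) ∈ M.P := by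
    refine Submodule.subset_span ⟨?_, ?_⟩
    · have h2 : g M.u₀ + -(g M.e₀) = q (g M.d₀) := by
        unfold BData.d₀
        rw [map_add, map_add, h1, A.Q_U q hq _ hgU]
      rw [h2]
      exact A.C_D q (A.grp.Q_le hq) _ (A.C_D g hg _ A.d₀_mem)
    · unfold BData.d₀
      rw [A.F_parts _ _ _ _ hgU A.u₀_mem (Submodule.neg_mem _ hgE) A.e₀_mem, h,
        LinearMap.BilinForm.neg_left, h0]
      norm_num
  constructor
  · have h3 : g M.u₀ = (2 : ℚ)⁻¹ • ((g M.u₀ + g M.e₀) + (g M.u₀ + -(g M.e₀))) := by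
      have : (g M.u₀ + g M.e₀) + (g M.u₀ + -(g M.e₀)) = (2 : ℚ) • g M.u₀ := by rw [two_smul]; abel
      rw [this, smul_smul]
      norm_num
    rw [h3]
    exact Submodule.smul_mem _ _ (Submodule.add_mem _ m1 m2)
  · have h3 : g M.e₀ = (2 : ℚ)⁻¹ • ((g M.u₀ + g M.e₀) - (g M.u₀ + -(g M.e₀))) := by
      have : (g M.u₀ + g M.e₀) - (g M.u₀ + -(g M.e₀)) = (2 : ℚ) • g M.e₀ := by rw [two_smul]; abel
      rw [this, smul_smul]
      norm_num
    rw [h3]
    exact Submodule.smul_mem _ _ (Submodule.sub_mem _ m1 m2)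

theorem U_le_P : M.U ≤ M.P := by
  refine Submodule.span_le.2 ?_
  rintro _ ⟨g, hg, rfl⟩
  have h := A.rep.U_span g hg
  refine (Submodule.span_le.2 ?_ : Submodule.span ℚ _ ≤ M.P) h
  rintro _ ⟨h, hh, h1, rfl⟩
  exact (A.e_mem_P_aux h hh h1).1

theorem e₀_mem_P : M.e₀ ∈ M.P := by
  have h1 : M.d₁ ∈ M.P := Submodule.subset_span ⟨A.d₁_mem, A.F_d₁_d₀⟩
  have h2 := A.U_le_P A.u₀_mem
  have h3 : M.e₀ = M.u₀ - M.d₁ := by
    unfold BData.d₁
    abel
  rw [h3]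
  exact Submodule.sub_mem _ h2 h1

theorem e_mem_P (g : W ≃ₗ[ℚ] W) (hg : g ∈ M.C) (h : M.t₀ (g M.e₀) = g M.e₀) : g M.e₀ ∈ M.P := by
  rcases A.rep.t₀_e g hg h with h1 | h1 | h1 | h1
  · rw [h1]
    exact A.e₀_mem_P
  · rw [h1]
    exact Submodule.neg_mem _ A.e₀_mem_P
  · obtain ⟨n, hn, hn1, hn2⟩ := A.neg_parts
    have h2 := (A.e_mem_P_aux (g * n) (M.C.mul_mem hg hn) (by
      rw [LinearEquiv.mul_apply, hn1, map_neg, LinearMap.BilinForm.neg_left, h1])).2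
    rw [LinearEquiv.mul_apply, hn2, map_neg] at h2
    simpa using Submodule.neg_mem _ h2
  · exact (A.e_mem_P_aux g hg h1).2

theorem t₀_C : M.t₀ ∈ M.C := A.grp.Q_le A.rep.t₀_mem

theorem t₀_t₀ (x : W) : M.t₀ (M.t₀ x) = x := by
  rw [← LinearEquiv.mul_apply, A.rep.t₀_sq]
  rfl

theorem avg_E : ∀ x ∈ M.E, x + M.t₀ x ∈ M.P := by
  intro x hx
  induction hx using Submodule.span_induction with
  | mem x hx =>
    obtain ⟨g, hg, rfl⟩ := hx
    -- `t₀ g e₀ = ± g e₀`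
    have h1 : M.t₀ (g M.e₀) = g M.e₀ ∨ M.t₀ (g M.e₀) = - g M.e₀ := by
      have hq := A.grp.Q_normal' g hg _ A.rep.t₀_mem
      by_cases hc : (g⁻¹ * M.t₀ * g) * M.t₀ = M.t₀ * (g⁻¹ * M.t₀ * g)
      · left
        have := A.rep.Q_e₀_pos _ hq hc
        rw [LinearEquiv.mul_apply, LinearEquiv.mul_apply] at this
        have h3 := congrArg g this
        rwa [apply_inv_self'] at h3
      · right
        have := A.rep.Q_e₀_neg _ hq hc
        rw [LinearEquiv.mul_apply, LinearEquiv.mul_apply] at this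
        have h3 := congrArg g this
        rwa [apply_inv_self', map_neg] at h3
    rcases h1 with h1 | h1
    · rw [h1]
      exact Submodule.add_mem _ (A.e_mem_P g hg h1) (A.e_mem_P g hg h1)
    · rw [h1, add_neg_cancel]
      exact Submodule.zero_mem _
  | zero => simp
  | add a b _ _ ha hb =>
    rw [map_add, show a + b + (M.t₀ a + M.t₀ b) = (a + M.t₀ a) + (b + M.t₀ b) by abel]
    exact Submodule.add_mem _ ha hb
  | smul r a _ ha =>
    rw [map_smul, ← smul_add]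
    exact Submodule.smul_mem _ _ ha

/-- an element of `C` fixing `d₀` preserves `P` -/
theorem stab_P (k : W ≃ₗ[ℚ] W) (hk : k ∈ M.Γ) (h : k M.d₀ = M.d₀ ∨ k M.d₀ = - M.d₀) :
    ∀ x ∈ M.P, k x ∈ M.P := by
  intro x hx
  induction hx using Submodule.span_induction with
  | mem x hx =>
    obtain ⟨h1, h2⟩ := hx
    rcases h with h | h
    · refine Submodule.subset_span ⟨(hk.2 x).2 h1, ?_⟩
      rw [← h, hk.1, h2]
    · have h3 : k x = - -(k x) := (neg_neg _).symm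
      rw [h3]
      refine Submodule.neg_mem _ (Submodule.subset_span ⟨A.neg_D _ ((hk.2 x).2 h1), ?_⟩)
      have h4 : M.d₀ = - k M.d₀ := by rw [h, neg_neg]
      rw [h4, map_neg, LinearMap.BilinForm.neg_left, neg_neg, hk.1, h2]
  | zero => simp
  | add a b _ _ ha hb => rw [map_add]; exact Submodule.add_mem _ ha hb
  | smul r a _ ha => rw [map_smul]; exact Submodule.smul_mem _ _ ha

theorem z_comm_t₀ : M.t₀ * M.z = M.z * M.t₀ := A.grp.z_comm _ A.t₀_C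

theorem avg_M : ∀ m, M.z m = -m → m + M.t₀ m ∈ M.P := by
  obtain ⟨j, g, hg, h1, h2⟩ := A.orb.exists_moved
  -- the vector `s`
  set y := g (M.d j) with hy
  have hyD : y ∈ M.D := ⟨j, g, hg, rfl⟩
  have hzy : M.z y ≠ y := by
    intro h
    apply h2
    have h3 := A.grp.z_comm g hg
    have h4 := congrArg (fun f : W ≃ₗ[ℚ] W => f (M.d j)) h3
    simp only [LinearEquiv.mul_apply] at h4
    rw [← hy, h, hy] at h4
    exact g.injective h4
  have hzz : ∀ y, M.z (M.z y) = y := fun y => by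
    rw [← LinearEquiv.mul_apply, A.grp.z_sq]
    rfl
  have hzd : M.z M.d₀ = M.d₀ := by
    unfold BData.d₀
    rw [map_add, A.z_U _ A.u₀_mem, A.z_E _ A.e₀_mem]
  have hsP : y - M.z y ∈ M.P := by
    refine Submodule.sub_mem _ (Submodule.subset_span ⟨hyD, h1⟩)
      (Submodule.subset_span ⟨A.C_D _ A.grp.z_mem_C _ hyD, ?_⟩)
    rw [← hzd, A.rep.C_isom _ A.grp.z_mem_C, h1]
  have hs0 : y - M.z y ≠ 0 := fun h => hzy (sub_eq_zero.1 h).symm
  have hsz : M.z (y - M.z y) = -(y - M.z y) := by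
    rw [map_sub, hzz, neg_sub]
  have hts := A.t₀_fix_P _ hsP
  intro m hm
  have hspan := A.rep.irred _ hsz hs0 m hm
  clear hm
  induction hspan using Submodule.span_induction with
  | mem x hx =>
    obtain ⟨q, hq, rfl⟩ := hx
    by_cases hc : q * M.t₀ = M.t₀ * q
    · have hqd : q M.d₀ = M.d₀ := by
        unfold BData.d₀
        rw [map_add, A.rep.Q_u₀ q hq, A.rep.Q_e₀_pos q hq hc]
      have h3 := A.stab_P q (A.C_le (A.grp.Q_le hq)) (Or.inl hqd) _ hsP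
      rw [A.t₀_fix_P _ h3]
      exact Submodule.add_mem _ h3 h3
    · have h3 : M.t₀ * q = q * M.t₀ * M.z := by
        rcases A.grp.Q_comm _ A.rep.t₀_mem q hq with h | h
        · exact absurd h.symm hc
        · exact h
      have h4 := congrArg (fun f : W ≃ₗ[ℚ] W => f (y - M.z y)) h3
      simp only [LinearEquiv.mul_apply] at h4
      rw [h4, hsz, map_neg, map_neg, hts, add_neg_cancel]
      exact Submodule.zero_mem _
  | zero => simp
  | add a b _ _ ha hb =>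
    rw [map_add, show a + b + (M.t₀ a + M.t₀ b) = (a + M.t₀ a) + (b + M.t₀ b) by abel]
    exact Submodule.add_mem _ ha hb
  | smul r a _ ha =>
    rw [map_smul, ← smul_add]
    exact Submodule.smul_mem _ _ ha

theorem avg_mem (x : W) : x + M.t₀ x ∈ M.P := by
  obtain ⟨u, hu, e, he, m, hm, rfl⟩ := A.decomp x
  rw [map_add, map_add, A.Q_U _ A.rep.t₀_mem u hu,
    show u + e + m + (u + M.t₀ e + M.t₀ m) = (u + u) + (e + M.t₀ e) + (m + M.t₀ m) by abel]
  exact Submodule.add_mem _ (Submodule.add_mem _ (Submodule.add_mem _ (A.U_le_P hu) (A.U_le_P hu))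
    (A.avg_E e he)) (A.avg_M m hm)

/-- the fixed space of `t₀` is `P` -/
theorem mem_P_iff (x : W) : x ∈ M.P ↔ M.t₀ x = x := by
  refine ⟨A.t₀_fix_P x, fun h => ?_⟩
  have h1 := A.avg_mem x
  rw [h, ← two_smul ℚ x] at h1
  have h2 := Submodule.smul_mem _ (2 : ℚ)⁻¹ h1
  rwa [smul_smul, inv_mul_cancel₀ (by norm_num), one_smul] at h2

/-- **`t₀` is determined by the axis.** -/
theorem t₀_comm (k : W ≃ₗ[ℚ] W) (hk : k ∈ M.Γ) (h : k M.d₀ = M.d₀ ∨ k M.d₀ = - M.d₀) :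
    k * M.t₀ = M.t₀ * k := by
  have hk' : k⁻¹ ∈ M.Γ := M.Γ.inv_mem hk
  have h' : k⁻¹ M.d₀ = M.d₀ ∨ k⁻¹ M.d₀ = - M.d₀ := by
    rcases h with h | h
    · left
      have := congrArg (fun x => k⁻¹ x) h
      simp only [inv_apply_self'] at this
      exact this.symm
    · right
      have := congrArg (fun x => k⁻¹ x) h
      simp only [inv_apply_self', map_neg] at this
      exact (neg_eq_iff_eq_neg.2 this).symm
  have t_isom := A.rep.C_isom _ A.t₀_C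
  -- on the fixed space
  have c1 : ∀ x, M.t₀ x = x → M.t₀ (k x) = k x := fun x hx =>
    A.t₀_fix_P _ (A.stab_P k hk h x ((A.mem_P_iff x).2 hx))
  have c1' : ∀ x, M.t₀ x = x → M.t₀ (k⁻¹ x) = k⁻¹ x := fun x hx =>
    A.t₀_fix_P _ (A.stab_P _ hk' h' x ((A.mem_P_iff x).2 hx))
  have orth : ∀ x y, M.t₀ x = -x → M.t₀ y = y → M.F x y = 0 := by
    intro x y hx hy
    have := t_isom x y
    rw [hx, hy, LinearMap.BilinForm.neg_left] at this
    linarith
  have c2 : ∀ x, M.t₀ x = -x → M.t₀ (k x) = - k x := by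
    intro x hx
    have h1 : M.t₀ (k x) + k x = 0 := by
      refine A.rep.F_nondeg _ fun y => ?_
      have h2 : ∀ y, M.t₀ y = y → M.F (M.t₀ (k x) + k x) y = 0 := by
        intro y hy
        have h3 : M.F (k x) y = 0 := by
          have := hk.1 x (k⁻¹ y)
          rw [apply_inv_self'] at this
          rw [this]
          exact orth x _ hx (c1' y hy)
        have h4 : M.F (M.t₀ (k x)) y = 0 := by
          rw [← hy, t_isom, h3]
        rw [LinearMap.BilinForm.add_left, h3, h4, add_zero]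
      have h5 : ∀ y, M.t₀ y = -y → M.F (M.t₀ (k x) + k x) y = 0 := by
        intro y hy
        rw [A.rep.F_symm]
        refine orth y _ hy ?_
        rw [map_add, A.t₀_t₀, add_comm]
      have h6 : y = (2 : ℚ)⁻¹ • (y + M.t₀ y) + (2 : ℚ)⁻¹ • (y - M.t₀ y) := by
        rw [← smul_add, show y + M.t₀ y + (y - M.t₀ y) = (2 : ℚ) • y by rw [two_smul]; abel,
          smul_smul, inv_mul_cancel₀ (by norm_num), one_smul]
      rw [h6, map_add, h2 _ (by rw [map_smul, map_add, A.t₀_t₀, add_comm]),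
        h5 _ (by rw [map_smul, map_sub, A.t₀_t₀, ← smul_neg, neg_sub]), add_zero]
    exact eq_neg_of_add_eq_zero_left h1
  ext x
  rw [LinearEquiv.mul_apply, LinearEquiv.mul_apply]
  have h6 : x = (2 : ℚ)⁻¹ • (x + M.t₀ x) + (2 : ℚ)⁻¹ • (x - M.t₀ x) := by
    rw [← smul_add, show x + M.t₀ x + (x - M.t₀ x) = (2 : ℚ) • x by rw [two_smul]; abel,
      smul_smul, inv_mul_cancel₀ (by norm_num), one_smul]
  have hf : M.t₀ ((2 : ℚ)⁻¹ • (x + M.t₀ x)) = (2 : ℚ)⁻¹ • (x + M.t₀ x) := by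
    rw [map_smul, map_add, A.t₀_t₀, add_comm]
  have hn : M.t₀ ((2 : ℚ)⁻¹ • (x - M.t₀ x)) = - ((2 : ℚ)⁻¹ • (x - M.t₀ x)) := by
    rw [map_smul, map_sub, A.t₀_t₀, ← smul_neg, neg_sub]
  rw [h6, map_add, map_add, map_add, map_add, c1 _ hf, c2 _ hn, hf, hn, map_neg]

/-- conjugation of transpositions by isometries -/
theorem conj_t (k g h : W ≃ₗ[ℚ] W) (hk : k ∈ M.Γ) (hg : g ∈ M.Γ) (hh : h ∈ M.Γ)
    (e : k (g M.d₀) = h M.d₀ ∨ k (g M.d₀) = - h M.d₀) :
    k * (g * M.t₀ * g⁻¹) * k⁻¹ = h * M.t₀ * h⁻¹ := by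
  have h1 := A.t₀_comm (h⁻¹ * k * g) (M.Γ.mul_mem (M.Γ.mul_mem (M.Γ.inv_mem hh) hk) hg) (by
    rcases e with e | e
    · left
      rw [LinearEquiv.mul_apply, LinearEquiv.mul_apply, e, inv_apply_self']
    · right
      rw [LinearEquiv.mul_apply, LinearEquiv.mul_apply, e, map_neg, inv_apply_self'])
  have h2 : k * (g * M.t₀ * g⁻¹) * k⁻¹ = h * ((h⁻¹ * k * g) * M.t₀) * (h⁻¹ * k * g)⁻¹ * h⁻¹ := by
    group
  rw [h2, h1]
  group

end BAll

end Cfsg.Agent.BabyM.Model
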