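/-
Linear automorphisms acting on two families of vectors `u i`, `e i` (`i` a lane of the mask `E`) by the same
permutation of the lanes and signs; sets of lines `± (u i + e i)`, `± (u i - e i)` as pairs of masks, followed by the
kernel; saturation under a list of words.
-/
import Cfsg.Agent.BabyM.STabTrack

set_option autoImplicit false

namespace Cfsg.Agent.BabyM.STabCover

open Cfsg.Agent.Lib.PermNet Cfsg.Agent.Monster.VecEngine Cfsg.Agent.BabyM.STabTrack

variable {W : Type*} [AddCommGroup W] [Module ℚ W]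

/-- `g` acts on the families `u`, `e` by the permutation `σ` and the signs `δ`, `ε`. -/
structure Act (E : ℕ) (u e : ℕ → W) (g : W ≃ₗ[ℚ] W) (σ : Equiv.Perm ℕ) (δ ε : ℕ → Bool) : Prop where
  mask : ∀ i, E.testBit (σ i) = E.testBit i
  hu : ∀ i, E.testBit i = true → g (u (σ i)) = sgQ (δ i) • u i
  he : ∀ i, E.testBit i = true → g (e (σ i)) = sgQ (ε i) • e i

variable {E : ℕ} {u e : ℕ → W}

theorem app_inv (σ : Equiv.Perm ℕ) (i : ℕ) : σ (σ⁻¹ i) = i := σ.apply_symm_apply i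

theorem sgQ_smul_smul (b : Bool) (x : W) : sgQ b • (sgQ b • x) = x := by
  rw [smul_smul, sgQ_mul_self, one_smul]

theorem Act.one : Act E u e 1 1 (fun _ => false) (fun _ => false) :=
  ⟨fun _ => rfl, fun i _ => by simp [sgQ], fun i _ => by simp [sgQ]⟩

theorem Act.mul {g h : W ≃ₗ[ℚ] W} {σ τ : Equiv.Perm ℕ} {δ ε δ' ε' : ℕ → Bool} (hg : Act E u e g σ δ ε)
    (hh : Act E u e h τ δ' ε') :
    Act E u e (g * h) (τ * σ) (fun i => δ i ^^ δ' (σ i)) (fun i => ε i ^^ ε' (σ i)) := by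
  refine ⟨fun i => ?_, fun i hi => ?_, fun i hi => ?_⟩
  · rw [Equiv.Perm.mul_apply, hh.mask, hg.mask]
  · rw [LinearEquiv.mul_apply, Equiv.Perm.mul_apply, hh.hu _ (by rw [hg.mask, hi]), map_smul, hg.hu i hi,
      smul_smul, sgQ_xor, mul_comm]
  · rw [LinearEquiv.mul_apply, Equiv.Perm.mul_apply, hh.he _ (by rw [hg.mask, hi]), map_smul, hg.he i hi,
      smul_smul, sgQ_xor, mul_comm]

theorem Act.inv {g : W ≃ₗ[ℚ] W} {σ : Equiv.Perm ℕ} {δ ε : ℕ → Bool} (hg : Act E u e g σ δ ε) :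
    Act E u e g⁻¹ σ⁻¹ (fun i => δ (σ⁻¹ i)) (fun i => ε (σ⁻¹ i)) := by
  have hinv : ∀ x, g⁻¹ (g x) = x := fun x => g.symm_apply_apply x
  have hm : ∀ i, E.testBit (σ⁻¹ i) = E.testBit i := fun i => by
    have := hg.mask (σ⁻¹ i)
    rw [app_inv] at this
    exact this.symm
  refine ⟨hm, fun i hi => ?_, fun i hi => ?_⟩
  · have h1 := hg.hu (σ⁻¹ i) (by rw [hm, hi])
    rw [app_inv] at h1
    have h2 : g (sgQ (δ (σ⁻¹ i)) • u i) = u (σ⁻¹ i) := by rw [map_smul, h1, sgQ_smul_smul]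
    rw [← h2, hinv]
  · have h1 := hg.he (σ⁻¹ i) (by rw [hm, hi])
    rw [app_inv] at h1
    have h2 : g (sgQ (ε (σ⁻¹ i)) • e i) = e (σ⁻¹ i) := by rw [map_smul, h1, sgQ_smul_smul]
    rw [← h2, hinv]

/-- Every element of the group generated by elements acting on the families acts on the families. -/
theorem exists_act {T : Set (W ≃ₗ[ℚ] W)} (hT : ∀ g ∈ T, ∃ σ δ ε, Act E u e g σ δ ε) :
    ∀ g ∈ Subgroup.closure T, ∃ σ δ ε, Act E u e g σ δ ε := by
  intro g hg
  induction hg using Subgroup.closure_induction with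
  | mem x hx => exact hT x hx
  | one => exact ⟨1, _, _, Act.one⟩
  | mul x y _ _ hx hy =>
    obtain ⟨σ, δ, ε, h⟩ := hx
    obtain ⟨σ', δ', ε', h'⟩ := hy
    exact ⟨_, _, _, h.mul h'⟩
  | inv x _ hx =>
    obtain ⟨σ, δ, ε, h⟩ := hx
    exact ⟨_, _, _, h.inv⟩

/-- The lines `± (u i + e i)` for `i` in `A` and `± (u i - e i)` for `i` in `B`. -/
def Lines (u e : ℕ → W) (A B : ℕ) : Set W :=
  {x | ∃ i, (A.testBit i = true ∧ (x = u i + e i ∨ x = -(u i + e i))) ∨
    (B.testBit i = true ∧ (x = u i - e i ∨ x = -(u i - e i)))}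

omit [Module ℚ W] in
theorem neg_mem_Lines {A B : ℕ} {x : W} (h : x ∈ Lines u e A B) : -x ∈ Lines u e A B := by
  obtain ⟨i, (⟨hi, rfl | rfl⟩ | ⟨hi, rfl | rfl⟩)⟩ := h
  · exact ⟨i, Or.inl ⟨hi, Or.inr rfl⟩⟩
  · exact ⟨i, Or.inl ⟨hi, Or.inl (neg_neg _)⟩⟩
  · exact ⟨i, Or.inr ⟨hi, Or.inr rfl⟩⟩
  · exact ⟨i, Or.inr ⟨hi, Or.inl (neg_neg _)⟩⟩

theorem smul_mem_Lines {A B : ℕ} {x : W} (b : Bool) (h : x ∈ Lines u e A B) : sgQ b • x ∈ Lines u e A B := by
  cases b
  · simpa [sgQ] using h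
  · simpa [sgQ] using neg_mem_Lines h

/-- All lines are permuted. -/
theorem Act.mem_Lines {g : W ≃ₗ[ℚ] W} {σ : Equiv.Perm ℕ} {δ ε : ℕ → Bool} (hg : Act E u e g σ δ ε) {x : W}
    (hx : x ∈ Lines u e E E) : g x ∈ Lines u e E E := by
  have key : ∀ i, E.testBit i = true → g (u i + e i) ∈ Lines u e E E ∧ g (u i - e i) ∈ Lines u e E E := by
    intro i hi
    obtain ⟨j, rfl⟩ : ∃ j, σ j = i := ⟨σ⁻¹ i, app_inv _ _⟩
    have hj : E.testBit j = true := by rw [← hg.mask, hi]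
    rw [map_add, map_sub, hg.hu j hj, hg.he j hj]
    cases δ j <;> cases ε j
    · simp only [sgQ, Bool.false_eq_true, if_false, one_smul]
      exact ⟨⟨j, Or.inl ⟨hj, Or.inl rfl⟩⟩, ⟨j, Or.inr ⟨hj, Or.inl rfl⟩⟩⟩
    · simp only [sgQ, Bool.false_eq_true, if_false, if_true, one_smul, neg_smul]
      exact ⟨⟨j, Or.inr ⟨hj, Or.inl (by abel)⟩⟩, ⟨j, Or.inl ⟨hj, Or.inl (by abel)⟩⟩⟩
    · simp only [sgQ, Bool.false_eq_true, if_false, if_true, one_smul, neg_smul]
      exact ⟨⟨j, Or.inr ⟨hj, Or.inr (by abel)⟩⟩, ⟨j, Or.inl ⟨hj, Or.inr (by abel)⟩⟩⟩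
    · simp only [sgQ, if_true, one_smul, neg_smul]
      exact ⟨⟨j, Or.inl ⟨hj, Or.inr (by abel)⟩⟩, ⟨j, Or.inr ⟨hj, Or.inr (by abel)⟩⟩⟩
  obtain ⟨i, (⟨hi, rfl | rfl⟩ | ⟨hi, rfl | rfl⟩)⟩ := hx
  · exact (key i hi).1
  · rw [map_neg]; exact neg_mem_Lines (key i hi).1
  · exact (key i hi).2
  · rw [map_neg]; exact neg_mem_Lines (key i hi).2

/-- The orbit of `u i + e i` under the generated group consists of lines. -/
theorem orbit_subset {T : Set (W ≃ₗ[ℚ] W)} (hT : ∀ g ∈ T, ∃ σ δ ε, Act E u e g σ δ ε) {i : ℕ}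
    (hi : E.testBit i = true) : ∀ g ∈ Subgroup.closure T, g (u i + e i) ∈ Lines u e E E := by
  intro g hg
  obtain ⟨σ, δ, ε, h⟩ := exists_act hT g hg
  exact h.mem_Lines ⟨i, Or.inl ⟨hi, Or.inl rfl⟩⟩

/-! ### Letters and words -/

/-- The letter `g` acts by the permutation of the program `N` with relative signs `D`. -/
structure LetterOK (E : ℕ) (u e : ℕ → W) (g : W ≃ₗ[ℚ] W) (N : Prog) (D : ℕ) : Prop where
  ok : ∃ m, N.ok m = true
  act : ∃ δ ε, Act E u e g (permOf N) δ ε ∧ ∀ i, E.testBit i = true → (δ i ^^ ε i) = D.testBit i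

/-- A word of letters with its group element; the first letter acts first. -/
inductive WordOK (E : ℕ) (u e : ℕ → W) : List (Prog × ℕ) → (W ≃ₗ[ℚ] W) → Prop
  | nil : WordOK E u e [] 1
  | cons {N : Prog} {D : ℕ} {w : List (Prog × ℕ)} {g h : W ≃ₗ[ℚ] W} :
      LetterOK E u e g N D → WordOK E u e w h → WordOK E u e ((N, D) :: w) (h * g)

/-- Apply one letter to a pair of masks. -/
noncomputable def stepL (N : Prog) (D A B : ℕ) (k : ℕ → ℕ → Bool) : Bool :=
  seqB (appP N A) fun A' => seqB (appP N B) fun B' => seqB (Nat.land (Nat.xor A' B') D) fun t =>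
    seqB (Nat.xor A' t) fun A'' => seqB (Nat.xor B' t) fun B'' => k A'' B''

/-- Apply a word to a pair of masks. -/
noncomputable def runW (w : List (Prog × ℕ)) : ℕ → ℕ → (ℕ → ℕ → Bool) → Bool :=
  List.rec (motive := fun _ => ℕ → ℕ → (ℕ → ℕ → Bool) → Bool) (fun A B k => k A B)
    (fun l _ ih A B k => Prod.rec (motive := fun _ => Bool)
      (fun N D => stepL N D A B fun A' B' => ih A' B' k) l) w

/-- `A` is contained in `E`. -/
def Sub (A E : ℕ) : Prop := ∀ i, A.testBit i = true → E.testBit i = true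

theorem stepL_sound {g : W ≃ₗ[ℚ] W} {N : Prog} {D : ℕ} (hg : LetterOK E u e g N D) {A B : ℕ} (hA : Sub A E)
    (hB : Sub B E) {k : ℕ → ℕ → Bool} (h : stepL N D A B k = true) :
    ∃ A' B', Sub A' E ∧ Sub B' E ∧ k A' B' = true ∧
      ∀ y ∈ Lines u e A' B', ∃ x ∈ Lines u e A B, y = g x := by
  obtain ⟨⟨m, hN⟩, δ, ε, hact, hD⟩ := hg
  unfold stepL at h
  simp only [seqB_eq] at h
  set A' := appP N A with hA'
  set B' := appP N B with hB'
  have bA : ∀ i, A'.testBit i = A.testBit (permOf N i) := fun i => testBit_appP hN _ _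
  have bB : ∀ i, B'.testBit i = B.testBit (permOf N i) := fun i => testBit_appP hN _ _
  have b1 : ∀ i, (A' ^^^ ((A' ^^^ B') &&& D)).testBit i =
      (if D.testBit i then B.testBit (permOf N i) else A.testBit (permOf N i)) := by
    intro i
    rw [Nat.testBit_xor, Nat.testBit_and, Nat.testBit_xor, bA, bB]
    cases D.testBit i <;> cases A.testBit (permOf N i) <;> cases B.testBit (permOf N i) <;> rfl
  have b2 : ∀ i, (B' ^^^ ((A' ^^^ B') &&& D)).testBit i =
      (if D.testBit i then A.testBit (permOf N i) else B.testBit (permOf N i)) := by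
    intro i
    rw [Nat.testBit_xor, Nat.testBit_and, Nat.testBit_xor, bA, bB]
    cases D.testBit i <;> cases A.testBit (permOf N i) <;> cases B.testBit (permOf N i) <;> rfl
  have hE : ∀ i, (A.testBit (permOf N i) = true ∨ B.testBit (permOf N i) = true) → E.testBit i = true := by
    rintro i (hi | hi)
    · rw [← hact.mask]; exact hA _ hi
    · rw [← hact.mask]; exact hB _ hi
  refine ⟨_, _, fun i hi => ?_, fun i hi => ?_, h, ?_⟩
  · have hi' := (b1 i).symm.trans hi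
    apply hE
    split_ifs at hi'
    · exact Or.inr hi'
    · exact Or.inl hi'
  · have hi' := (b2 i).symm.trans hi
    apply hE
    split_ifs at hi'
    · exact Or.inl hi'
    · exact Or.inr hi'
  · -- the two kinds of lines
    have k1 : ∀ i, E.testBit i = true → D.testBit i = false →
        g (sgQ (δ i) • (u (permOf N i) + e (permOf N i))) = u i + e i ∧
        g (sgQ (δ i) • (u (permOf N i) - e (permOf N i))) = u i - e i := by
      intro i hi hDi
      have hde : δ i = ε i := by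
        have := hD i hi
        rw [hDi] at this
        revert this
        cases δ i <;> cases ε i <;> simp
      constructor
      · rw [map_smul, map_add, hact.hu i hi, hact.he i hi, ← hde, smul_add, sgQ_smul_smul, sgQ_smul_smul]
      · rw [map_smul, map_sub, hact.hu i hi, hact.he i hi, ← hde, smul_sub, sgQ_smul_smul, sgQ_smul_smul]
    have k2 : ∀ i, E.testBit i = true → D.testBit i = true →
        g (sgQ (δ i) • (u (permOf N i) + e (permOf N i))) = u i - e i ∧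
        g (sgQ (δ i) • (u (permOf N i) - e (permOf N i))) = u i + e i := by
      intro i hi hDi
      have hde : sgQ (ε i) = - sgQ (δ i) := by
        have := hD i hi
        rw [hDi] at this
        revert this
        cases δ i <;> cases ε i <;> simp [sgQ]
      constructor
      · rw [map_smul, map_add, hact.hu i hi, hact.he i hi, hde, smul_add, sgQ_smul_smul, neg_smul, smul_neg,
          sgQ_smul_smul, sub_eq_add_neg]
      · rw [map_smul, map_sub, hact.hu i hi, hact.he i hi, hde, smul_sub, sgQ_smul_smul, neg_smul, smul_neg,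
          sgQ_smul_smul, sub_neg_eq_add]
    have mA : ∀ i, A.testBit i = true → u i + e i ∈ Lines u e A B := fun i hi => ⟨i, Or.inl ⟨hi, Or.inl rfl⟩⟩
    have mB : ∀ i, B.testBit i = true → u i - e i ∈ Lines u e A B := fun i hi => ⟨i, Or.inr ⟨hi, Or.inl rfl⟩⟩
    have hneg : ∀ y : W, (∃ x ∈ Lines u e A B, y = g x) → ∃ x ∈ Lines u e A B, -y = g x := by
      rintro y ⟨x, hx, rfl⟩
      exact ⟨-x, neg_mem_Lines hx, by rw [map_neg]⟩
    have kA : ∀ i, (A' ^^^ ((A' ^^^ B') &&& D)).testBit i = true → ∃ x ∈ Lines u e A B, u i + e i = g x := by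
      intro i hi
      rw [b1] at hi
      cases hDi : D.testBit i with
      | true =>
        rw [hDi, if_pos rfl] at hi
        exact ⟨_, smul_mem_Lines (δ i) (mB _ hi), (k2 i (hE i (Or.inr hi)) hDi).2.symm⟩
      | false =>
        rw [hDi, if_neg (by simp)] at hi
        exact ⟨_, smul_mem_Lines (δ i) (mA _ hi), (k1 i (hE i (Or.inl hi)) hDi).1.symm⟩
    have kB : ∀ i, (B' ^^^ ((A' ^^^ B') &&& D)).testBit i = true → ∃ x ∈ Lines u e A B, u i - e i = g x := by
      intro i hi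
      rw [b2] at hi
      cases hDi : D.testBit i with
      | true =>
        rw [hDi, if_pos rfl] at hi
        exact ⟨_, smul_mem_Lines (δ i) (mA _ hi), (k2 i (hE i (Or.inl hi)) hDi).1.symm⟩
      | false =>
        rw [hDi, if_neg (by simp)] at hi
        exact ⟨_, smul_mem_Lines (δ i) (mB _ hi), (k1 i (hE i (Or.inr hi)) hDi).2.symm⟩
    rintro y ⟨i, (⟨hi, rfl | rfl⟩ | ⟨hi, rfl | rfl⟩)⟩
    · exact kA i hi
    · exact hneg _ (kA i hi)
    · exact kB i hi
    · exact hneg _ (kB i hi)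

theorem runW_sound {w : List (Prog × ℕ)} {g : W ≃ₗ[ℚ] W} (hw : WordOK E u e w g) {A B : ℕ} (hA : Sub A E)
    (hB : Sub B E) {k : ℕ → ℕ → Bool} (h : runW w A B k = true) :
    ∃ A' B', Sub A' E ∧ Sub B' E ∧ k A' B' = true ∧
      ∀ y ∈ Lines u e A' B', ∃ x ∈ Lines u e A B, y = g x := by
  induction hw generalizing A B with
  | nil => exact ⟨A, B, hA, hB, h, fun y hy => ⟨y, hy, rfl⟩⟩
  | @cons N D w g h' hg _ ih =>
    have h1 : stepL N D A B (fun A' B' => runW w A' B' k) = true := h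
    obtain ⟨A', B', hA', hB', h2, h3⟩ := stepL_sound hg hA hB h1
    obtain ⟨A'', B'', hA'', hB'', h4, h5⟩ := ih hA' hB' h2
    refine ⟨A'', B'', hA'', hB'', h4, fun y hy => ?_⟩
    obtain ⟨x, hx, rfl⟩ := h5 y hy
    obtain ⟨z, hz, rfl⟩ := h3 x hx
    exact ⟨z, hz, rfl⟩

/-- Apply all words, collecting the lines. -/
noncomputable def foldW (ws : List (List (Prog × ℕ))) : ℕ → ℕ → (ℕ → ℕ → Bool) → Bool :=
  List.rec (motive := fun _ => ℕ → ℕ → (ℕ → ℕ → Bool) → Bool) (fun A B k => k A B)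
    (fun w _ ih A B k => runW w A B fun A' B' => seqB (Nat.lor A A') fun A'' => seqB (Nat.lor B B') fun B'' =>
      ih A'' B'' k) ws

/-- Saturate `n` times. -/
noncomputable def sat (E : ℕ) (ws : List (List (Prog × ℕ))) (n : ℕ) : ℕ → ℕ → Bool :=
  Nat.rec (motive := fun _ => ℕ → ℕ → Bool) (fun A B => and (Nat.beq A E) (Nat.beq B E))
    (fun _ ih A B => foldW ws A B ih) n

theorem sub_lor {A B : ℕ} (hA : Sub A E) (hB : Sub B E) : Sub (Nat.lor A B) E := by
  intro i hi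
  have h : (A ||| B).testBit i = true := hi
  rw [Nat.testBit_or, Bool.or_eq_true] at h
  exact h.elim (hA i) (hB i)

omit [Module ℚ W] in
theorem mem_Lines_lor {A A' B B' : ℕ} {y : W} (h : y ∈ Lines u e (Nat.lor A A') (Nat.lor B B')) :
    y ∈ Lines u e A B ∨ y ∈ Lines u e A' B' := by
  obtain ⟨i, (⟨hi, h2⟩ | ⟨hi, h2⟩)⟩ := h
  · have h : (A ||| A').testBit i = true := hi
    rw [Nat.testBit_or, Bool.or_eq_true] at h
    rcases h with h | h
    · exact Or.inl ⟨i, Or.inl ⟨h, h2⟩⟩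
    · exact Or.inr ⟨i, Or.inl ⟨h, h2⟩⟩
  · have h : (B ||| B').testBit i = true := hi
    rw [Nat.testBit_or, Bool.or_eq_true] at h
    rcases h with h | h
    · exact Or.inl ⟨i, Or.inr ⟨h, h2⟩⟩
    · exact Or.inr ⟨i, Or.inr ⟨h, h2⟩⟩

theorem foldW_sound {L : Subgroup (W ≃ₗ[ℚ] W)} {A₀ B₀ : ℕ} {ws : List (List (Prog × ℕ))}
    (hws : ∀ w ∈ ws, ∃ g ∈ L, WordOK E u e w g) {A B : ℕ} (hA : Sub A E) (hB : Sub B E)
    (hX : ∀ y ∈ Lines u e A B, ∃ l ∈ L, ∃ x ∈ Lines u e A₀ B₀, y = l x) {k : ℕ → ℕ → Bool}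
    (h : foldW ws A B k = true) :
    ∃ A' B', Sub A' E ∧ Sub B' E ∧ k A' B' = true ∧
      ∀ y ∈ Lines u e A' B', ∃ l ∈ L, ∃ x ∈ Lines u e A₀ B₀, y = l x := by
  induction ws generalizing A B with
  | nil => exact ⟨A, B, hA, hB, h, hX⟩
  | cons w ws ih =>
    obtain ⟨g, hg, hw⟩ := hws w (by simp)
    have h1 : runW w A B (fun A' B' => seqB (Nat.lor A A') fun A'' => seqB (Nat.lor B B') fun B'' =>
      foldW ws A'' B'' k) = true := h
    obtain ⟨A', B', hA', hB', h2, h3⟩ := runW_sound hw hA hB h1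
    rw [seqB_eq, seqB_eq] at h2
    refine ih (fun w' hw' => hws w' (by simp [hw'])) (sub_lor hA hA') (sub_lor hB hB') ?_ h2
    intro y hy
    rcases mem_Lines_lor hy with hy | hy
    · exact hX y hy
    · obtain ⟨x, hx, rfl⟩ := h3 y hy
      obtain ⟨l, hl, z, hz, rfl⟩ := hX x hx
      exact ⟨g * l, L.mul_mem hg hl, z, hz, rfl⟩

/-- **Coverage**: all lines are images of the initial lines under the group. -/
theorem cover {L : Subgroup (W ≃ₗ[ℚ] W)} {A₀ B₀ : ℕ} {ws : List (List (Prog × ℕ))}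
    (hws : ∀ w ∈ ws, ∃ g ∈ L, WordOK E u e w g) (hA : Sub A₀ E) (hB : Sub B₀ E) {n : ℕ}
    (h : sat E ws n A₀ B₀ = true) :
    ∀ y ∈ Lines u e E E, ∃ l ∈ L, ∃ x ∈ Lines u e A₀ B₀, y = l x := by
  have key : ∀ (n A B : ℕ), Sub A E → Sub B E →
      (∀ y ∈ Lines u e A B, ∃ l ∈ L, ∃ x ∈ Lines u e A₀ B₀, y = l x) → sat E ws n A B = true →
      ∀ y ∈ Lines u e E E, ∃ l ∈ L, ∃ x ∈ Lines u e A₀ B₀, y = l x := by
    intro n
    induction n with
    | zero =>
      intro A B _ _ hX h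
      have h' : and (Nat.beq A E) (Nat.beq B E) = true := h
      rw [Bool.and_eq_true] at h'
      have e1 := Nat.eq_of_beq_eq_true h'.1
      have e2 := Nat.eq_of_beq_eq_true h'.2
      rw [e1, e2] at hX
      exact hX
    | succ n ih =>
      intro A B hA hB hX h
      have h' : foldW ws A B (sat E ws n) = true := h
      obtain ⟨A', B', hA', hB', h1, h2⟩ := foldW_sound hws hA hB hX h'
      exact ih A' B' hA' hB' h2 h1
  exact key n A₀ B₀ hA hB (fun y hy => ⟨1, L.one_mem, y, hy, rfl⟩) h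

end Cfsg.Agent.BabyM.STabCover
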