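/-
All letters except `τ`, `τ⁻¹` permute the pairs `± u i`, `± e i` (kernel checks); the base orbit consists of the lines
`± (u i ± e i)`.
-/
import Cfsg.Agent.BabyM.STabData
import Cfsg.Agent.BabyM.STabHead
import Cfsg.Agent.BabyM.Inst

set_option autoImplicit false

namespace Cfsg.Agent.BabyM.STabLetters

open Cfsg.Agent.Monster.VecEngine Cfsg.Agent.Monster.VecSpace Cfsg.Agent.BabyM.Conc Cfsg.Agent.BabyM.STabData
  Cfsg.Agent.BabyM.STabTrack Cfsg.Agent.BabyM.STabCover Cfsg.Agent.BabyM.STabHead

theorem chk_z : letterCheck U mE 1344 0 mu (Ltr.prog .z) (del .z) (rel .z) = true := by decide +kernel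

theorem chk_X0 : letterCheck U mE 1344 0 mu (Ltr.prog .X0) (del .X0) (rel .X0) = true := by decide +kernel

theorem chk_X1 : letterCheck U mE 1344 0 mu (Ltr.prog .X1) (del .X1) (rel .X1) = true := by decide +kernel

theorem chk_X2 : letterCheck U mE 1344 0 mu (Ltr.prog .X2) (del .X2) (rel .X2) = true := by decide +kernel

theorem chk_X3 : letterCheck U mE 1344 0 mu (Ltr.prog .X3) (del .X3) (rel .X3) = true := by decide +kernel

theorem chk_X4 : letterCheck U mE 1344 0 mu (Ltr.prog .X4) (del .X4) (rel .X4) = true := by decide +kernel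

theorem chk_X5 : letterCheck U mE 1344 0 mu (Ltr.prog .X5) (del .X5) (rel .X5) = true := by decide +kernel

theorem chk_X6 : letterCheck U mE 1344 0 mu (Ltr.prog .X6) (del .X6) (rel .X6) = true := by decide +kernel

theorem chk_X7 : letterCheck U mE 1344 0 mu (Ltr.prog .X7) (del .X7) (rel .X7) = true := by decide +kernel

theorem chk_X8 : letterCheck U mE 1344 0 mu (Ltr.prog .X8) (del .X8) (rel .X8) = true := by decide +kernel

theorem chk_X9 : letterCheck U mE 1344 0 mu (Ltr.prog .X9) (del .X9) (rel .X9) = true := by decide +kernel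

theorem chk_X10 : letterCheck U mE 1344 0 mu (Ltr.prog .X10) (del .X10) (rel .X10) = true := by decide +kernel

theorem chk_Z0 : letterCheck U mE 1344 0 mu (Ltr.prog .Z0) (del .Z0) (rel .Z0) = true := by decide +kernel

theorem chk_Z1 : letterCheck U mE 1344 0 mu (Ltr.prog .Z1) (del .Z1) (rel .Z1) = true := by decide +kernel

theorem chk_Z2 : letterCheck U mE 1344 0 mu (Ltr.prog .Z2) (del .Z2) (rel .Z2) = true := by decide +kernel

theorem chk_Z3 : letterCheck U mE 1344 0 mu (Ltr.prog .Z3) (del .Z3) (rel .Z3) = true := by decide +kernel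

theorem chk_Z4 : letterCheck U mE 1344 0 mu (Ltr.prog .Z4) (del .Z4) (rel .Z4) = true := by decide +kernel

theorem chk_Z5 : letterCheck U mE 1344 0 mu (Ltr.prog .Z5) (del .Z5) (rel .Z5) = true := by decide +kernel

theorem chk_Z6 : letterCheck U mE 1344 0 mu (Ltr.prog .Z6) (del .Z6) (rel .Z6) = true := by decide +kernel

theorem chk_Z7 : letterCheck U mE 1344 0 mu (Ltr.prog .Z7) (del .Z7) (rel .Z7) = true := by decide +kernel

theorem chk_Z8 : letterCheck U mE 1344 0 mu (Ltr.prog .Z8) (del .Z8) (rel .Z8) = true := by decide +kernel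

theorem chk_Z9 : letterCheck U mE 1344 0 mu (Ltr.prog .Z9) (del .Z9) (rel .Z9) = true := by decide +kernel

theorem chk_Z10 : letterCheck U mE 1344 0 mu (Ltr.prog .Z10) (del .Z10) (rel .Z10) = true := by decide +kernel

theorem chk_y1 : letterCheck U mE 1344 0 mu (Ltr.prog .y1) (del .y1) (rel .y1) = true := by decide +kernel

theorem chk_y2 : letterCheck U mE 1344 0 mu (Ltr.prog .y2) (del .y2) (rel .y2) = true := by decide +kernel

theorem chk_y3 : letterCheck U mE 1344 0 mu (Ltr.prog .y3) (del .y3) (rel .y3) = true := by decide +kernel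

theorem chk_y4 : letterCheck U mE 1344 0 mu (Ltr.prog .y4) (del .y4) (rel .y4) = true := by decide +kernel

theorem chk_y5 : letterCheck U mE 1344 0 mu (Ltr.prog .y5) (del .y5) (rel .y5) = true := by decide +kernel

theorem chk_y6 : letterCheck U mE 1344 0 mu (Ltr.prog .y6) (del .y6) (rel .y6) = true := by decide +kernel

theorem chk_y7 : letterCheck U mE 1344 0 mu (Ltr.prog .y7) (del .y7) (rel .y7) = true := by decide +kernel

theorem chk_y8 : letterCheck U mE 1344 0 mu (Ltr.prog .y8) (del .y8) (rel .y8) = true := by decide +kernel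

theorem chk_y9 : letterCheck U mE 1344 0 mu (Ltr.prog .y9) (del .y9) (rel .y9) = true := by decide +kernel

theorem chk_y10 : letterCheck U mE 1344 0 mu (Ltr.prog .y10) (del .y10) (rel .y10) = true := by decide +kernel

theorem chk_p : letterCheck U mE 1344 0 mu (Ltr.prog .p) (del .p) (rel .p) = true := by decide +kernel

theorem chk_h : letterCheck U mE 1344 0 mu (Ltr.prog .h) (del .h) (rel .h) = true := by decide +kernel

theorem chk_xi : letterCheck U mE 1344 2 mu (Ltr.prog .xi) (del .xi) (rel .xi) = true := by decide +kernel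

theorem chk_p2 : letterCheck U mE 1344 0 mu (Ltr.prog .p2) (del .p2) (rel .p2) = true := by decide +kernel

theorem chk_p3 : letterCheck U mE 1344 0 mu (Ltr.prog .p3) (del .p3) (rel .p3) = true := by decide +kernel

theorem chk_p4 : letterCheck U mE 1344 0 mu (Ltr.prog .p4) (del .p4) (rel .p4) = true := by decide +kernel

theorem chk_p5 : letterCheck U mE 1344 0 mu (Ltr.prog .p5) (del .p5) (rel .p5) = true := by decide +kernel

theorem chk_p6 : letterCheck U mE 1344 0 mu (Ltr.prog .p6) (del .p6) (rel .p6) = true := by decide +kernel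

theorem chk_p7 : letterCheck U mE 1344 0 mu (Ltr.prog .p7) (del .p7) (rel .p7) = true := by decide +kernel

theorem chk_p8 : letterCheck U mE 1344 0 mu (Ltr.prog .p8) (del .p8) (rel .p8) = true := by decide +kernel

theorem chk_p9 : letterCheck U mE 1344 0 mu (Ltr.prog .p9) (del .p9) (rel .p9) = true := by decide +kernel

theorem chk_p10 : letterCheck U mE 1344 0 mu (Ltr.prog .p10) (del .p10) (rel .p10) = true := by decide +kernel

theorem chk_hi : letterCheck U mE 1344 0 mu (Ltr.prog .hi) (del .hi) (rel .hi) = true := by decide +kernel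

theorem chk_xii : letterCheck U mE 1344 2 mu (Ltr.prog .xii) (del .xii) (rel .xii) = true := by decide +kernel

/-- The letters which belong to `C` (all except `τ`, `τ⁻¹`). -/
def notTau : Ltr → Bool
  | .tau => false
  | .taui => false
  | _ => true

/-- The vectors `u i`. -/
noncomputable abbrev u (i : ℕ) : V := uvec U 1344 mu i

/-- The vectors `e i`. -/
noncomputable abbrev e (i : ℕ) : V := evec U 8 i

theorem letterOK (l : Ltr) (h : notTau l = true) : LetterOK mE u e (E l) l.prog (rel l) := by
  cases l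
  · exact letterCheck_sound 8 good_z chk_z
  · exact letterCheck_sound 8 good_X0 chk_X0
  · exact letterCheck_sound 8 good_X1 chk_X1
  · exact letterCheck_sound 8 good_X2 chk_X2
  · exact letterCheck_sound 8 good_X3 chk_X3
  · exact letterCheck_sound 8 good_X4 chk_X4
  · exact letterCheck_sound 8 good_X5 chk_X5
  · exact letterCheck_sound 8 good_X6 chk_X6
  · exact letterCheck_sound 8 good_X7 chk_X7
  · exact letterCheck_sound 8 good_X8 chk_X8
  · exact letterCheck_sound 8 good_X9 chk_X9
  · exact letterCheck_sound 8 good_X10 chk_X10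
  · exact letterCheck_sound 8 good_Z0 chk_Z0
  · exact letterCheck_sound 8 good_Z1 chk_Z1
  · exact letterCheck_sound 8 good_Z2 chk_Z2
  · exact letterCheck_sound 8 good_Z3 chk_Z3
  · exact letterCheck_sound 8 good_Z4 chk_Z4
  · exact letterCheck_sound 8 good_Z5 chk_Z5
  · exact letterCheck_sound 8 good_Z6 chk_Z6
  · exact letterCheck_sound 8 good_Z7 chk_Z7
  · exact letterCheck_sound 8 good_Z8 chk_Z8
  · exact letterCheck_sound 8 good_Z9 chk_Z9
  · exact letterCheck_sound 8 good_Z10 chk_Z10
  · exact letterCheck_sound 8 good_y1 chk_y1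
  · exact letterCheck_sound 8 good_y2 chk_y2
  · exact letterCheck_sound 8 good_y3 chk_y3
  · exact letterCheck_sound 8 good_y4 chk_y4
  · exact letterCheck_sound 8 good_y5 chk_y5
  · exact letterCheck_sound 8 good_y6 chk_y6
  · exact letterCheck_sound 8 good_y7 chk_y7
  · exact letterCheck_sound 8 good_y8 chk_y8
  · exact letterCheck_sound 8 good_y9 chk_y9
  · exact letterCheck_sound 8 good_y10 chk_y10
  · exact letterCheck_sound 8 good_p chk_p
  · exact letterCheck_sound 8 good_h chk_h
  · exact letterCheck_sound 8 good_xi chk_xi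
  · exact letterCheck_sound 8 good_p2 chk_p2
  · exact letterCheck_sound 8 good_p3 chk_p3
  · exact letterCheck_sound 8 good_p4 chk_p4
  · exact letterCheck_sound 8 good_p5 chk_p5
  · exact letterCheck_sound 8 good_p6 chk_p6
  · exact letterCheck_sound 8 good_p7 chk_p7
  · exact letterCheck_sound 8 good_p8 chk_p8
  · exact letterCheck_sound 8 good_p9 chk_p9
  · exact letterCheck_sound 8 good_p10 chk_p10
  · exact letterCheck_sound 8 good_hi chk_hi
  · exact letterCheck_sound 8 good_xii chk_xii
  · exact absurd h (by decide)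
  · exact absurd h (by decide)

/-- The data of a word for `STabCover`. -/
noncomputable def wl (v : List Ltr) : List (Prog × ℕ) := v.map fun l => (l.prog, rel l)

theorem wordOK (v : List Ltr) (h : ∀ l ∈ v, notTau l = true) : WordOK mE u e (wl v) (W v) := by
  induction v with
  | nil => exact WordOK.nil
  | cons l v ih =>
    rw [W_cons]
    exact WordOK.cons (letterOK l (h l (by simp))) (ih fun l' hl' => h l' (by simp [hl']))

theorem notTau_of_isC {l : Ltr} (h : l.isC = true) : notTau l = true := by
  cases l <;> first | rfl | exact absurd h (by decide)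

theorem act_gen (g : V ≃ₗ[ℚ] V) (hg : g ∈ {g | ∃ l : Ltr, l.isC = true ∧ g = E l}) :
    ∃ σ δ ε, Act mE u e g σ δ ε := by
  obtain ⟨l, hl, rfl⟩ := hg
  obtain ⟨_, δ, ε, h, _⟩ := letterOK l (notTau_of_isC hl)
  exact ⟨_, δ, ε, h⟩

/-- Every element of `C` permutes the pairs `± u i`, `± e i`. -/
theorem exists_act_C (g : V ≃ₗ[ℚ] V) (hg : g ∈ C) : ∃ σ δ ε, Act mE u e g σ δ ε :=
  exists_act act_gen g hg

/-! ### The base vectors -/

theorem headVal_base : ∀ k < 23, headVal mu k 1281 = if k = 0 then 4 else if k = 1 then -4 else 0 := by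
  decide +kernel

theorem u_base : u 1281 = Inst.u₀ := by
  rw [Inst.u₀_eq]
  funext l
  show uFun 1344 mu 1281 l.1 = _
  rw [Pi.add_apply]
  unfold uFun
  have hIA : Inst.laneI ≠ Inst.laneA := fun h => by
    have := congrArg Subtype.val h
    exact absurd this (by decide)
  by_cases h1 : l = Inst.laneI
  · subst h1
    rw [Pi.single_eq_same, Pi.single_eq_of_ne hIA, if_neg (show ¬ (Inst.laneI.1 < 1344) by decide),
      show Inst.laneI.1 - 1344 = 0 from rfl, headVal_base 0 (by norm_num)]
    norm_num
  · rw [Pi.single_eq_of_ne h1]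
    have h1' : l.1 ≠ 1344 := fun h => h1 (Subtype.ext h)
    by_cases h2 : l = Inst.laneA
    · subst h2
      rw [Pi.single_eq_same, if_neg (show ¬ (Inst.laneA.1 < 1344) by decide),
        show Inst.laneA.1 - 1344 = 1 from rfl, headVal_base 1 (by norm_num)]
      norm_num
    · rw [Pi.single_eq_of_ne h2]
      have h2' : l.1 ≠ 1345 := fun h => h2 (Subtype.ext h)
      split_ifs with h3
      · norm_num
      · by_cases h4 : l.1 - 1344 < 23
        · rw [headVal_base _ h4, if_neg (by omega), if_neg (by omega)]; norm_num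
        · rw [headVal_of_le mu _ _ (by push Not at h4; exact h4)]; norm_num

theorem e_base : e 1281 = Inst.e₀ := by
  rw [Inst.e₀_eq]
  funext l
  show eFun 8 1281 l.1 = _
  unfold eFun
  by_cases h1 : l = Inst.laneB
  · subst h1
    rw [Pi.single_eq_same, if_pos (show Inst.laneB.1 = 1281 from rfl)]
  · rw [Pi.single_eq_of_ne h1]
    have h2 : l.1 ≠ 1281 := fun h => h1 (Subtype.ext h)
    exact if_neg h2

theorem mE_base : mE.testBit 1281 = true := by decide +kernel

theorem d₀_eq : Inst.M.d₀ = u 1281 + e 1281 := by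
  rw [u_base, e_base]; rfl

theorem d₁_eq : Inst.M.d₁ = u 1281 - e 1281 := by
  rw [u_base, e_base]; rfl

/-- The base orbit consists of lines `± (u i ± e i)`. -/
theorem S_subset : ∀ x ∈ Inst.M.S, x ∈ Lines u e mE mE := by
  rintro x ⟨g, hg, rfl⟩
  rw [d₀_eq]
  exact orbit_subset act_gen mE_base g hg

end Cfsg.Agent.BabyM.STabLetters
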