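/-
Inverse letters and inverse words of the concrete model of the Baby Monster.
-/
import Cfsg.Agent.BabyM.ConcGrp

set_option autoImplicit false

namespace Cfsg.Agent.BabyM.TransInv

open Cfsg.Agent.BabyM.Conc Cfsg.Agent.BabyM.ConcEq Cfsg.Agent.BabyM.ConcGrp

/-- The inverse letter. -/
def linv : Ltr → Ltr
  | .p => .p10
  | .p2 => .p9
  | .p3 => .p8
  | .p4 => .p7
  | .p5 => .p6
  | .p6 => .p5
  | .p7 => .p4
  | .p8 => .p3
  | .p9 => .p2
  | .p10 => .p
  | .h => .hi
  | .hi => .h
  | .xi => .xii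
  | .xii => .xi
  | .tau => .taui
  | .taui => .tau
  | l => l

theorem step {a b : Ltr} (h : W [a, .p] = W [b]) : E b = E .p * E a := by
  rw [W_two, W_single] at h
  exact h.symm

theorem pow_two : E .p2 = E .p ^ 2 := by rw [step w_p2, pow_succ' _ 1, pow_one]
theorem pow_three : E .p3 = E .p ^ 3 := by rw [step w_p3, pow_two, ← pow_succ']
theorem pow_four : E .p4 = E .p ^ 4 := by rw [step w_p4, pow_three, ← pow_succ']
theorem pow_five : E .p5 = E .p ^ 5 := by rw [step w_p5, pow_four, ← pow_succ']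
theorem pow_six : E .p6 = E .p ^ 6 := by rw [step w_p6, pow_five, ← pow_succ']
theorem pow_seven : E .p7 = E .p ^ 7 := by rw [step w_p7, pow_six, ← pow_succ']
theorem pow_eight : E .p8 = E .p ^ 8 := by rw [step w_p8, pow_seven, ← pow_succ']
theorem pow_nine : E .p9 = E .p ^ 9 := by rw [step w_p9, pow_eight, ← pow_succ']
theorem pow_ten : E .p10 = E .p ^ 10 := by rw [step w_p10, pow_nine, ← pow_succ']

theorem pow_eleven : E .p ^ 11 = 1 := by
  have h := w_p11
  rw [W_two, W_nil, pow_ten, ← pow_succ'] at h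
  exact h

theorem inv_pow' {a b : ℕ} (h : a + b = 11) : E .p ^ a = (E .p ^ b)⁻¹ := by
  rw [eq_inv_iff_mul_eq_one, ← pow_add, h, pow_eleven]

theorem sq_inv {a : Ltr} (h : W [a, a] = W []) : E a = (E a)⁻¹ := inv_of h

theorem E_linv (l : Ltr) : E (linv l) = (E l)⁻¹ := by
  cases l
  case z => exact sq_inv w_zz
  case X0 => exact sq_inv w_X0
  case X1 => exact sq_inv w_X1
  case X2 => exact sq_inv w_X2
  case X3 => exact sq_inv w_X3
  case X4 => exact sq_inv w_X4
  case X5 => exact sq_inv w_X5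
  case X6 => exact sq_inv w_X6
  case X7 => exact sq_inv w_X7
  case X8 => exact sq_inv w_X8
  case X9 => exact sq_inv w_X9
  case X10 => exact sq_inv w_X10
  case Z0 => exact sq_inv w_Z0
  case Z1 => exact sq_inv w_Z1
  case Z2 => exact sq_inv w_Z2
  case Z3 => exact sq_inv w_Z3
  case Z4 => exact sq_inv w_Z4
  case Z5 => exact sq_inv w_Z5
  case Z6 => exact sq_inv w_Z6
  case Z7 => exact sq_inv w_Z7
  case Z8 => exact sq_inv w_Z8
  case Z9 => exact sq_inv w_Z9
  case Z10 => exact sq_inv w_Z10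
  case y1 => exact sq_inv w_y1
  case y2 => exact sq_inv w_y2
  case y3 => exact sq_inv w_y3
  case y4 => exact sq_inv w_y4
  case y5 => exact sq_inv w_y5
  case y6 => exact sq_inv w_y6
  case y7 => exact sq_inv w_y7
  case y8 => exact sq_inv w_y8
  case y9 => exact sq_inv w_y9
  case y10 => exact sq_inv w_y10
  case p => show E .p10 = _; exact E_p10
  case p2 => show E .p9 = (E .p2)⁻¹; rw [pow_nine, pow_two]; exact inv_pow' rfl
  case p3 => show E .p8 = (E .p3)⁻¹; rw [pow_eight, pow_three]; exact inv_pow' rfl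
  case p4 => show E .p7 = (E .p4)⁻¹; rw [pow_seven, pow_four]; exact inv_pow' rfl
  case p5 => show E .p6 = (E .p5)⁻¹; rw [pow_six, pow_five]; exact inv_pow' rfl
  case p6 => show E .p5 = (E .p6)⁻¹; rw [pow_five, pow_six]; exact inv_pow' rfl
  case p7 => show E .p4 = (E .p7)⁻¹; rw [pow_four, pow_seven]; exact inv_pow' rfl
  case p8 => show E .p3 = (E .p8)⁻¹; rw [pow_three, pow_eight]; exact inv_pow' rfl
  case p9 => show E .p2 = (E .p9)⁻¹; rw [pow_two, pow_nine]; exact inv_pow' rfl
  case p10 => show E .p = (E .p10)⁻¹; rw [E_p10, inv_inv]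
  case h => exact E_hi
  case hi => show E .h = (E .hi)⁻¹; rw [E_hi, inv_inv]
  case xi => exact E_xii
  case xii => show E .xi = (E .xii)⁻¹; rw [E_xii, inv_inv]
  case tau => exact E_taui
  case taui => show E .tau = (E .taui)⁻¹; rw [E_taui, inv_inv]; rfl

/-- The inverse word. -/
def winv (v : List Ltr) : List Ltr := (v.map linv).reverse

theorem winv_cons (l : Ltr) (v : List Ltr) : winv (l :: v) = winv v ++ [linv l] := by
  simp [winv]

theorem W_winv (v : List Ltr) : W (winv v) = (W v)⁻¹ := by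
  induction v with
  | nil => rw [W_nil, inv_one]; rfl
  | cons l v ih => rw [winv_cons, W_append, W_single, ih, W_cons, mul_inv_rev, E_linv]

theorem W_winv_apply (v : List Ltr) (x : V) : W (winv v) (W v x) = x := by
  rw [W_winv]; exact (W v).symm_apply_apply x

theorem W_apply_winv (v : List Ltr) (x : V) : W v (W (winv v) x) = x := by
  rw [W_winv]; exact (W v).apply_symm_apply x

end Cfsg.Agent.BabyM.TransInv
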