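/-
Coverage of the base orbit by the stabilisers of the representatives of the axes: the generic kernel checks and their
soundness.
-/
import Cfsg.Agent.BabyM.STabLetters
import Cfsg.Agent.BabyM.TransInv
import Cfsg.Agent.BabyM.InstZ

set_option autoImplicit false
set_option exponentiation.threshold 2000

namespace Cfsg.Agent.BabyM.TransCover

open Cfsg.Agent.Lib.PermNet Cfsg.Agent.Monster.VecEngine Cfsg.Agent.Monster.VecSpace Cfsg.Agent.BabyM.Conc
  Cfsg.Agent.BabyM.ConcGrp Cfsg.Agent.BabyM.STabData Cfsg.Agent.BabyM.STabTrack Cfsg.Agent.BabyM.STabCover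
  Cfsg.Agent.BabyM.STabHead Cfsg.Agent.BabyM.STabLetters Cfsg.Agent.BabyM.TransInv Cfsg.Agent.BabyM.Inst
  Cfsg.Agent.BabyM.InstVec Cfsg.Agent.BabyM.InstZ

/-- The word of the transposition `t₀`. -/
def t0w : List Ltr := [.Z0, .Z2, .Z4, .Z5, .Z6]

theorem W_t0w : W t0w = t₀ := rfl

/-- One representative of the orbits on the lines of the base orbit. -/
structure Rep where
  /-- the word -/
  h : List Ltr
  /-- four times the inner product -/
  c : ℤ
  /-- the order of the product of the transpositions -/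
  n : ℕ
  /-- for `n = 2`: the transposition negates -/
  sg : Bool

/-- The data for one representative of the signed axes. -/
structure Tab where
  /-- word mapping the base axis to the representative -/
  path : List Ltr
  /-- generators of a subgroup of the stabiliser in `C` -/
  gens : List (List Ltr)
  /-- number of rounds of the saturation -/
  rounds : ℕ
  /-- representatives -/
  reps : List Rep

/-- Evaluation of a word on a plane list. -/
theorem W_run {v : List Ltr} {x : Pl} {k : Pl → Bool} (h : runL (v.map Ltr.prog) x k = true) :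
    ∃ y, vecU ℚ U y = W v (vecU ℚ U x) ∧ k y = true := by
  obtain ⟨y, hy, hk⟩ := runL_sound ℚ two_ne_zero (m := 2 ^ 13) (v.map Ltr.prog)
    (fun P hP => (good_progs v P hP).ok) x k h
  refine ⟨y, ?_, hk⟩
  rw [W_apply, vecU_eq, vecU_eq, ← res_semL ℚ (fun P hP => (good_progs v P hP).pres), hy]

/-- The stabiliser in `C` of a vector. -/
def stabC (y : V) : Subgroup (V ≃ₗ[ℚ] V) where
  carrier := {g | g ∈ C ∧ g y = y}
  mul_mem' := fun {a b} ha hb => ⟨C.mul_mem ha.1 hb.1, by rw [LinearEquiv.mul_apply, hb.2, ha.2]⟩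
  one_mem' := ⟨C.one_mem, rfl⟩
  inv_mem' := fun {a} ha => ⟨C.inv_mem ha.1, by
    show a.symm y = y
    rw [LinearEquiv.symm_apply_eq, ha.2]⟩

theorem mem_stabC {y : V} {g : V ≃ₗ[ℚ] V} : g ∈ stabC y ↔ g ∈ C ∧ g y = y := Iff.rfl

theorem notTau_of_inC {l : Ltr} (h : inC l = true) : notTau l = true := by
  cases l <;> first | rfl | exact absurd h (by decide)

/-- Collect the lines of the representatives. -/
noncomputable def initR (rs : List Rep) : ℕ → ℕ → (ℕ → ℕ → Bool) → Bool :=
  List.rec (motive := fun _ => ℕ → ℕ → (ℕ → ℕ → Bool) → Bool) (fun A B k => k A B)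
    (fun r _ ih A B k => runW (wl r.h) (Nat.pow 2 1281) 0 fun A' B' => seqB (Nat.lor A A') fun A'' =>
      seqB (Nat.lor B B') fun B'' => ih A'' B'' k) rs

/-- `y` is `±` the image of the base axis under the word of a representative. -/
def IsR (rs : List Rep) (y : V) : Prop := ∃ r ∈ rs, y = W r.h M.d₀ ∨ y = - W r.h M.d₀

theorem base_Lines {y : V} (h : y ∈ Lines u e (Nat.pow 2 1281) 0) : y = M.d₀ ∨ y = - M.d₀ := by
  obtain ⟨i, (⟨hi, h2⟩ | ⟨hi, h2⟩)⟩ := h
  · have hi' : (2 ^ 1281).testBit i = true := hi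
    rw [Nat.testBit_two_pow, decide_eq_true_eq] at hi'
    subst hi'
    rw [d₀_eq]
    exact h2
  · rw [Nat.zero_testBit] at hi
    exact absurd hi (by decide)

theorem sub_base : Sub (Nat.pow 2 1281) mE := by
  intro i hi
  have hi' : (2 ^ 1281).testBit i = true := hi
  rw [Nat.testBit_two_pow, decide_eq_true_eq] at hi'
  subst hi'
  exact mE_base

theorem sub_zero : Sub 0 mE := fun i hi => absurd hi (by rw [Nat.zero_testBit]; decide)

theorem wordOK_of_inC {v : List Ltr} (h : v.all inC = true) : WordOK mE u e (wl v) (W v) :=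
  wordOK v fun l hl => notTau_of_inC (List.all_eq_true.1 h l hl)

theorem initR_sound {all rs : List Rep} (hw : ∀ r ∈ all, r.h.all inC = true) (hs : ∀ r ∈ rs, r ∈ all) {A B : ℕ}
    (hA : Sub A mE) (hB : Sub B mE) (hX : ∀ y ∈ Lines u e A B, IsR all y) {k : ℕ → ℕ → Bool}
    (h : initR rs A B k = true) :
    ∃ A' B', Sub A' mE ∧ Sub B' mE ∧ k A' B' = true ∧ ∀ y ∈ Lines u e A' B', IsR all y := by
  induction rs generalizing A B with
  | nil => exact ⟨A, B, hA, hB, h, hX⟩
  | cons r rs ih =>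
    have h1 : runW (wl r.h) (Nat.pow 2 1281) 0 (fun A' B' => seqB (Nat.lor A A') fun A'' =>
      seqB (Nat.lor B B') fun B'' => initR rs A'' B'' k) = true := h
    have hr := hs r (by simp)
    obtain ⟨A', B', hA', hB', h2, h3⟩ := runW_sound (wordOK_of_inC (hw r hr)) sub_base sub_zero h1
    rw [seqB_eq, seqB_eq] at h2
    refine ih (fun r' hr' => hs r' (by simp [hr'])) (sub_lor hA hA') (sub_lor hB hB') ?_ h2
    intro y hy
    rcases mem_Lines_lor hy with hy | hy
    · exact hX y hy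
    · obtain ⟨x, hx, rfl⟩ := h3 y hy
      refine ⟨r, hr, ?_⟩
      rcases base_Lines hx with rfl | rfl
      · exact Or.inl rfl
      · exact Or.inr (by rw [map_neg])

/-- The kernel check of the coverage. -/
noncomputable def covCheck (T : Tab) : Bool :=
  initR T.reps 0 0 (sat mE (T.gens.map wl) T.rounds)

/-- All words of the table lie in `C`. -/
def inCT (T : Tab) : Bool := T.reps.all (fun r => r.h.all inC) && T.gens.all (fun g => g.all inC)

/-- The generators fix the vector. -/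
noncomputable def fixCheck (T : Tab) (x : Pl) : Bool := T.gens.all fun g => checkFix (g.map Ltr.prog) x

/-- **Coverage of the base orbit.** -/
theorem cover_of {T : Tab} {x : Pl} (hw : inCT T = true) (hf : fixCheck T x = true) (hc : covCheck T = true) :
    ∀ b ∈ M.S, ∃ l ∈ stabC (vecU ℚ U x), ∃ r ∈ T.reps, b = l (W r.h M.d₀) ∨ b = - l (W r.h M.d₀) := by
  unfold inCT at hw
  rw [Bool.and_eq_true, List.all_eq_true, List.all_eq_true] at hw
  unfold fixCheck at hf
  rw [List.all_eq_true] at hf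
  obtain ⟨A, B, hA, hB, h1, h2⟩ := initR_sound (all := T.reps) (rs := T.reps) hw.1 (fun _ h => h)
    (A := 0) (B := 0) sub_zero sub_zero (by
      rintro y ⟨i, (⟨hi, -⟩ | ⟨hi, -⟩)⟩ <;> exact absurd hi (by rw [Nat.zero_testBit]; decide)) hc
  intro b hb
  have hws : ∀ w ∈ T.gens.map wl, ∃ g ∈ stabC (vecU ℚ U x), WordOK mE u e w g := by
    intro w hw'
    obtain ⟨g, hg, rfl⟩ := List.mem_map.1 hw'
    exact ⟨W g, ⟨ConcGrp.W_mem_C (hw.2 g hg), W_fix_of_check (hf g hg)⟩, wordOK_of_inC (hw.2 g hg)⟩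
  obtain ⟨l, hl, y, hy, rfl⟩ := cover hws hA hB h1 b (S_subset b hb)
  obtain ⟨r, hr, rfl | rfl⟩ := h2 y hy
  · exact ⟨l, hl, r, hr, Or.inl rfl⟩
  · exact ⟨l, hl, r, hr, Or.inr (by rw [map_neg])⟩

/-! ### Inner products -/

/-- The kernel check of an inner product. -/
noncomputable def valCheck (x : Pl) (r : Rep) : Bool :=
  runL ((winv r.h).map Ltr.prog) x fun y =>
    decide (val y 1344 - 2 * val y 1345 + 2 * val y 1281 = 8 * r.c)

theorem val_sound {x : Pl} {r : Rep} (h : valCheck x r = true) :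
    F (W r.h M.d₀) ((1 / 8 : ℚ) • vecU ℚ U x) = (r.c : ℚ) / 4 := by
  obtain ⟨y, hy, hk⟩ := W_run h
  rw [decide_eq_true_eq] at hk
  have h1 : F (W r.h M.d₀) ((1 / 8 : ℚ) • vecU ℚ U x) = F (W (winv r.h) ((1 / 8 : ℚ) • vecU ℚ U x)) M.d₀ := by
    rw [← F_W r.h (W (winv r.h) _) M.d₀, W_apply_winv, F_symm]
  rw [h1, map_smul, ← hy]
  show F ((1 / 8 : ℚ) • vecU ℚ U y) (u₀ + e₀) = _
  rw [F_d₀]
  show 1 / 4 * (1 / 8 * (val y 1344 : ℚ)) - 1 / 2 * (1 / 8 * (val y 1345 : ℚ)) + 1 / 2 * (1 / 8 * (val y 1281 : ℚ)) = _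
  have h2 : (val y 1344 : ℚ) - 2 * (val y 1345 : ℚ) + 2 * (val y 1281 : ℚ) = 8 * (r.c : ℚ) := by
    exact_mod_cast hk
  linarith

end Cfsg.Agent.BabyM.TransCover
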