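/-
The representatives of the signed axes: paths, generators of their stabilisers in `C`, representatives of the orbits on
the base orbit; kernel checks of coverage and inner products.
-/
import Cfsg.Agent.BabyM.TransCover

set_option autoImplicit false

namespace Cfsg.Agent.BabyM.TransData

open Cfsg.Agent.Lib.PermNet Cfsg.Agent.Monster.VecEngine Cfsg.Agent.Monster.VecSpace Cfsg.Agent.BabyM.Conc
  Cfsg.Agent.BabyM.ConcGrp Cfsg.Agent.BabyM.TransInv Cfsg.Agent.BabyM.Inst
  Cfsg.Agent.BabyM.InstVec Cfsg.Agent.BabyM.TransCover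

def T0 : Tab where
  path := []
  gens := [[.p9, .xi, .p3, .y3, .h, .xi, .p6], [.p6, .y2, .p5]]
  rounds := 15
  reps := [⟨[], 28, 2, false⟩, ⟨[.X0], -4, 2, false⟩, ⟨[.y1], -4, 2, false⟩, ⟨[.p8, .xi, .p6], 0, 4, false⟩]

def T1 : Tab where
  path := [.p10, .xi, .tau]
  gens := [[.p9, .xi, .p10, .y9, .p, .y10, .xi, .p9, .X6, .X9], [.p3, .h, .p2, .xi, .y3, .xi, .p9, .X9],
    [.p, .h, .p, .xi, .p10, .h, .y2, .xi, .p7, .X5, .X8, .X9]]
  rounds := 6
  reps := [⟨[], 4, 2, false⟩, ⟨[.p8], 0, 4, false⟩, ⟨[.p5, .xi, .p4], 0, 2, true⟩]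

def T2 : Tab where
  path := [.p10, .xi, .p10, .xi, .tau]
  gens := [[.p, .X1, .X2, .X4], [.xi, .p4, .h, .p9, .y4, .p2, .h, .p7, .xi, .X0, .X4, .X5, .X6]]
  rounds := 13
  reps := [⟨[], 4, 2, false⟩, ⟨[.X0], 0, 4, false⟩, ⟨[.p2, .xi], 0, 4, false⟩, ⟨[.p6, .xi, .p6, .xi], 1, 3, false⟩]

def T3 : Tab where
  path := [.p10, .xi, .tau, .p10, .xi, .p3, .xi, .tau]
  gens := [[.xi, .p5, .xi, .y1, .y4, .xi, .p6, .xi, .Z5, .Z10, .X3, .X4, .X8, .X10],
    [.xi, .y6, .p3, .y7, .p8, .xi, .p4, .Z0, .Z4, .Z5, .X1, .X4, .X5, .X8]]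
  rounds := 15
  reps := [⟨[], 0, 4, false⟩, ⟨[.p9], 0, 4, false⟩, ⟨[.X0, .p9], 0, 2, true⟩, ⟨[.p2, .xi], 1, 3, false⟩]

def T4 : Tab where
  path := [.p10, .xi, .tau, .p10, .xi, .tau, .p, .xi, .p, .xi, .tau]
  gens := [[.p2, .xi, .p6, .xi, .p5, .y2, .xi, .p4, .Z2, .Z3, .Z7, .Z8, .Z10, .X3, .X4, .X5, .X6, .X7],
    [.y1, .y5, .Z3, .Z7, .Z8, .Z10, .z]]
  rounds := 14
  reps := [⟨[], 1, 3, false⟩, ⟨[.X0], 0, 4, false⟩, ⟨[.y1], 1, 3, false⟩, ⟨[.X0, .y1], -4, 2, false⟩,
    ⟨[.p8, .xi, .p6], 0, 4, false⟩]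

theorem inC0 : inCT T0 = true := by decide +kernel
theorem inC1 : inCT T1 = true := by decide +kernel
theorem inC2 : inCT T2 = true := by decide +kernel
theorem inC3 : inCT T3 = true := by decide +kernel
theorem inC4 : inCT T4 = true := by decide +kernel

theorem fix0 : fixCheck T0 dv0 = true := by decide +kernel
theorem fix1 : fixCheck T1 dv1 = true := by decide +kernel
theorem fix2 : fixCheck T2 dv2 = true := by decide +kernel
theorem fix3 : fixCheck T3 dv3 = true := by decide +kernel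
theorem fix4 : fixCheck T4 dv4 = true := by decide +kernel

theorem cov0 : covCheck T0 = true := by decide +kernel
theorem cov1 : covCheck T1 = true := by decide +kernel
theorem cov2 : covCheck T2 = true := by decide +kernel
theorem cov3 : covCheck T3 = true := by decide +kernel
theorem cov4 : covCheck T4 = true := by decide +kernel

theorem val0 : T0.reps.all (valCheck dv0) = true := by decide +kernel
theorem val1 : T1.reps.all (valCheck dv1) = true := by decide +kernel
theorem val2 : T2.reps.all (valCheck dv2) = true := by decide +kernel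
theorem val3 : T3.reps.all (valCheck dv3) = true := by decide +kernel
theorem val4 : T4.reps.all (valCheck dv4) = true := by decide +kernel

/-- The path maps the base axis to the representative. -/
theorem pth0 : check (T0.path.map Ltr.prog) dv0 [] dv0 = true := by decide +kernel
theorem pth1 : check (T1.path.map Ltr.prog) dv0 [] dv1 = true := by decide +kernel
theorem pth2 : check (T2.path.map Ltr.prog) dv0 [] dv2 = true := by decide +kernel
theorem pth3 : check (T3.path.map Ltr.prog) dv0 [] dv3 = true := by decide +kernel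
theorem pth4 : check (T4.path.map Ltr.prog) dv0 [] dv4 = true := by decide +kernel

end Cfsg.Agent.BabyM.TransData
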