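/-
The fields `trans`, `trans₂` of `BOrbit` and `order_le`, `moves` of `BTrans` for the concrete model, and the values of
the inner products of the base orbit with the representatives.
-/
import Cfsg.Agent.BabyM.TransOrd

set_option autoImplicit false

namespace Cfsg.Agent.BabyM.TransFields

open Cfsg.Agent.Lib.PermNet Cfsg.Agent.Monster.VecEngine Cfsg.Agent.Monster.VecSpace Cfsg.Agent.BabyM.Conc
  Cfsg.Agent.BabyM.ConcGrp Cfsg.Agent.BabyM.TransInv Cfsg.Agent.BabyM.Inst Cfsg.Agent.BabyM.Model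
  Cfsg.Agent.BabyM.InstVec Cfsg.Agent.BabyM.InstZ Cfsg.Agent.BabyM.TransCover Cfsg.Agent.BabyM.TransData
  Cfsg.Agent.BabyM.TransOrd

theorem W_mem_MG (v : List Ltr) : W v ∈ M.G := W_mem_G v

/-- All checks of one table. -/
structure Ok (T : Tab) (x : Pl) : Prop where
  inC : inCT T = true
  fix : fixCheck T x = true
  cov : covCheck T = true
  val : T.reps.all (valCheck x) = true
  pth : check (T.path.map Ltr.prog) dv0 [] x = true
  ord : T.reps.all (ordCheck T.path x) = true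

/-- The tables. -/
def TT : Fin 5 → Tab := ![T0, T1, T2, T3, T4]

theorem ok0 : Ok T0 dv0 := ⟨inC0, fix0, cov0, val0, pth0, ord0⟩
theorem ok1 : Ok T1 dv1 := ⟨inC1, fix1, cov1, val1, pth1, ord1⟩
theorem ok2 : Ok T2 dv2 := ⟨inC2, fix2, cov2, val2, pth2, ord2⟩
theorem ok3 : Ok T3 dv3 := ⟨inC3, fix3, cov3, val3, pth3, ord3⟩
theorem ok4 : Ok T4 dv4 := ⟨inC4, fix4, cov4, val4, pth4, ord4⟩

theorem ok (j : Fin 5) : Ok (TT j) (dv j) := by
  fin_cases j
  exacts [ok0, ok1, ok2, ok3, ok4]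

theorem d₀_eq' : M.d₀ = (1 / 8 : ℚ) • vecU ℚ U dv0 := by
  show u₀ + e₀ = _
  rw [← d_zero]; rfl

theorem M_d_zero : M.d (0 : Fin 5) = M.d₀ := d_zero

theorem M_d_eq (j : Fin 5) : M.d j = (1 / 8 : ℚ) • vecU ℚ U (dv j) := rfl

/-- The path word maps the base axis to the representative. -/
theorem W_path (j : Fin 5) : W (TT j).path M.d₀ = M.d j := by
  have h := W_eq_of_check (v₂ := []) (ok j).pth
  rw [W_nil, LinearEquiv.coe_one, id] at h
  rw [d₀_eq', map_smul, h, M_d_eq]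

/-- Every element of the base orbit is `±` the image of a representative under the stabiliser of `d j` in `C`. -/
theorem cover (j : Fin 5) : ∀ b ∈ M.S, ∃ l ∈ stabC (vecU ℚ U (dv j)), ∃ r ∈ (TT j).reps,
    b = l (W r.h M.d₀) ∨ b = - l (W r.h M.d₀) :=
  cover_of (ok j).inC (ok j).fix (ok j).cov

theorem stab_d {j : Fin 5} {l : V ≃ₗ[ℚ] V} (hl : l ∈ stabC (vecU ℚ U (dv j))) : l (M.d j) = M.d j := by
  rw [M_d_eq, map_smul, hl.2]

theorem F_stab {j : Fin 5} {l : V ≃ₗ[ℚ] V} (hl : l ∈ stabC (vecU ℚ U (dv j))) (y : V) :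
    M.F (l y) (M.d j) = M.F y (M.d j) := by
  conv_lhs => rw [← stab_d hl]
  exact C_isom l hl.1 _ _

theorem F_rep {j : Fin 5} {r : TransCover.Rep} (hr : r ∈ (TT j).reps) : M.F (W r.h M.d₀) (M.d j) = (r.c : ℚ) / 4 :=
  val_sound (List.all_eq_true.1 (ok j).val r hr)

/-- field `trans` of `BOrbit` -/
theorem trans (j : M.J) : ∃ g ∈ M.G, g (M.d j) = M.d₀ := by
  change Fin 5 at j
  refine ⟨(W (TT j).path)⁻¹, M.G.inv_mem (W_mem_MG _), ?_⟩
  rw [← W_path j, inv_apply_self']

/-! ### Values -/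

theorem c_le (j : Fin 5) : ∀ r ∈ (TT j).reps, (r.c ≤ 4 ∧ -4 ≤ r.c) ∨ (j = 0 ∧ r.h = [] ∧ r.c = 28) := by
  fin_cases j
  · show ∀ r ∈ T0.reps, _
    unfold T0
    simp
  · show ∀ r ∈ T1.reps, _
    unfold T1
    simp
  · show ∀ r ∈ T2.reps, _
    unfold T2
    simp
  · show ∀ r ∈ T3.reps, _
    unfold T3
    simp
  · show ∀ r ∈ T4.reps, _
    unfold T4
    simp

/-- The inner products of the base orbit with the representatives: `7` for equal vectors, at most `1` otherwise. -/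
theorem hval (j : M.J) : ∀ b ∈ M.S, b = M.d j ∨ M.F b (M.d j) ≤ 1 := by
  change Fin 5 at j
  intro b hb
  obtain ⟨l, hl, r, hr, h⟩ := cover j b hb
  rcases c_le j r hr with ⟨h1, h2⟩ | ⟨h1, h2, h3⟩
  · right
    have h1' : (r.c : ℚ) ≤ 4 := by exact_mod_cast h1
    have h2' : (-4 : ℚ) ≤ r.c := by exact_mod_cast h2
    rcases h with rfl | rfl
    · rw [F_stab hl, F_rep hr]; linarith
    · rw [map_neg, LinearMap.neg_apply, F_stab hl, F_rep hr]; linarith
  · rcases h with rfl | rfl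
    · left
      rw [h2, W_nil]
      subst h1
      rw [LinearEquiv.coe_one, id, ← M_d_zero, stab_d hl]
    · right
      rw [map_neg, LinearMap.neg_apply, F_stab hl, F_rep hr, h3]; norm_num

/-! ### Transitivity on pairs -/

/-- The word negating the base axis. -/
def negw : List Ltr := [.h, .p, .p, .p, .p, .p, .p, .p, .p]

theorem W_negw : W negw M.d₀ = - M.d₀ := neg_d₀

theorem W_mem_S {v : List Ltr} (h : v.all inC = true) : W v M.d₀ ∈ M.S := ⟨W v, ConcGrp.W_mem_C h, rfl⟩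

theorem neg_W_mem_S {v : List Ltr} (h : v.all inC = true) : - W v M.d₀ ∈ M.S := by
  refine ⟨W v * W negw, C.mul_mem (ConcGrp.W_mem_C h) (ConcGrp.W_mem_C (by decide)), ?_⟩
  rw [LinearEquiv.mul_apply, W_negw, map_neg]

/-- The pair `(d j, b)` is conjugate to `(d₀, d₁)`. -/
def Conj (j : Fin 5) (b : V) : Prop := ∃ g ∈ M.G, g (M.d j) = M.d₀ ∧ g b = M.d₁

/-- All pairs of inner product `-1` are conjugate to `(d₀, d₁)`. -/
def AllConj (j : Fin 5) : Prop := ∀ b ∈ M.S, M.F b (M.d j) = -1 → Conj j b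

theorem Conj.of_stab {j : Fin 5} {l : V ≃ₗ[ℚ] V} (hl : l ∈ stabC (vecU ℚ U (dv j))) {b : V} (h : Conj j b) :
    Conj j (l b) := by
  obtain ⟨g, hg, h1, h2⟩ := h
  refine ⟨g * l⁻¹, M.G.mul_mem hg (M.G.inv_mem (C_le_G hl.1)), ?_, ?_⟩
  · have h3 : l⁻¹ (M.d j) = M.d j := by
      conv_lhs => rw [← stab_d hl]
      exact inv_apply_self' _ _
    rw [LinearEquiv.mul_apply, h3, h1]
  · rw [LinearEquiv.mul_apply, inv_apply_self', h2]

/-- The representative is fine: its pair is conjugate to `(d₀, d₁)` if the inner product is `-1`. -/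
def Fine (j : Fin 5) (r : TransCover.Rep) : Prop :=
  (r.c = -4 → Conj j (W r.h M.d₀)) ∧ (r.c = 4 → Conj j (- W r.h M.d₀))

theorem allConj_of {j : Fin 5} (h : ∀ r ∈ (TT j).reps, Fine j r) : AllConj j := by
  intro b hb hF
  obtain ⟨l, hl, r, hr, hb'⟩ := cover j b hb
  obtain ⟨h1, h2⟩ := h r hr
  rcases hb' with rfl | rfl
  · rw [F_stab hl, F_rep hr] at hF
    have h3 : (r.c : ℚ) = -4 := by linarith
    exact (h1 (by exact_mod_cast h3)).of_stab hl
  · rw [map_neg, LinearMap.neg_apply, F_stab hl, F_rep hr] at hF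
    have h3 : (r.c : ℚ) = 4 := by linarith
    rw [← map_neg]
    exact (h2 (by exact_mod_cast h3)).of_stab hl

theorem link {j j' : Fin 5} {v v' h : List Ltr} (hv : check (v.map Ltr.prog) (dv j) [] (dv j') = true)
    (hv' : check ((h ++ v).map Ltr.prog) dv0 (v'.map Ltr.prog) dv0 = true) (hC : v'.all inC = true)
    (IH : AllConj j') :
    (M.F (W h M.d₀) (M.d j) = -1 → Conj j (W h M.d₀)) ∧ (M.F (W h M.d₀) (M.d j) = 1 → Conj j (- W h M.d₀)) := by
  have e1 := W_eq_of_check (v₂ := []) hv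
  rw [W_nil, LinearEquiv.coe_one, id] at e1
  have e1' : W v (M.d j) = M.d j' := by rw [M_d_eq, M_d_eq, map_smul, e1]
  have e2 := W_eq_of_check hv'
  rw [W_append, LinearEquiv.mul_apply] at e2
  have e2' : W v (W h M.d₀) = W v' M.d₀ := by rw [d₀_eq', map_smul, map_smul, map_smul, e2]
  have fin : ∀ b : V, W v b ∈ M.S → M.F b (M.d j) = -1 → Conj j b := by
    intro b hb hF
    have hF' : M.F (W v b) (M.d j') = -1 := by
      rw [← e1', ← hF]; exact F_W v _ _
    obtain ⟨g, hg, h1, h2⟩ := IH _ hb hF'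
    exact ⟨g * W v, M.G.mul_mem hg (W_mem_MG v), by rw [LinearEquiv.mul_apply, e1', h1],
      by rw [LinearEquiv.mul_apply, h2]⟩
  constructor
  · intro hF
    exact fin _ (by rw [e2']; exact W_mem_S hC) hF
  · intro hF
    refine fin _ (by rw [map_neg, e2']; exact neg_W_mem_S hC) ?_
    rw [map_neg, LinearMap.neg_apply, hF]

/-- `link` in terms of the table. -/
theorem link' {j j' : Fin 5} {r : TransCover.Rep} (hr : r ∈ (TT j).reps) {v v' : List Ltr}
    (hv : check (v.map Ltr.prog) (dv j) [] (dv j') = true)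
    (hv' : check ((r.h ++ v).map Ltr.prog) dv0 (v'.map Ltr.prog) dv0 = true) (hC : v'.all inC = true)
    (IH : AllConj j') : Fine j r := by
  obtain ⟨h1, h2⟩ := link hv hv' hC IH
  rw [F_rep hr] at h1 h2
  exact ⟨fun h => h1 (by rw [h]; norm_num), fun h => h2 (by rw [h]; norm_num)⟩

theorem triv {j : Fin 5} {r : TransCover.Rep} (h : (r.c = -4 ∨ r.c = 4) = False) : Fine j r :=
  ⟨fun h1 => (h ▸ Or.inl h1 : False).elim, fun h1 => (h ▸ Or.inr h1 : False).elim⟩

theorem fine_cons {j : Fin 5} {r : TransCover.Rep} {l : List TransCover.Rep} (h1 : Fine j r) (h2 : ∀ r ∈ l, Fine j r) :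
    ∀ r' ∈ r :: l, Fine j r' := List.forall_mem_cons.2 ⟨h1, h2⟩

theorem fine_nil {j : Fin 5} : ∀ r ∈ ([] : List TransCover.Rep), Fine j r := fun _ h => by simp at h

theorem W_X0 : W [.X0] M.d₀ = M.d₁ := by
  have h := W_eq_of_check (v₁ := [.X0]) (x₁ := dv0) (v₂ := []) (x₂ := add u0P (neg U e0P) 0) (by decide +kernel)
  rw [W_nil, LinearEquiv.coe_one, id, vecU_add, vecU_neg] at h
  rw [d₀_eq', map_smul, h]
  show _ = u₀ - e₀
  unfold u₀ e₀
  rw [smul_add, smul_neg, sub_eq_add_neg]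

theorem all0 : AllConj 0 := by
  refine allConj_of (fine_cons (triv ?_) (fine_cons ?_ (fine_cons ?_ (fine_cons (triv ?_) fine_nil))))
  · simp
  · exact ⟨fun _ => ⟨1, M.G.one_mem, by rw [M_d_zero]; rfl, W_X0⟩, fun h => absurd h (by decide)⟩
  · refine ⟨fun _ => ⟨W [.taui], W_mem_MG _, ?_, ?_⟩, fun h => absurd h (by decide)⟩
    · rw [M_d_zero, d₀_eq', map_smul, W_fix_of_check (by decide +kernel)]
    · have h := W_eq_of_check (v₁ := [.y1] ++ [.taui]) (x₁ := dv0) (v₂ := [.X0]) (x₂ := dv0) (by decide +kernel)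
      rw [W_append, LinearEquiv.mul_apply] at h
      rw [← W_X0, d₀_eq', map_smul, map_smul, map_smul, h]
  · simp

theorem mem0 {j : Fin 5} {r : TransCover.Rep} {l : List TransCover.Rep} (h : (TT j).reps = r :: l) :
    r ∈ (TT j).reps := by rw [h]; simp

theorem mem3 {j : Fin 5} {r a b c : TransCover.Rep} {l : List TransCover.Rep} (h : (TT j).reps = a :: b :: c :: r :: l) :
    r ∈ (TT j).reps := by rw [h]; simp

theorem all1 : AllConj 1 := by
  refine allConj_of (fine_cons ?_ (fine_cons (triv ?_) (fine_cons (triv ?_) fine_nil)))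
  · exact link' (j' := 0) (v := [.taui, .xii, .p]) (v' := [.xii, .p]) (mem0 rfl)
      (show check _ dv1 _ dv0 = true by decide +kernel) (by decide +kernel) (by decide) all0
  · simp
  · simp

theorem all2 : AllConj 2 := by
  refine allConj_of (fine_cons ?_ (fine_cons (triv ?_) (fine_cons (triv ?_) (fine_cons (triv ?_) fine_nil))))
  · exact link' (j' := 0) (v := [.taui, .xii, .p, .xii, .p]) (v' := [.xii, .p, .xii, .p]) (mem0 rfl)
      (show check _ dv2 _ dv0 = true by decide +kernel) (by decide +kernel) (by decide) all0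
  · simp
  · simp
  · simp

theorem all3 : AllConj 3 := by
  refine allConj_of (fine_cons (triv ?_) (fine_cons (triv ?_) (fine_cons (triv ?_) (fine_cons (triv ?_) fine_nil))))
  · simp
  · simp
  · simp
  · simp

/-- The word linking the fourth representative to the second one. -/
def w42 : List Ltr := winv [.xi, .p, .xi, .p, .xi, .Z2, .Z4, .X2, .X8]

theorem all4 : AllConj 4 := by
  refine allConj_of (fine_cons (triv ?_) (fine_cons (triv ?_) (fine_cons (triv ?_) (fine_cons ?_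
    (fine_cons (triv ?_) fine_nil)))))
  · simp
  · simp
  · simp
  · exact link' (j' := 2) (v := [.taui] ++ w42) (v' := [.y1] ++ w42) (mem3 rfl)
      (show check _ dv4 _ dv2 = true by decide +kernel) (by decide +kernel) (by decide) all2
  · simp

/-- field `trans₂` of `BOrbit` -/
theorem trans₂ (j : M.J) : ∀ b ∈ M.S, M.F b (M.d j) = -1 → ∃ g ∈ M.G, g (M.d j) = M.d₀ ∧ g b = M.d₁ := by
  change Fin 5 at j
  have h : ∀ j : Fin 5, AllConj j := by
    intro j
    fin_cases j
    exacts [all0, all1, all2, all3, all4]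
  exact h j

/-! ### The fields of `BTrans` -/

/-- field `order_le` of `BTrans` -/
theorem order_le {K₀ : Type} [Group K₀] (A : BAll M K₀) (j : M.J) :
    ∃ g ∈ M.G, g M.d₀ = M.d j ∧ ∀ h ∈ M.C, ∃ n : ℕ, 0 < n ∧ n ≤ 4 ∧
      ((h * M.t₀ * h⁻¹) * (g * M.t₀ * g⁻¹)) ^ n = 1 := by
  change Fin 5 at j
  exact ⟨W (TT j).path, W_mem_MG _, W_path j, fun h hh =>
    order_of A (W_path j) (cover j) (ok j).ord h hh⟩

/-- The kernel check of a moved vector. -/
noncomputable def mvCheck (P m : List Ltr) (i : ℕ) : Bool :=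
  runL ((m ++ winv P).map Ltr.prog) u0P fun y => runL (t0w.map Ltr.prog) y fun y' => !decide (val y i = val y' i)

theorem mv_sound {P m : List Ltr} {i : ℕ} (hm : m.all inC = true) (hi : U.testBit i = true)
    (h : mvCheck P m i = true) : ∃ x ∈ M.U, (W P * M.t₀ * (W P)⁻¹) x ≠ x := by
  obtain ⟨y, hy, h1⟩ := W_run h
  obtain ⟨y', hy', h2⟩ := W_run h1
  rw [Bool.not_eq_true', decide_eq_false_iff_not] at h2
  refine ⟨W m M.u₀, Submodule.subset_span ⟨W m, ConcGrp.W_mem_C hm, rfl⟩, fun h3 => h2 ?_⟩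
  have h4 : M.t₀ ((W P)⁻¹ (W m M.u₀)) = (W P)⁻¹ (W m M.u₀) := by
    have := congrArg ((W P)⁻¹ : V ≃ₗ[ℚ] V) h3
    rwa [LinearEquiv.mul_apply, LinearEquiv.mul_apply, inv_apply_self'] at this
  have h5 : (W P)⁻¹ (W m M.u₀) = (1 / 8 : ℚ) • vecU ℚ U y := by
    rw [hy, W_append, W_winv, LinearEquiv.mul_apply, ← map_smul, ← map_smul]; rfl
  rw [h5, map_smul] at h4
  have h6 : vecU ℚ U y' = vecU ℚ U y := by
    rw [hy']
    exact smul_right_injective V (show (1 / 8 : ℚ) ≠ 0 by norm_num) h4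
  have h7 := congrFun h6 ⟨i, hi⟩
  have h8 : (val y' i : ℚ) = (val y i : ℚ) := h7
  exact (Int.cast_injective h8).symm

/-- field `moves` of `BTrans` -/
theorem moves (j : M.J) (hj : j ≠ M.j₀) :
    ∃ g ∈ M.G, g M.d₀ = M.d j ∧ ∃ x ∈ M.U, (g * M.t₀ * g⁻¹) x ≠ x := by
  change Fin 5 at j
  refine ⟨W (TT j).path, W_mem_MG _, W_path j, ?_⟩
  fin_cases j
  · exact absurd rfl hj
  · exact mv_sound (P := T1.path) (m := [.p2]) (i := 650) (by decide) (by decide +kernel) (by decide +kernel)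
  · exact mv_sound (P := T2.path) (m := []) (i := 649) (by decide) (by decide +kernel) (by decide +kernel)
  · exact mv_sound (P := T3.path) (m := []) (i := 585) (by decide) (by decide +kernel) (by decide +kernel)
  · exact mv_sound (P := T4.path) (m := []) (i := 650) (by decide) (by decide +kernel) (by decide +kernel)

/-- **The facts for the transposition property.** -/
theorem bTrans {K₀ : Type} [Group K₀] (A : BAll M K₀) : BTrans M := ⟨order_le A, moves⟩

end Cfsg.Agent.BabyM.TransFields
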