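import Cfsg.Agent.BabyM.GroupInst
import Cfsg.Agent.BabyM.ThetaN
import Cfsg.Agent.BabyM.CertAsm
import Cfsg.Agent.BabyM.ConcGrp
import Cfsg.Agent.BabyM.InstZ
import Cfsg.Agent.BabyM.FFinal
import Cfsg.Agent.BabyM.TransFields
import Cfsg.Agent.BabyM.KQ

/-!
# The fields of `BOrbit` for the concrete model, from `KCore.Link`; all structures together
-/

set_option autoImplicit false

namespace Cfsg.Agent.BabyM.OrbInst

open Cfsg Cfsg.Agent.Monster Cfsg.Agent.Monster.VecEngine Cfsg.Agent.Monster.VecSpace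
open Cfsg.Agent.Monster.PauliBasic Cfsg.Agent.Monster.PauliRep Cfsg.Agent.Monster.PauliClif
  Cfsg.Agent.Monster.PauliBits
open Cfsg.Agent.BabyM.Model Cfsg.Agent.BabyM.Conc Cfsg.Agent.BabyM.KTab Cfsg.Agent.BabyM.GroupInst

/-- The letters act as the Pauli elements. -/
theorem rHyp : FFinal.RHyp where
  hX := by
    intro k
    fin_cases k
    · exact KQ.E_X0.trans (congrArg Cd.R (dec_X (0 : Fin 11)))
    · exact KQ.E_X1.trans (congrArg Cd.R (dec_X (1 : Fin 11)))
    · exact KQ.E_X2.trans (congrArg Cd.R (dec_X (2 : Fin 11)))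
    · exact KQ.E_X3.trans (congrArg Cd.R (dec_X (3 : Fin 11)))
    · exact KQ.E_X4.trans (congrArg Cd.R (dec_X (4 : Fin 11)))
    · exact KQ.E_X5.trans (congrArg Cd.R (dec_X (5 : Fin 11)))
    · exact KQ.E_X6.trans (congrArg Cd.R (dec_X (6 : Fin 11)))
    · exact KQ.E_X7.trans (congrArg Cd.R (dec_X (7 : Fin 11)))
    · exact KQ.E_X8.trans (congrArg Cd.R (dec_X (8 : Fin 11)))
    · exact KQ.E_X9.trans (congrArg Cd.R (dec_X (9 : Fin 11)))
    · exact KQ.E_X10.trans (congrArg Cd.R (dec_X (10 : Fin 11)))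
  hZ := by
    intro k
    fin_cases k
    · exact KQ.E_Z0.trans (congrArg Cd.R (dec_Z (0 : Fin 11)))
    · exact KQ.E_Z1.trans (congrArg Cd.R (dec_Z (1 : Fin 11)))
    · exact KQ.E_Z2.trans (congrArg Cd.R (dec_Z (2 : Fin 11)))
    · exact KQ.E_Z3.trans (congrArg Cd.R (dec_Z (3 : Fin 11)))
    · exact KQ.E_Z4.trans (congrArg Cd.R (dec_Z (4 : Fin 11)))
    · exact KQ.E_Z5.trans (congrArg Cd.R (dec_Z (5 : Fin 11)))
    · exact KQ.E_Z6.trans (congrArg Cd.R (dec_Z (6 : Fin 11)))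
    · exact KQ.E_Z7.trans (congrArg Cd.R (dec_Z (7 : Fin 11)))
    · exact KQ.E_Z8.trans (congrArg Cd.R (dec_Z (8 : Fin 11)))
    · exact KQ.E_Z9.trans (congrArg Cd.R (dec_Z (9 : Fin 11)))
    · exact KQ.E_Z10.trans (congrArg Cd.R (dec_Z (10 : Fin 11)))
  hz := KQ.E_z.trans (congrArg Cd.R KQ.dec_z)

section

variable {wt' : Lane U → ℚ} (L : KCore.Link Cd u wt' Inst.M Inst.laneB)

include L

/-- the action of `N` on the 462 neighbours -/
theorem nb : CertAsm.NbAction := ThetaN.nbAction (ker_rel L)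

/-- Field `z_d`. -/
theorem z_d : ∀ j, Inst.M.z (Inst.M.d j) = Inst.M.d j → j = Inst.M.j₀ ∨ Inst.M.d j ∈ Inst.M.E := by
  refine InstZ.z_d fun x hx h => ?_
  rw [L.mem_E]
  intro j hj
  rcases Cd.cases j with hq | hX | hU
  · rw [L.z_eq] at hx
    have h1 := Cd.R_z_q x hq
    rw [hx] at h1
    linarith
  · exact absurd hX hj
  · apply h
    rw [isU_iff] at hU
    show ((2 ^ 23 - 1) <<< 1344).testBit j.1 = true
    rw [Nat.testBit_shiftLeft, Nat.testBit_two_pow_sub_one]
    simp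
    omega

/-- **All fields of `BOrbit`.** -/
theorem bOrbit : BOrbit Inst.M := by
  haveI : Finite C := finite_C L
  have hd := CertAsm.disjoint (nb L)
  exact {
    finite := Inst.finite_J
    d_j₀ := Inst.d_j₀
    τ_isom := τ_isom
    τ_cube := ConcGrp.τ_cube
    τ_z := ConcGrp.τ_z
    τ_z_ne := ConcGrp.τ_z_ne
    τ_q := ConcGrp.τ_q
    τ_inv := ConcGrp.τ_inv
    closed := CertAsm.closed (nb L)
    disjoint := hd
    z_d := z_d L
    t_d := FFinal.t_d L rHyp
    exists_moved := InstZ.exists_moved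
    trans := TransFields.trans
    trans₂ := TransFields.trans₂
    card_D := CertAsm.card_D (nb L) (RepLink.S_card L)
    card_pairs := FFinal.card_pairs L hd (CertAsm.hN (nb L) (RepLink.S_card L)) }

/-- **All facts.** -/
theorem bAll : BAll Inst.M K₀ where
  grp := bGroup L
  rep := RepInst.bRep L
  orb := bOrbit L

theorem bTrans : BTrans Inst.M := TransFields.bTrans (bAll L)

end

end Cfsg.Agent.BabyM.OrbInst
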