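import Cfsg.Agent.BabyM.AbsRigid
import Cfsg.Agent.Monster.AbstractOrder
import Cfsg.Agent.MonsterX.SimpleCrit

/-!
`C_G(z) = C`, the order and the simplicity of `G`.
-/

set_option linter.unusedSectionVars false

namespace Cfsg.Agent.BabyM.Model

variable {W : Type} [AddCommGroup W] [Module ℚ W]

namespace BAll

variable {M : BData W} {K₀ : Type} [Group K₀] (A : BAll M K₀)
include A

theorem det_sq (g : W ≃ₗ[ℚ] W) (hg : g ∈ M.C) : LinearEquiv.det g * LinearEquiv.det g = 1 := by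
  have := A.grp.finite_C
  have h1 : IsOfFinOrder (⟨g, hg⟩ : M.C) := isOfFinOrder_of_finite _
  obtain ⟨n, hn, h2⟩ := isOfFinOrder_iff_pow_eq_one.1 h1
  have h3 : g ^ n = 1 := congrArg Subtype.val h2
  have h4 : (LinearEquiv.det g) ^ n = 1 := by rw [← map_pow, h3, map_one]
  have h5 : |((LinearEquiv.det g : ℚˣ) : ℚ)| ^ n = 1 := by
    rw [← abs_pow, ← Units.val_pow_eq_pow_val, h4]
    simp
  have h6 : |((LinearEquiv.det g : ℚˣ) : ℚ)| = 1 := (pow_eq_one_iff_of_nonneg (abs_nonneg _) hn.ne').1 h5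
  ext
  rw [Units.val_mul, ← abs_mul_abs_self, h6]
  simp

theorem det_C (g : W ≃ₗ[ℚ] W) (hg : g ∈ M.C) : LinearEquiv.det g = 1 := by
  let N : Subgroup (W ≃ₗ[ℚ] W) := M.C ⊓ (LinearEquiv.det (R := ℚ) (M := W)).ker
  have memN : ∀ x, x ∈ N ↔ x ∈ M.C ∧ LinearEquiv.det x = 1 := fun x => by
    rw [Subgroup.mem_inf, MonoidHom.mem_ker]
  have hNn : ∀ g ∈ M.C, ∀ n ∈ N, g * n * g⁻¹ ∈ N := by
    intro g hg n hn
    rw [memN] at hn ⊢
    refine ⟨M.C.mul_mem (M.C.mul_mem hg hn.1) (M.C.inv_mem hg), ?_⟩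
    rw [map_mul, map_mul, hn.2, mul_one, map_inv, mul_inv_cancel]
  have htt : M.t₀⁻¹ = M.t₀ := inv_eq_of_mul_eq_one_left A.rep.t₀_sq
  -- `Q ≤ N`
  have hQ : M.Q ≤ N := by
    have hNQ : ∀ g ∈ M.C, ∀ n ∈ N ⊓ M.Q, g * n * g⁻¹ ∈ N ⊓ M.Q := by
      intro g hg n hn
      rw [Subgroup.mem_inf] at hn ⊢
      exact ⟨hNn g hg n hn.1, A.grp.Q_normal g hg n hn.2⟩
    rcases A.grp.Q_irred (N ⊓ M.Q) inf_le_right hNQ with h | h
    · exfalso
      have h1 := A.grp.mem_of_conj M.t₀ A.rep.t₀_mem (fun g hg => by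
        have h2 : M.t₀ * (g * M.t₀ * g⁻¹) ∈ N ⊓ M.Q := by
          rw [Subgroup.mem_inf, memN]
          refine ⟨⟨M.C.mul_mem A.t₀_C (M.C.mul_mem (M.C.mul_mem hg A.t₀_C) (M.C.inv_mem hg)), ?_⟩,
            M.Q.mul_mem A.rep.t₀_mem (A.grp.Q_normal g hg _ A.rep.t₀_mem)⟩
          rw [map_mul, map_mul, map_mul, map_inv, mul_comm (LinearEquiv.det g), mul_inv_cancel_right]
          exact A.det_sq _ A.t₀_C
        have e : g * M.t₀ * g⁻¹ = M.t₀ * (M.t₀ * (g * M.t₀ * g⁻¹)) := by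
          rw [← mul_assoc M.t₀ M.t₀, A.rep.t₀_sq, one_mul]
        rcases h _ h2 with h3 | h3
        · left
          rw [e, h3, mul_one]
        · right
          rw [e, h3])
      rcases h1 with h1 | h1
      · exact A.rep.t₀_ne h1
      · exact A.rep.t₀_ne_z h1
    · rw [← h]
      exact inf_le_left
  by_cases hx : ∃ x ∈ N, x ∉ M.Q
  · obtain ⟨x, hx, hxQ⟩ := hx
    obtain ⟨n, hn, q, hq, rfl⟩ := A.grp.cover N inf_le_left hNn x hx hxQ g hg
    rw [map_mul, ((memN n).1 hn).2, ((memN q).1 (hQ hq)).2, one_mul]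
  · exfalso
    push Not at hx
    obtain ⟨π, hsurj, hker⟩ := A.grp.quot
    have : Finite K₀ := Nat.finite_of_card_ne_zero (by rw [A.grp.card]; norm_num)
    have : Fact (Nat.Prime 3) := ⟨by norm_num⟩
    obtain ⟨x, hx3⟩ := exists_prime_orderOf_dvd_card' (G := K₀) 3 (by rw [A.grp.card]; norm_num)
    obtain ⟨y, rfl⟩ := hsurj x
    have h1 : ((y : W ≃ₗ[ℚ] W) * y) ∈ N := by
      rw [memN, map_mul]
      exact ⟨M.C.mul_mem y.2 y.2, A.det_sq _ y.2⟩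
    have h2 : π (y * y) = 1 := (hker _).2 (hx _ h1)
    rw [map_mul, ← pow_two] at h2
    have h3 := orderOf_dvd_of_pow_eq_one h2
    rw [hx3] at h3
    norm_num at h3

theorem det_G (g : W ≃ₗ[ℚ] W) (hg : g ∈ M.G) : LinearEquiv.det g = 1 := by
  have h1 : M.G ≤ (LinearEquiv.det (R := ℚ) (M := W)).ker := by
    unfold BData.G
    rw [Subgroup.closure_le]
    rintro x (hx | hx)
    · exact A.det_C x hx
    · rw [Set.mem_singleton_iff.1 hx]
      have h2 : LinearEquiv.det M.τ * LinearEquiv.det M.τ * LinearEquiv.det M.τ = 1 := by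
        rw [← map_mul, ← map_mul, A.orb.τ_cube, map_one]
      have h3 : ((LinearEquiv.det M.τ : ℚˣ) : ℚ) ^ 3 = 1 := by
        have := congrArg (fun u : ℚˣ => (u : ℚ)) h2
        simp only [Units.val_mul, Units.val_one] at this
        rw [← this]
        ring
      have h4 : ((LinearEquiv.det M.τ : ℚˣ) : ℚ) = 1 := by
        have h5 : (((LinearEquiv.det M.τ : ℚˣ) : ℚ)) ^ 3 = 1 ^ 3 := by rw [h3]; norm_num
        exact (Odd.strictMono_pow (by decide : Odd 3)).injective h5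
      exact Units.ext h4
  exact h1 hg

theorem neg_notMem : negE W ∉ M.G := by
  intro h
  have h1 := A.det_G _ h
  have h2 : ((LinearEquiv.det (negE W) : ℚˣ) : ℚ) = LinearMap.det ((-1 : ℚ) • (LinearMap.id : W →ₗ[ℚ] W)) := by
    rw [LinearEquiv.coe_det]
    congr 1
    ext x
    simp [negE]
  rw [LinearMap.det_smul, LinearMap.det_id, A.rep.finrank_eq, h1] at h2
  norm_num at h2

/-- **`C_G(z) = C`** -/
theorem cent_z (g : W ≃ₗ[ℚ] W) (hg : g ∈ M.G) (h : g * M.z = M.z * g) : g ∈ M.C := by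
  rcases A.rigid g (A.G_le hg) h with h1 | h1
  · exact h1
  · exfalso
    apply A.neg_notMem
    have h2 := M.G.mul_mem (A.C_le_G h1) (M.G.inv_mem hg)
    rwa [mul_inv_cancel_right] at h2

theorem q₀_conj {q₀ : W ≃ₗ[ℚ] W} (hq₀ : q₀ ∈ M.Q) (hq₀t : q₀ * M.t₀ = M.t₀ * q₀ * M.z) :
    q₀ * M.t₀ * q₀⁻¹ = M.t₀ * M.z := by
  rw [hq₀t, mul_assoc, ← A.grp.z_comm q₀⁻¹ (M.C.inv_mem (A.grp.Q_le hq₀))]
  group

/-- the stabiliser of `d₀` and `d₁` is in `C` -/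
theorem stab_pair (g : W ≃ₗ[ℚ] W) (hg : g ∈ M.G) (h0 : g M.d₀ = M.d₀) (h1 : g M.d₁ = M.d₁) :
    g ∈ M.C := by
  refine A.cent_z g hg ?_
  obtain ⟨q₀, hq₀, hq₀d, hq₀t⟩ := A.d₁_mem'
  have h2 := A.t₀_comm g (A.G_le hg) (Or.inl h0)
  have h3 := A.conj_t g q₀ q₀ (A.G_le hg) (A.C_le (A.grp.Q_le hq₀)) (A.C_le (A.grp.Q_le hq₀))
    (Or.inl (by rw [hq₀d, h1]))
  rw [A.q₀_conj hq₀ hq₀t] at h3
  have h4 : g * (M.t₀ * M.z) = M.t₀ * M.z * g := mul_inv_eq_iff_eq_mul.1 h3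
  rw [← mul_assoc, h2, mul_assoc, mul_assoc] at h4
  exact mul_left_cancel h4

theorem span_D : Submodule.span ℚ M.D = ⊤ := by
  have hP : M.P ≤ Submodule.span ℚ M.D := Submodule.span_mono fun _ h => h.1
  have hC : ∀ g ∈ M.C, ∀ x ∈ Submodule.span ℚ M.D, g x ∈ Submodule.span ℚ M.D := by
    intro g hg x hx
    induction hx using Submodule.span_induction with
    | mem x hx => exact Submodule.subset_span (A.C_D g hg x hx)
    | zero => simp
    | add a b _ _ ha hb => rw [map_add]; exact Submodule.add_mem _ ha hb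
    | smul r a _ ha => rw [map_smul]; exact Submodule.smul_mem _ _ ha
  have hU : M.U ≤ Submodule.span ℚ M.D := A.U_le_P.trans hP
  have hE : M.E ≤ Submodule.span ℚ M.D := by
    refine Submodule.span_le.2 ?_
    rintro _ ⟨g, hg, rfl⟩
    exact hC g hg _ (hP A.e₀_mem_P)
  have hM : ∀ m, M.z m = -m → m ∈ Submodule.span ℚ M.D := by
    intro m hm
    obtain ⟨j, g, hg, h1, h2⟩ := A.orb.exists_moved
    have hdj : M.d j ∈ M.D := ⟨j, 1, M.C.one_mem, rfl⟩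
    have hs : M.d j - M.z (M.d j) ∈ Submodule.span ℚ M.D :=
      Submodule.sub_mem _ (Submodule.subset_span hdj)
        (Submodule.subset_span (A.C_D _ A.grp.z_mem_C _ hdj))
    have h3 := A.rep.irred (M.d j - M.z (M.d j)) (by rw [map_sub, A.z_z, neg_sub])
      (fun h => h2 (sub_eq_zero.1 h).symm) m hm
    refine (Submodule.span_le.2 ?_ : Submodule.span ℚ _ ≤ Submodule.span ℚ M.D) h3
    rintro _ ⟨q, hq, rfl⟩
    exact hC q (A.grp.Q_le hq) _ hs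
  rw [eq_top_iff]
  intro x _
  obtain ⟨u, hu, e, he, m, hm, rfl⟩ := A.decomp x
  exact Submodule.add_mem _ (Submodule.add_mem _ (hU hu) (hE he)) (hM m hm)

theorem finite_G : Finite M.G := by
  have hfin : Finite M.D := A.D_finite
  refine Finite.of_injective
    (fun g : M.G => fun x : M.D => (⟨(g : W ≃ₗ[ℚ] W) x, ((A.G_le g.2).2 x).2 x.2⟩ : M.D)) ?_
  intro g h hgh
  apply Subtype.ext
  ext x
  have hx : x ∈ Submodule.span ℚ M.D := by rw [A.span_D]; trivial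
  induction hx using Submodule.span_induction with
  | mem x hx => exact congrArg Subtype.val (congrFun hgh ⟨x, hx⟩)
  | zero => simp
  | add a b _ _ ha hb => rw [map_add, map_add, ha, hb]
  | smul r a _ ha => rw [map_smul, map_smul, ha]

/-- the axes of inner product `-1` with `d₀` -/
def _root_.Cfsg.Agent.BabyM.Model.BData.R (M : BData W) : Set W := {b | b ∈ M.D ∧ M.F b M.d₀ = -1}

theorem card_R : Nat.card M.R = 3968055 := by
  have hfin : Finite M.D := A.D_finite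
  have hS : ∀ s : M.S, ∃ g ∈ M.C, (s : W) = g M.d₀ := fun s => s.2
  choose g hg hgs using hS
  have e : Nat.card (M.S × M.R) = Nat.card {p : W × W // p ∈ {p : W × W | p.1 ∈ M.D ∧ p.2 ∈ M.S ∧
      M.F p.2 p.1 = -1}} := by
    refine Nat.card_congr ⟨fun p => ⟨(g p.1 p.2, p.1), A.C_D _ (hg _) _ p.2.2.1, p.1.2, ?_⟩,
      fun p => (⟨p.1.2, p.2.2.1⟩, ⟨(g ⟨p.1.2, p.2.2.1⟩)⁻¹ p.1.1,
        A.C_D _ (M.C.inv_mem (hg _)) _ p.2.1, ?_⟩), ?_, ?_⟩
    · change M.F (p.1 : W) (g p.1 p.2) = -1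
      rw [hgs p.1]
      rw [A.rep.C_isom _ (hg _), A.rep.F_symm]
      exact p.2.2.2
    · have h1 := A.rep.C_isom _ (hg ⟨p.1.2, p.2.2.1⟩) ((g ⟨p.1.2, p.2.2.1⟩)⁻¹ p.1.1) M.d₀
      rw [apply_inv_self', ← hgs ⟨p.1.2, p.2.2.1⟩] at h1
      rw [← h1, A.rep.F_symm]
      exact p.2.2.2
    · rintro ⟨s, b⟩
      simp only [Prod.mk.injEq, true_and]
      exact Subtype.ext (inv_apply_self' _ _)
    · rintro ⟨⟨a, b⟩, h⟩
      apply Subtype.ext
      simp only [Prod.mk.injEq, and_true]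
      exact apply_inv_self' _ _
  rw [Nat.card_prod] at e
  have h1 : Nat.card M.S = 9200 := by rw [Nat.card_coe_set_eq, A.rep.S_card]
  have h2 := A.orb.card_pairs
  rw [← Nat.card_coe_set_eq] at h2
  rw [h1] at e
  have h3 : 9200 * Nat.card M.R = 9200 * 3968055 := e.trans h2
  exact Nat.eq_of_mul_eq_mul_left (by norm_num) h3

/-- transitivity on the pairs of inner product `-1` -/
theorem trans_R (b : W) (hb : b ∈ M.R) : ∃ g ∈ M.G, g M.d₀ = M.d₀ ∧ g M.d₁ = b := by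
  obtain ⟨⟨j, h, hh, rfl⟩, h1⟩ := hb
  obtain ⟨g, hg, h2, h3⟩ := A.orb.trans₂ j (h⁻¹ M.d₀) ⟨h⁻¹, M.C.inv_mem hh, rfl⟩ (by
    rw [← A.rep.C_isom h hh, apply_inv_self', A.rep.F_symm, h1])
  obtain ⟨q₀, hq₀, hq₀d, hq₀t⟩ := A.d₁_mem'
  have hq₀' := A.C_le_G (A.grp.Q_le hq₀)
  have hhG := A.C_le_G hh
  have hq₀d₁ : q₀ M.d₁ = M.d₀ := by
    have h4 : q₀ M.e₀ = - M.e₀ := by
      have : q₀ M.d₀ = M.u₀ + q₀ M.e₀ := by
        unfold BData.d₀
        rw [map_add, A.rep.Q_u₀ q₀ hq₀]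
      rw [this] at hq₀d
      unfold BData.d₁ at hq₀d
      rw [sub_eq_add_neg] at hq₀d
      exact add_left_cancel hq₀d
    unfold BData.d₁ BData.d₀
    rw [map_sub, A.rep.Q_u₀ q₀ hq₀, h4, sub_neg_eq_add]
  -- `(g h⁻¹) : (h d_j, d₀) ↦ (d₀, d₁)`
  refine ⟨(g * h⁻¹)⁻¹ * q₀, M.G.mul_mem (M.G.inv_mem (M.G.mul_mem hg (M.G.inv_mem hhG))) hq₀', ?_, ?_⟩
  · rw [LinearEquiv.mul_apply, hq₀d, ← h3, ← LinearEquiv.mul_apply g h⁻¹, inv_apply_self']
  · have h5 : (g * h⁻¹) (h (M.d j)) = M.d₀ := by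
      rw [LinearEquiv.mul_apply, inv_apply_self', h2]
    rw [LinearEquiv.mul_apply, hq₀d₁, ← h5, inv_apply_self']

/-- **The order of `G`.** -/
theorem card_G : Nat.card M.G = 4154781481226426191177580544000000 := by
  have := A.finite_G
  have hKC : Nat.card (M.C.subgroupOf M.G) = Nat.card M.C := by
    refine Nat.card_congr ⟨fun x => ⟨x.1.1, x.2⟩, fun x => ⟨⟨x.1, A.C_le_G x.2⟩, x.2⟩,
      fun x => rfl, fun x => rfl⟩
  have key := Cfsg.Agent.Monster.AbstractOrder.card_group (G := M.G) (V := W)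
    (M.C.subgroupOf M.G) M.D M.S M.R M.d₀ M.d₁ (by
      ext x
      rw [A.D_eq]
      constructor
      · rintro ⟨g, hg, rfl⟩
        exact ⟨⟨g, hg⟩, rfl⟩
      · rintro ⟨g, rfl⟩
        exact ⟨g, g.2, rfl⟩) (by
      ext x
      constructor
      · rintro ⟨g, hg, rfl⟩
        exact ⟨⟨⟨g, A.C_le_G hg⟩, hg⟩, rfl⟩
      · rintro ⟨g, rfl⟩
        exact ⟨g.1, g.2, rfl⟩)
    (fun g h0 h1 => A.stab_pair g g.2 h0 h1)
    (fun k hk h0 => by
      have hk' : (k : W ≃ₗ[ℚ] W) ∈ M.C := hk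
      have h1 : (k : W ≃ₗ[ℚ] W) M.d₀ = M.d₀ := h0
      unfold BData.d₀ at h1
      rw [map_add] at h1
      obtain ⟨h2, h3⟩ := A.parts (A.C_U _ hk' _ A.u₀_mem) A.u₀_mem (A.C_E _ hk' _ A.e₀_mem)
        A.e₀_mem h1
      change (k : W ≃ₗ[ℚ] W) M.d₁ = M.d₁
      unfold BData.d₁
      rw [map_sub, h2, h3])
    (fun g h0 => by
      have h0' : (g : W ≃ₗ[ℚ] W) M.d₀ = M.d₀ := h0
      refine ⟨((A.G_le g.2).2 _).2 A.d₁_mem, ?_⟩
      change M.F ((g : W ≃ₗ[ℚ] W) M.d₁) M.d₀ = -1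
      rw [← h0', (A.G_le g.2).1, A.F_d₁_d₀])
    (fun b hb => by
      obtain ⟨g, hg, h0, h1⟩ := A.trans_R b hb
      exact ⟨⟨g, hg⟩, h0, h1⟩)
  have h1 : Nat.card M.S = 9200 := by rw [Nat.card_coe_set_eq, A.rep.S_card]
  have h2 : Nat.card M.D = 27143910000 := by rw [Nat.card_coe_set_eq, A.orb.card_D]
  rw [hKC, A.grp.card_C, h1, h2, A.card_R] at key
  refine Nat.eq_of_mul_eq_mul_right (by norm_num : 0 < 9200) ?_
  rw [key]
  norm_num

/-- **`G` is simple.** -/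
theorem simple : IsSimpleGroup M.G := by
  have := A.finite_G
  have hzG : M.z ∈ M.G := A.C_le_G A.grp.z_mem_C
  have hcent : ∀ g : M.G, g ∈ Subgroup.centralizer ({⟨M.z, hzG⟩} : Set M.G) ↔
      (g : W ≃ₗ[ℚ] W) ∈ M.C := by
    intro g
    rw [Cfsg.Agent.MonsterX.SimpleCrit.mem_cent]
    constructor
    · intro h
      exact A.cent_z g g.2 (congrArg Subtype.val h)
    · intro h
      exact Subtype.ext (A.grp.z_comm g h)
  have hQC : ∀ g : M.G, g ∈ M.Q.subgroupOf M.G ↔ (g : W ≃ₗ[ℚ] W) ∈ M.Q := fun g =>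
    Subgroup.mem_subgroupOf
  have hQG : M.Q ≤ M.G := A.grp.Q_le.trans A.C_le_G
  refine Cfsg.Agent.MonsterX.SimpleCrit.Hyp.isSimpleGroup (z := (⟨M.z, hzG⟩ : M.G))
    (Q := M.Q.subgroupOf M.G) ?_
  refine ⟨Subtype.ext A.grp.z_sq, fun h => A.grp.z_ne (congrArg Subtype.val h), ?_, A.grp.z_mem, ?_,
    ?_, ?_, ?_, ?_, ?_, ?_⟩
  · have h1 : Nat.card (M.Q.subgroupOf M.G) = 2 ^ 23 := by
      rw [← A.grp.Q_card]
      exact Nat.card_congr ⟨fun x => ⟨x.1.1, x.2⟩, fun x => ⟨⟨x.1, hQG x.2⟩, x.2⟩,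
        fun x => rfl, fun x => rfl⟩
    exact IsPGroup.of_card h1
  · intro g hg
    rw [hcent]
    exact A.grp.Q_le hg
  · intro c hc q hq
    rw [hcent] at hc
    exact A.grp.Q_normal c hc q hq
  · intro R hR hRn
    have h1 := A.grp.Q_irred (R.map M.G.subtype) (by
      rintro _ ⟨r, hr, rfl⟩
      exact hR hr) (by
      rintro g hg _ ⟨r, hr, rfl⟩
      exact ⟨_, hRn ⟨g, A.C_le_G hg⟩ ((hcent _).2 hg) r hr, rfl⟩)
    rcases h1 with h1 | h1
    · left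
      intro r hr
      rcases h1 r ⟨r, hr, rfl⟩ with h | h
      · exact Or.inl (Subtype.ext h)
      · exact Or.inr (Subtype.ext h)
    · right
      refine le_antisymm hR fun q hq => ?_
      have h2 : (q : W ≃ₗ[ℚ] W) ∈ R.map M.G.subtype := by rw [h1]; exact hq
      obtain ⟨r, hr, e⟩ := h2
      have : r = q := Subtype.ext e
      rwa [← this]
  · intro R hQR hRC hRn
    by_cases hx : ∃ x ∈ R, (x : W ≃ₗ[ℚ] W) ∉ M.Q
    · right
      obtain ⟨x, hx, hxQ⟩ := hx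
      refine le_antisymm hRC fun g hg => ?_
      rw [hcent] at hg
      obtain ⟨n, hn, q, hq, e⟩ := A.grp.cover (R.map M.G.subtype) (by
        rintro _ ⟨r, hr, rfl⟩
        exact (hcent _).1 (hRC hr)) (by
        rintro g hg _ ⟨r, hr, rfl⟩
        exact ⟨_, hRn ⟨g, A.C_le_G hg⟩ ((hcent _).2 hg) r hr, rfl⟩) x ⟨x, hx, rfl⟩ hxQ g hg
      obtain ⟨r, hr, rfl⟩ := hn
      have h1 : g = r * ⟨q, hQG hq⟩ := Subtype.ext e
      rw [h1]
      exact R.mul_mem hr (hQR hq)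
    · left
      push Not at hx
      exact le_antisymm (fun r hr => hx r hr) hQR
  · exact ⟨⟨M.τ, A.τ_mem_G⟩, A.orb.τ_z, fun h => A.orb.τ_z_ne (congrArg Subtype.val h)⟩
  · obtain ⟨q, hq, h1, h2⟩ := A.orb.τ_q
    exact ⟨⟨q, hQG hq⟩, hq, ⟨M.τ, A.τ_mem_G⟩, (hcent _).2 h1, h2⟩
  · obtain ⟨y, hy, h⟩ := A.grp.exists_noncomm _ A.rep.t₀_mem A.rep.t₀_ne A.rep.t₀_ne_z
    exact ⟨⟨M.t₀, hQG A.rep.t₀_mem⟩, A.rep.t₀_mem, ⟨y, hQG hy⟩, hy,
      fun e => h (congrArg Subtype.val e)⟩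

end BAll

end Cfsg.Agent.BabyM.Model
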