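import Cfsg.Agent.BabyM.QData
import Cfsg.Agent.BabyM.Model

/-!
# The group `C = 2^{1+22}.Co2` and its action on the coordinates (helper235)

`Hyp`: a group `K` of isometries of `ι → ℚ` containing the Pauli group `R`, such that every element normalises `R` and permutes
the `X`-coordinates and the vectors `u i` compatibly with signs.  From this most of the fields of `BGroup` and `BRep` are
derived.
-/

set_option autoImplicit false

namespace Cfsg.Agent.BabyM.KCore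

open Cfsg.Agent.Monster Cfsg.Agent.Monster.PauliBasic Cfsg.Agent.Monster.PauliRep Cfsg.Agent.Monster.PauliClif
open Cfsg.Agent.BabyM.QAct Cfsg.Agent.BabyM.QData Cfsg.Agent.BabyM.QData.Good Cfsg.Agent.BabyM.Model

/-! ### Automorphisms induced by conjugation -/

/-- An automorphism of `V` which conjugates generators of `R Q` into `R Q` induces an automorphism of `Q`. -/
theorem exists_aut {Q : Type*} [Group Q] [Finite Q] {G : Type*} [Group G] (R : Q →* G) (hR : Function.Injective R)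
    (g : G) {S : Set Q} (hS : Subgroup.closure S = ⊤) (h : ∀ x ∈ S, ∃ y, g * R x = R y * g) :
    ∃ α : MulAut Q, ∀ x, g * R x = R (α x) * g := by
  have hall : ∀ x, ∃ y, g * R x = R y * g := by
    intro x
    have hx : x ∈ Subgroup.closure S := by rw [hS]; trivial
    induction hx using Subgroup.closure_induction with
    | mem x hx => exact h x hx
    | one => exact ⟨1, by simp⟩
    | mul a b _ _ iha ihb =>
      obtain ⟨y, hy⟩ := iha
      obtain ⟨z, hz⟩ := ihb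
      exact ⟨y * z, by rw [map_mul, ← mul_assoc, hy, mul_assoc, hz, ← mul_assoc, map_mul]⟩
    | inv a _ iha =>
      obtain ⟨y, hy⟩ := iha
      refine ⟨y⁻¹, ?_⟩
      rw [map_inv, map_inv, eq_inv_mul_iff_mul_eq, ← mul_assoc, ← hy, mul_inv_cancel_right]
  choose a ha using hall
  have hinj : Function.Injective a := by
    intro x y hxy
    apply hR
    have h1 := ha x
    rw [hxy, ← ha y] at h1
    exact mul_left_cancel h1
  have hmul : ∀ x y, a (x * y) = a x * a y := by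
    intro x y
    apply hR
    have h1 := ha (x * y)
    rw [map_mul, ← mul_assoc, ha x, mul_assoc, ha y, ← mul_assoc, ← map_mul] at h1
    exact (mul_right_cancel h1).symm
  let f : Q →* Q := MonoidHom.mk' a hmul
  exact ⟨MulEquiv.ofBijective f (Finite.injective_iff_bijective.mp hinj), ha⟩

/-- Two different nonzero classes are separated by the Pauli group. -/
theorem exists_form_sep {n : ℕ} {v w : Pauli n} (hw : ab w ≠ 0) (hvw : ab v ≠ ab w) :
    ∃ x : Pauli n, Pauli.form x v = 0 ∧ Pauli.form x w = 1 := by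
  obtain ⟨x₁, h₁⟩ := exists_form_eq_one hw
  have form_mul_right : ∀ x : Pauli n, Pauli.form x (v * w) = Pauli.form x v + Pauli.form x w := by
    intro x
    rw [form_comm, form_mul_left, form_comm v, form_comm w]
  rcases zmod2_cases (Pauli.form x₁ v) with h0 | h0
  · exact ⟨x₁, h0, h₁⟩
  · have hne : ab (v * w) ≠ 0 := by
      rw [ab_mul]
      intro h
      apply hvw
      have h2 : ab w + ab w = 0 := Prod.ext (add_self _) (add_self _)
      calc ab v = ab v + (ab w + ab w) := by rw [h2, add_zero]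
        _ = ab v + ab w + ab w := by rw [add_assoc]
        _ = ab w := by rw [h, zero_add]
    obtain ⟨x₂, h₂⟩ := exists_form_eq_one hne
    rw [form_mul_right] at h₂
    rcases zmod2_cases (Pauli.form x₂ v) with h3 | h3
    · refine ⟨x₂, h3, ?_⟩
      rw [h3, zero_add] at h₂; exact h₂
    · refine ⟨x₁ * x₂, ?_, ?_⟩
      · rw [form_mul_left, h0, h3]; decide
      · rw [form_mul_left, h₁]
        have : Pauli.form x₂ w = 0 := by
          rw [h3] at h₂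
          have h4 : ∀ t : ZMod 2, 1 + t = 1 → t = 0 := by decide
          exact h4 _ h₂
        rw [this, add_zero]

variable {n : ℕ} {ι : Type} [Fintype ι] [DecidableEq ι]

/-- The diagonal form with weights `wt`. -/
noncomputable def wform (wt : ι → ℚ) (f g : ι → ℚ) : ℚ := ∑ i, wt i * (f i * g i)

/-- The hypotheses on `K`. -/
structure Hyp (C : Coord n ι) (u : ι → ι → ℚ) (wt : ι → ℚ) (K : Subgroup ((ι → ℚ) ≃ₗ[ℚ] (ι → ℚ))) : Prop where
  good : Good C u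
  wt_pos : ∀ i, 0 < wt i
  Q_le : ∀ x, C.R x ∈ K
  fact : ∀ g ∈ K, ∃ α : MulAut (Pauli n), (∀ x, g * C.R x = C.R (α x) * g) ∧ XFact C u g α
  isom : ∀ g ∈ K, ∀ f f', wform wt (g f) (g f') = wform wt f f'

namespace Hyp

variable {C : Coord n ι} {u : ι → ι → ℚ} {wt : ι → ℚ} {K : Subgroup ((ι → ℚ) ≃ₗ[ℚ] (ι → ℚ))} (h : Hyp C u wt K)

include h

theorem mem_Nrm {g : (ι → ℚ) ≃ₗ[ℚ] (ι → ℚ)} (hg : g ∈ K) : g ∈ h.good.data.Nrm := by
  obtain ⟨α, h1, h2⟩ := h.fact g hg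
  exact ⟨α, h.good.compat h1 h2⟩

/-- **The kernel on the `23`-part is the Pauli group.** -/
theorem exists_eq_R {g : (ι → ℚ) ≃ₗ[ℚ] (ι → ℚ)} (hg : g ∈ K) (h1 : ∀ i, C.isX i → g (u i) = u i) :
    ∃ y, g = C.R y := by
  have key := Spin.Data.exists_eq_R h.good.data (fun f => wform wt f f)
    (by
      intro c s
      show wform wt (c • s) (c • s) = c ^ 2 * wform wt s s
      unfold wform
      rw [Finset.mul_sum]
      apply Finset.sum_congr rfl
      intro i _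
      simp only [Pi.smul_apply, smul_eq_mul]
      ring)
    (fun y s => h.isom _ (h.Q_le y) s s)
    (s0 := Pi.single (C.ql 0) 1)
    (by
      intro i hi
      have : i ≠ C.ql 0 := fun h => hi (h ▸ C.isq_ql 0)
      rw [Pi.single_eq_of_ne this])
    (by
      show wform wt (Pi.single (C.ql 0) 1) (Pi.single (C.ql 0) 1) ≠ 0
      unfold wform
      rw [Finset.sum_eq_single (C.ql 0)]
      · rw [Pi.single_eq_same]
        have := h.wt_pos (C.ql 0)
        simp [this.ne']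
      · intro j _ hj
        rw [Pi.single_eq_of_ne hj, mul_zero, mul_zero]
      · intro hh; exact absurd (Finset.mem_univ _) hh)
    (h.mem_Nrm hg)
    (by
      rintro x ⟨i, hi, hxi⟩
      show g (vv C u x) = vv C u x
      unfold vv
      rw [h.good.lane_eq hi hxi]
      exact h1 i hi)
    (by
      rintro x ⟨i, hi, hxi⟩
      show YY C (Pauli.z n * x * (Pauli.z n)⁻¹) = YY C x
      have : Pauli.z n * x * (Pauli.z n)⁻¹ = x := by
        rw [Pauli.z_mul, ← Pauli.mul_z, mul_inv_cancel_right]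
      rw [this])
    (fun s => h.isom g hg s s)
  exact key

theorem fact_X {g : (ι → ℚ) ≃ₗ[ℚ] (ι → ℚ)} (hg : g ∈ K) {i : ι} (hi : C.isX i) :
    ∃ j, C.isX j ∧ ∃ s t : ZMod 2, g * C.R (C.c i) * g⁻¹ = C.R (⟨s, 0, 0⟩ * C.c j) ∧ g (u i) = sg ℚ t • u j ∧
      g (Pi.single i 1) = sg ℚ (s + t) • Pi.single j 1 := by
  obtain ⟨α, h1, h2⟩ := h.fact g hg
  obtain ⟨j, hj, s, t, h3, h4, h5⟩ := h2 i hi
  refine ⟨j, hj, s, t, ?_, h4, h5⟩
  rw [h1, h3, mul_inv_cancel_right]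

theorem z_comm {g : (ι → ℚ) ≃ₗ[ℚ] (ι → ℚ)} (hg : g ∈ K) : g * C.R (Pauli.z n) = C.R (Pauli.z n) * g := by
  obtain ⟨α, h1, -⟩ := h.fact g hg
  rw [h1, aut_z]

omit h [Fintype ι] in
theorem single_inj {i j : ι} {a : ℚ} (ha : a ≠ 0) (hij : (Pi.single i a : ι → ℚ) = Pi.single j a ∨
    (Pi.single i a : ι → ℚ) = - Pi.single j a) : i = j := by
  by_contra hne
  rcases hij with h1 | h1
  · have := congrFun h1 i
    rw [Pi.single_eq_same, Pi.single_eq_of_ne hne] at this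
    exact ha this
  · have := congrFun h1 i
    rw [Pi.neg_apply, Pi.single_eq_same, Pi.single_eq_of_ne hne, neg_zero] at this
    exact ha this

end Hyp

/-- The link with the interface `BData`. -/
structure Link (C : Coord n ι) (u : ι → ι → ℚ) (wt : ι → ℚ) (M : BData (ι → ℚ)) (i₀ : ι) : Prop where
  hyp : Hyp C u wt M.C
  F_eq : ∀ x y, M.F x y = wform wt x y
  Q_eq : M.Q = C.R.range
  z_eq : M.z = C.R (Pauli.z n)
  t₀_eq : M.t₀ = C.R (C.c i₀)
  u₀_eq : M.u₀ = u i₀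
  e₀_eq : M.e₀ = Pi.single i₀ 8
  i₀_X : C.isX i₀
  c_sq : C.c i₀ * C.c i₀ = 1
  trans : ∀ i, C.isX i → ∃ g ∈ M.C, g (u i₀) = u i ∨ g (u i₀) = - u i

namespace Link

variable {C : Coord n ι} {u : ι → ι → ℚ} {wt : ι → ℚ} {M : BData (ι → ℚ)} {i₀ : ι} (h : Link C u wt M i₀)

include h

theorem mem_Q {q : (ι → ℚ) ≃ₗ[ℚ] (ι → ℚ)} : q ∈ M.Q ↔ ∃ y, C.R y = q := by
  rw [h.Q_eq]; exact MonoidHom.mem_range

theorem z_mem : M.z ∈ M.Q := by
  rw [h.z_eq, h.mem_Q]; exact ⟨_, rfl⟩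

theorem z_ne : M.z ≠ 1 := by
  rw [h.z_eq, ← map_one C.R]
  exact fun h1 => Pauli.z_ne_one (C.R_injective h1)

theorem z_sq : M.z * M.z = 1 := by
  rw [h.z_eq, ← map_mul, Pauli.z_sq, map_one]

theorem Q_le : M.Q ≤ M.C := by
  intro q hq
  obtain ⟨y, rfl⟩ := h.mem_Q.mp hq
  exact h.hyp.Q_le y

theorem Q_card : Nat.card M.Q = 2 ^ (2 * n + 1) := by
  rw [h.Q_eq, ← Pauli.card n]
  exact (Nat.card_congr (MonoidHom.ofInjective C.R_injective).toEquiv).symm

theorem z_comm : ∀ g ∈ M.C, g * M.z = M.z * g := by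
  intro g hg
  rw [h.z_eq]; exact h.hyp.z_comm hg

theorem Q_comm : ∀ x ∈ M.Q, ∀ y ∈ M.Q, x * y = y * x ∨ x * y = y * x * M.z := by
  intro x hx y hy
  obtain ⟨a, rfl⟩ := h.mem_Q.mp hx
  obtain ⟨b, rfl⟩ := h.mem_Q.mp hy
  rw [h.z_eq, ← map_mul, ← map_mul, ← map_mul]
  rcases zmod2_cases (Pauli.form a b) with h0 | h0
  · left
    rw [(Pauli.commute_iff a b).mpr h0]
  · right
    congr 1
    rw [Pauli.mul_eq_mul_mul_form, h0, Pauli.mul_z, ← Pauli.z_mul]
    rfl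

theorem Q_sq : ∀ x ∈ M.Q, x * x = 1 ∨ x * x = M.z := by
  intro x hx
  obtain ⟨a, rfl⟩ := h.mem_Q.mp hx
  rw [h.z_eq, ← map_mul, Pauli.sq_eq]
  rcases zmod2_cases (a.b ⬝ᵥ a.a) with h0 | h0
  · left; rw [h0]; exact map_one C.R
  · right; rw [h0]; rfl

theorem Q_center : ∀ x ∈ M.Q, (∀ y ∈ M.Q, x * y = y * x) → x = 1 ∨ x = M.z := by
  intro x hx hc
  obtain ⟨a, rfl⟩ := h.mem_Q.mp hx
  have ha : a ∈ Subgroup.center (Pauli n) := by
    rw [Subgroup.mem_center_iff]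
    intro b
    apply C.R_injective
    rw [map_mul, map_mul]
    exact (hc _ (h.mem_Q.mpr ⟨b, rfl⟩)).symm
  rcases (Pauli.mem_center_iff' a).mp ha with rfl | rfl
  · left; exact map_one C.R
  · right; exact h.z_eq.symm

theorem ker {g : (ι → ℚ) ≃ₗ[ℚ] (ι → ℚ)} (hg : g ∈ M.C) :
    (∀ i, C.isX i → g (u i) = u i) ↔ g ∈ M.Q := by
  constructor
  · intro h1
    obtain ⟨y, rfl⟩ := h.hyp.exists_eq_R hg h1
    exact h.mem_Q.mpr ⟨y, rfl⟩
  · intro h1 i hi
    obtain ⟨y, rfl⟩ := h.mem_Q.mp h1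
    exact R_fix y (fun j hj => h.hyp.good.u_supp i j hi hj)

/-- The image of the base axis. -/
theorem base {g : (ι → ℚ) ≃ₗ[ℚ] (ι → ℚ)} (hg : g ∈ M.C) {i : ι} (hi : C.isX i) :
    ∃ j, C.isX j ∧ ∃ s t : ZMod 2, g * C.R (C.c i) * g⁻¹ = C.R (⟨s, 0, 0⟩ * C.c j) ∧ g (u i) = sg ℚ t • u j ∧
      g (Pi.single i 8) = sg ℚ (s + t) • Pi.single j 8 := by
  obtain ⟨j, hj, s, t, h1, h2, h3⟩ := h.hyp.fact_X hg hi
  refine ⟨j, hj, s, t, h1, h2, ?_⟩
  have h4 : ∀ k : ι, (Pi.single k 8 : ι → ℚ) = (8 : ℚ) • Pi.single k 1 := by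
    intro k
    rw [← Pi.single_smul', smul_eq_mul, mul_one]
  rw [h4, h4, map_smul, h3, smul_comm]

theorem u_eq_of {j k : ι} (hj : C.isX j) (hk : C.isX k) {a b : ZMod 2} (hjk : sg ℚ a • u j = sg ℚ b • u k) : j = k := by
  symm
  apply h.hyp.good.u_inj k j hk hj
  rcases zmod2_cases a with rfl | rfl <;> rcases zmod2_cases b with rfl | rfl <;>
    simp only [sg_zero, sg_one, one_smul, neg_smul] at hjk
  · exact Or.inl hjk
  · exact Or.inr hjk
  · right; rw [← hjk, neg_neg]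
  · left; exact neg_injective hjk

theorem u₀_trans {g : (ι → ℚ) ≃ₗ[ℚ] (ι → ℚ)} (hg : g ∈ M.C) {k : ι} (hk : C.isX k)
    (hgu : g (u i₀) = u k ∨ g (u i₀) = - u k) :
    ∃ s t : ZMod 2, g * C.R (C.c i₀) * g⁻¹ = C.R (⟨s, 0, 0⟩ * C.c k) ∧ g (u i₀) = sg ℚ t • u k ∧
      g (Pi.single i₀ 8) = sg ℚ (s + t) • Pi.single k 8 := by
  obtain ⟨j, hj, s, t, h1, h2, h3⟩ := h.base hg h.i₀_X
  have hjk : j = k := by
    rcases hgu with h4 | h4
    · apply h.u_eq_of hj hk (a := t) (b := 0)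
      rw [← h2, h4, sg_zero, one_smul]
    · apply h.u_eq_of hj hk (a := t) (b := 1)
      rw [← h2, h4, sg_one, neg_smul, one_smul]
  subst hjk
  exact ⟨s, t, h1, h2, h3⟩

/-- the `23`-part -/
theorem mem_U {f : ι → ℚ} : f ∈ M.U ↔ ∀ j, ¬ C.isU j → f j = 0 := by
  constructor
  · intro hf
    unfold BData.U at hf
    induction hf using Submodule.span_induction with
    | mem x hx =>
      obtain ⟨g, hg, rfl⟩ := hx
      intro j hj
      obtain ⟨k, hk, s, t, -, h2, -⟩ := h.base hg h.i₀_X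
      rw [h.u₀_eq, h2, Pi.smul_apply, h.hyp.good.u_supp k j hk hj, smul_zero]
    | zero => intro j _; rfl
    | add x y _ _ hx hy => intro j hj; rw [Pi.add_apply, hx j hj, hy j hj, add_zero]
    | smul a x _ hx => intro j hj; rw [Pi.smul_apply, hx j hj, smul_zero]
  · intro hf
    have hu : ∀ i, C.isX i → u i ∈ M.U := by
      intro i hi
      obtain ⟨g, hg, hgi⟩ := h.trans i hi
      have h1 : g (u i₀) ∈ M.U := Submodule.subset_span ⟨g, hg, by rw [h.u₀_eq]⟩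
      rcases hgi with h2 | h2
      · rw [← h2]; exact h1
      · rw [h2] at h1; exact (Submodule.neg_mem_iff _).mp h1
    have hf2 : f = ∑ i, f i • (Pi.single i 1 : ι → ℚ) := by
      funext j
      simp [Finset.sum_apply, Pi.single_apply]
    rw [hf2]
    apply Submodule.sum_mem
    intro i _
    by_cases hi : C.isU i
    · apply Submodule.smul_mem
      have h3 := h.hyp.good.u_span i hi
      refine Submodule.span_le.mpr ?_ h3
      rintro _ ⟨j, hj, rfl⟩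
      exact hu j hj
    · rw [hf i hi, zero_smul]; exact Submodule.zero_mem _

theorem mem_E {f : ι → ℚ} : f ∈ M.E ↔ ∀ j, ¬ C.isX j → f j = 0 := by
  constructor
  · intro hf
    unfold BData.E at hf
    induction hf using Submodule.span_induction with
    | mem x hx =>
      obtain ⟨g, hg, rfl⟩ := hx
      intro j hj
      obtain ⟨k, hk, s, t, -, -, h2⟩ := h.base hg h.i₀_X
      have hjk : j ≠ k := fun h => hj (h ▸ hk)
      rw [h.e₀_eq, h2, Pi.smul_apply, Pi.single_eq_of_ne hjk, smul_zero]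
    | zero => intro j _; rfl
    | add x y _ _ hx hy => intro j hj; rw [Pi.add_apply, hx j hj, hy j hj, add_zero]
    | smul a x _ hx => intro j hj; rw [Pi.smul_apply, hx j hj, smul_zero]
  · intro hf
    have hu : ∀ i, C.isX i → (Pi.single i 8 : ι → ℚ) ∈ M.E := by
      intro i hi
      obtain ⟨g, hg, hgi⟩ := h.trans i hi
      obtain ⟨s, t, -, -, h2⟩ := h.u₀_trans hg hi hgi
      have h1 : g (Pi.single i₀ 8) ∈ M.E := Submodule.subset_span ⟨g, hg, by rw [h.e₀_eq]⟩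
      rw [h2] at h1
      rcases sg_eq_or ℚ (s + t) with h3 | h3
      · rw [h3, one_smul] at h1; exact h1
      · rw [h3, neg_smul, one_smul] at h1; exact (Submodule.neg_mem_iff _).mp h1
    have hf2 : f = ∑ i, (f i / 8) • (Pi.single i 8 : ι → ℚ) := by
      funext j
      rw [Finset.sum_apply, Finset.sum_eq_single j]
      · rw [Pi.smul_apply, Pi.single_eq_same, smul_eq_mul]; ring
      · intro i _ hi
        rw [Pi.smul_apply, Pi.single_eq_of_ne hi.symm, smul_zero]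
      · intro hh; exact absurd (Finset.mem_univ _) hh
    rw [hf2]
    apply Submodule.sum_mem
    intro i _
    by_cases hi : C.isX i
    · exact Submodule.smul_mem _ _ (hu i hi)
    · rw [hf i hi, zero_div, zero_smul]; exact Submodule.zero_mem _

theorem fix_z : ∀ x, M.z x = x → ∃ a ∈ M.U, ∃ e ∈ M.E, x = a + e := by
  classical
  intro x hx
  rw [h.z_eq] at hx
  refine ⟨fun i => if C.isU i then x i else 0, ?_, fun i => if C.isX i then x i else 0, ?_, ?_⟩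
  · rw [h.mem_U]; intro j hj; simp [hj]
  · rw [h.mem_E]; intro j hj; simp [hj]
  · funext i
    show x i = (if C.isU i then x i else 0) + (if C.isX i then x i else 0)
    rcases C.cases i with hq | hX | hU
    · have h1 := C.R_z_q x hq
      rw [hx] at h1
      have h2 : ¬ C.isU i := fun hh => hh.1 hq
      have h3 : ¬ C.isX i := fun hh => hh.1 hq
      rw [if_neg h2, if_neg h3]
      linarith
    · have h2 : ¬ C.isU i := fun hh => hX.2 hh.2
      rw [if_neg h2, if_pos hX, zero_add]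
    · have h2 : ¬ C.isX i := fun hh => hh.2 hU.2
      rw [if_pos hU, if_neg h2, add_zero]

theorem F_symm : ∀ x y, M.F x y = M.F y x := by
  intro x y
  rw [h.F_eq, h.F_eq]
  unfold wform
  apply Finset.sum_congr rfl
  intro i _; ring

theorem F_single (x : ι → ℚ) (i : ι) (a : ℚ) : M.F x (Pi.single i a) = wt i * (x i * a) := by
  rw [h.F_eq]
  unfold wform
  rw [Finset.sum_eq_single i]
  · rw [Pi.single_eq_same]
  · intro j _ hj; rw [Pi.single_eq_of_ne hj]; ring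
  · intro hh; exact absurd (Finset.mem_univ _) hh

theorem F_nondeg : ∀ x, (∀ y, M.F x y = 0) → x = 0 := by
  intro x hx
  funext i
  have h1 := hx (Pi.single i 1)
  rw [h.F_single] at h1
  have h2 := h.hyp.wt_pos i
  rcases mul_eq_zero.mp h1 with h3 | h3
  · exact absurd h3 h2.ne'
  · rw [mul_one] at h3; exact h3

theorem C_isom : ∀ g ∈ M.C, ∀ x y, M.F (g x) (g y) = M.F x y := by
  intro g hg x y
  rw [h.F_eq, h.F_eq]; exact h.hyp.isom g hg x y

theorem e₀_norm (hw : wt i₀ = 1 / 16) : M.F M.e₀ M.e₀ = 4 := by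
  rw [h.e₀_eq, h.F_single, Pi.single_eq_same, hw]; norm_num

theorem Q_u₀ : ∀ q ∈ M.Q, q M.u₀ = M.u₀ := by
  intro q hq
  obtain ⟨y, rfl⟩ := h.mem_Q.mp hq
  rw [h.u₀_eq]
  exact R_fix y (fun j hj => h.hyp.good.u_supp i₀ j h.i₀_X hj)

theorem R_e₀ (y : Pauli n) : C.R y M.e₀ = sg ℚ (Pauli.form y (C.c i₀)) • M.e₀ := by
  rw [h.e₀_eq]; exact R_single y h.i₀_X.1 8

theorem z_e₀ : M.z M.e₀ = M.e₀ := by
  rw [h.z_eq, h.R_e₀, form_z_left, sg_zero, one_smul]

theorem t₀_mem : M.t₀ ∈ M.Q := by rw [h.t₀_eq, h.mem_Q]; exact ⟨_, rfl⟩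

theorem t₀_ne : M.t₀ ≠ 1 := by
  rw [h.t₀_eq, ← map_one C.R]
  intro h1
  have := C.R_injective h1
  exact h.i₀_X.2 (by rw [this]; rfl)

theorem t₀_ne_z : M.t₀ ≠ M.z := by
  rw [h.t₀_eq, h.z_eq]
  intro h1
  have := C.R_injective h1
  exact h.i₀_X.2 (by rw [this]; rfl)

theorem t₀_sq : M.t₀ * M.t₀ = 1 := by
  rw [h.t₀_eq, ← map_mul, h.c_sq, map_one]

theorem comm_iff (y : Pauli n) : C.R y * M.t₀ = M.t₀ * C.R y ↔ Pauli.form y (C.c i₀) = 0 := by
  rw [h.t₀_eq, ← map_mul, ← map_mul, ← Pauli.commute_iff]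
  exact C.R_injective.eq_iff

theorem Q_e₀_pos : ∀ q ∈ M.Q, q * M.t₀ = M.t₀ * q → q M.e₀ = M.e₀ := by
  intro q hq hc
  obtain ⟨y, rfl⟩ := h.mem_Q.mp hq
  rw [h.R_e₀, (h.comm_iff y).mp hc, sg_zero, one_smul]

theorem Q_e₀_neg : ∀ q ∈ M.Q, q * M.t₀ ≠ M.t₀ * q → q M.e₀ = - M.e₀ := by
  intro q hq hc
  obtain ⟨y, rfl⟩ := h.mem_Q.mp hq
  have h1 : Pauli.form y (C.c i₀) = 1 := by
    rcases zmod2_cases (Pauli.form y (C.c i₀)) with h0 | h0
    · exact absurd ((h.comm_iff y).mpr h0) hc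
    · exact h0
  rw [h.R_e₀, h1, sg_one, neg_smul, one_smul]

theorem sg_smul_eq (s : ZMod 2) (x : ι → ℚ) : sg ℚ s • x = x ∨ sg ℚ s • x = - x := by
  rcases sg_eq_or ℚ s with h1 | h1
  · left; rw [h1, one_smul]
  · right; rw [h1, neg_smul, one_smul]

theorem stab_u₀ : ∀ g ∈ M.C, (g M.u₀ = M.u₀ ∨ g M.u₀ = - M.u₀) → g M.e₀ = M.e₀ ∨ g M.e₀ = - M.e₀ := by
  intro g hg hgu
  rw [h.u₀_eq] at hgu
  obtain ⟨s, t, -, -, h3⟩ := h.u₀_trans hg h.i₀_X hgu
  rw [h.e₀_eq, h3]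
  exact h.sg_smul_eq _ _

theorem stab_e₀ : ∀ g ∈ M.C, (g M.e₀ = M.e₀ ∨ g M.e₀ = - M.e₀) → g M.u₀ = M.u₀ ∨ g M.u₀ = - M.u₀ := by
  intro g hg hge
  obtain ⟨j, hj, s, t, -, h2, h3⟩ := h.base hg h.i₀_X
  rw [h.e₀_eq, h3] at hge
  have hj0 : j = i₀ := by
    apply Hyp.single_inj (ι := ι) (a := 8) (by norm_num)
    rcases sg_eq_or ℚ (s + t) with h4 | h4
    · rw [h4, one_smul] at hge; exact hge
    · rw [h4, neg_smul, one_smul] at hge
      rcases hge with h5 | h5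
      · right; rw [← h5, neg_neg]
      · left; exact neg_injective h5
  subst hj0
  rw [h.u₀_eq, h2]
  exact h.sg_smul_eq _ _

theorem sep : ∀ g ∈ M.C, g M.e₀ ≠ M.e₀ → g M.e₀ ≠ - M.e₀ →
    ∃ q ∈ M.Q, q M.e₀ = M.e₀ ∧ q (g M.e₀) = - g M.e₀ := by
  intro g hg h1 h2
  obtain ⟨j, hj, s, t, -, -, h3⟩ := h.base hg h.i₀_X
  have hj0 : j ≠ i₀ := by
    rintro rfl
    rw [h.e₀_eq, h3] at h1 h2
    rcases h.sg_smul_eq (s + t) (Pi.single j 8) with h4 | h4
    · exact h1 h4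
    · exact h2 h4
  obtain ⟨y, hy1, hy2⟩ := exists_form_sep (v := C.c i₀) (w := C.c j) hj.2
    (fun hab => hj0 (h.hyp.good.c_inj _ _ h.i₀_X hj hab).symm)
  refine ⟨C.R y, h.mem_Q.mpr ⟨y, rfl⟩, ?_, ?_⟩
  · rw [h.R_e₀, hy1, sg_zero, one_smul]
  · rw [h.e₀_eq, h3, map_smul, R_single y hj.1, hy2, sg_one, neg_smul, one_smul, smul_neg]

/-- values at a `U`-coordinate and at an `X`-coordinate -/
theorem ue_split {a b : ι → ℚ} (ha : ∀ j, ¬ C.isU j → a j = 0) (hb : ∀ j, ¬ C.isX j → b j = 0)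
    {a' b' : ι → ℚ} (ha' : ∀ j, ¬ C.isU j → a' j = 0) (hb' : ∀ j, ¬ C.isX j → b' j = 0)
    (hab : a + b = a' + b') : a = a' ∧ b = b' := by
  have h1 : ∀ i, a i + b i = a' i + b' i := fun i => congrFun hab i
  constructor
  · funext i
    by_cases hi : C.isU i
    · have h2 := h1 i
      rw [hb i (fun hh => hh.2 hi.2), hb' i (fun hh => hh.2 hi.2), add_zero, add_zero] at h2
      exact h2
    · rw [ha i hi, ha' i hi]
  · funext i
    by_cases hi : C.isX i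
    · have h2 := h1 i
      rw [ha i (fun hh => hi.2 hh.2), ha' i (fun hh => hi.2 hh.2), zero_add, zero_add] at h2
      exact h2
    · rw [hb i hi, hb' i hi]

theorem u_supp₀ {k : ι} (hk : C.isX k) (a : ℚ) : ∀ j, ¬ C.isU j → (a • u k) j = 0 := by
  intro j hj; rw [Pi.smul_apply, h.hyp.good.u_supp k j hk hj, smul_zero]

omit h in
theorem e_supp₀ {k : ι} (hk : C.isX k) (a b : ℚ) : ∀ j, ¬ C.isX j → (a • (Pi.single k b : ι → ℚ)) j = 0 := by
  intro j hj
  have hjk : j ≠ k := fun h => hj (h ▸ hk)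
  rw [Pi.smul_apply, Pi.single_eq_of_ne hjk, smul_zero]

theorem t₀_comm : ∀ g ∈ M.C, (g M.d₀ = M.d₀ ∨ g M.d₀ = - M.d₀) → g * M.t₀ = M.t₀ * g := by
  intro g hg hgd
  obtain ⟨j, hj, s, t, h1, h2, h3⟩ := h.base hg h.i₀_X
  unfold BData.d₀ at hgd
  rw [h.u₀_eq, h.e₀_eq, map_add, h2, h3] at hgd
  obtain ⟨c, hc1, hc2⟩ : ∃ c : ZMod 2, sg ℚ t • u j = sg ℚ c • u i₀ ∧
      sg ℚ (s + t) • (Pi.single j 8 : ι → ℚ) = sg ℚ c • Pi.single i₀ 8 := by
    rcases hgd with hgd | hgd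
    · refine ⟨0, ?_⟩
      apply h.ue_split (h.u_supp₀ hj _) (e_supp₀ hj _ _) (h.u_supp₀ h.i₀_X _) (e_supp₀ h.i₀_X _ _)
      rw [hgd, sg_zero, one_smul, one_smul]
    · refine ⟨1, ?_⟩
      apply h.ue_split (h.u_supp₀ hj _) (e_supp₀ hj _ _) (h.u_supp₀ h.i₀_X _) (e_supp₀ h.i₀_X _ _)
      rw [hgd, sg_one, neg_smul, one_smul, neg_smul, one_smul, neg_add]
  have hj0 : j = i₀ := h.u_eq_of hj h.i₀_X hc1
  subst hj0
  have hs1 : sg ℚ (s + t) = sg ℚ c := by
    have h5 := congrFun hc2 j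
    rw [Pi.smul_apply, Pi.smul_apply, Pi.single_eq_same, smul_eq_mul, smul_eq_mul] at h5
    linarith
  have hs2 : sg ℚ t = sg ℚ c := by
    by_contra hne
    have h5 : (sg ℚ t - sg ℚ c) • u j = 0 := by rw [sub_smul, hc1, sub_self]
    rcases smul_eq_zero.mp h5 with h6 | h6
    · exact hne (sub_eq_zero.mp h6)
    · exact h.hyp.good.u_ne j hj h6
  have hs0 : s = 0 := by
    have h2' : (2 : ℚ) ≠ 0 := by norm_num
    have h5 : s + t = t := sg_injective h2' (hs1.trans hs2.symm)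
    exact add_eq_right.mp h5
  rw [h.t₀_eq]
  rw [hs0] at h1
  have h6 : (⟨0, 0, 0⟩ : Pauli n) * C.c j = C.c j := one_mul _
  rw [h6] at h1
  rw [mul_inv_eq_iff_eq_mul] at h1
  exact h1

theorem neg (hneg : ∃ g ∈ M.C, g (u i₀) = - u i₀) : ∃ g ∈ M.C, g M.d₀ = - M.d₀ := by
  obtain ⟨g, hg, hgu⟩ := hneg
  obtain ⟨s, t, -, h2, h3⟩ := h.u₀_trans hg h.i₀_X (Or.inr hgu)
  unfold BData.d₀
  rcases h.sg_smul_eq (s + t) (Pi.single i₀ 8) with h4 | h4
  · obtain ⟨y, hy⟩ := exists_form_eq_one h.i₀_X.2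
    refine ⟨C.R y * g, M.C.mul_mem (h.hyp.Q_le y) hg, ?_⟩
    rw [LinearEquiv.mul_apply, map_add, h.u₀_eq, h.e₀_eq, hgu, h3, h4, map_add, map_neg,
      R_fix y (fun j hj => h.hyp.good.u_supp i₀ j h.i₀_X hj), R_single y h.i₀_X.1, hy, sg_one, neg_smul, one_smul,
      neg_add]
  · refine ⟨g, hg, ?_⟩
    rw [map_add, h.u₀_eq, h.e₀_eq, hgu, h3, h4, neg_add]

theorem scalar : ∀ f : (ι → ℚ) →ₗ[ℚ] (ι → ℚ), (∀ m, M.z m = -m → M.z (f m) = - f m) →
    (∀ q ∈ M.Q, ∀ m, M.z m = -m → f (q m) = q (f m)) →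
    ∃ α : ℚ, ∀ m, M.z m = -m → f m = α • m := by
  intro f h1 h2
  rw [h.z_eq] at h1 h2 ⊢
  obtain ⟨a, ha⟩ := C.comm_scalar f
    (fun s hs => C.mem_S_iff.mpr (h1 s (C.mem_S_iff.mp hs)))
    (fun x s hs => h2 _ (h.mem_Q.mpr ⟨x, rfl⟩) s (C.mem_S_iff.mp hs))
  exact ⟨a, fun m hm => ha m (C.mem_S_iff.mpr hm)⟩

theorem irred : ∀ s, M.z s = - s → s ≠ 0 → ∀ m, M.z m = -m →
    m ∈ Submodule.span ℚ {x | ∃ q ∈ M.Q, x = q s} := by
  intro s hs hs0 m hm
  rw [h.z_eq] at hs hm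
  have h1 := C.irred (C.mem_S_iff.mpr hs) hs0 (C.mem_S_iff.mpr hm)
  refine Submodule.span_mono ?_ h1
  rintro _ ⟨q, rfl⟩
  exact ⟨C.R q, h.mem_Q.mpr ⟨q, rfl⟩, rfl⟩

end Link

end Cfsg.Agent.BabyM.KCore
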