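import Cfsg.Agent.BabyM.Conc
import Cfsg.Agent.BabyM.KCore
import Cfsg.Agent.BabyM.KTabData
import Cfsg.Agent.Monster.PauliBits

/-!
# The coordinates of the 4371-dimensional model as `Coord 11 (Lane U)` (helper235)

Lanes `4096 + e` (`e < 2048`) are the qubit lanes, lanes below 3072 with a nonzero code are the 2300 X-lanes, lanes
`1344, …, 1366` are the `23`-part.
-/

set_option autoImplicit false

namespace Cfsg.Agent.BabyM.KTab

open Cfsg.Agent.Lib.PermNet Cfsg.Agent.Monster Cfsg.Agent.Monster.VecEngine Cfsg.Agent.Monster.VecSpace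
open Cfsg.Agent.Monster.PauliBasic Cfsg.Agent.Monster.PauliRep Cfsg.Agent.Monster.PauliClif Cfsg.Agent.Monster.PauliBits
open Cfsg.Agent.BabyM.KTabData Cfsg.Agent.BabyM.QAct Cfsg.Agent.BabyM.Conc

/-! ### Loops -/

/-- `p` holds on `a, …, a + 2 ^ n - 1`. -/
noncomputable def allN (n : ℕ) (p : ℕ → Bool) : ℕ → Bool :=
  Nat.rec (motive := fun _ => ℕ → Bool) (fun a => p a) (fun n ih a => and (ih a) (ih (Nat.add a (Nat.pow 2 n)))) n

theorem allN_spec {n : ℕ} {p : ℕ → Bool} {a : ℕ} (h : allN n p a = true) {i : ℕ} (h1 : a ≤ i) (h2 : i < a + 2 ^ n) :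
    p i = true := by
  induction n generalizing a with
  | zero =>
    have : i = a := by
      rw [pow_zero] at h2; omega
    subst this
    exact h
  | succ n ih =>
    have h' : and (allN n p a) (allN n p (a + 2 ^ n)) = true := h
    rw [Bool.and_eq_true] at h'
    rw [pow_succ] at h2
    by_cases h3 : i < a + 2 ^ n
    · exact ih h'.1 h1 h3
    · exact ih h'.2 (by omega) (by omega)

/-- The field of width `w` and mask `m` at position `i`. -/
noncomputable def fld (T w m i : ℕ) : ℕ := Nat.land (Nat.shiftRight T (Nat.mul w i)) m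

/-! ### Codes -/

/-- The code of a lane. -/
noncomputable def cd (i : ℕ) : ℕ := fld codeT 24 0x3fffff i

theorem cd_lt (i : ℕ) : cd i < 2 ^ 22 := by
  unfold cd fld
  have : Nat.land (Nat.shiftRight codeT (Nat.mul 24 i)) 0x3fffff ≤ 0x3fffff := Nat.and_le_right
  omega

theorem dec_s {x : ℕ} (hx : x < 2 ^ 22) : (dec 11 x).s = 0 := bit_eq_zero_of_lt hx

theorem eq_of_ab_dec {x y : ℕ} (hx : x < 2 ^ 22) (hy : y < 2 ^ 22) (h : ab (dec 11 x) = ab (dec 11 y)) : x = y := by
  have ha : (dec 11 x).a = (dec 11 y).a := congrArg Prod.fst h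
  have hb : (dec 11 x).b = (dec 11 y).b := congrArg Prod.snd h
  apply Nat.eq_of_testBit_eq
  intro k
  have key : bit x k = bit y k → x.testBit k = y.testBit k := by
    intro hk
    have h1 := bit_eq_one_iff x k
    have h2 := bit_eq_one_iff y k
    rw [hk] at h1
    rw [h1] at h2
    cases hx : x.testBit k <;> cases hy : y.testBit k <;> simp_all
  by_cases h1 : k < 11
  · exact key (congrFun hb ⟨k, h1⟩)
  · by_cases h2 : k < 22
    · have h3 := congrFun ha ⟨k - 11, by omega⟩
      have h4 : 11 + (k - 11) = k := by omega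
      simp only [dec, h4] at h3
      exact key h3
    · rw [Nat.testBit_lt_two_pow (lt_of_lt_of_le hx (Nat.pow_le_pow_right (by norm_num) (by omega))),
        Nat.testBit_lt_two_pow (lt_of_lt_of_le hy (Nat.pow_le_pow_right (by norm_num) (by omega)))]

theorem ab_dec_eq_zero {x : ℕ} (hx : x < 2 ^ 22) : ab (dec 11 x) = 0 ↔ x = 0 := by
  have h0 : ab (dec 11 0) = 0 := by
    refine Prod.ext ?_ ?_
    · funext i; exact bit_zero _
    · funext i; exact bit_zero _
  constructor
  · intro h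
    exact eq_of_ab_dec hx (by norm_num) (h.trans h0.symm)
  · rintro rfl; exact h0

/-! ### Facts on the mask -/

theorem testBit_of_mask {U M s e : ℕ} (h : Nat.land (Nat.shiftRight U s) M = M) (hM : M.testBit e = true) :
    U.testBit (s + e) = true := by
  have h1 : ((U >>> s) &&& M).testBit e = M.testBit e := congrArg (fun x => Nat.testBit x e) h
  rw [Nat.testBit_and, Nat.testBit_shiftRight, hM, Bool.and_true] at h1
  exact h1

theorem qmask : Nat.land (Nat.shiftRight U 4096) (Nat.sub (Nat.pow 2 2048) 1) = Nat.sub (Nat.pow 2 2048) 1 := by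
  decide +kernel

theorem U_lt' : Nat.shiftRight U 6144 = 0 := by decide +kernel

theorem testBit_q {e : ℕ} (he : e < 2048) : U.testBit (4096 + e) = true := by
  apply testBit_of_mask qmask
  generalize hn : (2048 : ℕ) = n at he ⊢
  show (2 ^ n - 1).testBit e = true
  rw [Nat.testBit_two_pow_sub_one]; exact decide_eq_true he

theorem lt_of_U {i : ℕ} (hi : U.testBit i = true) : i < 6144 := by
  by_contra hc
  have h1 : (U >>> 6144).testBit (i - 6144) = (0 : ℕ).testBit (i - 6144) :=
    congrArg (fun x => Nat.testBit x (i - 6144)) U_lt'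
  rw [Nat.testBit_shiftRight, Nat.zero_testBit] at h1
  have h2 : 6144 + (i - 6144) = i := by omega
  rw [h2, hi] at h1
  exact absurd h1 (by simp)

/-- The coordinates. -/
noncomputable def Cd : Coord 11 (Lane U) where
  isq i := 4096 ≤ i.1
  ql e := ⟨4096 + idx e, testBit_q (idx_lt e)⟩
  qb i := vec 11 (i.1 - 4096)
  isq_ql e := Nat.le_add_right _ _
  qb_ql e := by
    show vec 11 (4096 + idx e - 4096) = e
    rw [Nat.add_sub_cancel_left, vec_idx]
  ql_qb i hi := by
    apply Subtype.ext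
    show 4096 + idx (vec 11 (i.1 - 4096)) = i.1
    have h1 := lt_of_U i.2
    rw [idx_vec (by show i.1 - 4096 < 2 ^ 11; omega)]
    have h2 : 4096 ≤ i.1 := hi
    omega
  c i := dec 11 (cd i.1)

theorem c_eq (i : Lane U) : Cd.c i = dec 11 (cd i.1) := rfl

theorem isX_iff {i : Lane U} : Cd.isX i ↔ i.1 < 4096 ∧ cd i.1 ≠ 0 := by
  show (¬ (4096 ≤ i.1) ∧ ab (dec 11 (cd i.1)) ≠ 0) ↔ _
  rw [not_le, Ne, ab_dec_eq_zero (cd_lt _)]

theorem isU_iff' {i : Lane U} : Cd.isU i ↔ i.1 < 4096 ∧ cd i.1 = 0 := by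
  show (¬ (4096 ≤ i.1) ∧ ab (dec 11 (cd i.1)) = 0) ↔ _
  rw [not_le, ab_dec_eq_zero (cd_lt _)]

/-- the lanes of the `23`-part -/
noncomputable def isH (i : ℕ) : Bool := and (Nat.ble 1344 i) (Nat.ble i 1366)

/-- The lanes below 4096 have nonzero code exactly outside the `23`-part. -/
theorem lanes_check : allN 12 (fun i => Bool.rec true (Bool.rec (not (Nat.beq (cd i) 0)) (Nat.beq (cd i) 0) (isH i))
    (Nat.testBit U i)) 0 = true := by
  decide +kernel

theorem cd_eq_zero_iff {i : ℕ} (hi : U.testBit i = true) (h : i < 4096) : cd i = 0 ↔ 1344 ≤ i ∧ i ≤ 1366 := by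
  have h1 := allN_spec lanes_check (Nat.zero_le i) (by rw [zero_add]; exact h)
  simp only [hi] at h1
  cases h2 : isH i with
  | true =>
    rw [h2] at h1
    have h3 : Nat.beq (cd i) 0 = true := h1
    have h4 : (Nat.ble 1344 i && Nat.ble i 1366) = true := h2
    rw [Bool.and_eq_true, Nat.ble_eq, Nat.ble_eq] at h4
    exact ⟨fun _ => h4, fun _ => Nat.eq_of_beq_eq_true h3⟩
  | false =>
    rw [h2] at h1
    have h3 : (!(Nat.beq (cd i) 0)) = true := h1
    have h4 : (Nat.ble 1344 i && Nat.ble i 1366) = false := h2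
    constructor
    · intro h5
      rw [h5] at h3
      exact absurd h3 (by simp)
    · intro h5
      rw [← Nat.ble_eq, ← Nat.ble_eq, ← Bool.and_eq_true] at h5
      rw [h5] at h4
      exact absurd h4 (by simp)

theorem isU_iff {i : Lane U} : Cd.isU i ↔ 1344 ≤ i.1 ∧ i.1 ≤ 1366 := by
  rw [isU_iff']
  constructor
  · rintro ⟨h1, h2⟩
    exact (cd_eq_zero_iff i.2 h1).mp h2
  · intro h
    exact ⟨by omega, (cd_eq_zero_iff i.2 (by omega)).mpr h⟩

/-! ### The vectors `u_i` -/

/-- the row of a lane -/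
noncomputable def row (i : ℕ) : ℕ := fld rowT 96 0xffffffffffffffffffffffff i

/-- The planes of `u_i`. -/
noncomputable def uPl (i : ℕ) : Pl :=
  .cons (Nat.shiftLeft (Nat.land (row i) 0x7fffff) 1344)
    (.cons (Nat.shiftLeft (Nat.land (Nat.shiftRight (row i) 24) 0x7fffff) 1344)
      (.cons (Nat.shiftLeft (Nat.land (Nat.shiftRight (row i) 48) 0x7fffff) 1344)
        (.sgn (Nat.shiftLeft (Nat.land (Nat.shiftRight (row i) 72) 0x7fffff) 1344))))

/-- The vector `u_i`. -/
noncomputable def u (i : Lane U) : V := vecU ℚ U (uPl i.1)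

theorem bt_head (r k : ℕ) (hk : ¬ (1344 ≤ k ∧ k ≤ 1366)) :
    bt (Nat.shiftLeft (Nat.land r 0x7fffff) 1344) k = 0 := by
  have h1 : (Nat.shiftLeft (Nat.land r 0x7fffff) 1344).testBit k = false := by
    show (((r &&& 0x7fffff) <<< 1344)).testBit k = false
    rw [Nat.testBit_shiftLeft, Nat.testBit_and]
    by_cases h : 1344 ≤ k
    · have h2 : 23 ≤ k - 1344 := by omega
      have h3 : (0x7fffff : ℕ).testBit (k - 1344) = false :=
        Nat.testBit_lt_two_pow (lt_of_lt_of_le (by norm_num : (0x7fffff : ℕ) < 2 ^ 23)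
          (Nat.pow_le_pow_right (by norm_num) h2))
      rw [h3]; simp
    · simp [h]
  unfold bt
  rw [if_neg (by rw [h1]; simp)]

theorem u_supp (i j : Lane U) (hj : ¬ Cd.isU j) : u i j = 0 := by
  rw [isU_iff] at hj
  show ((val (uPl i.1) j.1 : ℤ) : ℚ) = 0
  unfold uPl
  rw [val_cons, val_cons, val_cons, val_sgn, bt_head _ _ hj, bt_head _ _ hj, bt_head _ _ hj, bt_head _ _ hj]
  norm_num

end Cfsg.Agent.BabyM.KTab
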