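/-
The conjugates `g_i t₀ g_i⁻¹` of the concrete base generate `Q` modulo `z` (field `gen` of `Base.Ok`).
-/
import Cfsg.Agent.BabyM.WordsInst
import Cfsg.Agent.BabyM.KTab
import Cfsg.Agent.BabyM.AbsOrder
import Cfsg.Agent.BabyM.FFinal

set_option autoImplicit false

namespace Cfsg.Agent.BabyM.WordsGen

open Cfsg.Agent.Lib.PermNet Cfsg.Agent.Monster Cfsg.Agent.Monster.VecEngine Cfsg.Agent.Monster.VecSpace
open Cfsg.Agent.Monster.PauliBasic Cfsg.Agent.Monster.PauliClif Cfsg.Agent.Monster.PauliBits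
open Cfsg.Agent.Monster.PauliGates
open Cfsg.Agent.BabyM.QAct Cfsg.Agent.BabyM.KCore Cfsg.Agent.BabyM.KTab Cfsg.Agent.BabyM.Conc
open Cfsg.Agent.BabyM.Model Cfsg.Agent.BabyM.WordsBase Cfsg.Agent.BabyM.Inst

/-! ### Generation of the Pauli group -/

theorem dec_z : dec 11 (2 ^ 22) = Pauli.z 11 := by
  have h : ∀ m t : ℕ, bit (2 ^ m) t = if t = m then 1 else 0 := by
    intro m t
    have := bit_b1_shiftLeft 1 0 m t
    simpa [b1, bit_one, Nat.one_shiftLeft] using this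
  ext k
  · simp only [dec, h]; rfl
  · have hk := k.2
    have : 11 + k.val ≠ 22 := by omega
    simp only [dec, h, this, if_false]; rfl
  · have hk := k.2
    have : k.val ≠ 22 := by omega
    simp only [dec, h, this, if_false]; rfl

theorem dec_zero' : dec 11 0 = 1 := by
  ext k
  · show bit 0 (2 * 11) = 0
    exact bit_zero _
  · exact bit_zero _
  · exact bit_zero _

theorem top_of_gens {n : ℕ} (H : Subgroup (Pauli n)) (hz : Pauli.z n ∈ H) (hX : ∀ i, (⟨0, dl i, 0⟩ : Pauli n) ∈ H)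
    (hZ : ∀ i, (⟨0, 0, dl i⟩ : Pauli n) ∈ H) : ∀ x : Pauli n, x ∈ H := by
  have hs : ∀ s, (⟨s, 0, 0⟩ : Pauli n) ∈ H := by
    intro s
    rcases zmod2_cases s with rfl | rfl
    · exact H.one_mem
    · exact hz
  have hA : ∀ S : Finset (Fin n), (⟨0, ∑ i ∈ S, dl i, 0⟩ : Pauli n) ∈ H := by
    intro S
    induction S using Finset.induction_on with
    | empty => simpa using hs 0
    | insert i S hi ih =>
      have : (⟨0, ∑ j ∈ insert i S, dl j, 0⟩ : Pauli n) =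
          ⟨0, dl i, 0⟩ * ⟨0, ∑ j ∈ S, dl j, 0⟩ := by
        rw [Finset.sum_insert hi]
        ext k <;> simp
      rw [this]; exact H.mul_mem (hX i) ih
  have hB : ∀ S : Finset (Fin n), (⟨0, 0, ∑ i ∈ S, dl i⟩ : Pauli n) ∈ H := by
    intro S
    induction S using Finset.induction_on with
    | empty => simpa using hs 0
    | insert i S hi ih =>
      have : (⟨0, 0, ∑ j ∈ insert i S, dl j⟩ : Pauli n) =
          ⟨0, 0, dl i⟩ * ⟨0, 0, ∑ j ∈ S, dl j⟩ := by
        rw [Finset.sum_insert hi]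
        ext k <;> simp
      rw [this]; exact H.mul_mem (hZ i) ih
  have hv : ∀ v : B n, v = ∑ i ∈ Finset.univ.filter (fun i => v i = 1), dl i := by
    intro v
    funext k
    rw [Finset.sum_apply, Finset.sum_filter]
    rw [Finset.sum_eq_single k]
    · rcases zmod2_cases (v k) with h | h
      · rw [h]; simp
      · rw [h]; simp
    · intro i _ hik
      rw [dl_ne (Ne.symm hik)]; simp
    · intro h; exact absurd (Finset.mem_univ _) h
  intro x
  have hx : x = ⟨x.s, 0, 0⟩ * (⟨0, x.a, 0⟩ * ⟨0, 0, x.b⟩) := by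
    ext i <;> simp
  rw [hx, hv x.a, hv x.b]
  exact H.mul_mem (hs _) (H.mul_mem (hA _) (hB _))

/-- The codes of the classes of the lanes. -/
def cdN : Fin 22 → ℕ := ![159, 493, 1141, 2030753, 739, 8, 1183, 2030956, 2031185, 1028185, 435, 986, 128, 2059925,
  1826149, 1700009, 1571972, 2097124, 2075721, 2038351, 1883150, 2332214]

theorem lanes_cd : ∀ i : Fin 22, cd (WordsInst.lanes i) = cdN i ∧ WordsInst.lanes i < 4096 ∧ cdN i ≠ 0 := by
  decide +kernel

/-- Words for the `22` standard generators. -/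
def gwd : Fin 22 → List (Fin 22) := ![[0, 2, 3, 4, 6, 7, 11, 12], [4, 5, 10, 11, 12], [0, 3, 4, 5, 8, 12], [5],
  [0, 2, 4, 5, 6, 7, 8, 10], [1, 3, 7], [1, 2, 3, 4, 6, 7, 10, 11], [12], [1, 4, 7, 8, 10, 12],
  [0, 3, 5, 7, 11, 12], [0, 6], [0, 4, 5, 8, 9, 10, 15, 16, 17, 18, 19],
  [0, 3, 5, 8, 9, 10, 11, 12, 13, 14, 16, 17, 18, 20], [0, 1, 2, 3, 8, 12, 13, 17, 18, 19],
  [2, 3, 4, 6, 8, 9, 11, 13, 14, 16, 20], [0, 1, 2, 6, 7, 8, 9, 11, 12, 14, 16, 18, 20], [0, 3, 11, 17],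
  [1, 3, 5, 9, 10, 11, 13, 14, 16], [0, 1, 3, 4, 5, 6, 8, 13, 14, 18, 19], [0, 1, 2, 3, 5, 6, 8, 16, 17],
  [2, 3, 5, 7, 8, 9, 10, 11, 12, 13, 14, 15, 18, 19, 20], [0, 1, 4, 6, 9, 12, 14, 16, 21]]

/-- The signs. -/
def gsg : Fin 22 → Bool := ![true, false, false, false, false, false, true, false, false, true, false, true, false,
  true, true, true, false, false, true, false, false, false]

/-- The code of a product. -/
def prodN (l : List (Fin 22)) : ℕ := l.foldr (fun i c => mulN 11 (cdN i) c) 0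

/-- The code of a signed product. -/
def prodZ (s : Bool) (l : List (Fin 22)) : ℕ := bif s then mulN 11 (2 ^ 22) (prodN l) else prodN l

theorem gwd_prod : ∀ k : Fin 22, prodZ (gsg k) (gwd k) = 2 ^ k.val := by decide +kernel

theorem dec_prodN (l : List (Fin 22)) (H : Subgroup (Pauli 11)) (h : ∀ i, dec 11 (cdN i) ∈ H) :
    dec 11 (prodN l) ∈ H := by
  induction l with
  | nil => rw [prodN, List.foldr_nil, dec_zero']; exact H.one_mem
  | cons i l ih =>
    show dec 11 (mulN 11 (cdN i) (prodN l)) ∈ H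
    rw [dec_mulN (by norm_num)]
    exact H.mul_mem (h i) ih

theorem dec_prodZ (s : Bool) (l : List (Fin 22)) (H : Subgroup (Pauli 11)) (hz : Pauli.z 11 ∈ H)
    (h : ∀ i, dec 11 (cdN i) ∈ H) : dec 11 (prodZ s l) ∈ H := by
  cases s with
  | false => exact dec_prodN l H h
  | true =>
    show dec 11 (mulN 11 (2 ^ 22) (prodN l)) ∈ H
    rw [dec_mulN (by norm_num), dec_z]
    exact H.mul_mem hz (dec_prodN l H h)

theorem gens_top (H : Subgroup (Pauli 11)) (hz : Pauli.z 11 ∈ H) (h : ∀ i, dec 11 (cdN i) ∈ H) :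
    ∀ x : Pauli 11, x ∈ H := by
  apply top_of_gens H hz
  · intro i
    rw [← dec_X i]
    have h1 := gwd_prod ⟨11 + i.val, by omega⟩
    rw [← h1]
    exact dec_prodZ _ _ H hz h
  · intro i
    rw [← dec_Z i]
    have h1 := gwd_prod ⟨i.val, by omega⟩
    rw [← h1]
    exact dec_prodZ _ _ H hz h

/-- The Pauli group is generated by the conjugates. -/
theorem gen_of {ι : Type} [Fintype ι] [DecidableEq ι] {C : Coord 11 ι} {u : ι → ι → ℚ} {wt' : ι → ℚ}
    {M : BData (ι → ℚ)} {i₀ : ι} (L : Link C u wt' M i₀) (l : Fin 22 → ι) (hl : ∀ i, C.c (l i) = dec 11 (cdN i))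
    (t : Fin 22 → ((ι → ℚ) ≃ₗ[ℚ] (ι → ℚ))) (ht : ∀ i, ∃ s : ZMod 2, t i = C.R (⟨s, 0, 0⟩ * C.c (l i))) :
    M.Q ≤ Subgroup.closure (Set.range t ∪ {M.z}) := by
  intro q hq
  obtain ⟨x, rfl⟩ := L.mem_Q.1 hq
  have hz : C.R (Pauli.z 11) ∈ Subgroup.closure (Set.range t ∪ {M.z}) := by
    rw [← L.z_eq]
    exact Subgroup.subset_closure (Or.inr rfl)
  refine gens_top ((Subgroup.closure (Set.range t ∪ {M.z})).comap C.R) hz ?_ x
  intro i
  show C.R (dec 11 (cdN i)) ∈ Subgroup.closure (Set.range t ∪ {M.z})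
  obtain ⟨s, hs⟩ := ht i
  have h1 : t i ∈ Subgroup.closure (Set.range t ∪ {M.z}) := Subgroup.subset_closure (Or.inl ⟨i, rfl⟩)
  rw [hs, hl, map_mul] at h1
  refine (Subgroup.mul_mem_cancel_left _ ?_).1 h1
  rcases zmod2_cases s with rfl | rfl
  · have : (⟨0, 0, 0⟩ : Pauli 11) = 1 := rfl
    rw [this, map_one]; exact Subgroup.one_mem _
  · exact hz

/-- The conjugate of `t₀` by an element mapping `e₀` to a multiple of a unit vector. -/
theorem conj_of {n : ℕ} {ι : Type} [Fintype ι] [DecidableEq ι] {C : Coord n ι} {u : ι → ι → ℚ} {wt' : ι → ℚ}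
    {M : BData (ι → ℚ)} {i₀ : ι} (L : Link C u wt' M i₀) {g : (ι → ℚ) ≃ₗ[ℚ] (ι → ℚ)} (hg : g ∈ M.C) {k : ι}
    {a : ℚ} (ha : a ≠ 0) (hge : g M.e₀ = Pi.single k a) :
    ∃ s : ZMod 2, g * M.t₀ * g⁻¹ = C.R (⟨s, 0, 0⟩ * C.c k) := by
  obtain ⟨j, hj, s, t, h1, -, h3⟩ := L.base hg L.i₀_X
  rw [← L.t₀_eq] at h1
  rw [← L.e₀_eq, hge] at h3
  have hjk : j = k := by
    by_contra hne
    have h4 := congrFun h3 k
    rw [Pi.single_eq_same, Pi.smul_apply, Pi.single_eq_of_ne (Ne.symm hne), smul_zero] at h4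
    exact ha h4
  subst hjk
  exact ⟨s, h1⟩

/-- Field `gen` of `base.Ok`. -/
theorem gen {wt' : Lane U → ℚ} (L : Link Cd KTab.u wt' Inst.M laneB) :
    Inst.M.Q ≤ Subgroup.closure (Set.range (fun i => WordsInst.base.g i * Inst.M.t₀ * (WordsInst.base.g i)⁻¹) ∪
      {Inst.M.z}) := by
  refine gen_of L WordsInst.lane (fun i => ?_) _ (fun i => ?_)
  · rw [c_eq]
    show dec 11 (cd (WordsInst.lanes i)) = _
    rw [(lanes_cd i).1]
  · refine conj_of L (WordsInst.g_mem i) (WordsInst.ε_ne i) ?_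
    show W (WordsInst.gw i) e₀ = _
    rw [WordsInst.g_e₀, WordsInst.smul_single]

/-- **The conditions on the concrete base.** -/
theorem ok {K₀ : Type} [Group K₀] (A : BAll Inst.M K₀) {wt' : Lane U → ℚ}
    (L : Link Cd KTab.u wt' Inst.M laneB) : WordsInst.base.Ok :=
  WordsInst.ok (FFinal.val L) (fun x hx h0 h1 => A.stab_pair x hx h0 h1) (gen L)

end Cfsg.Agent.BabyM.WordsGen
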