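import Cfsg.Agent.BabyM.AbsFinal
import Cfsg.Agent.BabyM.GlueModel
import Cfsg.Agent.BabyM.OrbInst
import Cfsg.Agent.BabyM.KLink
import Cfsg.Agent.BabyM.WordsGen

/-!
# The Baby Monster: the concrete model satisfies all facts
-/

set_option autoImplicit false

namespace Cfsg.Agent.BabyM.Instance

open Cfsg.Agent.BabyM.Model Cfsg.Agent.BabyM.Conc

/-- All facts about the concrete model. -/
theorem all : BAll Inst.M GroupInst.K₀ := OrbInst.bAll KLink.link

/-- The transposition facts about the concrete model. -/
theorem tr : BTrans Inst.M := OrbInst.bTrans KLink.link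

/-- The facts about the base of words. -/
theorem ok : WordsInst.base.Ok := WordsGen.ok all KLink.link

/-- The group of the concrete model is the Baby Monster. -/
theorem isB : Cfsg.IsB Inst.M.G := all.isB

end Cfsg.Agent.BabyM.Instance
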