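import Cfsg.Agent.BabyM.Model

/-!
Elementary consequences of the `BModel` facts: finiteness, the isometry group of the set of axes,
orthogonality of the three parts of `W`.
-/

namespace Cfsg.Agent.BabyM.Model

variable {W : Type} [AddCommGroup W] [Module ℚ W]

namespace BData

/-- isometries permuting the signed axes -/
def Γ (M : BData W) : Subgroup (W ≃ₗ[ℚ] W) where
  carrier := {k | (∀ x y, M.F (k x) (k y) = M.F x y) ∧ ∀ x, k x ∈ M.D ↔ x ∈ M.D}
  mul_mem' := by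
    rintro a b ⟨ha, ha'⟩ ⟨hb, hb'⟩
    refine ⟨fun x y => ?_, fun x => ?_⟩
    · rw [LinearEquiv.mul_apply, LinearEquiv.mul_apply, ha, hb]
    · rw [LinearEquiv.mul_apply, ha', hb']
  one_mem' := ⟨fun _ _ => rfl, fun _ => Iff.rfl⟩
  inv_mem' := by
    rintro a ⟨ha, ha'⟩
    have e : ∀ x, a (a⁻¹ x) = x := fun x => a.apply_symm_apply x
    refine ⟨fun x y => ?_, fun x => ?_⟩
    · rw [← ha, e, e]
    · rw [← ha', e]

end BData

section

theorem inv_apply_self' (g : W ≃ₗ[ℚ] W) (x : W) : g⁻¹ (g x) = x := g.symm_apply_apply x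

theorem apply_inv_self' (g : W ≃ₗ[ℚ] W) (x : W) : g (g⁻¹ x) = x := g.apply_symm_apply x

end

namespace BGroup

variable {M : BData W} {K₀ : Type} [Group K₀] (H : BGroup M K₀)
include H

theorem z_mem_C : M.z ∈ M.C := H.Q_le H.z_mem

theorem Q_normal : ∀ g ∈ M.C, ∀ q ∈ M.Q, g * q * g⁻¹ ∈ M.Q := by
  obtain ⟨π, -, hker⟩ := H.quot
  intro g hg q hq
  have h1 : π ⟨q, H.Q_le hq⟩ = 1 := (hker _).2 hq
  have h2 : π (⟨g, hg⟩ * ⟨q, H.Q_le hq⟩ * ⟨g, hg⟩⁻¹) = 1 := by
    rw [map_mul, map_mul, h1, mul_one, ← map_mul, mul_inv_cancel, map_one]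
  exact (hker _).1 h2

theorem Q_normal' : ∀ g ∈ M.C, ∀ q ∈ M.Q, g⁻¹ * q * g ∈ M.Q := by
  intro g hg q hq
  have := H.Q_normal g⁻¹ (M.C.inv_mem hg) q hq
  rwa [inv_inv] at this

theorem card_C : Nat.card M.C = 2 ^ 23 * 42305421312000 := by
  obtain ⟨π, hsurj, hker⟩ := H.quot
  have h1 : Nat.card M.C = Nat.card π.ker * π.ker.index := (Subgroup.card_mul_index _).symm
  have h2 : π.ker.index = Nat.card K₀ := by
    rw [Subgroup.index]
    exact Nat.card_congr (QuotientGroup.quotientKerEquivOfSurjective π hsurj).toEquiv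
  have h3 : Nat.card π.ker = Nat.card M.Q := by
    refine Nat.card_congr ⟨fun g => ⟨g.1, (hker _).1 g.2⟩, fun q => ⟨⟨q, H.Q_le q.2⟩, (hker _).2 q.2⟩,
      fun g => rfl, fun q => rfl⟩
  rw [h1, h2, h3, H.Q_card, H.card]

theorem finite_C : Finite M.C := by
  have := H.card_C
  exact Nat.finite_of_card_ne_zero (by rw [this]; norm_num)

/-- a `C`-normalised subgroup of `Q` containing an element outside `⟨z⟩` is `Q` -/
theorem eq_Q (N : Subgroup (W ≃ₗ[ℚ] W)) (h1 : N ≤ M.Q)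
    (h2 : ∀ g ∈ M.C, ∀ n ∈ N, g * n * g⁻¹ ∈ N) (x : W ≃ₗ[ℚ] W) (hx : x ∈ N) (hx1 : x ≠ 1)
    (hxz : x ≠ M.z) : N = M.Q := by
  rcases H.Q_irred N h1 h2 with h | h
  · rcases h x hx with h | h
    · exact absurd h hx1
    · exact absurd h hxz
  · exact h

/-- `Q` is generated by the `C`-conjugates of any of its elements outside `⟨z⟩` -/
theorem closure_conj (x : W ≃ₗ[ℚ] W) (hx : x ∈ M.Q) (hx1 : x ≠ 1) (hxz : x ≠ M.z) :
    Subgroup.closure {y | ∃ g ∈ M.C, y = g * x * g⁻¹} = M.Q := by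
  refine H.eq_Q _ ?_ ?_ x (Subgroup.subset_closure ⟨1, M.C.one_mem, by simp⟩) hx1 hxz
  · rw [Subgroup.closure_le]
    rintro _ ⟨g, hg, rfl⟩
    exact H.Q_normal g hg x hx
  · intro g hg n hn
    induction hn using Subgroup.closure_induction with
    | mem y hy =>
      obtain ⟨h, hh, rfl⟩ := hy
      exact Subgroup.subset_closure ⟨g * h, M.C.mul_mem hg hh, by group⟩
    | one => simp
    | mul a b _ _ ha hb =>
      have : g * (a * b) * g⁻¹ = (g * a * g⁻¹) * (g * b * g⁻¹) := by group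
      rw [this]
      exact Subgroup.mul_mem _ ha hb
    | inv a _ ha =>
      have : g * a⁻¹ * g⁻¹ = (g * a * g⁻¹)⁻¹ := by group
      rw [this]
      exact Subgroup.inv_mem _ ha

/-- if all `C`-conjugates of `x` are `x` or `x z` then `x` is in `⟨z⟩` -/
theorem mem_of_conj (x : W ≃ₗ[ℚ] W) (hx : x ∈ M.Q)
    (h : ∀ g ∈ M.C, g * x * g⁻¹ = x ∨ g * x * g⁻¹ = x * M.z) : x = 1 ∨ x = M.z := by
  by_contra hne
  rw [not_or] at hne
  have hcl := H.closure_conj x hx hne.1 hne.2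
  have hcomm : ∀ y ∈ M.Q, x * y = y * x := by
    intro y hy
    rw [← hcl] at hy
    induction hy using Subgroup.closure_induction with
    | mem y hy =>
      obtain ⟨g, hg, rfl⟩ := hy
      rcases h g hg with h | h
      · rw [h]
      · rw [h, mul_assoc, ← H.z_comm x (H.Q_le hx)]
    | one => simp
    | mul a b _ _ ha hb => rw [← mul_assoc, ha, mul_assoc, hb, mul_assoc]
    | inv a _ ha => exact (Commute.inv_right (show Commute x a from ha))
  exact hne.elim (by rcases H.Q_center x hx hcomm with h | h <;> tauto)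

theorem exists_noncomm (x : W ≃ₗ[ℚ] W) (hx : x ∈ M.Q) (hx1 : x ≠ 1) (hxz : x ≠ M.z) :
    ∃ y ∈ M.Q, x * y ≠ y * x := by
  by_contra h
  push Not at h
  rcases H.Q_center x hx h with h | h
  · exact hx1 h
  · exact hxz h

/-- a subgroup of `C` normalised by `C` which is not in `Q` together with `Q` covers `C` -/
theorem cover (N : Subgroup (W ≃ₗ[ℚ] W)) (hN : N ≤ M.C)
    (h2 : ∀ g ∈ M.C, ∀ n ∈ N, g * n * g⁻¹ ∈ N) (x : W ≃ₗ[ℚ] W) (hx : x ∈ N) (hxQ : x ∉ M.Q) :
    ∀ g ∈ M.C, ∃ n ∈ N, ∃ q ∈ M.Q, g = n * q := by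
  obtain ⟨π, hsurj, hker⟩ := H.quot
  have := H.simple
  let N' : Subgroup M.C := N.subgroupOf M.C
  have hN' : N'.Normal := ⟨fun n hn g => by
    have := h2 g g.2 n hn
    exact this⟩
  have hmap : (N'.map π).Normal := Subgroup.Normal.map hN' π hsurj
  rcases hmap.eq_bot_or_eq_top with h | h
  · exfalso
    have h3 : π ⟨x, hN hx⟩ ∈ N'.map π := ⟨⟨x, hN hx⟩, hx, rfl⟩
    rw [h, Subgroup.mem_bot] at h3
    exact hxQ ((hker _).1 h3)
  · intro g hg
    have h3 : π ⟨g, hg⟩ ∈ N'.map π := by rw [h]; trivial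
    obtain ⟨n, hn, hng⟩ := h3
    refine ⟨n, hn, (n : W ≃ₗ[ℚ] W)⁻¹ * g, ?_, by group⟩
    have h4 : π (n⁻¹ * ⟨g, hg⟩) = 1 := by rw [map_mul, map_inv, hng, inv_mul_cancel]
    exact (hker _).1 h4

/-- `C_C(Q) ≤ Q` -/
theorem centralizer_Q (x : W ≃ₗ[ℚ] W) (hx : x ∈ M.C) (h : ∀ y ∈ M.Q, x * y = y * x) : x ∈ M.Q := by
  by_contra hxQ
  let N : Subgroup (W ≃ₗ[ℚ] W) := M.C ⊓ Subgroup.centralizer (M.Q : Set (W ≃ₗ[ℚ] W))
  have hN : ∀ n ∈ N, n ∈ M.C ∧ ∀ y ∈ M.Q, n * y = y * n := by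
    intro n hn
    rw [Subgroup.mem_inf] at hn
    refine ⟨hn.1, fun y hy => ?_⟩
    exact (Subgroup.mem_centralizer_iff.1 hn.2 y hy).symm
  have hcov := H.cover N inf_le_left (fun g hg n hn => by
    refine Subgroup.mem_inf.2 ⟨M.C.mul_mem (M.C.mul_mem hg (hN n hn).1) (M.C.inv_mem hg), ?_⟩
    rw [Subgroup.mem_centralizer_iff]
    intro y hy
    have h1 := (hN n hn).2 _ (H.Q_normal' g hg y hy)
    have h2 : y * (g * n * g⁻¹) = g * ((g⁻¹ * y * g) * n) * g⁻¹ := by group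
    rw [h2, ← h1]
    group) x (Subgroup.mem_inf.2 ⟨hx, by
      rw [Subgroup.mem_centralizer_iff]
      exact fun y hy => (h y hy).symm⟩) hxQ
  -- then all elements of `Q` are in `⟨z⟩`
  have hall : ∀ y ∈ M.Q, y = 1 ∨ y = M.z := by
    intro y hy
    refine H.mem_of_conj y hy ?_
    intro g hg
    obtain ⟨n, hn, q, hq, rfl⟩ := hcov g hg
    have h1 := (hN n hn).2 _ (H.Q_normal q (H.Q_le hq) y hy)
    have h2 : n * q * y * (n * q)⁻¹ = q * y * q⁻¹ := by
      have : n * q * y * (n * q)⁻¹ = (n * (q * y * q⁻¹)) * n⁻¹ := by group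
      rw [this, h1]
      group
    rw [h2]
    rcases H.Q_comm q hq y hy with h3 | h3
    · left
      rw [h3]
      group
    · right
      rw [h3, mul_assoc, mul_assoc, ← H.z_comm q⁻¹ (M.C.inv_mem (H.Q_le hq))]
      group
  have hle : Nat.card M.Q ≤ 2 := by
    classical
    have : Function.Injective (fun y : M.Q => decide (y = 1) ) := by
      intro a b hab
      have ha := hall a a.2
      have hb := hall b b.2
      simp only [decide_eq_decide] at hab
      by_cases h1 : a = 1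
      · rw [h1, hab.1 h1]
      · have h2 : b ≠ 1 := fun h => h1 (hab.2 h)
        have ha' : (a : W ≃ₗ[ℚ] W) = M.z := ha.resolve_left (fun h => h1 (Subtype.ext h))
        have hb' : (b : W ≃ₗ[ℚ] W) = M.z := hb.resolve_left (fun h => h2 (Subtype.ext h))
        exact Subtype.ext (ha'.trans hb'.symm)
    calc Nat.card M.Q ≤ Nat.card Bool := Nat.card_le_card_of_injective _ this
      _ = 2 := by simp
  rw [H.Q_card] at hle
  norm_num at hle

end BGroup

end Cfsg.Agent.BabyM.Model
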