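import Cfsg.Agent.BabyM.AbsOrder
import Cfsg.Prelude.Def_Sporadic

/-!
The class of transpositions and the final statements for the abstract model.
-/

set_option linter.unusedSectionVars false

namespace Cfsg.Agent.BabyM.Model

variable {W : Type} [AddCommGroup W] [Module ℚ W]

namespace BAll

variable {M : BData W} {K₀ : Type} [Group K₀] (A : BAll M K₀)
include A

theorem isB : Cfsg.IsB M.G := ⟨A.simple, A.card_G⟩

/-- an element of `C` commuting with `t₀` fixes the line of `d₀` -/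
theorem comm_t₀_C (h : W ≃ₗ[ℚ] W) (hh : h ∈ M.C) (hc : h * M.t₀ = M.t₀ * h) :
    h M.d₀ = M.d₀ ∨ h M.d₀ = - M.d₀ := by
  have he : h M.e₀ = M.e₀ ∨ h M.e₀ = - M.e₀ := by
    by_contra hne
    rw [not_or] at hne
    obtain ⟨q, hq, h1, h2⟩ := A.rep.sep h hh hne.1 hne.2
    have h3 : q * M.t₀ = M.t₀ * q := by
      by_contra h4
      have h5 := A.rep.Q_e₀_neg q hq h4
      rw [h1] at h5
      exact A.e₀_ne_neg h5
    have h4 : (h⁻¹ * q * h) * M.t₀ = M.t₀ * (h⁻¹ * q * h) := by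
      have h6 : h⁻¹ * M.t₀ = M.t₀ * h⁻¹ := by
        rw [inv_mul_eq_iff_eq_mul, ← mul_assoc, hc, mul_inv_cancel_right]
      rw [mul_assoc, hc, ← mul_assoc, mul_assoc h⁻¹, h3, ← mul_assoc, h6]
      group
    have h5 := A.rep.Q_e₀_pos _ (A.grp.Q_normal' h hh q hq) h4
    rw [LinearEquiv.mul_apply, LinearEquiv.mul_apply, h2, map_neg, inv_apply_self'] at h5
    exact A.e₀_ne_neg h5.symm
  have hu := A.rep.stab_e₀ h hh he
  obtain ⟨q₀, hq₀, hq₀d, hq₀t⟩ := A.d₁_mem'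
  have hbad : ¬ (h M.d₀ = M.d₁ ∨ h M.d₀ = - M.d₁) := by
    intro hb
    have h1 := A.conj_t h 1 q₀ (A.C_le hh) M.Γ.one_mem (A.C_le (A.grp.Q_le hq₀)) (by
      rw [hq₀d]
      exact hb)
    rw [A.q₀_conj hq₀ hq₀t, one_mul, inv_one, mul_one, hc, mul_inv_cancel_right] at h1
    apply A.grp.z_ne
    have h2 : M.t₀ * 1 = M.t₀ * M.z := by rw [mul_one, ← h1]
    exact (mul_left_cancel h2).symm
  unfold BData.d₀ BData.d₁ at *
  rw [map_add] at hbad ⊢
  rcases he with he | he <;> rcases hu with hu | hu <;> rw [he, hu] at hbad ⊢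
  · exact Or.inl rfl
  · exact absurd (Or.inr (by abel)) hbad
  · exact absurd (Or.inl (by abel)) hbad
  · exact Or.inr (by abel)

variable (B : BTrans M)
include B

/-- an element of `G` commuting with `t₀` fixes the line of `d₀` -/
theorem comm_t₀ (g : W ≃ₗ[ℚ] W) (hg : g ∈ M.G) (hc : g * M.t₀ = M.t₀ * g) :
    g M.d₀ = M.d₀ ∨ g M.d₀ = - M.d₀ := by
  obtain ⟨j, h, hh, e⟩ : g M.d₀ ∈ M.D := ((A.G_le hg).2 _).2 A.d₀_mem
  -- `t_{d_j}` is in `Q`
  have key : ∀ k ∈ M.G, k M.d₀ = M.d j → k * M.t₀ * k⁻¹ = h⁻¹ * M.t₀ * h := by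
    intro k hk hkd
    have h1 := A.conj_t h k g (A.C_le hh) (A.G_le hk) (A.G_le hg) (Or.inl (by rw [hkd, e]))
    have h2 : g * M.t₀ * g⁻¹ = M.t₀ := by rw [hc, mul_inv_cancel_right]
    rw [h2] at h1
    have h3 : k * M.t₀ * k⁻¹ = h⁻¹ * (h * (k * M.t₀ * k⁻¹) * h⁻¹) * h := by group
    rw [h3, h1]
  by_cases hj : j = M.j₀
  · subst hj
    have h1 := key 1 M.G.one_mem A.d₀_eq
    rw [one_mul, inv_one, mul_one] at h1
    have h2 : h * M.t₀ = M.t₀ * h := by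
      conv_lhs => rw [h1]
      group
    rw [e, ← A.d₀_eq]
    exact A.comm_t₀_C h hh h2
  · exfalso
    obtain ⟨k, hk, hkd, x, hx, hne⟩ := B.moves j hj
    apply hne
    rw [key k hk hkd]
    exact A.Q_U _ (A.grp.Q_normal' h hh _ A.rep.t₀_mem) x hx

theorem card_cent : Nat.card (Subgroup.centralizer ({(⟨M.t₀, A.C_le_G A.t₀_C⟩ : M.G)} : Set M.G)) =
    306129918735099415756800 := by
  classical
  have := A.finite_G
  obtain ⟨n, hn, hnd⟩ := A.rep.neg
  have hnG : n ∈ M.G := A.C_le_G hn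
  have hd0 : M.d₀ ≠ - M.d₀ := by
    intro h
    have h1 := A.F_d₀
    have h2 : M.F M.d₀ M.d₀ = - M.F M.d₀ M.d₀ := by
      conv_lhs => rw [h]
      rw [LinearMap.BilinForm.neg_left, ← h]
    linarith
  set c := Subgroup.centralizer ({(⟨M.t₀, A.C_le_G A.t₀_C⟩ : M.G)} : Set M.G) with hcdef
  have hmem : ∀ g : M.G, g ∈ c ↔ (g : W ≃ₗ[ℚ] W) M.d₀ = M.d₀ ∨ (g : W ≃ₗ[ℚ] W) M.d₀ = - M.d₀ := by
    intro g
    rw [hcdef, Cfsg.Agent.MonsterX.SimpleCrit.mem_cent]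
    constructor
    · intro h
      exact A.comm_t₀ B g g.2 (congrArg Subtype.val h)
    · intro h
      exact Subtype.ext (A.t₀_comm g (A.G_le g.2) h)
  -- the stabiliser of `d₀`
  have e1 : Nat.card M.G = Nat.card M.D * Nat.card (MulAction.stabilizer M.G M.d₀) := by
    have hX : M.D = MulAction.orbit M.G M.d₀ := by
      ext x
      rw [A.D_eq]
      constructor
      · rintro ⟨g, hg, rfl⟩
        exact ⟨⟨g, hg⟩, rfl⟩
      · rintro ⟨g, rfl⟩
        exact ⟨g, g.2, rfl⟩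
    rw [hX, ← Nat.card_prod]
    exact Nat.card_congr (MulAction.orbitProdStabilizerEquivGroup M.G M.d₀).symm
  have e2 : Nat.card c = 2 * Nat.card (MulAction.stabilizer M.G M.d₀) := by
    have hst : ∀ g : M.G, g ∈ MulAction.stabilizer M.G M.d₀ ↔ (g : W ≃ₗ[ℚ] W) M.d₀ = M.d₀ :=
      fun g => Iff.rfl
    have h1 : Nat.card (Bool × MulAction.stabilizer M.G M.d₀) = Nat.card c := by
      refine Nat.card_congr (Equiv.ofBijective (fun p => if p.1 then
        (⟨p.2.1, (hmem _).2 (Or.inl ((hst _).1 p.2.2))⟩ : c) else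
        ⟨⟨n, hnG⟩ * p.2.1, (hmem _).2 (Or.inr (by
          change n ((p.2.1 : W ≃ₗ[ℚ] W) M.d₀) = _
          rw [(hst _).1 p.2.2, hnd]))⟩) ⟨?_, ?_⟩)
      · rintro ⟨a, g⟩ ⟨b, h⟩ hab
        have hg := (hst _).1 g.2
        have hh := (hst _).1 h.2
        rcases Bool.eq_false_or_eq_true a with rfl | rfl <;>
          rcases Bool.eq_false_or_eq_true b with rfl | rfl
        · simp only [if_true] at hab
          have := congrArg Subtype.val hab
          exact Prod.ext rfl (Subtype.ext this)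
        · simp only [if_true, Bool.false_eq_true, if_false] at hab
          have h1 := congrArg Subtype.val hab
          have h2 := congrArg (fun f : M.G => (f : W ≃ₗ[ℚ] W) M.d₀) h1
          change (g.1 : W ≃ₗ[ℚ] W) M.d₀ = n ((h.1 : W ≃ₗ[ℚ] W) M.d₀) at h2
          rw [hg, hh, hnd] at h2
          exact absurd h2 hd0
        · simp only [if_true, Bool.false_eq_true, if_false] at hab
          have h1 := congrArg Subtype.val hab
          have h2 := congrArg (fun f : M.G => (f : W ≃ₗ[ℚ] W) M.d₀) h1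
          change n ((g.1 : W ≃ₗ[ℚ] W) M.d₀) = (h.1 : W ≃ₗ[ℚ] W) M.d₀ at h2
          rw [hg, hh, hnd] at h2
          exact absurd h2.symm hd0
        · simp only [Bool.false_eq_true, if_false] at hab
          have := congrArg Subtype.val hab
          exact Prod.ext rfl (Subtype.ext (mul_left_cancel this))
      · rintro ⟨g, hg⟩
        rcases (hmem g).1 hg with h | h
        · exact ⟨(true, ⟨g, (hst _).2 h⟩), by simp⟩
        · refine ⟨(false, ⟨⟨n, hnG⟩⁻¹ * g, ?_⟩), ?_⟩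
          · rw [hst]
            change n⁻¹ ((g : W ≃ₗ[ℚ] W) M.d₀) = M.d₀
            rw [h, ← hnd, inv_apply_self']
          · simp
    rw [← h1, Nat.card_prod]
    simp
  have h2 : Nat.card M.D = 27143910000 := by rw [Nat.card_coe_set_eq, A.orb.card_D]
  rw [A.card_G, h2] at e1
  rw [e2]
  omega

theorem card_class : Nat.card (conjugatesOf (⟨M.t₀, A.C_le_G A.t₀_C⟩ : M.G)) = 13571955000 := by
  have := A.finite_G
  have h1 := A.card_cent B
  have h2 : Nat.card (conjugatesOf (⟨M.t₀, A.C_le_G A.t₀_C⟩ : M.G)) *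
      Nat.card (Subgroup.centralizer ({(⟨M.t₀, A.C_le_G A.t₀_C⟩ : M.G)} : Set M.G)) =
      Nat.card M.G := by
    rw [← Nat.card_prod]
    have e1 : conjugatesOf (⟨M.t₀, A.C_le_G A.t₀_C⟩ : M.G) =
        MulAction.orbit (ConjAct M.G) (⟨M.t₀, A.C_le_G A.t₀_C⟩ : M.G) := by
      rw [ConjAct.orbit_eq_carrier_conjClasses]
      rfl
    have e2 : Nat.card (Subgroup.centralizer ({(⟨M.t₀, A.C_le_G A.t₀_C⟩ : M.G)} : Set M.G)) =
        Nat.card (MulAction.stabilizer (ConjAct M.G) (⟨M.t₀, A.C_le_G A.t₀_C⟩ : M.G)) := by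
      rw [ConjAct.stabilizer_eq_centralizer]
      rfl
    rw [Nat.card_prod, e1, e2, ← Nat.card_prod]
    exact Nat.card_congr (MulAction.orbitProdStabilizerEquivGroup (ConjAct M.G) _)
  rw [h1, A.card_G] at h2
  omega

/-- **The 4-transposition class** (`S0466`). -/
theorem final : ∃ (G : Type) (_ : Group G) (_ : Finite G), Cfsg.IsB G ∧ ∃ D : Set G,
    (∃ d ∈ D, D = conjugatesOf d) ∧ Nat.card D = 13571955000 ∧ (∀ d ∈ D, orderOf d = 2) ∧
    (∀ d ∈ D, ∀ e ∈ D, orderOf (d * e) ≤ 4) ∧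
    ∀ d ∈ D, Nat.card (Subgroup.centralizer ({d} : Set G)) = 306129918735099415756800 := by
  have hfin := A.finite_G
  set t : M.G := ⟨M.t₀, A.C_le_G A.t₀_C⟩ with ht
  refine ⟨M.G, inferInstance, hfin, A.isB, conjugatesOf t, ⟨t, mem_conjugatesOf_self, rfl⟩,
    A.card_class B, ?_, ?_, ?_⟩
  · intro d hd
    obtain ⟨g, hg⟩ := isConj_iff.1 hd
    rw [← hg]
    have h1 : orderOf (g * t * g⁻¹) = orderOf t := by
      exact orderOf_injective (MulAut.conj g).toMonoidHom (MulAut.conj g).injective t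
    rw [h1]
    refine orderOf_eq_prime (Subtype.ext ?_) (fun h => A.rep.t₀_ne (congrArg Subtype.val h))
    change M.t₀ ^ 2 = 1
    rw [pow_two, A.rep.t₀_sq]
  · intro d hd e he
    obtain ⟨g, rfl⟩ := isConj_iff.1 hd
    obtain ⟨k, rfl⟩ := isConj_iff.1 he
    -- `c = g⁻¹ k d₀ = h d_j`
    obtain ⟨j, h, hh, hc⟩ : ((g⁻¹ * k : M.G) : W ≃ₗ[ℚ] W) M.d₀ ∈ M.D :=
      ((A.G_le (g⁻¹ * k).2).2 _).2 A.d₀_mem
    obtain ⟨l, hl, hld, hord⟩ := B.order_le j
    obtain ⟨n, hn0, hn4, hpow⟩ := hord h⁻¹ (M.C.inv_mem hh)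
    have h1 := A.conj_t h l ((g⁻¹ * k : M.G) : W ≃ₗ[ℚ] W) (A.C_le hh) (A.G_le hl)
      (A.G_le (g⁻¹ * k).2) (Or.inl (by rw [hld, hc]))
    refine (orderOf_le_of_pow_eq_one hn0 ?_).trans hn4
    apply Subtype.ext
    have e2 : ((g * t * g⁻¹ * (k * t * k⁻¹) : M.G) : W ≃ₗ[ℚ] W) =
        ((g : W ≃ₗ[ℚ] W) * h) * ((h⁻¹ * M.t₀ * h⁻¹⁻¹) * (l * M.t₀ * l⁻¹)) *
          ((g : W ≃ₗ[ℚ] W) * h)⁻¹ := by
      have e3 : ((g * t * g⁻¹ * (k * t * k⁻¹) : M.G) : W ≃ₗ[ℚ] W) =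
          (g : W ≃ₗ[ℚ] W) * (M.t₀ * (((g⁻¹ * k : M.G) : W ≃ₗ[ℚ] W) * M.t₀ *
            ((g⁻¹ * k : M.G) : W ≃ₗ[ℚ] W)⁻¹)) * (g : W ≃ₗ[ℚ] W)⁻¹ := by
        push_cast
        rw [ht]
        group
      rw [e3, ← h1]
      group
    change ((g * t * g⁻¹ * (k * t * k⁻¹) : M.G) : W ≃ₗ[ℚ] W) ^ n = 1
    rw [e2, conj_pow, hpow, mul_one, mul_inv_cancel]
  · intro d hd
    obtain ⟨g, hg⟩ := isConj_iff.1 hd
    rw [← A.card_cent B, ← hg]
    refine Nat.card_congr ⟨fun x => ⟨g⁻¹ * x * g, ?_⟩, fun x => ⟨g * x * g⁻¹, ?_⟩, ?_, ?_⟩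
    · have hx := Cfsg.Agent.MonsterX.SimpleCrit.mem_cent.1 x.2
      rw [Cfsg.Agent.MonsterX.SimpleCrit.mem_cent]
      change g⁻¹ * (x : M.G) * g * t = t * (g⁻¹ * (x : M.G) * g)
      have e1 : g⁻¹ * (x : M.G) * g * t = g⁻¹ * ((x : M.G) * (g * t * g⁻¹)) * g := by group
      rw [e1, hx]
      group
    · have hx : (x : M.G) * t = t * x := Cfsg.Agent.MonsterX.SimpleCrit.mem_cent.1 x.2
      rw [Cfsg.Agent.MonsterX.SimpleCrit.mem_cent]
      have e1 : g * (x : M.G) * g⁻¹ * (g * t * g⁻¹) = g * ((x : M.G) * t) * g⁻¹ := by group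
      rw [e1, hx]
      group
    · intro x
      apply Subtype.ext
      change g * (g⁻¹ * (x : M.G) * g) * g⁻¹ = x
      group
    · intro x
      apply Subtype.ext
      change g⁻¹ * (g * (x : M.G) * g⁻¹) * g = x
      group

end BAll

end Cfsg.Agent.BabyM.Model
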