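import Cfsg.Agent.Monster.VecSpace
import Cfsg.Agent.Monster.PlaneArith

/-!
# Norms of blocks of lanes

For a mask `B` of lanes the sum of the squares of the entries of a vector in the lanes of `B` is invariant under all
programs which preserve `B` (and the standard form on `B`).
-/

set_option autoImplicit false

namespace Cfsg.Agent.BabyM.BlockNorm

open Cfsg.Agent.Monster Cfsg.Agent.Lib.PermNet Cfsg.Agent.Monster.VecEngine Cfsg.Agent.Monster.VecSpace

/-- The sum of the squares of the entries in the lanes of `B`. -/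
noncomputable def bn (U B : ℕ) (f : Lane U → ℚ) : ℚ := wform ℚ B (.sgn 0) (ext ℚ U f) (ext ℚ U f)

theorem bn_semE {m U B : ℕ} {w : Pl} {P : Prog} (h : GoodW m U w P) (hB : Good m B P) (f : Lane U → ℚ) :
    bn U B (semE ℚ U P f) = bn U B f := by
  unfold bn
  rw [semE_apply ℚ two_ne_zero h, ← sem_ext ℚ h.pres]
  exact (iso_sound ℚ two_ne_zero hB.ok hB.iso (ext ℚ U f) (ext ℚ U f)).1

/-- Invariance under a group generated by elements preserving the block. -/
theorem bn_closure {U B : ℕ} {S : Set ((Lane U → ℚ) ≃ₗ[ℚ] (Lane U → ℚ))} (hS : ∀ g ∈ S, ∀ f, bn U B (g f) = bn U B f)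
    {g : (Lane U → ℚ) ≃ₗ[ℚ] (Lane U → ℚ)} (hg : g ∈ Subgroup.closure S) (f : Lane U → ℚ) :
    bn U B (g f) = bn U B f := by
  induction hg using Subgroup.closure_induction generalizing f with
  | mem g hg => exact hS g hg f
  | one => rfl
  | mul a b _ _ ha hb => rw [LinearEquiv.mul_apply, ha, hb]
  | inv a _ ha =>
    rw [← ha (a⁻¹ f), ← LinearEquiv.mul_apply, mul_inv_cancel]
    rfl

/-- `B` is a subset of `U`. -/
noncomputable def subM (U B : ℕ) : Bool := Nat.beq (Nat.land B U) B

theorem subM_sound {U B : ℕ} (h : subM U B = true) {i : ℕ} (hi : B.testBit i = true) : U.testBit i = true := by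
  have h1 : B &&& U = B := Nat.eq_of_beq_eq_true h
  have h2 := congrArg (fun x => Nat.testBit x i) h1
  simp only [Nat.testBit_and, hi, Bool.true_and] at h2
  exact h2

/-- The sum of the squares in the lanes of `B` is `c` (with `k` planes). -/
noncomputable def bnIs (m k B c : ℕ) (x : Pl) : Bool :=
  (fun y => force y (PlaneArith.sumIs m k c (PlaneArith.mul y y))) (norm (msk B x))

theorem bn_vec {m U B : ℕ} (hBU : subM U B = true) (hB : B < 2 ^ 2 ^ m) (x : Pl) :
    bn U B (vecU ℚ U x) = ((∑ i ∈ Finset.range (2 ^ m), val (msk B x) i * val (msk B x) i : ℤ) : ℚ) := by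
  unfold bn wform
  have h1 : ∀ i : Lane B, (2 : ℚ) ^ (-(val (.sgn 0) i.1)) * (ext ℚ U (vecU ℚ U x) i.1 * ext ℚ U (vecU ℚ U x) i.1) =
      (fun j : ℕ => (val x j : ℚ) * (val x j : ℚ)) i.1 := by
    intro i
    have h2 : U.testBit i.1 = true := subM_sound hBU i.2
    rw [ext_apply_of_true ℚ h2]
    have h0 : val (.sgn 0) i.1 = 0 := by simp [bt]
    rw [h0]
    simp [vecU]
  rw [Finset.sum_congr rfl (fun i _ => h1 i)]
  refine (sum_lane hB (fun j : ℕ => (val x j : ℚ) * (val x j : ℚ))).trans ?_
  rw [Int.cast_sum]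
  refine Finset.sum_congr rfl fun i _ => ?_
  rw [val_msk]
  split_ifs <;> push_cast <;> ring

theorem bn_of_check {m k U B c : ℕ} (hBU : subM U B = true) (hB : B < 2 ^ 2 ^ m) (hc : c < 2 ^ k) {x : Pl}
    (h : bnIs m k B c x = true) : bn U B (vecU ℚ U x) = c := by
  have h' : force (norm (msk B x)) (PlaneArith.sumIs m k c (PlaneArith.mul (norm (msk B x)) (norm (msk B x)))) = true := h
  have h2 : PlaneArith.sumIs m k c (PlaneArith.mul (norm (msk B x)) (norm (msk B x))) = true := by
    rw [force_eq] at h'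
    exact h'
  have h3 := PlaneArith.sumIs_sound hc h2
  rw [bn_vec hBU hB]
  have h4 : ∑ i ∈ Finset.range (2 ^ m), val (msk B x) i * val (msk B x) i = (c : ℤ) := by
    rw [← h3]
    refine Finset.sum_congr rfl fun i _ => ?_
    rw [PlaneArith.val_mul, val_norm]
  rw [h4]
  simp

end Cfsg.Agent.BabyM.BlockNorm
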