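/-
Identities `ξ r v_k = n v_k'`, part 2.
Generated file (blueprints/R19/model_B_512).
-/
import Cfsg.Agent.BabyM.CertVec

set_option autoImplicit false
set_option maxRecDepth 100000

namespace Cfsg.Agent.BabyM.CertXi2

open Cfsg.Agent.Monster.VecEngine Cfsg.Agent.Monster.VecSpace Cfsg.Agent.BabyM.Conc Cfsg.Agent.BabyM.CertVec

def r50 : List Ltr := []

def n50 : List Ltr := [.p, .p, .p, .p, .p, .h, .p, .p, .h, .p, .p, .p, .y3, .y4, .y6, .y9, .y10, .Z0, .Z7, .X1, .X2, .X3, .X4, .X7, .X8, .X9, .X10]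

theorem c50 : check ((r50 ++ [Ltr.xi]).map Ltr.prog) v13 (n50.map Ltr.prog) v11 = true := by decide +kernel

def r51 : List Ltr := [.y2]

def n51 : List Ltr := [.p, .p, .p, .p, .h, .p, .p, .p, .p, .h, .p, .p, .p, .y1, .y4, .y5, .y6, .y7, .y8, .y9, .y10, .Z5, .Z6, .Z7, .Z9, .Z10, .X1, .X3, .X6, .X7, .X8, .X9, .X10]

theorem c51 : check ((r51 ++ [Ltr.xi]).map Ltr.prog) v13 (n51.map Ltr.prog) v13 = true := by decide +kernel

def r52 : List Ltr := [.p, .p, .p]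

def n52 : List Ltr := [.p, .p, .h, .p, .h, .p, .h, .p, .p, .h, .p, .h, .p, .y1, .y3, .y4, .y5, .y8, .y10, .Z0, .Z1, .Z4, .Z5, .Z6, .Z10, .X0, .X1, .X4, .X6, .X0, .Z0, .X0, .Z0]

theorem c52 : check ((r52 ++ [Ltr.xi]).map Ltr.prog) v13 (n52.map Ltr.prog) v14 = true := by decide +kernel

def r53 : List Ltr := [.h]

def n53 : List Ltr := [.h, .p, .p, .p, .h, .p, .p, .p, .p, .h, .p, .h, .y3, .y4, .y5, .y7, .y8, .y9, .y10, .Z0, .Z3, .Z5, .Z8, .Z10, .X1, .X3, .X6, .X7, .X8]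

theorem c53 : check ((r53 ++ [Ltr.xi]).map Ltr.prog) v13 (n53.map Ltr.prog) v16 = true := by decide +kernel

def r54 : List Ltr := [.h, .p]

def n54 : List Ltr := [.p, .p, .p, .p, .p, .p, .h, .p, .h, .p, .p, .y1, .y2, .y3, .y4, .y6, .y8, .y9, .y10, .Z1, .Z6, .Z8, .Z9, .Z10, .X2, .X4, .X5, .X6, .X7, .X9]

theorem c54 : check ((r54 ++ [Ltr.xi]).map Ltr.prog) v13 (n54.map Ltr.prog) v13 = true := by decide +kernel

def r55 : List Ltr := []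

def n55 : List Ltr := [.h, .p, .h, .p, .h, .p, .p, .h, .p, .p, .p, .p, .p, .h, .p, .y5, .y7, .y9, .Z2, .Z4, .Z6, .X1, .X3, .X6, .X7, .X8, .X9, .X0, .Z0, .X0, .Z0]

theorem c55 : check ((r55 ++ [Ltr.xi]).map Ltr.prog) v14 (n55.map Ltr.prog) v11 = true := by decide +kernel

def r56 : List Ltr := [.y2]

def n56 : List Ltr := [.p, .p, .p, .p, .p, .p, .h, .p, .p, .h, .p, .h, .p, .p, .y2, .y3, .y6, .y8, .y10, .Z0, .Z3, .Z4, .Z6, .Z9, .X0, .X4, .X9]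

theorem c56 : check ((r56 ++ [Ltr.xi]).map Ltr.prog) v14 (n56.map Ltr.prog) v14 = true := by decide +kernel

def r57 : List Ltr := [.h]

def n57 : List Ltr := [.h, .p, .p, .p, .p, .h, .p, .h, .p, .p, .h, .p, .p, .y2, .y4, .y8, .Z0, .Z3, .Z4, .Z5, .Z6, .Z7, .Z8, .X4, .X5, .X6, .X7, .X8, .X9, .X10]

theorem c57 : check ((r57 ++ [Ltr.xi]).map Ltr.prog) v14 (n57.map Ltr.prog) v14 = true := by decide +kernel

def r58 : List Ltr := [.p, .p]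

def n58 : List Ltr := [.p, .h, .p, .p, .p, .p, .h, .p, .p, .p, .h, .p, .h, .y1, .y3, .y5, .y7, .y8, .y9, .Z1, .Z4, .Z8, .X3, .X5, .X8, .X9, .X0, .Z0, .X0, .Z0]

theorem c58 : check ((r58 ++ [Ltr.xi]).map Ltr.prog) v14 (n58.map Ltr.prog) v16 = true := by decide +kernel

def r59 : List Ltr := [.h, .p]

def n59 : List Ltr := [.h, .p, .h, .p, .p, .p, .h, .p, .h, .p, .h, .p, .p, .y5, .y6, .y7, .Z3, .Z4, .Z5, .Z6, .Z7, .Z9, .Z10, .X0, .X1, .X3, .X4, .X5]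

theorem c59 : check ((r59 ++ [Ltr.xi]).map Ltr.prog) v14 (n59.map Ltr.prog) v14 = true := by decide +kernel

def r60 : List Ltr := [.h, .p, .y2]

def n60 : List Ltr := [.h, .p, .p, .p, .p, .p, .h, .p, .p, .p, .p, .h, .p, .p, .p, .y2, .y4, .y5, .y7, .y8, .y10, .Z1, .Z3, .Z4, .Z6, .Z7, .Z9, .X2, .X5, .X6, .X8, .X10]

theorem c60 : check ((r60 ++ [Ltr.xi]).map Ltr.prog) v14 (n60.map Ltr.prog) v13 = true := by decide +kernel

def r61 : List Ltr := []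

def n61 : List Ltr := [.h, .p, .p, .h, .p, .h, .p, .h, .p, .h, .y1, .y3, .y6, .y9, .Z1, .Z2, .Z3, .Z6, .Z8, .Z9, .X2, .X3, .X6, .X7, .X8, .X9, .X10]

theorem c61 : check ((r61 ++ [Ltr.xi]).map Ltr.prog) v15 (n61.map Ltr.prog) v15 = true := by decide +kernel

def r62 : List Ltr := [.h]

def n62 : List Ltr := [.p, .h, .p, .h, .p, .h, .p, .p, .p, .p, .p, .h, .p, .h, .y3, .y4, .y5, .y7, .y8, .y9, .Z2, .Z4, .Z5, .Z6, .Z7, .Z8, .Z9, .X4, .X6, .X7, .X8, .X9, .X0, .Z0, .X0, .Z0]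

theorem c62 : check ((r62 ++ [Ltr.xi]).map Ltr.prog) v15 (n62.map Ltr.prog) v17 = true := by decide +kernel

def r63 : List Ltr := []

def n63 : List Ltr := [.h, .p, .h, .p, .h, .p, .h, .p, .h, .p, .y1, .y2, .y9, .Z0, .Z3, .Z5, .Z8, .Z9, .X1, .X2, .X4, .X5, .X7, .X8, .X0, .Z0, .X0, .Z0]

theorem c63 : check ((r63 ++ [Ltr.xi]).map Ltr.prog) v16 (n63.map Ltr.prog) v13 = true := by decide +kernel

def r64 : List Ltr := [.y2]

def n64 : List Ltr := [.p, .p, .p, .p, .p, .h, .p, .p, .h, .p, .h, .p, .p, .p, .y2, .y4, .y6, .y8, .y9, .y10, .Z2, .Z3, .Z8, .Z9, .Z10, .X2, .X3, .X4, .X5, .X6, .X9, .X0, .Z0, .X0, .Z0]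

theorem c64 : check ((r64 ++ [Ltr.xi]).map Ltr.prog) v16 (n64.map Ltr.prog) v16 = true := by decide +kernel

def r65 : List Ltr := [.h]

def n65 : List Ltr := [.p, .p, .p, .p, .h, .p, .p, .p, .p, .p, .p, .p, .p, .y1, .y2, .y3, .y4, .y5, .y6, .Z0, .Z1, .Z3, .Z5, .Z7, .X0, .X2, .X3, .X4, .X5, .X7, .X8]

theorem c65 : check ((r65 ++ [Ltr.xi]).map Ltr.prog) v16 (n65.map Ltr.prog) v16 = true := by decide +kernel

def r66 : List Ltr := [.h, .p]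

def n66 : List Ltr := [.p, .p, .p, .h, .p, .h, .p, .p, .p, .p, .p, .p, .h, .p, .p, .h, .p, .p, .h, .y4, .y6, .y7, .Z3, .Z4, .Z7, .Z9, .X9, .X10]

theorem c66 : check ((r66 ++ [Ltr.xi]).map Ltr.prog) v16 (n66.map Ltr.prog) v14 = true := by decide +kernel

def r67 : List Ltr := [.p, .p]

def n67 : List Ltr := [.p, .p, .p, .p, .p, .p, .h, .p, .p, .p, .p, .p, .p, .p, .y3, .y9, .Z0, .Z2, .Z5, .Z8, .Z9, .X0, .X3, .X4, .X6, .X8]

theorem c67 : check ((r67 ++ [Ltr.xi]).map Ltr.prog) v16 (n67.map Ltr.prog) v16 = true := by decide +kernel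

def r68 : List Ltr := []

def n68 : List Ltr := [.p, .h, .p, .h, .p, .h, .p, .h, .p, .p, .h, .p, .p, .h, .p, .p, .y1, .y3, .y4, .y5, .y6, .y7, .y8, .y10, .Z2, .Z5, .Z7, .Z9, .Z10, .X0, .X1, .X2, .X4, .X7, .X8, .X9, .X0, .Z0, .X0, .Z0]

theorem c68 : check ((r68 ++ [Ltr.xi]).map Ltr.prog) v17 (n68.map Ltr.prog) v15 = true := by decide +kernel

def r69 : List Ltr := [.y2]

def n69 : List Ltr := [.p, .p, .p, .p, .p, .h, .p, .h, .p, .p, .h, .p, .h, .p, .p, .p, .p, .h, .p, .y1, .y5, .y7, .Z1, .Z6, .Z7, .Z8, .Z9, .X0, .X5, .X8, .X9]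

theorem c69 : check ((r69 ++ [Ltr.xi]).map Ltr.prog) v17 (n69.map Ltr.prog) v17 = true := by decide +kernel

def r70 : List Ltr := [.p, .h]

def n70 : List Ltr := [.h, .p, .h, .p, .h, .p, .p, .p, .p, .p, .p, .h, .p, .p, .p, .h, .p, .y1, .y3, .y4, .y6, .y7, .Z0, .Z2, .Z3, .Z4, .Z10, .X6, .X7, .X9, .X10, .X0, .Z0, .X0, .Z0]

theorem c70 : check ((r70 ++ [Ltr.xi]).map Ltr.prog) v17 (n70.map Ltr.prog) v18 = true := by decide +kernel

def r71 : List Ltr := [.p, .h, .p]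

def n71 : List Ltr := [.p, .p, .h, .p, .h, .p, .h, .p, .h, .p, .y1, .y4, .y6, .y7, .y10, .Z0, .Z1, .Z3, .Z5, .Z7, .Z10, .X2, .X5, .X6, .X8, .X10, .X0, .Z0, .X0, .Z0]

theorem c71 : check ((r71 ++ [Ltr.xi]).map Ltr.prog) v17 (n71.map Ltr.prog) v17 = true := by decide +kernel

def r72 : List Ltr := []

def n72 : List Ltr := [.p, .p, .p, .p, .p, .p, .p, .h, .p, .p, .h, .p, .y1, .y3, .y8, .y9, .Z1, .Z2, .Z3, .Z4, .Z6, .Z9, .X0, .X2, .X3, .X4, .X5, .X7, .X8, .X0, .Z0, .X0, .Z0]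

theorem c72 : check ((r72 ++ [Ltr.xi]).map Ltr.prog) v18 (n72.map Ltr.prog) v17 = true := by decide +kernel

def r73 : List Ltr := [.y2]

def n73 : List Ltr := [.p, .p, .p, .p, .h, .p, .h, .p, .p, .p, .h, .p, .p, .h, .y1, .y7, .y10, .Z1, .Z2, .Z3, .Z4, .Z5, .Z8, .Z9, .X0, .X5, .X6, .X10]

theorem c73 : check ((r73 ++ [Ltr.xi]).map Ltr.prog) v18 (n73.map Ltr.prog) v18 = true := by decide +kernel

end Cfsg.Agent.BabyM.CertXi2
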