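import Cfsg.Agent.BabyM.Count

/-!
# The Baby Monster: the class of transpositions, from the model facts

Inputs besides the structures of `Model.lean`:
* `hrig : ∀ g ∈ M.G, g d₀ = d₀ → g d₁ = d₁ → g ∈ M.C`;
* `hint : ∀ g ∈ M.G, g d₀ = d₀ → g * t₀ = t₀ * g`.
-/

set_option autoImplicit false

namespace Cfsg.Agent.BabyM.Class

open Cfsg.Agent.BabyM.Model Cfsg.Agent.BabyM.Count

variable {W : Type} [AddCommGroup W] [Module ℚ W] {M : BData W} {K₀ : Type} [Group K₀]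

theorem t₀_mem_G (BG : BGroup M K₀) (BR : BRep M) : M.t₀ ∈ M.G := C_le_G (BG.Q_le BR.t₀_mem)

theorem d₀_ne (BG : BGroup M K₀) (BR : BRep M) : M.d₀ ≠ 0 := by
  intro h
  have := F_d₁_d₀ BG BR
  rw [h, map_zero] at this
  norm_num at this

theorem neg_ne_self {x : W} (hx : x ≠ 0) : -x ≠ x := by
  intro h
  apply hx
  apply two_smul_eq_zero
  nth_rewrite 1 [← h]
  exact neg_add_cancel x

/-- the signed stabiliser of `d₀` in `G` centralises `t₀` -/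
theorem comm_of_pm (BR : BRep M)
    (hint : ∀ g ∈ M.G, g M.d₀ = M.d₀ → g * M.t₀ = M.t₀ * g) {g : W ≃ₗ[ℚ] W} (hg : g ∈ M.G)
    (h : g M.d₀ = M.d₀ ∨ g M.d₀ = -M.d₀) : g * M.t₀ = M.t₀ * g := by
  rcases h with h | h
  · exact hint g hg h
  · obtain ⟨k, hk, e⟩ := BR.neg
    have h1 := BR.t₀_comm k hk (Or.inr e)
    have h2 : (k * g) M.d₀ = M.d₀ := by
      change k (g M.d₀) = M.d₀
      rw [h, map_neg, e, neg_neg]
    have h3 := hint _ (mul_mem (C_le_G hk) hg) h2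
    have h4 : k * (g * M.t₀) = k * (M.t₀ * g) := by
      calc k * (g * M.t₀) = (k * g) * M.t₀ := by group
        _ = (M.t₀ * k) * g := by rw [h3]; group
        _ = k * (M.t₀ * g) := by rw [← h1]; group
    exact mul_left_cancel h4

/-- if `h ∈ C` centralises `t₀` then `h d₀ = ± d₀` -/
theorem pm_of_comm_C (BG : BGroup M K₀) (BR : BRep M) {h : W ≃ₗ[ℚ] W} (hh : h ∈ M.C)
    (hc : h * M.t₀ = M.t₀ * h) : h M.d₀ = M.d₀ ∨ h M.d₀ = -M.d₀ := by
  have he : h M.e₀ = M.e₀ ∨ h M.e₀ = -M.e₀ := by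
    by_contra hne
    push Not at hne
    obtain ⟨q, hq, h1, h2⟩ := BR.sep h hh hne.1 hne.2
    have hqt : q * M.t₀ = M.t₀ * q := by
      by_contra h3
      have h4 := BR.Q_e₀_neg q hq h3
      rw [h1] at h4
      exact neg_ne_self (e₀_ne BR) h4.symm
    have hq' : h⁻¹ * q * h ∈ M.Q := by
      have := Q_normal BG (inv_mem hh) hq
      rwa [inv_inv] at this
    have h5 : (h⁻¹ * q * h) * M.t₀ = M.t₀ * (h⁻¹ * q * h) := by
      have h6 : h⁻¹ * M.t₀ = M.t₀ * h⁻¹ := by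
        calc h⁻¹ * M.t₀ = h⁻¹ * (M.t₀ * h) * h⁻¹ := by group
          _ = M.t₀ * h⁻¹ := by rw [← hc]; group
      calc (h⁻¹ * q * h) * M.t₀ = h⁻¹ * q * (h * M.t₀) := by group
        _ = h⁻¹ * (q * M.t₀) * h := by rw [hc]; group
        _ = (h⁻¹ * M.t₀) * q * h := by rw [hqt]; group
        _ = M.t₀ * (h⁻¹ * q * h) := by rw [h6]; group
    have h7 := BR.Q_e₀_pos _ hq' h5
    have h8 : q (h M.e₀) = h M.e₀ := by
      have : q (h M.e₀) = h ((h⁻¹ * q * h) M.e₀) := by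
        change (q * h) M.e₀ = (h * (h⁻¹ * q * h)) M.e₀
        congr 1
        group
      rw [this, h7]
    rw [h2] at h8
    refine neg_ne_self ?_ h8
    intro h9
    exact e₀_ne BR ((map_eq_zero_iff h h.injective).1 h9)
  have hu := BR.stab_e₀ h hh he
  -- the partner is excluded
  have hd : ∀ ε : ℤˣ, (h M.d₀ = ((ε : ℤ) : ℚ) • M.d₁) → False := by
    intro ε h1
    obtain ⟨q, hq, hqt, q1, q2⟩ := exists_q BG BR
    have hq0 : q M.d₀ = M.d₁ := by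
      change q (M.u₀ + M.e₀) = M.u₀ - M.e₀
      rw [map_add, q1, q2, sub_eq_add_neg]
    have h2 : (q⁻¹ * h) M.d₀ = ((ε : ℤ) : ℚ) • M.d₀ := by
      change q⁻¹ (h M.d₀) = _
      rw [h1, map_smul, ← hq0]
      congr 1
      exact LinearEquiv.symm_apply_apply _ _
    have h3 : (q⁻¹ * h) M.d₀ = M.d₀ ∨ (q⁻¹ * h) M.d₀ = -M.d₀ := by
      rcases Int.units_eq_one_or ε with rfl | rfl
      · left; rw [h2]; simp
      · right; rw [h2]; simp
    have h4 := BR.t₀_comm _ (mul_mem (inv_mem (BG.Q_le hq)) hh) h3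
    apply hqt
    have h5 : q⁻¹ * M.t₀ = M.t₀ * q⁻¹ := by
      have : (q⁻¹ * M.t₀) * h = (M.t₀ * q⁻¹) * h := by
        calc (q⁻¹ * M.t₀) * h = q⁻¹ * (M.t₀ * h) := by group
          _ = q⁻¹ * h * M.t₀ := by rw [← hc]; group
          _ = (M.t₀ * q⁻¹) * h := by rw [h4]; group
      exact mul_right_cancel this
    calc q * M.t₀ = q * (M.t₀ * q⁻¹) * q := by group
      _ = M.t₀ * q := by rw [← h5]; group
  rcases he with he | he <;> rcases hu with hu | hu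
  · left
    change h (M.u₀ + M.e₀) = M.u₀ + M.e₀
    rw [map_add, he, hu]
  · exfalso
    apply hd (-1)
    change h (M.u₀ + M.e₀) = _ • (M.u₀ - M.e₀)
    rw [map_add, he, hu]
    simp
    abel
  · exfalso
    apply hd 1
    change h (M.u₀ + M.e₀) = _ • (M.u₀ - M.e₀)
    rw [map_add, he, hu]
    simp
    abel
  · right
    change h (M.u₀ + M.e₀) = -(M.u₀ + M.e₀)
    rw [map_add, he, hu]
    abel

/-- `C` preserves the `23`-part -/
theorem C_smul_U {g : W ≃ₗ[ℚ] W} (hg : g ∈ M.C) {x : W} (hx : x ∈ M.U) : g x ∈ M.U := by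
  have : M.U.map (g : W →ₗ[ℚ] W) ≤ M.U := by
    rw [BData.U, Submodule.map_span, Submodule.span_le]
    rintro _ ⟨y, ⟨k, hk, rfl⟩, rfl⟩
    exact Submodule.subset_span ⟨g * k, mul_mem hg hk, rfl⟩
  exact this (Submodule.mem_map_of_mem hx)

/-- `Q` is trivial on the `23`-part -/
theorem Q_fix_U (BG : BGroup M K₀) (BR : BRep M) {q : W ≃ₗ[ℚ] W} (hq : q ∈ M.Q) {x : W}
    (hx : x ∈ M.U) : q x = x := by
  induction hx using Submodule.span_induction with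
  | mem x hx =>
    obtain ⟨g, hg, rfl⟩ := hx
    have hq' : g⁻¹ * q * g ∈ M.Q := by
      have := Q_normal BG (inv_mem hg) hq
      rwa [inv_inv] at this
    have : q (g M.u₀) = g ((g⁻¹ * q * g) M.u₀) := by
      change (q * g) M.u₀ = (g * (g⁻¹ * q * g)) M.u₀
      congr 1
      group
    rw [this, BR.Q_u₀ _ hq']
  | zero => exact map_zero q
  | add x y _ _ hx hy => rw [map_add, hx, hy]
  | smul a x _ hx => rw [map_smul, hx]

/-- the centraliser of `t₀` in `G` is the signed stabiliser of `d₀` -/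
theorem pm_of_comm (BG : BGroup M K₀) (BR : BRep M) (BO : BOrbit M) (BT : BTrans M)
    (hint : ∀ g ∈ M.G, g M.d₀ = M.d₀ → g * M.t₀ = M.t₀ * g) {g : W ≃ₗ[ℚ] W} (hg : g ∈ M.G)
    (hc : g * M.t₀ = M.t₀ * g) : g M.d₀ = M.d₀ ∨ g M.d₀ = -M.d₀ := by
  obtain ⟨j, h, hh, e⟩ := G_smul_D BO hg _ (S_sub_D BO d₀_mem_S)
  by_cases hj : j = M.j₀
  · subst hj
    rw [BO.d_j₀] at e
    -- `h⁻¹ g` fixes `d₀`, hence `h` centralises `t₀`
    have h1 : (h⁻¹ * g) M.d₀ = M.d₀ := by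
      change h⁻¹ (g M.d₀) = M.d₀
      rw [e]
      exact LinearEquiv.symm_apply_apply _ _
    have h2 := hint _ (mul_mem (inv_mem (C_le_G hh)) hg) h1
    have h3 : h * M.t₀ = M.t₀ * h := by
      have h4 : h⁻¹ * M.t₀ = M.t₀ * h⁻¹ := by
        have : (h⁻¹ * M.t₀) * g = (M.t₀ * h⁻¹) * g := by
          calc (h⁻¹ * M.t₀) * g = h⁻¹ * (M.t₀ * g) := by group
            _ = h⁻¹ * g * M.t₀ := by rw [← hc]; group
            _ = (M.t₀ * h⁻¹) * g := by rw [h2]; group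
        exact mul_right_cancel this
      calc h * M.t₀ = h * (M.t₀ * h⁻¹) * h := by group
        _ = M.t₀ * h := by rw [← h4]; group
    rcases pm_of_comm_C BG BR hh h3 with h5 | h5
    · left; rw [e]; exact h5
    · right; rw [e]; exact h5
  · exfalso
    obtain ⟨g', hg', e', x, hx, hne⟩ := BT.moves j hj
    apply hne
    -- `g' t₀ g'⁻¹` is the `h⁻¹`-conjugate of `t₀`
    have h1 : (g'⁻¹ * (h⁻¹ * g)) M.d₀ = M.d₀ := by
      change g'⁻¹ (h⁻¹ (g M.d₀)) = M.d₀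
      rw [e]
      have : h⁻¹ (h (M.d j)) = M.d j := LinearEquiv.symm_apply_apply _ _
      rw [this, ← e']
      exact LinearEquiv.symm_apply_apply _ _
    have h2 := hint _ (mul_mem (inv_mem hg') (mul_mem (inv_mem (C_le_G hh)) hg)) h1
    have h3 : g' * M.t₀ * g'⁻¹ = h⁻¹ * M.t₀ * h := by
      have h5 : g⁻¹ * M.t₀ = M.t₀ * g⁻¹ := by
        calc g⁻¹ * M.t₀ = g⁻¹ * (M.t₀ * g) * g⁻¹ := by group
          _ = M.t₀ * g⁻¹ := by rw [← hc]; group
      calc g' * M.t₀ * g'⁻¹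
          = g' * (M.t₀ * (g'⁻¹ * (h⁻¹ * g))) * g⁻¹ * h := by group
        _ = g' * ((g'⁻¹ * (h⁻¹ * g)) * M.t₀) * g⁻¹ * h := by rw [h2]
        _ = h⁻¹ * (g * M.t₀) * g⁻¹ * h := by group
        _ = h⁻¹ * M.t₀ * h := by rw [hc]; group
    rw [h3]
    change h⁻¹ (M.t₀ (h x)) = x
    rw [Q_fix_U BG BR BR.t₀_mem (C_smul_U hh hx)]
    exact LinearEquiv.symm_apply_apply _ _

/-- the centraliser of `t₀` -/
theorem card_centralizer_t₀ (BG : BGroup M K₀) (BR : BRep M) (BO : BOrbit M) (BT : BTrans M)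
    (hrig : ∀ g ∈ M.G, g M.d₀ = M.d₀ → g M.d₁ = M.d₁ → g ∈ M.C)
    (hint : ∀ g ∈ M.G, g M.d₀ = M.d₀ → g * M.t₀ = M.t₀ * g) :
    Nat.card (Subgroup.centralizer ({(⟨M.t₀, t₀_mem_G BG BR⟩ : M.G)} : Set M.G)) =
      306129918735099415756800 := by
  have hfin := finite_G BG BR BO
  have hG := card_G BG BR BO hrig
  -- the stabiliser of `d₀`
  have e1 : Nat.card M.G = Nat.card M.D * Nat.card (MulAction.stabilizer M.G M.d₀) := by
    rw [D_eq_orbit BO, ← Nat.card_prod]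
    exact Nat.card_congr (MulAction.orbitProdStabilizerEquivGroup M.G M.d₀).symm
  have hD : Nat.card M.D = 27143910000 := by rw [Nat.card_coe_set_eq, BO.card_D]
  obtain ⟨k, hk, ek⟩ := BR.neg
  have hkd : k (k M.d₀) = M.d₀ := by rw [ek, map_neg, ek, neg_neg]
  have hkd' : k⁻¹ M.d₀ = -M.d₀ := by
    rw [← neg_eq_iff_eq_neg, ← map_neg, ← ek]
    exact LinearEquiv.symm_apply_apply _ _
  have hmem : ∀ g : M.G, g ∈ Subgroup.centralizer ({(⟨M.t₀, t₀_mem_G BG BR⟩ : M.G)} : Set M.G) ↔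
      ((g : W ≃ₗ[ℚ] W) M.d₀ = M.d₀ ∨ (g : W ≃ₗ[ℚ] W) M.d₀ = -M.d₀) := by
    intro g
    rw [Subgroup.mem_centralizer_singleton_iff]
    constructor
    · intro h
      exact pm_of_comm BG BR BO BT hint g.2 (congrArg Subtype.val h)
    · intro h
      exact Subtype.ext (comm_of_pm BR hint g.2 h)
  have hstab : ∀ g : M.G, g ∈ MulAction.stabilizer M.G M.d₀ ↔
      (g : W ≃ₗ[ℚ] W) M.d₀ = M.d₀ := fun g => Iff.rfl
  have hkg : ∀ g : MulAction.stabilizer M.G M.d₀,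
      (((⟨k, C_le_G hk⟩ : M.G) * g.1 : M.G) : W ≃ₗ[ℚ] W) M.d₀ = -M.d₀ := by
    intro g
    have h1 : (g.1 : W ≃ₗ[ℚ] W) M.d₀ = M.d₀ := g.2
    change k ((g.1 : W ≃ₗ[ℚ] W) M.d₀) = -M.d₀
    rw [h1, ek]
  have e2 : Nat.card (Subgroup.centralizer ({(⟨M.t₀, t₀_mem_G BG BR⟩ : M.G)} : Set M.G)) =
      Nat.card (MulAction.stabilizer M.G M.d₀ ⊕ MulAction.stabilizer M.G M.d₀) := by
    refine (Nat.card_congr (Equiv.ofBijective (Sum.elim
      (fun g : MulAction.stabilizer M.G M.d₀ =>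
        (⟨g.1, (hmem _).2 (Or.inl ((hstab _).1 g.2))⟩ :
          Subgroup.centralizer ({(⟨M.t₀, t₀_mem_G BG BR⟩ : M.G)} : Set M.G)))
      (fun g : MulAction.stabilizer M.G M.d₀ =>
        ⟨⟨k, C_le_G hk⟩ * g.1, (hmem _).2 (Or.inr (hkg g))⟩)) ⟨?_, ?_⟩)).symm
    · rintro (g | g) (g' | g') h
      · have h1 := congrArg Subtype.val h
        simp only [Sum.elim_inl] at h1
        rw [Subtype.ext h1]
      · exfalso
        have h1 := congrArg Subtype.val h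
        simp only [Sum.elim_inl, Sum.elim_inr] at h1
        have h2 := (hstab _).1 g.2
        rw [h1, hkg] at h2
        exact neg_ne_self (d₀_ne BG BR) h2
      · exfalso
        have h1 := congrArg Subtype.val h
        simp only [Sum.elim_inl, Sum.elim_inr] at h1
        have h2 := (hstab _).1 g'.2
        rw [← h1, hkg] at h2
        exact neg_ne_self (d₀_ne BG BR) h2
      · have h1 := congrArg Subtype.val h
        simp only [Sum.elim_inr] at h1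
        rw [Subtype.ext (mul_left_cancel h1)]
    · rintro ⟨g, hg⟩
      rcases (hmem _).1 hg with h | h
      · exact ⟨Sum.inl ⟨g, h⟩, rfl⟩
      · refine ⟨Sum.inr ⟨⟨k, C_le_G hk⟩⁻¹ * g, ?_⟩, ?_⟩
        · rw [hstab]
          change k⁻¹ ((g : W ≃ₗ[ℚ] W) M.d₀) = M.d₀
          rw [h, map_neg, hkd', neg_neg]
        · apply Subtype.ext
          simp only [Sum.elim_inr]
          rw [mul_inv_cancel_left]
  rw [e2, Nat.card_sum]
  rw [hG, hD] at e1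
  omega

theorem card_conj (BG : BGroup M K₀) (BR : BRep M) (BO : BOrbit M) (BT : BTrans M)
    (hrig : ∀ g ∈ M.G, g M.d₀ = M.d₀ → g M.d₁ = M.d₁ → g ∈ M.C)
    (hint : ∀ g ∈ M.G, g M.d₀ = M.d₀ → g * M.t₀ = M.t₀ * g) :
    Nat.card (conjugatesOf (⟨M.t₀, t₀_mem_G BG BR⟩ : M.G)) = 13571955000 := by
  have hfin := finite_G BG BR BO
  have hG := card_G BG BR BO hrig
  have h1 := card_centralizer_t₀ BG BR BO BT hrig hint
  set t : M.G := ⟨M.t₀, t₀_mem_G BG BR⟩ with ht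
  have h2 : Nat.card (MulAction.orbit (ConjAct M.G) t) *
      Nat.card (MulAction.stabilizer (ConjAct M.G) t) = Nat.card (ConjAct M.G) := by
    rw [← Nat.card_prod]
    exact Nat.card_congr (MulAction.orbitProdStabilizerEquivGroup _ _)
  have h3 : MulAction.orbit (ConjAct M.G) t = conjugatesOf t := by
    ext x
    rw [ConjAct.mem_orbit_conjAct]
    exact isConj_comm
  have h4 : Nat.card (MulAction.stabilizer (ConjAct M.G) t) =
      Nat.card (Subgroup.centralizer ({t} : Set M.G)) := by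
    rw [ConjAct.stabilizer_eq_centralizer]
    rfl
  have h5 : Nat.card (ConjAct M.G) = Nat.card M.G := rfl
  rw [h3, h4, h5, h1, hG] at h2
  omega

/-- products of two conjugates of `t₀` -/
theorem order_le (BO : BOrbit M) (BT : BTrans M)
    (hint : ∀ g ∈ M.G, g M.d₀ = M.d₀ → g * M.t₀ = M.t₀ * g) {a b : W ≃ₗ[ℚ] W} (ha : a ∈ M.G)
    (hb : b ∈ M.G) : ∃ n : ℕ, 0 < n ∧ n ≤ 4 ∧
      ((a * M.t₀ * a⁻¹) * (b * M.t₀ * b⁻¹)) ^ n = 1 := by
  -- `a⁻¹ b d₀ = h (d j)`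
  obtain ⟨j, h, hh, e⟩ := G_smul_D BO (mul_mem (inv_mem ha) hb) _ (S_sub_D BO d₀_mem_S)
  obtain ⟨g, hg, eg, hall⟩ := BT.order_le j
  obtain ⟨n, hn0, hn4, hn⟩ := hall h⁻¹ (inv_mem hh)
  refine ⟨n, hn0, hn4, ?_⟩
  -- `g⁻¹ h⁻¹ a⁻¹ b` fixes `d₀`
  have h1 : (g⁻¹ * (h⁻¹ * (a⁻¹ * b))) M.d₀ = M.d₀ := by
    change g⁻¹ (h⁻¹ ((a⁻¹ * b) M.d₀)) = M.d₀
    rw [e]
    have : h⁻¹ (h (M.d j)) = M.d j := LinearEquiv.symm_apply_apply _ _
    rw [this, ← eg]
    exact LinearEquiv.symm_apply_apply _ _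
  have h2 := hint _ (mul_mem (inv_mem hg) (mul_mem (inv_mem (C_le_G hh))
    (mul_mem (inv_mem ha) hb))) h1
  have h3 : g * M.t₀ * g⁻¹ = (h⁻¹ * a⁻¹) * (b * M.t₀ * b⁻¹) * (h⁻¹ * a⁻¹)⁻¹ := by
    calc g * M.t₀ * g⁻¹ = g * (M.t₀ * (g⁻¹ * (h⁻¹ * (a⁻¹ * b)))) * b⁻¹ * a * h := by group
      _ = g * ((g⁻¹ * (h⁻¹ * (a⁻¹ * b))) * M.t₀) * b⁻¹ * a * h := by rw [h2]
      _ = (h⁻¹ * a⁻¹) * (b * M.t₀ * b⁻¹) * (h⁻¹ * a⁻¹)⁻¹ := by group
  have h4 : h⁻¹ * M.t₀ * (h⁻¹)⁻¹ = (h⁻¹ * a⁻¹) * (a * M.t₀ * a⁻¹) * (h⁻¹ * a⁻¹)⁻¹ := by group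
  rw [h3, h4] at hn
  have h5 : (h⁻¹ * a⁻¹) * (a * M.t₀ * a⁻¹) * (h⁻¹ * a⁻¹)⁻¹ *
      ((h⁻¹ * a⁻¹) * (b * M.t₀ * b⁻¹) * (h⁻¹ * a⁻¹)⁻¹) =
      (h⁻¹ * a⁻¹) * ((a * M.t₀ * a⁻¹) * (b * M.t₀ * b⁻¹)) * (h⁻¹ * a⁻¹)⁻¹ := by group
  rw [h5, conj_pow, mul_inv_eq_one] at hn
  exact mul_left_cancel (hn.trans (mul_one _).symm)

/-- the statement S0466 from the model -/
theorem final (BG : BGroup M K₀) (BR : BRep M) (BO : BOrbit M) (BT : BTrans M)
    (hrig : ∀ g ∈ M.G, g M.d₀ = M.d₀ → g M.d₁ = M.d₁ → g ∈ M.C)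
    (hint : ∀ g ∈ M.G, g M.d₀ = M.d₀ → g * M.t₀ = M.t₀ * g) (hs : IsSimpleGroup M.G) :
    ∃ (G : Type) (_ : Group G) (_ : Finite G), Cfsg.IsB G ∧ ∃ D : Set G,
      (∃ d ∈ D, D = conjugatesOf d) ∧ Nat.card D = 13571955000 ∧ (∀ d ∈ D, orderOf d = 2) ∧
      (∀ d ∈ D, ∀ e ∈ D, orderOf (d * e) ≤ 4) ∧
      ∀ d ∈ D, Nat.card (Subgroup.centralizer ({d} : Set G)) = 306129918735099415756800 := by
  have hfin := finite_G BG BR BO
  have hG := card_G BG BR BO hrig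
  set t : M.G := ⟨M.t₀, t₀_mem_G BG BR⟩ with ht
  have ht2 : t * t = 1 := Subtype.ext BR.t₀_sq
  have ht1 : t ≠ 1 := fun h => BR.t₀_ne (congrArg Subtype.val h)
  refine ⟨M.G, inferInstance, hfin, ⟨hs, hG⟩, conjugatesOf t, ⟨t, mem_conjugatesOf_self, rfl⟩,
    card_conj BG BR BO BT hrig hint, ?_, ?_, ?_⟩
  · intro d hd
    obtain ⟨g, rfl⟩ := isConj_iff.1 (show IsConj t d from hd)
    rw [orderOf_eq_prime_iff]
    constructor
    · rw [pow_two]
      calc g * t * g⁻¹ * (g * t * g⁻¹) = g * (t * t) * g⁻¹ := by group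
        _ = 1 := by rw [ht2]; group
    · intro h
      apply ht1
      calc t = g⁻¹ * (g * t * g⁻¹) * g := by group
        _ = 1 := by rw [h]; group
  · intro d hd e he
    obtain ⟨g, rfl⟩ := isConj_iff.1 (show IsConj t d from hd)
    obtain ⟨g', rfl⟩ := isConj_iff.1 (show IsConj t e from he)
    obtain ⟨n, hn0, hn4, hn⟩ := order_le BO BT hint g.2 g'.2
    have h1 : (g * t * g⁻¹ * (g' * t * g'⁻¹)) ^ n = 1 := Subtype.ext hn
    exact (orderOf_le_of_pow_eq_one hn0 h1).trans hn4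
  · intro d hd
    obtain ⟨g, rfl⟩ := isConj_iff.1 (show IsConj t d from hd)
    rw [← card_centralizer_t₀ BG BR BO BT hrig hint]
    refine Nat.card_congr
      { toFun := fun x => ⟨g⁻¹ * x.1 * g, ?_⟩
        invFun := fun x => ⟨g * x.1 * g⁻¹, ?_⟩
        left_inv := fun x => Subtype.ext (by group)
        right_inv := fun x => Subtype.ext (by group) }
    · have h1 := Subgroup.mem_centralizer_singleton_iff.1 x.2
      rw [Subgroup.mem_centralizer_singleton_iff]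
      calc g⁻¹ * x.1 * g * t = g⁻¹ * (x.1 * (g * t * g⁻¹)) * g := by group
        _ = t * (g⁻¹ * x.1 * g) := by rw [h1]; group
    · have h1 := Subgroup.mem_centralizer_singleton_iff.1 x.2
      rw [Subgroup.mem_centralizer_singleton_iff]
      calc g * x.1 * g⁻¹ * (g * t * g⁻¹) = g * (x.1 * t) * g⁻¹ := by group
        _ = g * t * g⁻¹ * (g * x.1 * g⁻¹) := by
          have h2 : x.1 * t = t * x.1 := h1
          rw [h2]; group

end Cfsg.Agent.BabyM.Class
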