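import Cfsg.Agent.BabyM.KGood

/-!
# Numbers which are not codes of X-lanes (helper33)

Binary search in the sorted table of the codes of the X-lanes.
-/

set_option autoImplicit false

namespace Cfsg.Agent.BabyM.ClosCode

open Cfsg.Agent.Lib.PermNet hiding tb tb_eq
open Cfsg.Agent.Monster Cfsg.Agent.Monster.VecEngine Cfsg.Agent.Monster.VecSpace
open Cfsg.Agent.BabyM.KTabData Cfsg.Agent.BabyM.Conc Cfsg.Agent.BabyM.KTab Cfsg.Agent.BabyM.KGood

/-- One step of the binary search of the last code `≤ x`. -/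
noncomputable def bstep (x st lo : ℕ) : ℕ :=
  Bool.rec lo (Nat.add lo st) (and (Nat.blt (Nat.add lo st) 2300) (Nat.ble (cd (ord (Nat.add lo st))) x))

/-- The binary search. -/
noncomputable def bsearch (x : ℕ) (k : ℕ → Bool) (l : List ℕ) : ℕ → Bool :=
  List.rec (motive := fun _ => ℕ → Bool) k (fun st _ ih lo => seqB (bstep x st lo) ih) l

/-- `x` lies between two consecutive codes. -/
noncomputable def gapOK (x lo : ℕ) : Bool :=
  and (Nat.blt lo 2300) (and
    (Bool.rec (and (Nat.beq lo 0) (Nat.blt x (cd (ord 0)))) true (Nat.blt (cd (ord lo)) x))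
    (Bool.rec (Nat.blt x (cd (ord (Nat.succ lo)))) true (Nat.beq lo 2299)))

/-- `x` is not a code. -/
noncomputable def notCode (x : ℕ) : Bool :=
  bsearch x (gapOK x) [2048, 1024, 512, 256, 128, 64, 32, 16, 8, 4, 2, 1] 0

theorem gapOK_sound {x lo : ℕ} (h : gapOK x lo = true) {k : ℕ} (hk : k < 2300) : cd (ord k) ≠ x := by
  have h' : and (Nat.blt lo 2300) (and
    (Bool.rec (and (Nat.beq lo 0) (Nat.blt x (cd (ord 0)))) true (Nat.blt (cd (ord lo)) x))
    (Bool.rec (Nat.blt x (cd (ord (Nat.succ lo)))) true (Nat.beq lo 2299))) = true := h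
  rw [Bool.and_eq_true, Bool.and_eq_true, blt_iff] at h'
  obtain ⟨h1, h2, h3⟩ := h'
  rcases Nat.lt_or_ge lo k with hlt | hge
  · have hne : Nat.beq lo 2299 = false := by
      rw [Bool.eq_false_iff]
      intro h
      have := Nat.eq_of_beq_eq_true h
      omega
    rw [hne] at h3
    have h4 : x < cd (ord (lo + 1)) := (blt_iff _ _).mp h3
    have h5 : cd (ord (lo + 1)) ≤ cd (ord k) := by
      rcases Nat.lt_or_ge (lo + 1) k with h6 | h6
      · exact (cd_ord_lt h6 hk).le
      · have : lo + 1 = k := by omega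
        rw [this]
    omega
  · cases h6 : Nat.blt (cd (ord lo)) x with
    | true =>
      have h4 := (blt_iff _ _).mp h6
      have h5 : cd (ord k) ≤ cd (ord lo) := by
        rcases Nat.lt_or_ge k lo with h7 | h7
        · exact (cd_ord_lt h7 h1).le
        · have : k = lo := by omega
          rw [this]
      omega
    | false =>
      rw [h6] at h2
      have h7 : and (Nat.beq lo 0) (Nat.blt x (cd (ord 0))) = true := h2
      rw [Bool.and_eq_true, blt_iff] at h7
      have h8 := Nat.eq_of_beq_eq_true h7.1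
      have h9 : k = 0 := by omega
      rw [h9]
      omega

theorem bsearch_sound {x : ℕ} {k : ℕ → Bool} {l : List ℕ} {lo : ℕ} (h : bsearch x k l lo = true) :
    ∃ lo', k lo' = true := by
  induction l generalizing lo with
  | nil => exact ⟨lo, h⟩
  | cons st l ih =>
    have h' : seqB (bstep x st lo) (bsearch x k l) = true := h
    rw [seqB_eq] at h'
    exact ih h'

theorem notCode_sound {x : ℕ} (h : notCode x = true) {i : ℕ} (hi : U.testBit i = true) (h1 : i < 4096)
    (h2 : cd i ≠ 0) : cd i ≠ x := by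
  obtain ⟨lo, hlo⟩ := bsearch_sound h
  obtain ⟨h3, h4⟩ := ord_rk hi h1 h2
  rw [← h3]
  exact gapOK_sound hlo h4


end Cfsg.Agent.BabyM.ClosCode
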