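import Cfsg.Agent.BabyM.ClosQ
import Cfsg.Agent.BabyM.ClosCode
import Cfsg.Agent.BabyM.KRelP
import Cfsg.Agent.BabyM.ConcGrp

/-!
# F16 for the concrete model (helper33)

The field `gen` of `BabyU.Clos.Inner` for the group `M.G` of the concrete model of the Baby Monster: `t = R 0x75`,
`t₁ = R 0x475`, `t t₁ = R 0x400`.  There are 44 lanes whose codes differ by `0x400` from another code; the products of conjugates
under the powers of the letter `p` are given by a table.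
-/

set_option autoImplicit false
set_option Elab.async false

namespace Cfsg.Agent.BabyM.ClosGen

open Cfsg.Agent.Lib.PermNet hiding tb tb_eq
open Cfsg.Agent.Monster Cfsg.Agent.Monster.VecEngine Cfsg.Agent.Monster.VecSpace
open Cfsg.Agent.Monster.PauliBasic Cfsg.Agent.Monster.PauliRep Cfsg.Agent.Monster.PauliClif Cfsg.Agent.Monster.PauliBits
open Cfsg.Agent.BabyM.KTabData Cfsg.Agent.BabyM.QAct Cfsg.Agent.BabyM.Model
open Cfsg.Agent.BabyM.Conc Cfsg.Agent.BabyM.KTab Cfsg.Agent.BabyM.KCore Cfsg.Agent.BabyM.KRow Cfsg.Agent.BabyM.KRowData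
open Cfsg.Agent.BabyM.KGood Cfsg.Agent.BabyM.KQ Cfsg.Agent.BabyM.ClosQ Cfsg.Agent.BabyM.ClosCode Cfsg.Agent.BabyU.Clos

/-! ### Elements over a code -/

/-- `g` is an element of `Q` over the class with code `m`. -/
def Ov (g : V ≃ₗ[ℚ] V) (m : ℕ) : Prop := ∃ y : Pauli 11, g = Cd.R y ∧ ab y = ab (dec 11 m)

theorem Ov.mul {g g' : V ≃ₗ[ℚ] V} {m m' : ℕ} (h : Ov g m) (h' : Ov g' m') : Ov (g * g') (m ^^^ m') := by
  obtain ⟨y, rfl, h1⟩ := h
  obtain ⟨y', rfl, h2⟩ := h'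
  exact ⟨y * y', (map_mul _ _ _).symm, by rw [ab_mul, h1, h2, ab_dec_xor]⟩

theorem Ov.one : Ov 1 0 := ⟨1, (map_one _).symm, by rw [dec_zero]⟩

theorem Ov.z {M : BData V} (hz : M.z = Cd.R (Pauli.z 11)) : Ov M.z 0 :=
  ⟨Pauli.z 11, hz, by rw [dec_zero]; rfl⟩

theorem Ov.dec (m : ℕ) : Ov (Cd.R (PauliBits.dec 11 m)) m := ⟨_, rfl, rfl⟩

theorem Ov.inj {g : V ≃ₗ[ℚ] V} {m m' : ℕ} (h : Ov g m) (h' : Ov g m') (hm : m < 2 ^ 22) (hm' : m' < 2 ^ 22) :
    m = m' := by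
  obtain ⟨y, rfl, h1⟩ := h
  obtain ⟨y', e, h2⟩ := h'
  have e' := Cd.R_injective e
  subst e'
  exact eq_of_ab_dec hm hm' (h1.symm.trans h2)

/-! ### Conjugation by `p` -/

/-- The image of a code. -/
noncomputable def tp (m : ℕ) : ℕ := wfold (im I_p) m pos 0

/-- The code is the product of its generators. -/
noncomputable def wok (m : ℕ) : Bool := Nat.beq (wfold (fun k => 2 ^ k) m pos 0) m

theorem exists_alpha : ∃ α : MulAut (Pauli 11), (∀ x, E .p * Cd.R x = Cd.R (α x) * E .p) ∧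
    ∀ k < 22, α (dec 11 (2 ^ k)) = dec 11 (im I_p k) := by
  obtain ⟨α, hα⟩ := KCore.exists_aut Cd.R Cd.R_injective (E .p) closure_gens (by
    rintro x ⟨k, hk, rfl⟩
    exact ⟨_, KRelP.rel_p k hk⟩)
  refine ⟨α, hα, fun k hk => ?_⟩
  apply Cd.R_injective
  exact mul_right_cancel ((hα _).symm.trans (KRelP.rel_p k hk))

theorem Ov.conj {g : V ≃ₗ[ℚ] V} {m : ℕ} (h : Ov g m) (hw : wok m = true) : Ov (E .p * g * (E .p)⁻¹) (tp m) := by
  obtain ⟨α, h1, h2⟩ := exists_alpha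
  obtain ⟨y, rfl, hy⟩ := h
  refine ⟨α y, by rw [h1, mul_inv_cancel_right], ?_⟩
  rw [ab_aut_congr α hy]
  have h3 := wfold_sound h2 m pos (by decide) 0 0 (by rw [dec_zero, map_one])
  rw [Nat.eq_of_beq_eq_true hw] at h3
  rw [h3]; rfl

/-! ### Products of conjugates -/

/-- Run through the bits of `I`: `m` is the current conjugate, `acc` the current product. -/
noncomputable def go (k : ℕ → Bool) : ℕ → ℕ → ℕ → ℕ → Bool :=
  Nat.rec (motive := fun _ => ℕ → ℕ → ℕ → Bool) (fun _ _ acc => k acc)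
    (fun _ ih I m acc => and (wok m) (seqB (tp m) fun m' =>
      seqB (Bool.rec acc (Nat.xor acc m) (tb I 0)) fun acc' => seqB (Nat.shiftRight I 1) fun I' => ih I' m' acc'))

/-- conjugate by a power of `p` -/
noncomputable def cj (g : V ≃ₗ[ℚ] V) (i : ℕ) : V ≃ₗ[ℚ] V := E .p ^ i * g * (E .p ^ i)⁻¹

theorem cj_succ (g : V ≃ₗ[ℚ] V) (i : ℕ) : cj (E .p * g * (E .p)⁻¹) i = cj g (i + 1) := by
  unfold cj
  rw [pow_succ]; group

theorem cj_zero (g : V ≃ₗ[ℚ] V) : cj g 0 = g := by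
  unfold cj
  rw [pow_zero, one_mul, inv_one, mul_one]

theorem go_sound {k : ℕ → Bool} (n : ℕ) : ∀ {I m acc : ℕ} {g a : V ≃ₗ[ℚ] V}, Ov g m → Ov a acc →
    go k n I m acc = true → ∃ (l : List ℕ) (r : ℕ), k r = true ∧ Ov (a * (l.map (cj g)).prod) r := by
  induction n with
  | zero =>
    intro I m acc g a _ ha h
    exact ⟨[], acc, h, by rw [List.map_nil, List.prod_nil, mul_one]; exact ha⟩
  | succ n ih =>
    intro I m acc g a hg ha h
    have h' : and (wok m) (seqB (tp m) fun m' => seqB (Bool.rec acc (Nat.xor acc m) (tb I 0)) fun acc' =>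
      seqB (Nat.shiftRight I 1) fun I' => go k n I' m' acc') = true := h
    rw [Bool.and_eq_true, seqB_eq, seqB_eq, seqB_eq] at h'
    obtain ⟨hw, h1⟩ := h'
    cases hb : tb I 0 with
    | false =>
      rw [hb] at h1
      obtain ⟨l, r, hr, h2⟩ := ih (hg.conj hw) ha h1
      refine ⟨l.map (· + 1), r, hr, ?_⟩
      rw [List.map_map]
      have e : cj g ∘ (fun x => x + 1) = cj (E .p * g * (E .p)⁻¹) := by
        funext i
        exact (cj_succ g i).symm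
      rw [e]; exact h2
    | true =>
      rw [hb] at h1
      obtain ⟨l, r, hr, h2⟩ := ih (hg.conj hw) (ha.mul hg) h1
      refine ⟨0 :: l.map (· + 1), r, hr, ?_⟩
      rw [List.map_cons, List.prod_cons, List.map_map, cj_zero, ← mul_assoc]
      have e : cj g ∘ (fun x => x + 1) = cj (E .p * g * (E .p)⁻¹) := by
        funext i
        exact (cj_succ g i).symm
      rw [e]; exact h2

/-! ### The table -/

/-- Code of `x`, bits of the exponents, lane of the product. -/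
def tab : List (ℕ × ℕ × ℕ) :=
  [(0x0, 157, 1298), (0x1, 75, 1281), (0x401, 75, 1281), (0x2, 71, 1288), (0x402, 71, 1288), (0x4, 5, 1300),
    (0x404, 5, 1300), (0x8, 71, 1298), (0x408, 71, 1298), (0x10, 1, 1281), (0x410, 1, 1313), (0x20, 5, 1288),
    (0x420, 5, 1288), (0x40, 105, 1287), (0x440, 105, 1287), (0x75, 1, 1297), (0x475, 1, 1329), (0x80, 91, 1292),
    (0x480, 91, 1324), (0x9f, 91, 1293), (0x49f, 91, 1325), (0x100, 51, 1300), (0x500, 51, 1300), (0x14b, 51, 1298),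
    (0x54b, 51, 1298), (0x1b3, 33, 1296), (0x5b3, 33, 1296), (0x1ed, 33, 1291), (0x5ed, 33, 1291), (0x200, 25, 1296),
    (0x600, 25, 1328), (0x23a, 81, 1287), (0x63a, 81, 1319), (0x2cc, 73, 1293), (0x6cc, 73, 1325), (0x2e3, 7, 1294),
    (0x6e3, 7, 1326), (0x31d, 69, 1281), (0x71d, 69, 1313), (0x366, 19, 1297), (0x766, 19, 1329), (0x3b4, 7, 1298),
    (0x7b4, 7, 1330), (0x3da, 73, 1300), (0x7da, 73, 1332)]

/-- lane test -/
noncomputable def isXl (j : ℕ) : Bool := and (Nat.testBit U j) (and (Nat.blt j 4096) (not (Nat.beq (cd j) 0)))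

/-- The check of one entry. -/
noncomputable def entOK (e : ℕ × ℕ × ℕ) : Bool :=
  and (isXl e.2.2) (seqB (Nat.xor 0x65 e.1) fun m => go (fun r => Nat.beq r (cd e.2.2)) 8 e.2.1 m 0)

theorem tab_check : tab.all entOK = true := by decide +kernel

theorem zero_mem : (0, 157, 1298) ∈ tab := by decide

theorem dd_check : allN 12 (fun i => Bool.rec true (Bool.rec (Bool.rec (tab.any fun e => Nat.beq (cd i) e.1) true
    (notCode (Nat.xor (cd i) 0x400))) true (Nat.beq (cd i) 0)) (tb U i)) 0 = true := by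
  decide +kernel

theorem lanes_check : and (isXl 1297) (and (isXl 1329) (and (isXl 1313) (and (Nat.beq (cd 1297) 0x10)
    (and (Nat.beq (cd 1329) 0x410) (and (Nat.beq (cd 1313) 0x475) (Nat.beq (cd 1281) 0x75)))))) = true := by
  decide +kernel

theorem isXl_iff {j : ℕ} : isXl j = true → ∃ h : U.testBit j = true, Cd.isX ⟨j, h⟩ := by
  intro h
  have h' : and (Nat.testBit U j) (and (Nat.blt j 4096) (not (Nat.beq (cd j) 0))) = true := h
  rw [Bool.and_eq_true, Bool.and_eq_true, blt_iff] at h'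
  refine ⟨h'.1, isX_iff.mpr ⟨h'.2.1, fun h0 => ?_⟩⟩
  have h2 := h'.2.2
  rw [h0] at h2
  exact absurd h2 (by decide)

theorem facts : (isXl 1297 = true ∧ isXl 1329 = true ∧ isXl 1313 = true) ∧ cd 1297 = 0x10 ∧ cd 1329 = 0x410 ∧
    cd 1313 = 0x475 ∧ cd 1281 = 0x75 := by
  have h := lanes_check
  simp only [Bool.and_eq_true] at h
  obtain ⟨h1, h2, h3, h4, h5, h6, h7⟩ := h
  exact ⟨⟨h1, h2, h3⟩, Nat.eq_of_beq_eq_true h4, Nat.eq_of_beq_eq_true h5, Nat.eq_of_beq_eq_true h6,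
    Nat.eq_of_beq_eq_true h7⟩

/-- The second transposition. -/
noncomputable def t₁ : V ≃ₗ[ℚ] V := Cd.R (dec 11 0x475)

section

variable {w : Lane U → ℚ} {K₀ : Type} [Group K₀]

theorem cls_of (h : Link Cd u w Inst.M Inst.laneB) (A : BAll Inst.M K₀) (B : BTrans Inst.M) {g : V ≃ₗ[ℚ] V} {j : ℕ}
    (hj : isXl j = true) (hg : Ov g (cd j)) : g ∈ cls Inst.M.G Inst.M.t₀ ∧ g ∈ Inst.M.Q := by
  obtain ⟨y, rfl, hy⟩ := hg
  obtain ⟨hU, hX⟩ := isXl_iff hj
  exact ⟨(mem_cls_R h A B).2 ⟨⟨j, hU⟩, hX, hy⟩, h.mem_Q.mpr ⟨y, rfl⟩⟩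

theorem t₀_R (h : Link Cd u w Inst.M Inst.laneB) : Inst.M.t₀ = Cd.R (dec 11 0x75) := by
  rw [h.t₀_eq, ← facts.2.2.2.2]; rfl

theorem t₀_Ov (h : Link Cd u w Inst.M Inst.laneB) : Ov Inst.M.t₀ 0x75 := by
  rw [t₀_R h]; exact Ov.dec _

/-- `t t₁` -/
theorem c_eq (h : Link Cd u w Inst.M Inst.laneB) : Inst.M.t₀ * t₁ = Cd.R (dec 11 0x400) := by
  rw [t₀_R h, t₁, ← map_mul, ← dec_mulN (by norm_num)]
  congr 2

/-- The elements of `dd`. -/
theorem dd_code (h : Link Cd u w Inst.M Inst.laneB) (A : BAll Inst.M K₀) (B : BTrans Inst.M) {x : V ≃ₗ[ℚ] V}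
    (hx : x ∈ dd Inst.M.G Inst.M.Q Inst.M.t₀ (Inst.M.t₀ * t₁)) : ∃ e ∈ tab, Ov x e.1 := by
  obtain ⟨h1, h2, h3⟩ := hx
  obtain ⟨y, i, hi, hyi, rfl⟩ := exists_lane h A B h1 h2
  rw [c_eq h, ← map_mul] at h3
  obtain ⟨j, hj, hyj⟩ := (mem_cls_R h A B).1 h3
  rw [isX_iff] at hi hj
  have h4 : ab (dec 11 (cd i.1 ^^^ 0x400)) = ab (dec 11 (cd j.1)) := by
    rw [ab_dec_xor]
    rw [ab_mul, hyi] at hyj
    exact hyj
  have h5 : cd i.1 ^^^ 0x400 = cd j.1 :=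
    eq_of_ab_dec (Nat.xor_lt_two_pow (cd_lt _) (by norm_num)) (cd_lt _) h4
  have h6 := allN_spec dd_check (Nat.zero_le i.1) (by rw [zero_add]; exact hi.1)
  simp only [tb_eq, i.2] at h6
  have h0 : Nat.beq (cd i.1) 0 = false := by
    rw [Bool.eq_false_iff]
    exact fun h => hi.2 (Nat.eq_of_beq_eq_true h)
  rw [h0] at h6
  have h7 : notCode (Nat.xor (cd i.1) 0x400) = false := by
    rw [Bool.eq_false_iff]
    intro h8
    exact notCode_sound h8 j.2 hj.1 hj.2 h5.symm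
  simp only [h7] at h6
  have h8 : tab.any (fun e => Nat.beq (cd i.1) e.1) = true := h6
  rw [List.any_eq_true] at h8
  obtain ⟨e, he, h9⟩ := h8
  refine ⟨e, he, y, rfl, ?_⟩
  rw [hyi, ← Nat.eq_of_beq_eq_true h9]; rfl

theorem p_mem : E .p ∈ Inst.M.C := by
  have h := ConcGrp.W_mem_C (v := [.p]) (by decide)
  rwa [W_single] at h

theorem p_c : E .p * Cd.R (dec 11 0x400) = Cd.R (dec 11 0x400) * E .p := by
  have h := KRelP.rel_p 10 (by norm_num)
  have h2 : im I_p 10 = 0x400 := Nat.eq_of_beq_eq_true (by decide +kernel)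
  rw [h2] at h
  exact h

/-- **F16**: the field `gen`. -/
theorem gen (h : Link Cd u w Inst.M Inst.laneB) (A : BAll Inst.M K₀) (B : BTrans Inst.M) :
    ∃ f ∈ dd Inst.M.G Inst.M.Q Inst.M.t₀ (Inst.M.t₀ * t₁), ∃ f' ∈ dd Inst.M.G Inst.M.Q Inst.M.t₀ (Inst.M.t₀ * t₁),
      (∀ a ∈ four Inst.M.z (Inst.M.t₀ * t₁), f' ≠ f * a) ∧
      ∀ x : V ≃ₗ[ℚ] V, (x = 1 ∨ x ∈ dd Inst.M.G Inst.M.Q Inst.M.t₀ (Inst.M.t₀ * t₁)) → ∃ l : List (V ≃ₗ[ℚ] V),
        (∀ h ∈ l, h ∈ Inst.M.G ∧ h * Inst.M.z = Inst.M.z * h ∧ (h * (Inst.M.t₀ * t₁) * h⁻¹ = Inst.M.t₀ * t₁ ∨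
          h * (Inst.M.t₀ * t₁) * h⁻¹ = Inst.M.t₀ * t₁ * Inst.M.z)) ∧
        (l.map fun h => h * (f * f' * x) * h⁻¹).prod ∈ cls Inst.M.G Inst.M.t₀ := by
  obtain ⟨⟨X1, X2, X3⟩, c1, c2, c3, c4⟩ := facts
  have ht1' : Ov t₁ (cd 1313) := by rw [c3]; exact Ov.dec 0x475
  have ht1 : t₁ ∈ cls Inst.M.G Inst.M.t₀ := (cls_of h A B X3 ht1').1
  have hf1 : Ov (Cd.R (dec 11 0x10)) (cd 1297) := by rw [c1]; exact Ov.dec 0x10
  have hf' := cls_of h A B X1 hf1
  have hc : Ov (Inst.M.t₀ * t₁) 0x400 := by rw [c_eq h]; exact Ov.dec _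
  refine ⟨Inst.M.t₀, ⟨mem_cls_self _ _, A.rep.t₀_mem, ?_⟩, Cd.R (dec 11 0x10), ⟨hf'.1, hf'.2, ?_⟩, ?_, ?_⟩
  · rw [← mul_assoc, A.rep.t₀_sq, one_mul]; exact ht1
  · have h1 : Ov (Cd.R (dec 11 0x10) * (Inst.M.t₀ * t₁)) (cd 1329) := by
      have h2 := (Ov.dec 0x10).mul hc
      have h3 : 0x10 ^^^ 0x400 = cd 1329 := by rw [c2]; decide
      rw [h3] at h2
      exact h2
    exact (cls_of h A B X2 h1).1
  · intro a ha hfa
    have h1 : Ov (Cd.R (dec 11 0x10)) 0x10 := Ov.dec _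
    have hz : Ov Inst.M.z 0 := Ov.z h.z_eq
    have key : ∀ m, m < 2 ^ 22 → Ov a m → (0x75 ^^^ m) < 2 ^ 22 → 0x10 = 0x75 ^^^ m := by
      intro m _ hm hlt
      exact h1.inj (by rw [hfa]; exact (t₀_Ov h).mul hm) (by norm_num) hlt
    rcases ha with rfl | rfl | rfl | rfl
    · exact absurd (key 0 (by norm_num) Ov.one (by decide)) (by decide)
    · exact absurd (key 0 (by norm_num) hz (by decide)) (by decide)
    · exact absurd (key 0x400 (by norm_num) hc (by decide)) (by decide)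
    · exact absurd (key (0x400 ^^^ 0) (by decide) (hc.mul hz) (by decide)) (by decide)
  · intro x hx
    obtain ⟨e, he, hxe⟩ : ∃ e ∈ tab, Ov x e.1 := by
      rcases hx with rfl | hx
      · exact ⟨_, zero_mem, Ov.one⟩
      · exact dd_code h A B hx
    have h1 := List.all_eq_true.1 tab_check e he
    have h2 : and (isXl e.2.2) (seqB (Nat.xor 0x65 e.1) fun m => go (fun r => Nat.beq r (cd e.2.2)) 8 e.2.1 m 0) =
      true := h1
    rw [Bool.and_eq_true, seqB_eq] at h2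
    have h3 : Ov (Inst.M.t₀ * Cd.R (dec 11 0x10) * x) (Nat.xor 0x65 e.1) := ((t₀_Ov h).mul (Ov.dec 0x10)).mul hxe
    obtain ⟨l, r, hr, h4⟩ := go_sound 8 h3 Ov.one h2.2
    rw [one_mul, Nat.eq_of_beq_eq_true hr] at h4
    refine ⟨l.map fun i => E .p ^ i, ?_, ?_⟩
    · intro g hg
      obtain ⟨i, -, rfl⟩ := List.mem_map.1 hg
      have hpC : E .p ^ i ∈ Inst.M.C := Inst.M.C.pow_mem p_mem i
      refine ⟨A.C_le_G hpC, A.grp.z_comm _ hpC, Or.inl ?_⟩
      rw [c_eq h]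
      have h5 : Commute (E .p ^ i) (Cd.R (dec 11 0x400)) := Commute.pow_left p_c i
      rw [h5.eq, mul_inv_cancel_right]
    · rw [List.map_map]
      exact (cls_of h A B h2.1 h4).1

end

end Cfsg.Agent.BabyM.ClosGen
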