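import Cfsg.Agent.SporadicA.SelfCentTwo
import Cfsg.Agent.BabyM.KCore

/-!
# Irreducibility of `C` on `Q/⟨z⟩` (helper620)

The order of `Co2` does not divide the order of `GL_d(2)` for `d ≤ 11`; hence `C` acts trivially on every invariant section of
`Q/⟨z⟩` of dimension at most `11`.  With the transitivity on the classes `c_i` and one triple `c_i c_j = ± c_k` this gives the
irreducibility.
-/

set_option autoImplicit false

namespace Cfsg.Agent.BabyM.QIrr

/-! ### Sections of small dimension -/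

theorem not_dvd_GL {d : ℕ} (hd : d ≤ 11) : ¬ (42305421312000 ∣ Nat.card (GL (Fin d) (ZMod 2))) := by
  have : Fact (Nat.Prime 2) := ⟨Nat.prime_two⟩
  rw [Matrix.card_GL_field, ZMod.card]
  interval_cases d <;> simp only [Fin.prod_univ_succ, Fin.prod_univ_zero] <;> norm_num

section Sections

variable {G K₀ : Type*} [Group G] [Finite G] [Group K₀]

omit [Finite G] in
theorem card_map_mk (A B : Subgroup G) [A.Normal] (hAB : A ≤ B) :
    Nat.card (B.map (QuotientGroup.mk' A)) * Nat.card A = Nat.card B := by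
  let f : B →* G ⧸ A := (QuotientGroup.mk' A).comp B.subtype
  have h1 : f.range = B.map (QuotientGroup.mk' A) := by
    rw [MonoidHom.range_comp, Subgroup.range_subtype]
  have h2 : f.ker = A.subgroupOf B := by
    ext x
    rw [MonoidHom.mem_ker, Subgroup.mem_subgroupOf]
    exact QuotientGroup.eq_one_iff _
  have h3 := Subgroup.index_ker f
  have h4 := Subgroup.index_mul_card f.ker
  have h5 : Nat.card f.ker = Nat.card A := by
    rw [h2]
    exact Nat.card_congr (Subgroup.subgroupOfEquivOfLe hAB).toEquiv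
  rw [← h1, ← h3, ← h5]
  exact h4

/-- **A section of small dimension is centralised.** -/
theorem section_trivial (π : G →* K₀) (hπ : Function.Surjective π) (hs : IsSimpleGroup K₀)
    (A B : Subgroup G) [hA : A.Normal] [hB : B.Normal] (hAB : A ≤ B) (hBQ : B ≤ π.ker)
    (hcomm : ∀ x ∈ π.ker, ∀ y ∈ B, x * y * x⁻¹ * y⁻¹ ∈ A) (hsq : ∀ y ∈ B, y * y ∈ A) (d : ℕ)
    (hd : Nat.card B = 2 ^ d * Nat.card A) (hnd : ¬ (Nat.card K₀ ∣ Nat.card (GL (Fin d) (ZMod 2)))) :
    ∀ g : G, ∀ b ∈ B, g * b * g⁻¹ * b⁻¹ ∈ A := by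
  have : Fact (Nat.Prime 2) := ⟨Nat.prime_two⟩
  have hB' : (B.map (QuotientGroup.mk' A)).Normal := Subgroup.Normal.map hB _ (QuotientGroup.mk'_surjective A)
  have hmk : ∀ x y : G, x * y⁻¹ ∈ A ↔ QuotientGroup.mk' A x = QuotientGroup.mk' A y := by
    intro x y
    rw [← QuotientGroup.eq_one_iff (N := A), QuotientGroup.mk_mul, QuotientGroup.mk_inv, mul_inv_eq_one]
    rfl
  have hc' : ∀ x y : B.map (QuotientGroup.mk' A), x * y = y * x := by
    rintro ⟨_, x, hx, rfl⟩ ⟨_, y, hy, rfl⟩
    apply Subtype.ext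
    show QuotientGroup.mk' A x * QuotientGroup.mk' A y = QuotientGroup.mk' A y * QuotientGroup.mk' A x
    rw [← map_mul, ← map_mul, ← hmk, mul_inv_rev]
    have := hcomm x (hBQ hx) y hy
    rwa [← mul_assoc]
  let inst : CommGroup (B.map (QuotientGroup.mk' A)) := { (inferInstance : Group (B.map (QuotientGroup.mk' A))) with
    mul_comm := hc' }
  have hcard : Nat.card (B.map (QuotientGroup.mk' A)) = 2 ^ d := by
    have h1 := card_map_mk A B hAB
    rw [hd] at h1
    exact Nat.eq_of_mul_eq_mul_right Nat.card_pos h1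
  have hexp : ∀ k : B.map (QuotientGroup.mk' A), k ^ 2 = 1 := by
    rintro ⟨_, x, hx, rfl⟩
    apply Subtype.ext
    show (QuotientGroup.mk' A x) ^ 2 = 1
    rw [← map_pow, pow_two]
    exact (QuotientGroup.eq_one_iff _).mpr (hsq x hx)
  have hdvd : Nat.card (MulAut (B.map (QuotientGroup.mk' A))) ∣ Nat.card (GL (Fin d) (ZMod 2)) :=
    Cfsg.Agent.SporadicA.SelfCentTwo.card_mulAut_dvd (K := B.map (QuotientGroup.mk' A)) 2 d hexp hcard
  let φ : G →* MulAut (B.map (QuotientGroup.mk' A)) := MulAut.conjNormal.comp (QuotientGroup.mk' A)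
  have hφ : ∀ g : G, φ g = 1 ↔ ∀ b ∈ B, g * b * g⁻¹ * b⁻¹ ∈ A := by
    intro g
    constructor
    · intro h b hb
      rw [hmk]
      have h1 := congrArg (fun f : MulAut (B.map (QuotientGroup.mk' A)) =>
        (f ⟨QuotientGroup.mk' A b, b, hb, rfl⟩).1) h
      have h2 : QuotientGroup.mk' A g * QuotientGroup.mk' A b * (QuotientGroup.mk' A g)⁻¹ = QuotientGroup.mk' A b := h1
      rw [map_mul, map_mul, map_inv]
      exact h2
    · intro h
      apply MulEquiv.ext
      rintro ⟨_, b, hb, rfl⟩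
      apply Subtype.ext
      show QuotientGroup.mk' A g * QuotientGroup.mk' A b * (QuotientGroup.mk' A g)⁻¹ = QuotientGroup.mk' A b
      rw [← map_mul, ← map_inv, ← map_mul]
      exact (hmk _ _).mp (h b hb)
  have hker : π.ker ≤ φ.ker := by
    intro x hx
    rw [MonoidHom.mem_ker, hφ]
    exact hcomm x hx
  have hn : (φ.ker.map π).Normal := Subgroup.Normal.map inferInstance _ hπ
  rcases hs.eq_bot_or_eq_top_of_normal _ hn with h1 | h1
  · exfalso
    have h2 : φ.ker ≤ π.ker := by
      intro x hx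
      have h3 : π x ∈ φ.ker.map π := ⟨x, hx, rfl⟩
      rw [h1, Subgroup.mem_bot] at h3
      exact h3
    have h3 : φ.ker = π.ker := le_antisymm h2 hker
    have h4 := Subgroup.index_ker φ
    have h5 := Subgroup.index_ker π
    rw [MonoidHom.range_eq_top.mpr hπ, Subgroup.card_top, ← h3, h4] at h5
    apply hnd
    rw [← h5]
    exact (Subgroup.card_subgroup_dvd_card _).trans hdvd
  · intro g
    rw [← hφ]
    have h2 : π g ∈ φ.ker.map π := by rw [h1]; trivial
    obtain ⟨k, hk, hkg⟩ := h2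
    have h3 : g * k⁻¹ ∈ φ.ker := by
      apply hker
      rw [MonoidHom.mem_ker, map_mul, map_inv, hkg, mul_inv_cancel]
    have h4 := φ.ker.mul_mem h3 hk
    rw [inv_mul_cancel_right] at h4
    exact h4

end Sections

/-! ### The theorem inside `C` -/

section Core

variable {G K₀ : Type*} [Group G] [Finite G] [Group K₀]

theorem irred_core (π : G →* K₀) (hπ : Function.Surjective π) (hs : IsSimpleGroup K₀)
    (hK : Nat.card K₀ = 42305421312000) (hQ : Nat.card π.ker = 2 ^ 23) (z : G) (hz1 : z ≠ 1) (hz2 : z * z = 1)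
    (hzc : ∀ g, g * z = z * g) (hzQ : π z = 1)
    (hcomm : ∀ x y, π x = 1 → π y = 1 → x * y = y * x ∨ x * y = y * x * z)
    (hsq : ∀ x, π x = 1 → x * x = 1 ∨ x * x = z)
    (hcen : ∀ x, π x = 1 → (∀ y, π y = 1 → x * y = y * x) → x = 1 ∨ x = z)
    (T : Set G) (hTQ : ∀ t ∈ T, π t = 1)
    (hT : ∀ t ∈ T, ∀ t' ∈ T, ∃ g : G, g * t * g⁻¹ = t' ∨ g * t * g⁻¹ = t' * z)
    (hgen : π.ker ≤ Subgroup.closure T)
    (hodd : ∃ a ∈ T, ∃ b ∈ T, ∃ c ∈ T, ∃ d ∈ T, a * b * c * d ∈ T)
    (N : Subgroup G) (hN : N.Normal) (hNQ : N ≤ π.ker) : (∀ n ∈ N, n = 1 ∨ n = z) ∨ N = π.ker := by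
  have zinv : z⁻¹ = z := inv_eq_of_mul_eq_one_left hz2
  let Z : Subgroup G :=
    { carrier := {x | x = 1 ∨ x = z}
      mul_mem' := by
        rintro x y (rfl | rfl) (rfl | rfl)
        · left; rw [one_mul]
        · right; rw [one_mul]
        · right; rw [mul_one]
        · left; exact hz2
      one_mem' := Or.inl rfl
      inv_mem' := by
        rintro x (rfl | rfl)
        · left; exact inv_one
        · right; exact zinv }
  have mem_Z : ∀ x, x ∈ Z ↔ x = 1 ∨ x = z := fun x => Iff.rfl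
  have hZn : Z.Normal := by
    refine ⟨fun n hn g => ?_⟩
    rcases hn with rfl | rfl
    · left; group
    · right; rw [hzc, mul_inv_cancel_right]
  have hZQ : Z ≤ π.ker := by
    rintro x (rfl | rfl)
    · exact π.ker.one_mem
    · exact hzQ
  have hZc : Nat.card Z = 2 := by
    have h1 : (Z : Set G) = {1, z} := by
      ext x; exact Iff.rfl
    have h2 : Nat.card Z = (Z : Set G).ncard := rfl
    rw [h2, h1, Set.ncard_pair hz1.symm]
  have hcommZ : ∀ x y, π x = 1 → π y = 1 → x * y * x⁻¹ * y⁻¹ ∈ Z := by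
    intro x y hx hy
    rcases hcomm x y hx hy with h | h
    · left; rw [h, mul_inv_cancel_right, mul_inv_cancel]
    · right; rw [h, mul_assoc y x z, hzc x, ← mul_assoc, mul_inv_cancel_right, hzc, mul_inv_cancel_right]
  set M : Subgroup G := N ⊔ Z with hM
  have hMn : M.Normal := Subgroup.sup_normal N Z
  have hMQ : M ≤ π.ker := sup_le hNQ hZQ
  have hZM : Z ≤ M := le_sup_right
  obtain ⟨e, he1, he2⟩ : ∃ e ≤ 23, Nat.card M = 2 ^ e := by
    apply (Nat.dvd_prime_pow Nat.prime_two).mp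
    rw [← hQ]
    exact Subgroup.card_dvd_of_le hMQ
  have he0 : 1 ≤ e := by
    by_contra h
    have h1 : e = 0 := by omega
    rw [h1, pow_zero] at he2
    have h2 := Subgroup.card_dvd_of_le hZM
    rw [he2, hZc] at h2
    omega
  obtain ⟨a, ha, b, hb, c, hc, d, hd, habcd⟩ := hodd
  by_cases hcase : e ≤ 12
  · -- `C` acts trivially on `M / Z`
    left
    have h1 := section_trivial π hπ hs Z M hZM hMQ (fun x hx y hy => hcommZ x y hx (hMQ hy))
      (fun y hy => hsq y (hMQ hy)) (e - 1) (by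
        rw [he2, hZc, ← pow_succ]
        congr 1; omega) (by rw [hK]; exact not_dvd_GL (by omega))
    intro n hn
    have hnQ : π n = 1 := hNQ hn
    have hgn : ∀ g : G, g * n * g⁻¹ = n ∨ g * n * g⁻¹ = z * n := by
      intro g
      rcases h1 g n (le_sup_left (a := N) (b := Z) hn) with h2 | h2
      · left; rwa [mul_inv_eq_one] at h2
      · right; rwa [mul_inv_eq_iff_eq_mul] at h2
    have key : ∀ t ∈ T, ∀ t' ∈ T, n * t = t * n → n * t' = t' * n := by
      intro t ht t' ht' hc
      obtain ⟨g, hg⟩ := hT t ht t' ht'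
      have hz : ∀ x : G, Commute z x := fun x => (hzc x).symm
      have h2 : Commute (g * n * g⁻¹) (g * t * g⁻¹) := by
        show (g * n * g⁻¹) * (g * t * g⁻¹) = (g * t * g⁻¹) * (g * n * g⁻¹)
        calc (g * n * g⁻¹) * (g * t * g⁻¹) = g * (n * t) * g⁻¹ := by group
          _ = g * (t * n) * g⁻¹ := by rw [hc]
          _ = _ := by group
      have h3 : Commute n (g * t * g⁻¹) := by
        rcases hgn g with h4 | h4 <;> rw [h4] at h2
        · exact h2
        · have e1 : n = z * (z * n) := by rw [← mul_assoc, hz2, one_mul]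
          rw [e1]
          exact (hz _).mul_left h2
      rcases hg with h5 | h5 <;> rw [h5] at h3
      · exact h3
      · have e1 : t' = (t' * z) * z := by rw [mul_assoc, hz2, mul_one]
        rw [e1]
        exact h3.mul_right (hz _).symm
    have hall : ∀ t ∈ T, n * t = t * n := by
      have hex : ∃ t ∈ T, n * t = t * n := by
        by_contra hno
        push Not at hno
        have anti : ∀ x ∈ T, ∀ y ∈ T, Commute n (x * y) := by
          intro x hx y hy
          have h2 : n * x = x * n * z := (hcomm n x hnQ (hTQ x hx)).resolve_left (hno x hx)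
          have h3 : n * y = y * n * z := (hcomm n y hnQ (hTQ y hy)).resolve_left (hno y hy)
          show n * (x * y) = (x * y) * n
          calc n * (x * y) = (n * x) * y := (mul_assoc _ _ _).symm
            _ = x * n * z * y := by rw [h2]
            _ = x * (n * (z * y)) := by group
            _ = x * (n * (y * z)) := by rw [hzc y]
            _ = x * ((n * y) * z) := by rw [mul_assoc n y z]
            _ = x * (y * n * z * z) := by rw [h3]
            _ = x * (y * n * (z * z)) := by rw [mul_assoc (y * n) z z]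
            _ = x * y * n := by rw [hz2, mul_one, mul_assoc]
        apply hno (a * b * c * d) habcd
        have h2 := (anti a ha b hb).mul_right (anti c hc d hd)
        rw [← mul_assoc] at h2
        exact h2
      obtain ⟨t, ht, htn⟩ := hex
      exact fun t' ht' => key t ht t' ht' htn
    apply hcen n hnQ
    intro y hy
    have h2 : y ∈ Subgroup.closure T := hgen hy
    have h3 : Subgroup.closure T ≤ Subgroup.centralizer {n} := by
      rw [Subgroup.closure_le]
      intro t ht
      rw [SetLike.mem_coe, Subgroup.mem_centralizer_singleton_iff]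
      exact (hall t ht).symm
    have h4 := h3 h2
    rw [Subgroup.mem_centralizer_singleton_iff] at h4
    exact h4.symm
  · right
    push Not at hcase
    have h1 := section_trivial π hπ hs M π.ker hMQ le_rfl (fun x hx y hy => hZM (hcommZ x y hx hy))
      (fun y hy => hZM (hsq y hy)) (23 - e) (by
        rw [he2, hQ, ← pow_add]
        congr 1; omega) (by rw [hK]; exact not_dvd_GL (by omega))
    have hzM : z ∈ M := hZM (Or.inr rfl)
    -- all elements of `T` lie in `M`
    have key : ∀ t ∈ T, ∀ t' ∈ T, t' * t⁻¹ ∈ M := by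
      intro t ht t' ht'
      obtain ⟨g, hg⟩ := hT t ht t' ht'
      have h2 := h1 g t (hTQ t ht)
      rcases hg with h3 | h3
      · rw [h3] at h2; exact h2
      · rw [h3, hzc, mul_assoc] at h2
        have h4 := M.mul_mem hzM h2
        rw [← mul_assoc, hz2, one_mul] at h4
        exact h4
    have hmk : ∀ x y : G, x * y⁻¹ ∈ M → QuotientGroup.mk' M x = QuotientGroup.mk' M y := by
      intro x y h
      have h2 : QuotientGroup.mk' M (x * y⁻¹) = 1 := (QuotientGroup.eq_one_iff _).mpr h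
      rwa [map_mul, map_inv, mul_inv_eq_one] at h2
    have haM : a ∈ M := by
      have h2 := hmk _ _ (key a ha _ habcd)
      have h3 := hmk _ _ (key a ha b hb)
      have h4 := hmk _ _ (key a ha c hc)
      have h5 := hmk _ _ (key a ha d hd)
      rw [map_mul, map_mul, map_mul, h3, h4, h5] at h2
      have h6 : QuotientGroup.mk' M a * QuotientGroup.mk' M a = 1 := by
        rw [← map_mul]
        exact (QuotientGroup.eq_one_iff _).mpr (hZM (hsq a (hTQ a ha)))
      rw [h6, one_mul, h6] at h2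
      exact (QuotientGroup.eq_one_iff _).mp h2.symm
    have hTM : T ⊆ M := by
      intro t ht
      have h2 := M.mul_mem (key a ha t ht) haM
      rwa [inv_mul_cancel_right] at h2
    have hMeq : M = π.ker := le_antisymm hMQ (hgen.trans ((Subgroup.closure_le _).mpr hTM))
    by_cases hzN : z ∈ N
    · have h2 : Z ≤ N := by
        rintro x (rfl | rfl)
        · exact N.one_mem
        · exact hzN
      rw [← hMeq, hM]
      exact (sup_eq_left.mpr h2).symm
    · exfalso
      -- `N` is abelian, hence `Q` is abelian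
      have hab' : ∀ x ∈ N, ∀ y ∈ N, x * y = y * x := by
        intro x hx y hy
        have h2 : x * y * x⁻¹ * y⁻¹ ∈ N := N.mul_mem (N.mul_mem (N.mul_mem hx hy) (N.inv_mem hx)) (N.inv_mem hy)
        rcases hcommZ x y (hNQ hx) (hNQ hy) with h3 | h3
        · rw [mul_inv_eq_one, mul_inv_eq_iff_eq_mul] at h3
          exact h3
        · rw [h3] at h2; exact absurd h2 hzN
      have hQab : ∀ x, π x = 1 → x = 1 ∨ x = z := by
        intro x hx
        apply hcen x hx
        intro y hy
        have hx' : x ∈ N ⊔ Z := by rw [← hM, hMeq]; exact hx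
        have hy' : y ∈ N ⊔ Z := by rw [← hM, hMeq]; exact hy
        obtain ⟨x₁, hx₁, x₂, hx₂, rfl⟩ := Subgroup.mem_sup_of_normal_left.mp hx'
        obtain ⟨y₁, hy₁, y₂, hy₂, rfl⟩ := Subgroup.mem_sup_of_normal_left.mp hy'
        have hcx : ∀ g : G, g * x₂ = x₂ * g := by
          intro g
          rcases hx₂ with rfl | rfl
          · rw [mul_one, one_mul]
          · exact hzc g
        have hcy : ∀ g : G, g * y₂ = y₂ * g := by
          intro g
          rcases hy₂ with rfl | rfl
          · rw [mul_one, one_mul]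
          · exact hzc g
        calc x₁ * x₂ * (y₁ * y₂) = x₁ * (x₂ * y₁) * y₂ := by group
          _ = x₁ * (y₁ * x₂) * y₂ := by rw [hcx y₁]
          _ = x₁ * y₁ * (x₂ * y₂) := by group
          _ = y₁ * x₁ * (y₂ * x₂) := by rw [hab' x₁ hx₁ y₁ hy₁, hcx y₂]
          _ = y₁ * (x₁ * y₂) * x₂ := by group
          _ = y₁ * (y₂ * x₁) * x₂ := by rw [hcy x₁]
          _ = y₁ * y₂ * (x₁ * x₂) := by group
      have h5 : Nat.card π.ker ≤ Nat.card Z := by
        apply Nat.card_le_card_of_injective (fun x : π.ker => (⟨x.1, hQab x.1 x.2⟩ : Z))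
        intro x y hxy
        exact Subtype.ext (congrArg (fun w : Z => (w : G)) hxy)
      rw [hQ, hZc] at h5
      norm_num at h5

end Core

/-! ### The instance -/

open Cfsg.Agent.Monster Cfsg.Agent.Monster.PauliBasic Cfsg.Agent.Monster.PauliRep Cfsg.Agent.Monster.PauliClif
open Cfsg.Agent.BabyM.QAct Cfsg.Agent.BabyM.QData Cfsg.Agent.BabyM.QData.Good Cfsg.Agent.BabyM.Model
open Cfsg.Agent.BabyM.KCore

variable {ι : Type} [Fintype ι] [DecidableEq ι] {C : Coord 11 ι} {u : ι → ι → ℚ} {wt : ι → ℚ} {M : BData (ι → ℚ)}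
  {i₀ : ι}

theorem finite_C (h : Link C u wt M i₀) {K₀ : Type} [Group K₀] (π : M.C →* K₀)
    (hker : ∀ g : M.C, π g = 1 ↔ (g : (ι → ℚ) ≃ₗ[ℚ] (ι → ℚ)) ∈ M.Q) [Finite K₀] : Finite M.C := by
  have hk : π.ker = M.Q.subgroupOf M.C := by
    ext g; rw [MonoidHom.mem_ker, hker]; rfl
  have h1 : Nat.card π.ker = 2 ^ 23 := by
    rw [hk, Nat.card_congr (Subgroup.subgroupOfEquivOfLe h.Q_le).toEquiv, h.Q_card]
  have : Finite π.ker := Nat.finite_of_card_ne_zero (by rw [h1]; norm_num)
  have : Finite (M.C ⧸ π.ker) := Finite.of_injective _ (QuotientGroup.kerLift_injective π)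
  exact Finite.of_subgroup_quotient π.ker

/-- The element `C.R x` is conjugate to `C.R (C.c i₀)` up to `z` for `x` over the class of an `X`-coordinate. -/
theorem exists_conj (h : Link C u wt M i₀) {x : Pauli 11} (hx : x ∈ P C) :
    ∃ g ∈ M.C, g * C.R (C.c i₀) * g⁻¹ = C.R x ∨ g * C.R (C.c i₀) * g⁻¹ = C.R x * M.z := by
  obtain ⟨i, hi, hxi⟩ := hx
  obtain ⟨g, hg, hgu⟩ := h.trans i hi
  obtain ⟨s, t, h1, -, -⟩ := h.u₀_trans hg hi hgu
  refine ⟨g, hg, ?_⟩
  have h2 : ab (⟨s, 0, 0⟩ * C.c i : Pauli 11) = ab x := by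
    rw [hxi, ab_mul]
    exact zero_add _
  rw [h1, h.z_eq, ← map_mul, Pauli.mul_z, ← Pauli.z_mul]
  rcases (ab_eq_iff _ _).mp h2 with h3 | h3
  · left; rw [h3]
  · right; rw [h3]

/-- **Irreducibility of `C` on `Q/⟨z⟩`.** -/
theorem Q_irred (h : Link C u wt M i₀) {K₀ : Type} [Group K₀] (hs : IsSimpleGroup K₀)
    (hK : Nat.card K₀ = 42305421312000)
    (hq : ∃ π : M.C →* K₀, Function.Surjective π ∧ ∀ g : M.C, π g = 1 ↔ (g : (ι → ℚ) ≃ₗ[ℚ] (ι → ℚ)) ∈ M.Q)
    (hodd : ∃ a b c d e : ι, C.isX a ∧ C.isX b ∧ C.isX c ∧ C.isX d ∧ C.isX e ∧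
      ab (C.c a) + ab (C.c b) + ab (C.c c) + ab (C.c d) = ab (C.c e)) :
    ∀ N : Subgroup ((ι → ℚ) ≃ₗ[ℚ] (ι → ℚ)), N ≤ M.Q → (∀ g ∈ M.C, ∀ n ∈ N, g * n * g⁻¹ ∈ N) →
      (∀ n ∈ N, n = 1 ∨ n = M.z) ∨ N = M.Q := by
  intro N hNQ hN
  obtain ⟨π, hπ, hker⟩ := hq
  have : Finite K₀ := Nat.finite_of_card_ne_zero (by rw [hK]; norm_num)
  have : Finite M.C := finite_C h π hker
  have hk : π.ker = M.Q.subgroupOf M.C := by
    ext g; rw [MonoidHom.mem_ker, hker]; rfl
  have hzC : M.z ∈ M.C := h.Q_le h.z_mem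
  let z : M.C := ⟨M.z, hzC⟩
  let T : Set M.C := {g | ∃ x ∈ P C, g.1 = C.R x}
  have hTQ : ∀ t ∈ T, π t = 1 := by
    rintro t ⟨x, -, hx⟩
    rw [hker, hx, h.mem_Q]
    exact ⟨x, rfl⟩
  have main := irred_core π hπ hs hK (by
      rw [hk, Nat.card_congr (Subgroup.subgroupOfEquivOfLe h.Q_le).toEquiv, h.Q_card]) z
    (fun hh => h.z_ne (congrArg Subtype.val hh)) (Subtype.ext h.z_sq) (fun g => Subtype.ext (h.z_comm g.1 g.2))
    ((hker z).mpr h.z_mem)
    (fun x y hx hy => by
      rcases h.Q_comm x.1 ((hker x).mp hx) y.1 ((hker y).mp hy) with h1 | h1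
      · exact Or.inl (Subtype.ext h1)
      · exact Or.inr (Subtype.ext h1))
    (fun x hx => by
      rcases h.Q_sq x.1 ((hker x).mp hx) with h1 | h1
      · exact Or.inl (Subtype.ext h1)
      · exact Or.inr (Subtype.ext h1))
    (fun x hx hc => by
      rcases h.Q_center x.1 ((hker x).mp hx) (fun y hy => congrArg Subtype.val
        (hc ⟨y, h.Q_le hy⟩ ((hker _).mpr hy))) with h1 | h1
      · exact Or.inl (Subtype.ext h1)
      · exact Or.inr (Subtype.ext h1))
    T hTQ
    (by
      rintro t ⟨x, hx, htx⟩ t' ⟨x', hx', htx'⟩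
      obtain ⟨g, hg, h1⟩ := exists_conj h hx
      obtain ⟨g', hg', h2⟩ := exists_conj h hx'
      have hzg : ∀ k ∈ M.C, k * M.z * k⁻¹ = M.z := by
        intro k hk; rw [h.z_comm k hk, mul_inv_cancel_right]
      -- `t = g c₀ g⁻¹ z^?`
      have h3 : C.R (C.c i₀) = g⁻¹ * C.R x * g ∨ C.R (C.c i₀) = g⁻¹ * C.R x * g * M.z := by
        rcases h1 with h1 | h1
        · left; rw [← h1]; group
        · right
          have h4 := h.z_comm g hg
          have h5 : g⁻¹ * (C.R x * M.z) * g = C.R (C.c i₀) := by rw [← h1]; group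
          rw [← h5]
          calc g⁻¹ * (C.R x * M.z) * g = g⁻¹ * C.R x * (M.z * g) := by group
            _ = g⁻¹ * C.R x * (g * M.z) := by rw [h4]
            _ = _ := by group
      refine ⟨⟨g' * g⁻¹, M.C.mul_mem hg' (M.C.inv_mem hg)⟩, ?_⟩
      have h6 : g' * g⁻¹ * t.1 * (g' * g⁻¹)⁻¹ = t'.1 ∨ g' * g⁻¹ * t.1 * (g' * g⁻¹)⁻¹ = t'.1 * M.z := by
        rw [htx, htx']
        have h7 : g' * g⁻¹ * C.R x * (g' * g⁻¹)⁻¹ = g' * (g⁻¹ * C.R x * g) * g'⁻¹ := by group
        rw [h7]
        rcases h3 with h3 | h3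
        · rw [← h3]; exact h2
        · have h8 : g⁻¹ * C.R x * g = C.R (C.c i₀) * M.z := by
            rw [h3, mul_assoc _ M.z M.z, h.z_sq, mul_one]
          have h9 : g' * (C.R (C.c i₀) * M.z) * g'⁻¹ = (g' * C.R (C.c i₀) * g'⁻¹) * M.z := by
            have h10 := hzg g' hg'
            calc g' * (C.R (C.c i₀) * M.z) * g'⁻¹ = (g' * C.R (C.c i₀) * g'⁻¹) * (g' * M.z * g'⁻¹) := by group
              _ = _ := by rw [h10]
          rw [h8, h9]
          rcases h2 with h2 | h2
          · right; rw [h2]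
          · left; rw [h2, mul_assoc, h.z_sq, mul_one]
      rcases h6 with h6 | h6
      · exact Or.inl (Subtype.ext h6)
      · exact Or.inr (Subtype.ext h6))
    (by
      intro q hq
      rw [MonoidHom.mem_ker, hker, h.mem_Q] at hq
      obtain ⟨y, hy⟩ := hq
      have hRC : ∀ x : Pauli 11, C.R x ∈ M.C := h.hyp.Q_le
      let f : Pauli 11 →* M.C := C.R.codRestrict M.C hRC
      have h1 : f y ∈ (Subgroup.closure (P C)).map f := ⟨y, by rw [h.hyp.good.gen']; trivial, rfl⟩
      rw [MonoidHom.map_closure] at h1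
      have h2 : q = f y := Subtype.ext hy.symm
      rw [h2]
      refine Subgroup.closure_mono ?_ h1
      rintro _ ⟨x, hx, rfl⟩
      exact ⟨x, hx, rfl⟩)
    (by
      obtain ⟨a, b, c, d, e, ha, hb, hc, hd, he, habc⟩ := hodd
      have hmem : ∀ i, C.isX i → (⟨C.R (C.c i), h.hyp.Q_le _⟩ : M.C) ∈ T := fun i hi => ⟨C.c i, ⟨i, hi, rfl⟩, rfl⟩
      refine ⟨_, hmem a ha, _, hmem b hb, _, hmem c hc, _, hmem d hd, C.c a * C.c b * C.c c * C.c d, ⟨e, he, ?_⟩, ?_⟩
      · rw [ab_mul, ab_mul, ab_mul]; exact habc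
      · show C.R (C.c a) * C.R (C.c b) * C.R (C.c c) * C.R (C.c d) = _
        rw [map_mul, map_mul, map_mul])
    (N.subgroupOf M.C) ⟨fun n hn g => hN g.1 g.2 n.1 hn⟩ (by
      intro n hn
      rw [MonoidHom.mem_ker, hker]
      exact hNQ hn)
  rcases main with h1 | h1
  · left
    intro n hn
    rcases h1 ⟨n, h.Q_le (hNQ hn)⟩ hn with h2 | h2
    · exact Or.inl (congrArg Subtype.val h2)
    · exact Or.inr (congrArg Subtype.val h2)
  · right
    apply le_antisymm hNQ
    intro q hq
    have h2 : (⟨q, h.Q_le hq⟩ : M.C) ∈ π.ker := by rw [MonoidHom.mem_ker, hker]; exact hq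
    rw [← h1] at h2
    exact h2

end Cfsg.Agent.BabyM.QIrr
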