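import Cfsg.Agent.BabyM.AbsTrans
import Cfsg.Agent.BabyM.QIrr
import Cfsg.Agent.BabyU.ClosFacts

/-!
# Transpositions in `Q` (helper33)

For the closing of the Baby Monster (`BabyU/ClosFacts.lean`, F11, F12): the transpositions of the group `M.G` in `Q = 2^{1+22}`
are `C`-conjugate; for a linked model they are the elements `R y` with `y` over the class of an X-lane.
The pairs of transpositions of `Q` up to conjugacy, from the coverage of the base orbit.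
-/

set_option autoImplicit false

namespace Cfsg.Agent.BabyM.ClosQ

open Cfsg.Agent.BabyM.Model Cfsg.Agent.BabyU.Clos

/-! ### The abstract part -/

section Abs

variable {W : Type} [AddCommGroup W] [Module ℚ W] {M : BData W} {K₀ : Type} [Group K₀]

/-- A conjugate of `t₀` in `Q` is conjugate under `C`. -/
theorem exists_C (A : BAll M K₀) (B : BTrans M) {g : W ≃ₗ[ℚ] W} (hg : g ∈ M.G) (hq : g * M.t₀ * g⁻¹ ∈ M.Q) :
    ∃ c ∈ M.C, g * M.t₀ * g⁻¹ = c * M.t₀ * c⁻¹ := by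
  obtain ⟨j, c, hc, e⟩ := (A.D_eq _).2 ⟨g, hg, rfl⟩
  by_cases hj : j = M.j₀
  · subst hj
    refine ⟨c, hc, ?_⟩
    have h := A.conj_t 1 g c M.Γ.one_mem (A.G_le hg) (A.C_le hc) (Or.inl (by rw [e, A.d₀_eq]; rfl))
    rwa [one_mul, inv_one, mul_one] at h
  · exfalso
    obtain ⟨g', hg', e', x, hx, hne⟩ := B.moves j hj
    have h := A.conj_t 1 g (c * g') M.Γ.one_mem (A.G_le hg) (M.Γ.mul_mem (A.C_le hc) (A.G_le hg'))
      (Or.inl (by rw [e, LinearEquiv.mul_apply, e']; rfl))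
    rw [one_mul, inv_one, mul_one] at h
    rw [h] at hq
    apply hne
    have h2 := A.Q_U _ hq (c x) (A.C_U c hc x hx)
    have h3 : (c * g' * M.t₀ * (c * g')⁻¹) (c x) = c ((g' * M.t₀ * g'⁻¹) x) := by
      have : c * g' * M.t₀ * (c * g')⁻¹ * c = c * (g' * M.t₀ * g'⁻¹) := by group
      rw [← LinearEquiv.mul_apply, this, LinearEquiv.mul_apply]
    rw [h3] at h2
    exact c.injective h2

theorem t₀_z (A : BAll M K₀) : ∃ q ∈ M.Q, q * M.t₀ * q⁻¹ = M.t₀ * M.z := by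
  obtain ⟨q, hq, -, h⟩ := A.d₁_mem'
  refine ⟨q, hq, ?_⟩
  have hz := A.grp.z_comm q (A.grp.Q_le hq)
  rw [h, mul_assoc M.t₀ q, hz, ← mul_assoc, mul_inv_cancel_right]

/-- Transpositions in `Q` are the `C`-conjugates of `t₀`. -/
theorem mem_cls_Q (A : BAll M K₀) (B : BTrans M) {x : W ≃ₗ[ℚ] W} :
    (x ∈ cls M.G M.t₀ ∧ x ∈ M.Q) ↔ ∃ c ∈ M.C, c * M.t₀ * c⁻¹ = x := by
  constructor
  · rintro ⟨⟨g, hg, rfl⟩, hq⟩
    obtain ⟨c, hc, e⟩ := exists_C A B hg hq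
    exact ⟨c, hc, e.symm⟩
  · rintro ⟨c, hc, rfl⟩
    exact ⟨⟨c, A.C_le_G hc, rfl⟩, A.grp.Q_normal c hc _ A.rep.t₀_mem⟩

theorem z_cancel (A : BAll M K₀) (x : W ≃ₗ[ℚ] W) : x * M.z * M.z = x := by
  rw [mul_assoc, A.grp.z_sq, mul_one]

theorem mul_z_mem (A : BAll M K₀) {c : W ≃ₗ[ℚ] W} (hc : c ∈ M.C) :
    ∃ c' ∈ M.C, c' * M.t₀ * c'⁻¹ = c * M.t₀ * c⁻¹ * M.z := by
  obtain ⟨q, hq, e⟩ := t₀_z A
  refine ⟨c * q, M.C.mul_mem hc (A.grp.Q_le hq), ?_⟩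
  calc c * q * M.t₀ * (c * q)⁻¹ = c * (q * M.t₀ * q⁻¹) * c⁻¹ := by group
    _ = c * M.t₀ * (M.z * c⁻¹) := by rw [e]; group
    _ = c * M.t₀ * (c⁻¹ * M.z) := by rw [A.grp.z_comm c⁻¹ (M.C.inv_mem hc)]
    _ = _ := by group

end Abs

/-! ### Linked models -/

section Linked

open Cfsg.Agent.Monster Cfsg.Agent.Monster.PauliBasic Cfsg.Agent.Monster.PauliRep Cfsg.Agent.Monster.PauliClif
open Cfsg.Agent.BabyM.QAct Cfsg.Agent.BabyM.QData Cfsg.Agent.BabyM.QData.Good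
open Cfsg.Agent.BabyM.KCore

variable {ι : Type} [Fintype ι] [DecidableEq ι] {C : Coord 11 ι} {u : ι → ι → ℚ} {wt : ι → ℚ} {M : BData (ι → ℚ)}
  {i₀ : ι} {K₀ : Type} [Group K₀]

/-- **The transpositions of `Q`.** -/
theorem mem_cls_R (h : Link C u wt M i₀) (A : BAll M K₀) (B : BTrans M) {y : Pauli 11} :
    C.R y ∈ cls M.G M.t₀ ↔ ∃ i, C.isX i ∧ ab y = ab (C.c i) := by
  have hQ : C.R y ∈ M.Q := h.mem_Q.mpr ⟨y, rfl⟩
  constructor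
  · intro hy
    obtain ⟨c, hc, e⟩ := (mem_cls_Q A B).1 ⟨hy, hQ⟩
    obtain ⟨j, hj, s, t, h1, -, -⟩ := h.base hc h.i₀_X
    refine ⟨j, hj, ?_⟩
    rw [h.t₀_eq] at e
    have h2 := C.R_injective (e.symm.trans h1)
    rw [h2, ab_mul]
    exact zero_add _
  · intro hy
    obtain ⟨g, hg, e⟩ := QIrr.exists_conj h (x := y) hy
    refine ((mem_cls_Q A B).2 ?_).1
    rcases e with e | e
    · exact ⟨g, hg, by rw [h.t₀_eq]; exact e⟩
    · obtain ⟨c', hc', e'⟩ := mul_z_mem A hg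
      refine ⟨c', hc', ?_⟩
      rw [e', h.t₀_eq, e, z_cancel A]

/-- The elements over the same class. -/
theorem R_eq_or (h : Link C u wt M i₀) {x y : Pauli 11} (hxy : ab x = ab y) : C.R x = C.R y ∨ C.R x = C.R y * M.z := by
  rw [h.z_eq, ← map_mul, Pauli.mul_z, ← Pauli.z_mul]
  rcases (ab_eq_iff _ _).mp hxy with h1 | h1
  · exact Or.inl (by rw [h1])
  · exact Or.inr (by rw [h1])

/-- A transposition of `Q` lies over an X-lane. -/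
theorem exists_lane (h : Link C u wt M i₀) (A : BAll M K₀) (B : BTrans M) {x : (ι → ℚ) ≃ₗ[ℚ] (ι → ℚ)}
    (hx : x ∈ cls M.G M.t₀) (hQ : x ∈ M.Q) : ∃ y i, C.isX i ∧ ab y = ab (C.c i) ∧ C.R y = x := by
  obtain ⟨y, rfl⟩ := h.mem_Q.mp hQ
  obtain ⟨i, hi, e⟩ := (mem_cls_R h A B).1 hx
  exact ⟨y, i, hi, e, rfl⟩

end Linked

/-! ### Pairs -/

section Pairs

variable {W : Type} [AddCommGroup W] [Module ℚ W] {M : BData W} {K₀ : Type} [Group K₀]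

/-- The property F11 for a pair `d`, `e`. -/
def Uniq (M : BData W) (d e : W ≃ₗ[ℚ] W) : Prop :=
  ∀ s ∈ cls M.G M.t₀, s ∈ M.Q → ∀ s' ∈ cls M.G M.t₀, s' ∈ M.Q → (s * s' = d * e ∨ s * s' = d * e * M.z) →
    s = d ∨ s = d * M.z ∨ s = e ∨ s = e * M.z

theorem conj_z (A : BAll M K₀) {c : W ≃ₗ[ℚ] W} (hc : c ∈ M.C) (x : W ≃ₗ[ℚ] W) :
    c * (x * M.z) * c⁻¹ = c * x * c⁻¹ * M.z := by
  calc c * (x * M.z) * c⁻¹ = c * x * (M.z * c⁻¹) := by group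
    _ = c * x * (c⁻¹ * M.z) := by rw [A.grp.z_comm c⁻¹ (M.C.inv_mem hc)]
    _ = _ := by group

theorem Uniq.conj (A : BAll M K₀) {c : W ≃ₗ[ℚ] W} (hc : c ∈ M.C) {d e : W ≃ₗ[ℚ] W} (h : Uniq M d e) :
    Uniq M (c * d * c⁻¹) (c * e * c⁻¹) := by
  have hc' := M.C.inv_mem hc
  have hG : c⁻¹ ∈ M.G := A.C_le_G hc'
  have conj : ∀ x y : W ≃ₗ[ℚ] W, c⁻¹ * x * c⁻¹⁻¹ = y → x = c * y * c⁻¹ := by
    rintro x _ rfl; group
  intro s hs hsQ s' hs' hsQ' hss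
  have k1 := h (c⁻¹ * s * c⁻¹⁻¹) (cls_conj hs hG) (A.grp.Q_normal _ hc' _ hsQ) (c⁻¹ * s' * c⁻¹⁻¹) (cls_conj hs' hG)
    (A.grp.Q_normal _ hc' _ hsQ') (by
      have e1 : c⁻¹ * s * c⁻¹⁻¹ * (c⁻¹ * s' * c⁻¹⁻¹) = c⁻¹ * (s * s') * c⁻¹⁻¹ := by group
      rcases hss with hss | hss
      · left
        rw [e1, hss]; group
      · right
        rw [e1, hss, conj_z A hc']
        congr 1
        group)
  rcases k1 with k1 | k1 | k1 | k1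
  · exact Or.inl (conj _ _ k1)
  · exact Or.inr (Or.inl ((conj _ _ k1).trans (conj_z A hc _)))
  · exact Or.inr (Or.inr (Or.inl (conj _ _ k1)))
  · exact Or.inr (Or.inr (Or.inr ((conj _ _ k1).trans (conj_z A hc _))))

/-- The coverage of the base orbit by the stabiliser of `d₀`. -/
def Cov (M : BData W) (R : Set (W ≃ₗ[ℚ] W)) : Prop :=
  ∀ b ∈ M.S, ∃ l ∈ M.C, l M.d₀ = M.d₀ ∧ ∃ r ∈ R, b = l (r M.d₀) ∨ b = - l (r M.d₀)

/-- Every pair of transpositions of `Q` is conjugate to `(t₀, r t₀ r⁻¹)`. -/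
theorem exists_pair (A : BAll M K₀) (B : BTrans M) {R : Set (W ≃ₗ[ℚ] W)} (hR : ∀ r ∈ R, r ∈ M.C) (hc : Cov M R)
    {d e : W ≃ₗ[ℚ] W} (hd : d ∈ cls M.G M.t₀) (hdQ : d ∈ M.Q) (he : e ∈ cls M.G M.t₀) (heQ : e ∈ M.Q) :
    ∃ c ∈ M.C, ∃ r ∈ R, d = c * M.t₀ * c⁻¹ ∧ e = c * (r * M.t₀ * r⁻¹) * c⁻¹ := by
  obtain ⟨c, hcC, rfl⟩ := (mem_cls_Q A B).1 ⟨hd, hdQ⟩
  obtain ⟨k, hk, rfl⟩ := (mem_cls_Q A B).1 ⟨he, heQ⟩
  have hck : c⁻¹ * k ∈ M.C := M.C.mul_mem (M.C.inv_mem hcC) hk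
  obtain ⟨l, hl, hld, r, hr, e⟩ := hc ((c⁻¹ * k) M.d₀) ⟨_, hck, rfl⟩
  have hlΓ := A.C_le hl
  have e1 : l * M.t₀ * l⁻¹ = M.t₀ := by
    rw [A.t₀_comm l hlΓ (Or.inl hld), mul_inv_cancel_right]
  have e2 := A.conj_t 1 (c⁻¹ * k) (l * r) M.Γ.one_mem (A.C_le hck) (M.Γ.mul_mem hlΓ (A.C_le (hR r hr))) e
  rw [one_mul, inv_one, mul_one] at e2
  refine ⟨c * l, M.C.mul_mem hcC hl, r, hr, ?_, ?_⟩
  · calc c * M.t₀ * c⁻¹ = c * (l * M.t₀ * l⁻¹) * c⁻¹ := by rw [e1]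
      _ = _ := by group
  · calc k * M.t₀ * k⁻¹ = c * (c⁻¹ * k * M.t₀ * (c⁻¹ * k)⁻¹) * c⁻¹ := by group
      _ = c * (l * r * M.t₀ * (l * r)⁻¹) * c⁻¹ := by rw [e2]
      _ = _ := by group

/-- F11 from the representatives. -/
theorem uniq_of (A : BAll M K₀) (B : BTrans M) {R : Set (W ≃ₗ[ℚ] W)} (hR : ∀ r ∈ R, r ∈ M.C) (hc : Cov M R)
    (h : ∀ r ∈ R, (r * M.t₀ * r⁻¹) * M.t₀ = M.t₀ * (r * M.t₀ * r⁻¹) ∨ Uniq M M.t₀ (r * M.t₀ * r⁻¹))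
    {d e : W ≃ₗ[ℚ] W} (hd : d ∈ cls M.G M.t₀) (hdQ : d ∈ M.Q) (he : e ∈ cls M.G M.t₀) (heQ : e ∈ M.Q)
    (hde : d * e ≠ e * d) : Uniq M d e := by
  obtain ⟨c, hcC, r, hr, rfl, rfl⟩ := exists_pair A B hR hc hd hdQ he heQ
  rcases h r hr with h | h
  · exfalso
    apply hde
    calc c * M.t₀ * c⁻¹ * (c * (r * M.t₀ * r⁻¹) * c⁻¹) = c * (M.t₀ * (r * M.t₀ * r⁻¹)) * c⁻¹ := by group
      _ = c * ((r * M.t₀ * r⁻¹) * M.t₀) * c⁻¹ := by rw [h]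
      _ = _ := by group
  · exact h.conj A hcC

end Pairs

/-! ### Pairs in linked models -/

section LinkedPairs

open Cfsg.Agent.Monster Cfsg.Agent.Monster.PauliBasic Cfsg.Agent.Monster.PauliRep Cfsg.Agent.Monster.PauliClif
open Cfsg.Agent.BabyM.QAct Cfsg.Agent.BabyM.QData Cfsg.Agent.BabyM.QData.Good
open Cfsg.Agent.BabyM.KCore

variable {ι : Type} [Fintype ι] [DecidableEq ι] {C : Coord 11 ι} {u : ι → ι → ℚ} {wt : ι → ℚ} {M : BData (ι → ℚ)}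
  {i₀ : ι} {K₀ : Type} [Group K₀]

/-- F11 for a pair from the classes of the lanes. -/
theorem uniq_of_lanes (h : Link C u wt M i₀) (A : BAll M K₀) (B : BTrans M) {k : ι}
    (hk : ∀ i j, C.isX i → C.isX j → ab (C.c i) + ab (C.c j) = ab (C.c i₀) + ab (C.c k) → i = i₀ ∨ i = k)
    {y : Pauli 11} (hy : ab y = ab (C.c k)) : Uniq M M.t₀ (C.R y) := by
  intro s hs hsQ s' hs' hsQ' hss
  obtain ⟨x, i, hi, hxi, rfl⟩ := exists_lane h A B hs hsQ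
  obtain ⟨x', j, hj, hxj, rfl⟩ := exists_lane h A B hs' hsQ'
  have h1 : ab (C.c i) + ab (C.c j) = ab (C.c i₀) + ab (C.c k) := by
    rw [← hxi, ← hxj, ← hy, ← ab_mul, ← ab_mul]
    rw [h.t₀_eq, h.z_eq, ← map_mul, ← map_mul, ← map_mul] at hss
    rcases hss with hss | hss
    · rw [C.R_injective hss]
    · rw [C.R_injective hss, ab_mul (C.c i₀ * y)]
      exact (add_zero _)
  rcases hk i j hi hj h1 with rfl | rfl
  · rw [h.t₀_eq]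
    rcases R_eq_or h hxi with h2 | h2
    · exact Or.inl h2
    · exact Or.inr (Or.inl h2)
  · rcases R_eq_or h (hxi.trans hy.symm) with h2 | h2
    · exact Or.inr (Or.inr (Or.inl h2))
    · exact Or.inr (Or.inr (Or.inr h2))

/-- F12: five lanes whose classes add up to zero. -/
theorem rel_of (h : Link C u wt M i₀) (A : BAll M K₀) (B : BTrans M)
    (hodd : ∃ a b c d e : ι, C.isX a ∧ C.isX b ∧ C.isX c ∧ C.isX d ∧ C.isX e ∧
      ab (C.c a) + ab (C.c b) + ab (C.c c) + ab (C.c d) = ab (C.c e)) :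
    ∃ l : List ((ι → ℚ) ≃ₗ[ℚ] (ι → ℚ)), (∀ w ∈ l, w ∈ cls M.G M.t₀ ∧ w ∈ M.Q) ∧ Odd l.length ∧
      (l.prod = 1 ∨ l.prod = M.z) := by
  obtain ⟨a, b, c, d, e, ha, hb, hc, hd, he, h1⟩ := hodd
  refine ⟨[C.R (C.c a), C.R (C.c b), C.R (C.c c), C.R (C.c d), C.R (C.c e)], ?_, ⟨2, rfl⟩, ?_⟩
  · have key : ∀ i, C.isX i → C.R (C.c i) ∈ cls M.G M.t₀ ∧ C.R (C.c i) ∈ M.Q := fun i hi =>
      ⟨(mem_cls_R h A B).2 ⟨i, hi, rfl⟩, h.mem_Q.mpr ⟨_, rfl⟩⟩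
    intro w hw
    simp only [List.mem_cons, List.not_mem_nil, or_false] at hw
    rcases hw with rfl | rfl | rfl | rfl | rfl
    exacts [key a ha, key b hb, key c hc, key d hd, key e he]
  · simp only [List.prod_cons, List.prod_nil, mul_one, ← map_mul]
    have h2 : ab (C.c a * (C.c b * (C.c c * (C.c d * C.c e)))) = ab (1 : Pauli 11) := by
      simp only [ab_mul, ← h1]
      refine Prod.ext ?_ ?_
      · funext i
        simp only [Prod.fst_add, Pi.add_apply]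
        have e2 : ∀ x y z w : ZMod 2, x + (y + (z + (w + (x + y + z + w)))) = 0 := by decide
        exact e2 _ _ _ _
      · funext i
        simp only [Prod.snd_add, Pi.add_apply]
        have e2 : ∀ x y z w : ZMod 2, x + (y + (z + (w + (x + y + z + w)))) = 0 := by decide
        exact e2 _ _ _ _
    rcases R_eq_or h h2 with h3 | h3
    · left; rw [h3, map_one]
    · right; rw [h3, map_one, one_mul]

end LinkedPairs

end Cfsg.Agent.BabyM.ClosQ
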