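import Cfsg.Agent.BabyM.ClosUniq

/-!
# F12 with conjugating elements in `C` (helper33)
-/

set_option autoImplicit false

namespace Cfsg.Agent.BabyM.ClosRelC

open Cfsg.Agent.BabyM.Model Cfsg.Agent.BabyM.ClosQ Cfsg.Agent.BabyM.KCore Cfsg.Agent.BabyM.Conc
open Cfsg.Agent.Monster.VecSpace Cfsg.Agent.BabyM.KTabData

theorem exists_conj_list {W : Type} [AddCommGroup W] [Module ℚ W] {M : BData W} {K₀ : Type} [Group K₀]
    (A : BAll M K₀) (B : BTrans M) (l : List (W ≃ₗ[ℚ] W)) (hl : ∀ w ∈ l, w ∈ Cfsg.Agent.BabyU.Clos.cls M.G M.t₀ ∧ w ∈ M.Q) :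
    ∃ L : List (W ≃ₗ[ℚ] W), (∀ g ∈ L, g ∈ M.C) ∧ L.length = l.length ∧ (L.map fun g => g * M.t₀ * g⁻¹) = l := by
  induction l with
  | nil => exact ⟨[], by simp, rfl, rfl⟩
  | cons a l ih =>
    obtain ⟨L, h1, h2, h3⟩ := ih fun w hw => hl w (by simp [hw])
    obtain ⟨c, hc, e⟩ := (mem_cls_Q A B).1 (hl a (by simp))
    refine ⟨c :: L, ?_, by rw [List.length_cons, List.length_cons, h2], by rw [List.map_cons, h3, e]⟩
    intro g hg
    rcases List.mem_cons.1 hg with rfl | hg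
    · exact hc
    · exact h1 g hg

/-- An odd relation between the conjugates of `t₀` under `C`. -/
theorem relC {w : Lane U → ℚ} {K₀ : Type} [Group K₀] (h : Link KTab.Cd KTab.u w Inst.M Inst.laneB)
    (A : BAll Inst.M K₀) (B : BTrans Inst.M) :
    ∃ L : List (V ≃ₗ[ℚ] V), (∀ g ∈ L, g ∈ Inst.M.C) ∧ Odd L.length ∧
      ((L.map fun g => g * Inst.M.t₀ * g⁻¹).prod = 1 ∨ (L.map fun g => g * Inst.M.t₀ * g⁻¹).prod = Inst.M.z) := by
  obtain ⟨l, h1, h2, h3⟩ := ClosUniq.rel h A B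
  obtain ⟨L, h4, h5, rfl⟩ := exists_conj_list A B l h1
  exact ⟨L, h4, by rw [h5]; exact h2, h3⟩

end Cfsg.Agent.BabyM.ClosRelC
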