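import Cfsg.Agent.BabyM.KTab
import Cfsg.Agent.BabyM.QIrr

/-!
# The field `Q_irred` for the concrete model (helper620)
-/

set_option autoImplicit false

namespace Cfsg.Agent.BabyM.QIrrInst

open Cfsg.Agent.Lib.PermNet Cfsg.Agent.Monster Cfsg.Agent.Monster.VecEngine Cfsg.Agent.Monster.VecSpace
open Cfsg.Agent.Monster.PauliBasic Cfsg.Agent.Monster.PauliRep Cfsg.Agent.Monster.PauliClif Cfsg.Agent.Monster.PauliBits
open Cfsg.Agent.BabyM.KTabData Cfsg.Agent.BabyM.QAct Cfsg.Agent.BabyM.Model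
open Cfsg.Agent.BabyM.Conc Cfsg.Agent.BabyM.KTab Cfsg.Agent.BabyM.KCore

theorem ab_dec_xor (x y : ℕ) : ab (dec 11 (x ^^^ y)) = ab (dec 11 x) + ab (dec 11 y) := by
  refine Prod.ext ?_ ?_
  · funext i; exact bit_xor x y (11 + i.1)
  · funext i; exact bit_xor x y i.1

theorem beq_false_ne {x y : ℕ} (h : Nat.beq x y = false) : x ≠ y := by
  intro hxy
  subst hxy
  rw [Nat.beq_refl] at h
  exact absurd h (by decide)

theorem isX_of {i : ℕ} (h : U.testBit i = true) (h1 : i < 4096) (h2 : Nat.beq (cd i) 0 = false) :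
    Cd.isX ⟨i, h⟩ := isX_iff.mpr ⟨h1, beq_false_ne h2⟩

theorem code_rel : Nat.beq (cd 1281 ^^^ cd 1216 ^^^ cd 885 ^^^ cd 1030) (cd 396) = true := by decide +kernel

/-- The product of five classes is trivial. -/
theorem hodd : ∃ a b c d e : Lane U, Cd.isX a ∧ Cd.isX b ∧ Cd.isX c ∧ Cd.isX d ∧ Cd.isX e ∧
    ab (Cd.c a) + ab (Cd.c b) + ab (Cd.c c) + ab (Cd.c d) = ab (Cd.c e) := by
  refine ⟨⟨1281, by decide +kernel⟩, ⟨1216, by decide +kernel⟩, ⟨885, by decide +kernel⟩, ⟨1030, by decide +kernel⟩,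
    ⟨396, by decide +kernel⟩, isX_of _ (by norm_num) (by decide +kernel), isX_of _ (by norm_num) (by decide +kernel),
    isX_of _ (by norm_num) (by decide +kernel), isX_of _ (by norm_num) (by decide +kernel),
    isX_of _ (by norm_num) (by decide +kernel), ?_⟩
  show ab (dec 11 (cd 1281)) + ab (dec 11 (cd 1216)) + ab (dec 11 (cd 885)) + ab (dec 11 (cd 1030)) =
    ab (dec 11 (cd 396))
  rw [← ab_dec_xor, ← ab_dec_xor, ← ab_dec_xor]
  exact congrArg (fun x => ab (dec 11 x)) (Nat.eq_of_beq_eq_true code_rel)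

/-- **The field `Q_irred`.** -/
theorem Q_irred {w : Lane U → ℚ} {M : BData (Lane U → ℚ)} {i₀ : Lane U} (h : Link Cd u w M i₀) {K₀ : Type} [Group K₀]
    (hs : IsSimpleGroup K₀) (hK : Nat.card K₀ = 42305421312000)
    (hq : ∃ π : M.C →* K₀, Function.Surjective π ∧
      ∀ g : M.C, π g = 1 ↔ (g : (Lane U → ℚ) ≃ₗ[ℚ] (Lane U → ℚ)) ∈ M.Q) :
    ∀ N : Subgroup ((Lane U → ℚ) ≃ₗ[ℚ] (Lane U → ℚ)), N ≤ M.Q → (∀ g ∈ M.C, ∀ n ∈ N, g * n * g⁻¹ ∈ N) →
      (∀ n ∈ N, n = 1 ∨ n = M.z) ∨ N = M.Q :=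
  QIrr.Q_irred h hs hK hq hodd

end Cfsg.Agent.BabyM.QIrrInst
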