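import Cfsg.Agent.BabyM.ClosQ
import Cfsg.Agent.BabyM.ClosCode
import Cfsg.Agent.BabyM.QIrrInst
import Cfsg.Agent.BabyM.TransFields

/-!
# F11 and F12 for the concrete model (helper33)

The fields `uniq` and `rel` of `BabyU.Clos.Inner` for the group `M.G` of the concrete model of the Baby Monster.
A pair of non-commuting transpositions of `Q` is conjugate to the pair of the lanes `1281`, `1192`; the kernel checks that the sum
of the codes of these lanes is not the sum of the codes of two other lanes.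
-/

set_option autoImplicit false
set_option Elab.async false

namespace Cfsg.Agent.BabyM.ClosUniq

open Cfsg.Agent.Lib.PermNet hiding tb tb_eq
open Cfsg.Agent.Monster Cfsg.Agent.Monster.VecEngine Cfsg.Agent.Monster.VecSpace
open Cfsg.Agent.Monster.PauliBasic Cfsg.Agent.Monster.PauliRep Cfsg.Agent.Monster.PauliClif Cfsg.Agent.Monster.PauliBits
open Cfsg.Agent.BabyM.KTabData Cfsg.Agent.BabyM.QAct Cfsg.Agent.BabyM.Model
open Cfsg.Agent.BabyM.Conc Cfsg.Agent.BabyM.KTab Cfsg.Agent.BabyM.KCore Cfsg.Agent.BabyM.KRow Cfsg.Agent.BabyM.KGood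
open Cfsg.Agent.BabyM.TransCover Cfsg.Agent.BabyM.TransData Cfsg.Agent.BabyM.TransOrd
open Cfsg.Agent.BabyM.ClosQ Cfsg.Agent.BabyM.ClosCode Cfsg.Agent.BabyU.Clos

/-! ### The pair of lanes `1281`, `1192` -/

/-- The sum of the two codes. -/
noncomputable def sum2 : ℕ := Nat.xor (cd 1281) (cd 1192)

theorem sum2_eq : Nat.beq sum2 0x6f630 = true := by decide +kernel

theorem pair_check : allN 12 (fun i => Bool.rec true (Bool.rec (notCode (Nat.xor (cd i) 0x6f630)) true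
    (or (Nat.beq i 1281) (or (Nat.beq i 1192) (Nat.beq (cd i) 0)))) (tb U i)) 0 = true := by
  decide +kernel

/-- the second lane -/
noncomputable def lane2 : Lane U := ⟨1192, by decide +kernel⟩

theorem lane2_X : Cd.isX lane2 := isX_iff.mpr ⟨by show 1192 < 4096; norm_num, by show cd 1192 ≠ 0; decide +kernel⟩

theorem pair_lanes : ∀ i j, Cd.isX i → Cd.isX j → ab (Cd.c i) + ab (Cd.c j) = ab (Cd.c Inst.laneB) + ab (Cd.c lane2) →
    i = Inst.laneB ∨ i = lane2 := by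
  intro i j hi hj h
  rw [isX_iff] at hi hj
  by_contra hcon
  rw [not_or] at hcon
  have e1 : i.1 ≠ 1281 := fun e => hcon.1 (Subtype.ext e)
  have e2 : i.1 ≠ 1192 := fun e => hcon.2 (Subtype.ext e)
  have h1 := allN_spec pair_check (Nat.zero_le i.1) (by rw [zero_add]; exact hi.1)
  simp only [tb_eq, i.2] at h1
  have hb : ∀ a b : ℕ, a ≠ b → Nat.beq a b = false := by
    intro a b hab
    rw [Bool.eq_false_iff]
    exact fun h => hab (Nat.eq_of_beq_eq_true h)
  rw [hb _ _ e1, hb _ _ e2, hb _ _ hi.2] at h1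
  have h2 : notCode (Nat.xor (cd i.1) 0x6f630) = true := h1
  have h3 : (cd i.1 ^^^ cd j.1) = 0x6f630 := by
    have h4 : (cd 1281 ^^^ cd 1192) = 0x6f630 := Nat.eq_of_beq_eq_true sum2_eq
    rw [← h4]
    apply eq_of_ab_dec (Nat.xor_lt_two_pow (cd_lt _) (cd_lt _)) (Nat.xor_lt_two_pow (cd_lt _) (cd_lt _))
    rw [ab_dec_xor, ab_dec_xor]
    exact h
  refine notCode_sound h2 j.2 hj.1 hj.2 ?_
  show cd j.1 = cd i.1 ^^^ 0x6f630
  rw [← h3, ← Nat.xor_assoc, Nat.xor_self, Nat.zero_xor]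

/-- The word mapping the base axis to the lane `1192`. -/
def w4 : List Ltr := [.p8, .xi, .p6]

theorem w4_check : check (w4.map Ltr.prog) (uPl 1281) [] (supl 1192 true) = true := by decide +kernel

theorem w4_u : W w4 (u Inst.laneB) = - u lane2 := by
  have h := W_eq_of_check (v₁ := w4) (v₂ := []) (x₁ := uPl 1281) (x₂ := supl 1192 true) w4_check
  have h2 := vecU_supl lane2 true
  show W w4 (vecU ℚ U (uPl 1281)) = _
  rw [h, W_nil]
  show vecU ℚ U (supl 1192 true) = _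
  rw [show vecU ℚ U (supl 1192 true) = sg ℚ (bz true) • u lane2 from h2]
  show sg ℚ 1 • u lane2 = _
  rw [sg_one, neg_smul, one_smul]

/-! ### The fields -/

/-- The representatives. -/
def reps : Set (V ≃ₗ[ℚ] V) := {g | ∃ r ∈ T0.reps, g = W r.h}

theorem reps_C : ∀ r ∈ reps, r ∈ Inst.M.C := by
  rintro _ ⟨r, hr, rfl⟩
  have h := inC0
  unfold inCT at h
  rw [Bool.and_eq_true, List.all_eq_true, List.all_eq_true] at h
  exact ConcGrp.W_mem_C (h.1 r hr)

theorem cov : Cov Inst.M reps := by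
  intro b hb
  obtain ⟨l, hl, r, hr, h⟩ := TransFields.cover 0 b hb
  refine ⟨l, hl.1, ?_, W r.h, ⟨r, hr, rfl⟩, h⟩
  have h2 := TransFields.stab_d hl
  rwa [TransFields.M_d_zero] at h2

section

variable {w : Lane U → ℚ} {K₀ : Type} [Group K₀]

theorem comm_of_sq {G : Type*} [Group G] {a b : G} (ha : a * a = 1) (hb : b * b = 1) (h : a * b * (a * b) = 1) :
    a * b = b * a := by
  calc a * b = (a * b)⁻¹ := eq_inv_of_mul_eq_one_left h
    _ = b * a := by rw [mul_inv_rev, inv_eq_of_mul_eq_one_left ha, inv_eq_of_mul_eq_one_left hb]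

/-- Representatives with product of order two commute with `t₀`. -/
theorem comm_of_two (A : BAll Inst.M K₀) {r : TransCover.Rep} (hr : r ∈ T0.reps) (hn : r.n = 2) :
    (W r.h * Inst.M.t₀ * (W r.h)⁻¹) * Inst.M.t₀ = Inst.M.t₀ * (W r.h * Inst.M.t₀ * (W r.h)⁻¹) := by
  have hP : W T0.path (Inst.M.d₀) = (1 / 8 : ℚ) • vecU ℚ U InstVec.dv0 := by
    rw [← TransFields.d₀_eq']
    show W [] Inst.M.d₀ = _
    rw [W_nil]; rfl
  have h := (ord_sound A hP (List.all_eq_true.1 ord0 r hr)).2.2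
  rw [hn] at h
  have h0 : W T0.path = 1 := by
    show W [] = _
    exact W_nil
  rw [h0, one_mul, inv_one, mul_one, pow_two] at h
  exact comm_of_sq (tt_mul A (W r.h)) A.rep.t₀_sq h

/-- **F11**: the field `uniq`. -/
theorem uniq (h : Link Cd u w Inst.M Inst.laneB) (A : BAll Inst.M K₀) (B : BTrans Inst.M) :
    ∀ d ∈ cls Inst.M.G Inst.M.t₀, d ∈ Inst.M.Q → ∀ e ∈ cls Inst.M.G Inst.M.t₀, e ∈ Inst.M.Q → d * e ≠ e * d →
      ∀ s ∈ cls Inst.M.G Inst.M.t₀, s ∈ Inst.M.Q → ∀ s' ∈ cls Inst.M.G Inst.M.t₀, s' ∈ Inst.M.Q →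
        (s * s' = d * e ∨ s * s' = d * e * Inst.M.z) →
        s = d ∨ s = d * Inst.M.z ∨ s = e ∨ s = e * Inst.M.z := by
  intro d hd hdQ e he heQ hde
  refine uniq_of A B reps_C cov ?_ hd hdQ he heQ hde
  rintro _ ⟨r, hr, rfl⟩
  by_cases hn : r.n = 2
  · exact Or.inl (comm_of_two A hr hn)
  · right
    have hr4 : r.h = w4 := by
      unfold T0 at hr
      simp only [List.mem_cons, List.not_mem_nil, or_false] at hr
      rcases hr with rfl | rfl | rfl | rfl
      · exact absurd rfl hn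
      · exact absurd rfl hn
      · exact absurd rfl hn
      · rfl
    rw [hr4]
    obtain ⟨s, t, h1, -, -⟩ := h.u₀_trans (reps_C _ ⟨r, hr, by rw [hr4]⟩) lane2_X (Or.inr w4_u)
    rw [h.t₀_eq, h1, ← h.t₀_eq]
    exact uniq_of_lanes h A B pair_lanes (by rw [ab_mul]; exact zero_add _)

/-- **F12**: the field `rel`. -/
theorem rel (h : Link Cd u w Inst.M Inst.laneB) (A : BAll Inst.M K₀) (B : BTrans Inst.M) :
    ∃ l : List (V ≃ₗ[ℚ] V), (∀ w ∈ l, w ∈ cls Inst.M.G Inst.M.t₀ ∧ w ∈ Inst.M.Q) ∧ Odd l.length ∧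
      (l.prod = 1 ∨ l.prod = Inst.M.z) :=
  rel_of h A B QIrrInst.hodd

end

/-! ### The same inside the group -/

theorem mem_cls_top {G : Type*} [Group G] {G₀ : Subgroup G} {t d : G₀} : d ∈ cls ⊤ t ↔ (d : G) ∈ cls G₀ (t : G) := by
  constructor
  · rintro ⟨h, -, rfl⟩
    exact ⟨h, h.2, rfl⟩
  · rintro ⟨h, hh, e⟩
    exact ⟨⟨h, hh⟩, trivial, Subtype.ext e⟩

/-- `uniq` for a group and its subgroup. -/
theorem uniq_top {G : Type*} [Group G] {G₀ P : Subgroup G} {t z : G₀}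
    (h : ∀ d ∈ cls G₀ (t : G), d ∈ P → ∀ e ∈ cls G₀ (t : G), e ∈ P → d * e ≠ e * d →
      ∀ s ∈ cls G₀ (t : G), s ∈ P → ∀ s' ∈ cls G₀ (t : G), s' ∈ P → (s * s' = d * e ∨ s * s' = d * e * z) →
        s = d ∨ s = d * z ∨ s = e ∨ s = e * z) :
    ∀ d ∈ cls ⊤ t, d ∈ P.subgroupOf G₀ → ∀ e ∈ cls ⊤ t, e ∈ P.subgroupOf G₀ → d * e ≠ e * d →
      ∀ s ∈ cls ⊤ t, s ∈ P.subgroupOf G₀ → ∀ s' ∈ cls ⊤ t, s' ∈ P.subgroupOf G₀ →
        (s * s' = d * e ∨ s * s' = d * e * z) → s = d ∨ s = d * z ∨ s = e ∨ s = e * z := by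
  intro d hd hdP e he heP hde s hs hsP s' hs' hsP' hss
  rw [mem_cls_top] at hd he hs hs'
  rw [Subgroup.mem_subgroupOf] at hdP heP hsP hsP'
  have h1 := h d hd hdP e he heP (fun hh => hde (Subtype.ext hh)) s hs hsP s' hs' hsP' (by
    rcases hss with hss | hss
    · exact Or.inl (congrArg Subtype.val hss)
    · exact Or.inr (congrArg Subtype.val hss))
  rcases h1 with h1 | h1 | h1 | h1
  · exact Or.inl (Subtype.ext h1)
  · exact Or.inr (Or.inl (Subtype.ext h1))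
  · exact Or.inr (Or.inr (Or.inl (Subtype.ext h1)))
  · exact Or.inr (Or.inr (Or.inr (Subtype.ext h1)))

/-- `rel` for a group and its subgroup. -/
theorem rel_top {G : Type*} [Group G] {G₀ P : Subgroup G} {t z : G₀} (hP : P ≤ G₀)
    (h : ∃ l : List G, (∀ w ∈ l, w ∈ cls G₀ (t : G) ∧ w ∈ P) ∧ Odd l.length ∧ (l.prod = 1 ∨ l.prod = z)) :
    ∃ l : List G₀, (∀ w ∈ l, w ∈ cls ⊤ t ∧ w ∈ P.subgroupOf G₀) ∧ Odd l.length ∧ (l.prod = 1 ∨ l.prod = z) := by
  obtain ⟨l, h1, h2, h3⟩ := h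
  obtain ⟨l', rfl⟩ : ∃ l' : List G₀, l'.map Subtype.val = l := by
    clear h2 h3
    induction l with
    | nil => exact ⟨[], rfl⟩
    | cons a l ih =>
      obtain ⟨l', hl'⟩ := ih fun w hw => h1 w (by simp [hw])
      exact ⟨⟨a, hP (h1 a (by simp)).2⟩ :: l', by rw [List.map_cons, hl']⟩
  have hprod : (l'.map Subtype.val).prod = (l'.prod : G) := (map_list_prod G₀.subtype l').symm
  refine ⟨l', fun w hw => ?_, ?_, ?_⟩
  · have h4 := h1 w (List.mem_map_of_mem hw)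
    exact ⟨mem_cls_top.2 h4.1, h4.2⟩
  · rwa [List.length_map] at h2
  · rw [hprod] at h3
    rcases h3 with h3 | h3
    · exact Or.inl (Subtype.ext h3)
    · exact Or.inr (Subtype.ext h3)

end Cfsg.Agent.BabyM.ClosUniq
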