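import Cfsg.Agent.SporadicA.M24Count
import Cfsg.Agent.SporadicA.M24Trans

/-!
The setwise stabiliser of the duad `{none, some 0}` in `M24` is generated by the permutation
`t ↦ 2 t` and the involution `h` of the Baby Monster model.
-/

set_option autoImplicit false
open Cfsg
open scoped Pointwise

namespace Cfsg.Agent.BabyM.DuadGen

open Cfsg.Agent.SporadicA.M24Gens

/-- table of `p : t ↦ 2 t` -/
def tabP : List ℕ := [0, 2, 4, 6, 8, 10, 12, 14, 16, 18, 20, 22, 1, 3, 5, 7, 9, 11, 13, 15, 17, 19, 21, 23]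

/-- table of the involution `h` -/
def tabH : List ℕ := [23, 8, 2, 3, 5, 4, 6, 15, 1, 14, 10, 11, 12, 13, 9, 7, 20, 21, 18, 22, 16, 17, 19, 0]

section

variable {p h : Equiv.Perm GolayPt}

/-- `l` is the table of an element of `⟨p, h⟩` -/
def Tab (p h : Equiv.Perm GolayPt) (l : List ℕ) : Prop :=
  ∃ g ∈ Subgroup.closure {p, h}, ∀ x, pidx (g x) = l.getD (pidx x) 0

theorem tab_comp {a b c : List ℕ} (ha : Tab p h a) (hb : Tab p h b)
    (hc : ∀ j < 24, c.getD j 0 = a.getD (b.getD j 0) 0) : Tab p h c := by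
  obtain ⟨g, hg, hg'⟩ := ha
  obtain ⟨f, hf, hf'⟩ := hb
  refine ⟨g * f, mul_mem hg hf, fun x => ?_⟩
  rw [Equiv.Perm.mul_apply, hg', hf', hc _ (pidx_lt x)]

/-- tables of 31 elements of `⟨p, h⟩`, obtained by the straight-line program `prog` -/
def T : List (List ℕ) :=
  [[0, 2, 4, 6, 8, 10, 12, 14, 16, 18, 20, 22, 1, 3, 5, 7, 9, 11, 13, 15, 17, 19, 21, 23],
   [23, 8, 2, 3, 5, 4, 6, 15, 1, 14, 10, 11, 12, 13, 9, 7, 20, 21, 18, 22, 16, 17, 19, 0],
   [23, 2, 5, 6, 1, 10, 12, 9, 20, 18, 16, 19, 8, 3, 4, 15, 14, 11, 13, 7, 21, 22, 17, 0],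
   [0, 5, 10, 12, 2, 16, 8, 18, 21, 13, 14, 7, 20, 6, 1, 15, 4, 19, 3, 9, 22, 17, 11, 23],
   [0, 16, 14, 20, 10, 4, 21, 3, 17, 6, 1, 18, 22, 8, 5, 15, 2, 9, 12, 13, 11, 19, 7, 23],
   [0, 4, 1, 22, 14, 2, 17, 12, 19, 8, 5, 3, 11, 21, 16, 15, 10, 13, 20, 6, 7, 9, 18, 23],
   [0, 1, 14, 17, 19, 5, 11, 16, 10, 20, 7, 18, 4, 22, 2, 12, 8, 3, 21, 15, 13, 6, 9, 23],
   [0, 10, 2, 8, 21, 14, 20, 1, 4, 3, 22, 11, 5, 12, 16, 18, 13, 7, 6, 15, 19, 9, 17, 23],
   [0, 2, 21, 20, 4, 22, 5, 16, 13, 6, 19, 17, 10, 8, 14, 1, 3, 11, 12, 18, 7, 15, 9, 23],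
   [0, 22, 19, 10, 21, 3, 13, 12, 15, 8, 14, 16, 7, 5, 2, 1, 4, 18, 20, 6, 9, 11, 17, 23],
   [0, 19, 21, 13, 15, 14, 7, 2, 4, 20, 9, 17, 22, 10, 3, 12, 8, 16, 5, 1, 18, 6, 11, 23],
   [0, 1, 6, 10, 12, 3, 2, 21, 15, 18, 20, 16, 11, 9, 13, 22, 4, 8, 14, 19, 5, 7, 17, 23],
   [0, 1, 2, 3, 15, 5, 18, 8, 7, 13, 16, 21, 19, 9, 14, 4, 10, 17, 6, 12, 22, 11, 20, 23],
   [0, 1, 18, 16, 19, 3, 2, 11, 4, 6, 22, 10, 21, 13, 9, 20, 15, 7, 14, 12, 5, 8, 17, 23],
   [0, 1, 2, 22, 21, 16, 18, 8, 20, 14, 5, 15, 10, 6, 13, 17, 19, 4, 9, 12, 3, 11, 7, 23],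
   [0, 1, 11, 7, 4, 17, 14, 6, 12, 21, 13, 8, 18, 20, 22, 9, 19, 10, 2, 15, 5, 16, 3, 23],
   [0, 1, 22, 10, 15, 17, 8, 19, 13, 5, 6, 2, 4, 3, 11, 18, 12, 7, 16, 9, 20, 14, 21, 23],
   [0, 1, 11, 7, 9, 17, 2, 12, 6, 20, 19, 16, 15, 21, 22, 4, 13, 10, 14, 18, 3, 8, 5, 23],
   [0, 1, 2, 19, 15, 7, 11, 8, 4, 14, 3, 13, 16, 20, 21, 5, 9, 6, 22, 18, 17, 12, 10, 23],
   [0, 1, 2, 18, 5, 8, 13, 4, 15, 21, 19, 20, 9, 17, 12, 7, 14, 11, 10, 22, 6, 16, 3, 23],
   [0, 1, 2, 3, 16, 14, 10, 15, 6, 12, 8, 7, 19, 13, 17, 11, 22, 5, 21, 9, 18, 20, 4, 23],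
   [0, 1, 2, 10, 12, 9, 22, 4, 17, 21, 7, 5, 3, 11, 20, 6, 18, 15, 14, 16, 19, 13, 8, 23],
   [0, 1, 2, 8, 13, 18, 14, 17, 19, 20, 9, 6, 7, 22, 11, 15, 16, 12, 21, 3, 10, 5, 4, 23],
   [0, 1, 2, 3, 15, 17, 6, 19, 13, 11, 8, 22, 16, 10, 5, 18, 20, 14, 4, 21, 12, 7, 9, 23],
   [0, 1, 2, 16, 6, 4, 5, 17, 12, 20, 10, 11, 18, 19, 13, 9, 21, 22, 8, 14, 15, 3, 7, 23],
   [0, 1, 2, 14, 9, 17, 11, 12, 6, 13, 16, 19, 21, 15, 3, 4, 20, 5, 7, 8, 22, 18, 10, 23],
   [0, 1, 2, 3, 13, 5, 19, 21, 11, 15, 20, 8, 18, 4, 14, 9, 22, 17, 12, 6, 10, 7, 16, 23],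
   [0, 1, 2, 3, 20, 5, 8, 18, 6, 16, 13, 19, 21, 10, 14, 22, 9, 17, 7, 11, 4, 12, 15, 23],
   [0, 1, 2, 3, 11, 5, 10, 9, 13, 7, 6, 4, 22, 8, 14, 21, 18, 17, 16, 20, 19, 15, 12, 23],
   [0, 1, 2, 3, 13, 14, 9, 20, 7, 11, 18, 6, 21, 16, 17, 12, 4, 5, 19, 10, 8, 15, 22, 23],
   [0, 1, 2, 3, 12, 5, 9, 10, 16, 6, 7, 22, 4, 18, 14, 19, 8, 17, 13, 15, 21, 20, 11, 23]]

/-- table number `k ≥ 2` is the product of the tables with the two numbers given here -/
def prog : List (ℕ × ℕ) :=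
  [(0, 0), (0, 0), (1, 0), (2, 2), (3, 3), (4, 3), (5, 0), (3, 0), (7, 0), (8, 3), (9, 0), (10, 10), (6, 6), (12, 11), (13, 11), (6, 11), (15, 6), (16, 6), (17, 11), (18, 18), (19, 14), (18, 14), (21, 14), (22, 18), (21, 18), (24, 18), (25, 25), (23, 20), (20, 23), (20, 26), (29, 23)]

theorem prog_check : ∀ k < 31, 2 ≤ k → (prog.getD k (0, 0)).1 < k ∧ (prog.getD k (0, 0)).2 < k ∧
    ∀ j < 24, (T.getD k []).getD j 0 = (T.getD (prog.getD k (0, 0)).1 []).getD
      ((T.getD (prog.getD k (0, 0)).2 []).getD j 0) 0 := by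
  decide +kernel

theorem tab_T (hp : ∀ x, pidx (p x) = tabP.getD (pidx x) 0)
    (hh : ∀ x, pidx (h x) = tabH.getD (pidx x) 0) (k : ℕ) (hk : k < 31) :
    Tab p h (T.getD k []) := by
  induction k using Nat.strong_induction_on with
  | _ k ih =>
    by_cases h2 : 2 ≤ k
    · obtain ⟨h1, h2, h⟩ := prog_check k hk h2
      exact tab_comp (ih _ h1 (by omega)) (ih _ h2 (by omega)) h
    · have : k = 0 ∨ k = 1 := by omega
      rcases this with rfl | rfl
      · exact ⟨_, Subgroup.subset_closure (Or.inl rfl), hp⟩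
      · exact ⟨_, Subgroup.subset_closure (Or.inr rfl), hh⟩

/-- evaluate a word (a list of numbers of tables) at a point; the last letter acts first -/
def evalW (w : List ℕ) (x : ℕ) : ℕ := w.foldr (fun i y => (T.getD i []).getD y 0) x

theorem word_spec (hp : ∀ x, pidx (p x) = tabP.getD (pidx x) 0)
    (hh : ∀ x, pidx (h x) = tabH.getD (pidx x) 0) (B : List ℕ) (w : List ℕ)
    (hw : ∀ i ∈ w, i < 31 ∧ ∀ b ∈ B, (T.getD i []).getD b 0 = b) :
    ∃ g ∈ Subgroup.closure {p, h}, (∀ x, pidx (g x) = evalW w (pidx x)) ∧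
      ∀ x, pidx x ∈ B → g x = x := by
  induction w with
  | nil => exact ⟨1, one_mem _, fun x => rfl, fun x _ => rfl⟩
  | cons i w ih =>
    obtain ⟨g, hg, hg1, hg2⟩ := ih (fun j hj => hw j (List.mem_cons_of_mem _ hj))
    obtain ⟨hi, hi'⟩ := hw i List.mem_cons_self
    obtain ⟨f, hf, hf'⟩ := tab_T hp hh i hi
    refine ⟨f * g, mul_mem hf hg, fun x => ?_, fun x hx => ?_⟩
    · rw [Equiv.Perm.mul_apply, hf', hg1]
      rfl
    · rw [Equiv.Perm.mul_apply, hg2 x hx]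
      apply pidx_injective
      rw [hf', hi' _ hx]

/-- the base of the stabiliser chain -/
def base : List ℕ := [0, 1, 2, 3, 5, 4]

/-- the points that the `k`-th base point can be mapped to by the stabiliser of the first `k` -/
def allowed : List (List ℕ) :=
  [[0, 23],
   [1, 2, 3, 4, 5, 6, 7, 8, 9, 10, 11, 12, 13, 14, 15, 16, 17, 18, 19, 20, 21, 22],
   [2, 3, 4, 5, 6, 7, 8, 9, 10, 11, 12, 13, 14, 15, 16, 17, 18, 19, 20, 21, 22],
   [3, 4, 5, 6, 7, 8, 9, 10, 11, 12, 13, 14, 15, 16, 17, 18, 19, 20, 21, 22],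
   [5, 14, 17],
   [4, 6, 7, 8, 9, 10, 11, 12, 13, 15, 16, 18, 19, 20, 21, 22]]

/-- words in the tables that give a transversal of the stabiliser chain -/
def W : List (List (List ℕ)) :=
  [[[], [], [], [], [], [], [], [], [], [], [], [], [], [], [], [], [], [], [], [], [], [], [], [1]],
   [[], [], [0], [3, 0, 0, 3, 3], [0, 0], [3], [3, 3, 0, 3, 3], [3, 0, 0, 0, 3, 0], [0, 0, 0], [0, 3, 3], [3, 0], [0, 0, 0, 3, 0], [3, 3, 0, 0, 3, 3], [3, 0, 3, 3], [3, 3, 0], [0, 0, 3, 0, 0, 0], [3, 3], [0, 0, 3, 0], [0, 0, 3, 3], [0, 3, 0, 0, 0], [0, 3, 0], [3, 0, 0, 0], [3, 0, 3, 0], []],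
   [[], [], [], [6, 11, 6, 11, 6], [11, 11, 6, 11], [11, 6, 11, 11, 6], [11], [11, 6, 6, 6, 11], [6, 11, 6, 11], [11, 11, 6], [6, 6, 11, 6, 11], [6, 11], [11, 11, 11, 6, 11], [11, 6], [6], [11, 6, 11, 6, 11], [11, 6, 11], [11, 6, 11, 6], [6, 6, 11], [6, 11, 11, 6, 11], [6, 11, 11, 6], [6, 6, 6, 11], [6, 11, 6], []],
   [[], [], [], [], [18, 14, 14, 14], [14, 18, 14], [18, 18, 14, 14, 14, 14], [14, 14], [14, 14, 14], [14, 18, 18], [18, 14], [14, 14, 18, 14, 14, 14], [14, 18], [14, 14, 14, 18, 18], [14, 14, 18, 18], [18, 18, 14, 14, 14], [18, 14, 18], [18, 14, 14, 14, 14], [18, 18], [18], [14, 14, 14, 14], [14, 18, 14, 14, 14], [14], []],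
   [[], [], [], [], [], [], [], [], [], [], [], [], [], [], [20], [], [], [23], [], [], [], [], [], []],
   [[], [], [], [], [], [], [28, 27, 26], [30, 27, 26], [28, 26], [30, 28, 27, 26], [27, 26], [28], [30], [26], [], [30, 28, 27], [30, 28, 26], [], [30, 26], [28, 27], [27], [30, 27], [30, 28], []]]

theorem chain_check : ∀ k < 6, ∀ x ∈ allowed.getD k [],
    (∀ i ∈ (W.getD k []).getD x [], i < 31 ∧ ∀ b ∈ base.take k, (T.getD i []).getD b 0 = b) ∧
      evalW ((W.getD k []).getD x []) (base.getD k 0) = x := by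
  decide +kernel

/-- The transversal, in terms of indices. -/
theorem exists_level (hp : ∀ x, pidx (p x) = tabP.getD (pidx x) 0)
    (hh : ∀ x, pidx (h x) = tabH.getD (pidx x) 0) (k : ℕ) (hk : k < 6) (b q : GolayPt)
    (hb : pidx b = base.getD k 0) (hq : pidx q ∈ allowed.getD k []) :
    ∃ g ∈ Subgroup.closure {p, h}, (∀ x, pidx x ∈ base.take k → g x = x) ∧ g b = q := by
  obtain ⟨h1, h2⟩ := chain_check k hk _ hq
  obtain ⟨g, hg, hg1, hg2⟩ := word_spec hp hh (base.take k) _ h1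
  refine ⟨g, hg, hg2, pidx_injective ?_⟩
  rw [hg1, hb, h2]

end

/-! ### The duad stabiliser -/

/-- The setwise stabiliser of `{none, some 0}` in `M24`. -/
def duad : Subgroup (Equiv.Perm GolayPt) where
  carrier := {g | g ∈ M24 ∧ ((g none = none ∧ g (some 0) = some 0) ∨
    (g none = some 0 ∧ g (some 0) = none))}
  one_mem' := ⟨one_mem _, Or.inl ⟨rfl, rfl⟩⟩
  mul_mem' := by
    rintro a b ⟨ha, ha'⟩ ⟨hb, hb'⟩
    refine ⟨mul_mem ha hb, ?_⟩
    simp only [Equiv.Perm.mul_apply]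
    rcases ha' with ⟨h1, h2⟩ | ⟨h1, h2⟩ <;> rcases hb' with ⟨h3, h4⟩ | ⟨h3, h4⟩ <;>
      simp [h1, h2, h3, h4]
  inv_mem' := by
    rintro a ⟨ha, ha'⟩
    refine ⟨inv_mem ha, ?_⟩
    simp only [Equiv.Perm.inv_eq_iff_eq]
    rcases ha' with ⟨h1, h2⟩ | ⟨h1, h2⟩
    · exact Or.inl ⟨h1.symm, h2.symm⟩
    · exact Or.inr ⟨h2.symm, h1.symm⟩

theorem mem_duad {g : Equiv.Perm GolayPt} : g ∈ duad ↔ g ∈ M24 ∧
    ((g none = none ∧ g (some 0) = some 0) ∨ (g none = some 0 ∧ g (some 0) = none)) := Iff.rfl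

theorem duad_le : duad ≤ M24 := fun _ h => h.1

theorem duad_eq : duad = M24 ⊓ MulAction.stabilizer (Equiv.Perm GolayPt)
    (({none, some 0} : Finset GolayPt)) := by
  ext g
  rw [mem_duad, Subgroup.mem_inf, MulAction.mem_stabilizer_iff]
  refine and_congr_right fun _ => ?_
  constructor
  · intro h
    ext x
    rw [Finset.mem_smul_finset]
    simp only [Finset.mem_insert, Finset.mem_singleton, exists_eq_or_imp, exists_eq_left,
      Equiv.Perm.smul_def]
    rcases h with ⟨h1, h2⟩ | ⟨h1, h2⟩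
    · rw [h1, h2]
      exact or_congr eq_comm eq_comm
    · rw [h1, h2, or_comm]
      exact or_congr eq_comm eq_comm
  · intro h
    have h1 : g none ∈ ({none, some 0} : Finset GolayPt) := by
      rw [← h]
      exact Finset.smul_mem_smul_finset (by simp)
    have h2 : g (some 0) ∈ ({none, some 0} : Finset GolayPt) := by
      rw [← h]
      exact Finset.smul_mem_smul_finset (by simp)
    rw [Finset.mem_insert, Finset.mem_singleton] at h1 h2
    have h3 : g none ≠ g (some 0) := g.injective.ne (by simp)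
    rcases h1 with h1 | h1 <;> rcases h2 with h2 | h2
    · exact absurd (h1.trans h2.symm) h3
    · exact Or.inl ⟨h1, h2⟩
    · exact Or.inr ⟨h1, h2⟩
    · exact absurd (h1.trans h2.symm) h3

/-- inverse tables -/
def itabP : List ℕ := [0, 12, 1, 13, 2, 14, 3, 15, 4, 16, 5, 17, 6, 18, 7, 19, 8, 20, 9, 21, 10, 22, 11, 23]
def itabH : List ℕ := [23, 8, 2, 3, 5, 4, 6, 15, 1, 14, 10, 11, 12, 13, 9, 7, 20, 21, 18, 22, 16, 17, 19, 0]

theorem p_mem {p : Equiv.Perm GolayPt} (hp : ∀ x, pidx (p x) = tabP.getD (pidx x) 0) :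
    p ∈ M24 :=
  mem_M24_of_table _ itabP
    [[0], [2], [4], [6], [8], [10], [1, 2, 6, 7, 8, 10], [1, 2, 3, 4, 6, 7, 9], 
     [0, 1, 3, 4, 7, 8], [2, 3, 5, 6, 9, 10], [0, 2, 4, 7, 9, 10], [0, 4, 5, 6, 8, 10], [1], 
     [3], [5], [7], [9], [0, 1, 5, 6, 7, 9], [0, 1, 2, 3, 5, 6, 8], [2, 3, 4, 5, 7, 8, 10], 
     [1, 2, 4, 5, 8, 9], [0, 1, 3, 4, 5, 9, 10], [0, 3, 6, 7, 8, 9, 10]]
    (symm_table _ tabP itabP hp (by decide +kernel)) (by decide +kernel)

theorem h_mem {h : Equiv.Perm GolayPt} (hh : ∀ x, pidx (h x) = tabH.getD (pidx x) 0) :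
    h ∈ M24 :=
  mem_M24_of_table _ itabH
    [[5, 6, 7, 8, 9, 10, 23], [0, 3, 7, 8, 9], [1, 3, 5, 6, 7, 8, 9], [0, 2, 3, 5, 6], 
     [0, 1, 3, 4, 7, 8, 9], [0, 1, 2, 3, 5, 10, 23], [6], [0, 1, 2, 4, 9, 23], [8], 
     [3, 4, 7, 10], [0, 5, 6, 7, 8, 9, 23], [0, 3, 7, 9, 10, 23], [0, 2, 4, 6, 7], [0, 7, 9], 
     [1, 3, 4, 6, 8, 10, 23], [0, 2, 6, 7, 10, 23], [3, 7, 10], [0, 1, 2, 3, 6, 9, 23], 
     [0, 4, 7], [0, 3, 6, 7, 10, 23], [0, 1, 2, 3, 4, 5, 6, 7, 9, 23], [0, 1, 5, 7, 8, 9, 23], 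
     [0, 2, 4, 5, 6, 7, 9, 23]]
    (symm_table _ tabH itabH hh (by decide +kernel)) (by decide +kernel)

section

variable {p h : Equiv.Perm GolayPt}

theorem closure_le (hp : ∀ x, pidx (p x) = tabP.getD (pidx x) 0)
    (hh : ∀ x, pidx (h x) = tabH.getD (pidx x) 0) : Subgroup.closure {p, h} ≤ duad := by
  rw [Subgroup.closure_le]
  rintro g (rfl | rfl)
  · refine ⟨p_mem hp, Or.inl ⟨pidx_injective ?_, pidx_injective ?_⟩⟩
    · rw [hp]
      rfl
    · rw [hp]
      rfl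
  · refine ⟨h_mem hh, Or.inr ⟨pidx_injective ?_, pidx_injective ?_⟩⟩
    · rw [hh]
      rfl
    · rw [hh]
      rfl

/-- **The duad stabiliser is generated by `p` and `h`.** -/
theorem closure_eq (hp : ∀ x, pidx (p x) = tabP.getD (pidx x) 0)
    (hh : ∀ x, pidx (h x) = tabH.getD (pidx x) 0) : Subgroup.closure {p, h} = duad := by
  refine le_antisymm (closure_le hp hh) ?_
  intro g hg
  -- one step of the chain
  have step : ∀ (k : ℕ) (hk : k < 6) (b : GolayPt), pidx b = base.getD k 0 →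
      ∀ g ∈ duad, pidx (g b) ∈ allowed.getD k [] → (∀ x, pidx x ∈ base.take k → g x = x) →
      (∀ g' ∈ duad, (∀ x, pidx x ∈ base.take k → g' x = x) → g' b = b →
        g' ∈ Subgroup.closure {p, h}) → g ∈ Subgroup.closure {p, h} := by
    intro k hk b hb g hg hgb hgf hnext
    obtain ⟨u, hu, huf, hub⟩ := exists_level hp hh k hk b (g b) hb hgb
    have h1 : u⁻¹ * g ∈ Subgroup.closure {p, h} := by
      apply hnext
      · exact mul_mem (inv_mem (closure_le hp hh hu)) hg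
      · intro x hx
        rw [Equiv.Perm.mul_apply, hgf x hx, Equiv.Perm.inv_eq_iff_eq, huf x hx]
      · rw [Equiv.Perm.mul_apply, Equiv.Perm.inv_eq_iff_eq, hub]
    have h2 := mul_mem hu h1
    rwa [mul_inv_cancel_left] at h2
  have hsome : ∀ x : GolayPt, pidx x ∈ base.take 1 → x = some 0 := by decide +kernel
  have hsome2 : ∀ x : GolayPt, pidx x ∈ base.take 2 → x = some 0 ∨ x = some 1 := by decide +kernel
  have hsome3 : ∀ x : GolayPt, pidx x ∈ base.take 3 → x = some 0 ∨ x = some 1 ∨ x = some 2 := by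
    decide +kernel
  have hsome4 : ∀ x : GolayPt, pidx x ∈ base.take 4 → x = some 0 ∨ x = some 1 ∨ x = some 2 ∨
      x = some 3 := by decide +kernel
  have hsome5 : ∀ x : GolayPt, pidx x ∈ base.take 5 → x = some 0 ∨ x = some 1 ∨ x = some 2 ∨
      x = some 3 ∨ x = some 5 := by decide +kernel
  -- level 0
  refine step 0 (by norm_num) (some 0) rfl g hg ?_ (fun x hx => by simp at hx) ?_
  · rcases hg.2 with ⟨_, h2⟩ | ⟨_, h2⟩
    · rw [h2]
      decide
    · rw [h2]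
      decide
  intro g hg _ h0
  have hn : g none = none := by
    rcases hg.2 with ⟨h1, _⟩ | ⟨_, h2⟩
    · exact h1
    · rw [h0] at h2
      exact absurd h2 (by simp)
  -- level 1
  have hA1 : ∀ x : GolayPt, x ≠ none → x ≠ some 0 → pidx x ∈ allowed.getD 1 [] := by
    decide +kernel
  refine step 1 (by norm_num) (some 1) rfl g hg (hA1 _ ?_ ?_) (fun x hx => ?_) ?_
  · exact fun h => absurd (g.injective (h.trans hn.symm)) (by decide)
  · exact fun h => absurd (g.injective (h.trans h0.symm)) (by decide)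
  · rw [hsome x hx]
    exact h0
  intro g hg hgf h1
  have h0 : g (some 0) = some 0 := hgf _ (by decide)
  have hn : g none = none := by
    rcases hg.2 with ⟨h1, _⟩ | ⟨_, h2⟩
    · exact h1
    · rw [h0] at h2
      exact absurd h2 (by simp)
  clear hgf
  -- level 2
  have hA2 : ∀ x : GolayPt, x ≠ none → x ≠ some 0 → x ≠ some 1 → pidx x ∈ allowed.getD 2 [] := by
    decide +kernel
  refine step 2 (by norm_num) (some 2) rfl g hg (hA2 _ ?_ ?_ ?_) (fun x hx => ?_) ?_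
  · exact fun h => absurd (g.injective (h.trans hn.symm)) (by decide)
  · exact fun h => absurd (g.injective (h.trans h0.symm)) (by decide)
  · exact fun h => absurd (g.injective (h.trans h1.symm)) (by decide)
  · rcases hsome2 x hx with rfl | rfl
    · exact h0
    · exact h1
  intro g hg hgf h2
  have h0 : g (some 0) = some 0 := hgf _ (by decide)
  have h1 : g (some 1) = some 1 := hgf _ (by decide)
  have hn : g none = none := by
    rcases hg.2 with ⟨h1, _⟩ | ⟨_, h2⟩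
    · exact h1
    · rw [h0] at h2
      exact absurd h2 (by simp)
  clear hgf
  -- level 3
  have hA3 : ∀ x : GolayPt, x ≠ none → x ≠ some 0 → x ≠ some 1 → x ≠ some 2 →
      pidx x ∈ allowed.getD 3 [] := by
    decide +kernel
  refine step 3 (by norm_num) (some 3) rfl g hg (hA3 _ ?_ ?_ ?_ ?_) (fun x hx => ?_) ?_
  · exact fun h => absurd (g.injective (h.trans hn.symm)) (by decide)
  · exact fun h => absurd (g.injective (h.trans h0.symm)) (by decide)
  · exact fun h => absurd (g.injective (h.trans h1.symm)) (by decide)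
  · exact fun h => absurd (g.injective (h.trans h2.symm)) (by decide)
  · rcases hsome3 x hx with rfl | rfl | rfl
    · exact h0
    · exact h1
    · exact h2
  intro g hg hgf h3
  have h0 : g (some 0) = some 0 := hgf _ (by decide)
  have h1 : g (some 1) = some 1 := hgf _ (by decide)
  have h2 : g (some 2) = some 2 := hgf _ (by decide)
  have hn : g none = none := by
    rcases hg.2 with ⟨h1, _⟩ | ⟨_, h2⟩
    · exact h1
    · rw [h0] at h2
      exact absurd h2 (by simp)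
  clear hgf
  have hO := SporadicA.M24Upper.base_octad_fixed hg.1 hn h0 h1 h2 h3
  -- level 4
  have hA4 : ∀ x : GolayPt, x ∈ ({none, some 0, some 1, some 2, some 3, some 5, some 14,
      some 17} : Finset GolayPt) → x ≠ none → x ≠ some 0 → x ≠ some 1 → x ≠ some 2 →
      x ≠ some 3 → pidx x ∈ allowed.getD 4 [] := by
    decide +kernel
  refine step 4 (by norm_num) (some 5) rfl g hg (hA4 _ ?_ ?_ ?_ ?_ ?_ ?_) (fun x hx => ?_) ?_
  · rw [hO]
    decide
  · exact fun h => absurd (g.injective (h.trans hn.symm)) (by decide)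
  · exact fun h => absurd (g.injective (h.trans h0.symm)) (by decide)
  · exact fun h => absurd (g.injective (h.trans h1.symm)) (by decide)
  · exact fun h => absurd (g.injective (h.trans h2.symm)) (by decide)
  · exact fun h => absurd (g.injective (h.trans h3.symm)) (by decide)
  · rcases hsome4 x hx with rfl | rfl | rfl | rfl
    · exact h0
    · exact h1
    · exact h2
    · exact h3
  intro g hg hgf h5
  have h0 : g (some 0) = some 0 := hgf _ (by decide)
  have h1 : g (some 1) = some 1 := hgf _ (by decide)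
  have h2 : g (some 2) = some 2 := hgf _ (by decide)
  have h3 : g (some 3) = some 3 := hgf _ (by decide)
  have hn : g none = none := by
    rcases hg.2 with ⟨h1, _⟩ | ⟨_, h2⟩
    · exact h1
    · rw [h0] at h2
      exact absurd h2 (by simp)
  clear hgf hO
  have hO := SporadicA.M24Upper.base_octad_fixed hg.1 hn h0 h1 h2 h3
  -- level 5
  have hA5 : ∀ x : GolayPt, x ∉ ({none, some 0, some 1, some 2, some 3, some 5, some 14,
      some 17} : Finset GolayPt) → pidx x ∈ allowed.getD 5 [] := by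
    decide +kernel
  refine step 5 (by norm_num) (some 4) rfl g hg (hA5 _ ?_) (fun x hx => ?_) ?_
  · rw [hO]
    decide
  · rcases hsome5 x hx with rfl | rfl | rfl | rfl | rfl
    · exact h0
    · exact h1
    · exact h2
    · exact h3
    · exact h5
  intro g hg hgf h4
  have h0 : g (some 0) = some 0 := hgf _ (by decide)
  have h1 : g (some 1) = some 1 := hgf _ (by decide)
  have h2 : g (some 2) = some 2 := hgf _ (by decide)
  have h3 : g (some 3) = some 3 := hgf _ (by decide)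
  have h5 : g (some 5) = some 5 := hgf _ (by decide)
  have hn : g none = none := by
    rcases hg.2 with ⟨h1, _⟩ | ⟨_, h2⟩
    · exact h1
    · rw [h0] at h2
      exact absurd h2 (by simp)
  rw [SporadicA.M24Upper.eq_one_of_fix hg.1 hn h0 h1 h2 h3 h5 h4]
  exact one_mem _

end

theorem swap_exists : ∃ g ∈ duad, g none = some 0 := by
  obtain ⟨g, hg, h1, h2, _⟩ := SporadicA.M24Trans.exists_map
    ![some 0, none, some 1, some 2, some 3] (by decide)
  exact ⟨g, ⟨hg, Or.inr ⟨h1, h2⟩⟩, h1⟩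

theorem card_duad : Nat.card duad = 887040 := by
  have e0 := SporadicA.M24Count.card_step M24 none Finset.univ (fun p => by
    refine ⟨fun _ => ?_, fun _ => Finset.mem_univ _⟩
    obtain ⟨g, hg, h⟩ := SporadicA.M24Chain.L0 p
    exact ⟨g, SporadicA.M24Chain.K_le_M24 hg, h⟩)
  have e1 := SporadicA.M24Count.card_step
    (M24 ⊓ MulAction.stabilizer (Equiv.Perm GolayPt) (none : GolayPt)) (some 0)
    (Finset.univ \ {none}) (fun p => by
      rw [Finset.mem_sdiff, Finset.mem_singleton]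
      constructor
      · rintro ⟨_, h⟩
        obtain ⟨g, hg, h1, h2⟩ := SporadicA.M24Chain.L1 p h
        exact ⟨g, ⟨SporadicA.M24Chain.K_le_M24 hg, h1⟩, h2⟩
      · rintro ⟨g, hg, rfl⟩
        refine ⟨Finset.mem_univ _, fun h => ?_⟩
        have h' : g none = none := hg.2
        exact absurd (g.injective (h.trans h'.symm)) (by simp))
  have e2 := SporadicA.M24Count.card_step duad none {none, some 0} (fun p => by
    rw [Finset.mem_insert, Finset.mem_singleton]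
    constructor
    · rintro (rfl | rfl)
      · exact ⟨1, one_mem _, rfl⟩
      · exact swap_exists
    · rintro ⟨g, hg, rfl⟩
      rcases hg.2 with ⟨h1, _⟩ | ⟨h1, _⟩
      · exact Or.inl h1
      · exact Or.inr h1)
  have e3 : duad ⊓ MulAction.stabilizer (Equiv.Perm GolayPt) (none : GolayPt) =
      M24 ⊓ MulAction.stabilizer (Equiv.Perm GolayPt) (none : GolayPt) ⊓
        MulAction.stabilizer (Equiv.Perm GolayPt) (some 0 : GolayPt) := by
    ext g
    simp only [Subgroup.mem_inf, mem_duad, MulAction.mem_stabilizer_iff, Equiv.Perm.smul_def]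
    constructor
    · rintro ⟨⟨h1, h2⟩, h3⟩
      refine ⟨⟨h1, h3⟩, ?_⟩
      rcases h2 with ⟨_, h4⟩ | ⟨h4, _⟩
      · exact h4
      · exact absurd (h4.symm.trans h3) (by simp)
    · rintro ⟨⟨h1, h2⟩, h3⟩
      exact ⟨⟨h1, Or.inl ⟨h2, h3⟩⟩, h2⟩
  have c0 : (Finset.univ : Finset GolayPt).card = 24 := by decide
  have c1 : (Finset.univ \ {none} : Finset GolayPt).card = 23 := by decide
  have c2 : ({none, some 0} : Finset GolayPt).card = 2 := by decide
  rw [SporadicA.M24Trans.card_M24, c0] at e0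
  rw [c1] at e1
  rw [c2, e3] at e2
  omega

/-- The order of the group generated by `p` and `h`. -/
theorem card_closure {p h : Equiv.Perm GolayPt} (hp : ∀ x, pidx (p x) = tabP.getD (pidx x) 0)
    (hh : ∀ x, pidx (h x) = tabH.getD (pidx x) 0) :
    Nat.card (Subgroup.closure {p, h}) = 887040 := by
  rw [closure_eq hp hh, card_duad]

end Cfsg.Agent.BabyM.DuadGen
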