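import Cfsg.Agent.BabyM.Co2Gen
import Cfsg.Agent.BabyM.DuadGen

/-!
# Explicit generators of the stabiliser of `λ₀ = 4 e_∞ - 4 e_0` in `Co0`

Generators (images on the 23-space of the generators of the 4371-dimensional model): the sign
changes on ten code words avoiding `∞, 0`, the permutation `p : t ↦ 2 t`, minus the involution `h`
exchanging `∞` and `0`, and Conway's map `ξ` for the sextet of `{∞, 0, 1, 2}` with sign changes on
the tetrad `{4, 13, 16, 22}`.
-/

set_option autoImplicit false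

namespace Cfsg.Agent.BabyM.Co2GenStd

open Cfsg Cfsg.Agent.Leech.Code Cfsg.Agent.Leech.Basic Cfsg.Agent.Leech.Co0Elts
  Cfsg.Agent.Leech.Xi Cfsg.Agent.Leech.Min Cfsg.Agent.Leech.Trans Cfsg.Agent.Leech.TransPair
  Cfsg.Agent.BabyM.Co2Gen Cfsg.Agent.SporadicA

/-! ### The code words avoiding `∞` and `0` -/

/-- masks of ten code words avoiding `∞, 0` -/
def dMask : ℕ → ℕ
  | 0 => 10558
  | 1 => 21116
  | 2 => 36294
  | 3 => 72588
  | 4 => 138790
  | 5 => 267634
  | 6 => 525274
  | 7 => 1050548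
  | 8 => 2101096
  | 9 => 4202192
  | _ => 0

/-- the word `m` as a combination of the `dMask k`, read off from the bits `13, …, 22` -/
def comb (m : ℕ) : ℕ :=
  ((m >>> 13) % 2 * 10558) ^^^ ((m >>> 14) % 2 * 21116) ^^^ ((m >>> 15) % 2 * 36294) ^^^
  ((m >>> 16) % 2 * 72588) ^^^ ((m >>> 17) % 2 * 138790) ^^^ ((m >>> 18) % 2 * 267634) ^^^
  ((m >>> 19) % 2 * 525274) ^^^ ((m >>> 20) % 2 * 1050548) ^^^ ((m >>> 21) % 2 * 2101096) ^^^
  ((m >>> 22) % 2 * 4202192)

theorem comb_check : GolayBase.allR 12 0 (fun i =>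
    (GolayBase.enc i).testBit 0 || (GolayBase.enc i).testBit 23 ||
      Nat.beq (comb (GolayBase.enc i)) (GolayBase.enc i)) = true := by
  decide +kernel

theorem dMask_code : ∀ k < 10, GolayBase.isCode (dMask k) = true ∧ dMask k < 2 ^ 24 := by
  decide +kernel

theorem dMask_pts : ∀ k < 10, (dMask k).testBit 0 = false ∧ (dMask k).testBit 23 = false := by
  decide +kernel

theorem fin_dMask_mem (k : ℕ) (hk : k < 10) : GolayBase.fin (dMask k) ∈ Words :=
  (GolayBase.fin_mem_supports_iff (dMask_code k hk).2).2 (dMask_code k hk).1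

theorem idx_none : GolayBase.idx none = 23 := rfl

theorem idx_zero : GolayBase.idx (some 0) = 0 := rfl

theorem none_notMem_dMask (k : ℕ) (hk : k < 10) : (none : GolayPt) ∉ GolayBase.fin (dMask k) := by
  rw [GolayBase.mem_fin, idx_none, (dMask_pts k hk).2]
  exact Bool.false_ne_true

theorem zero_notMem_dMask (k : ℕ) (hk : k < 10) :
    (some 0 : GolayPt) ∉ GolayBase.fin (dMask k) := by
  rw [GolayBase.mem_fin, idx_zero, (dMask_pts k hk).1]
  exact Bool.false_ne_true

theorem comb_eq {D : Finset GolayPt} (hD : D ∈ Words) (h1 : (none : GolayPt) ∉ D)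
    (h2 : (some 0 : GolayPt) ∉ D) : comb (GolayBase.maskOf D) = GolayBase.maskOf D := by
  have hc := (GolayBase.mem_supports_iff D).1 hD
  rw [GolayBase.isCode_iff] at hc
  have h3 := GolayBase.allR_zero_spec comb_check (GolayBase.maskOf D % 4096)
    (Nat.mod_lt _ (by norm_num))
  rw [GolayBase.enc_mod, hc] at h3
  have h4 : (GolayBase.maskOf D).testBit 0 = false := by
    rw [← idx_zero, GolayBase.testBit_maskOf]
    simpa using h2
  have h5 : (GolayBase.maskOf D).testBit 23 = false := by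
    rw [← idx_none, GolayBase.testBit_maskOf]
    simpa using h1
  rw [h4, h5] at h3
  exact Nat.eq_of_beq_eq_true (by simpa using h3)

theorem sgn_congr {c d : Finset GolayPt} (h : c = d) (hc : c ∈ Words) (hd : d ∈ Words) :
    sgn c hc = sgn d hd := by
  subst h; rfl

open Cfsg.Agent.Leech.FrameAux (co0_ext)

theorem sgn_symmDiff {c d : Finset GolayPt} (hc : c ∈ Words) (hd : d ∈ Words) :
    sgn (symmDiff c d) (symmDiff_mem hc hd) = sgn c hc * sgn d hd := by
  apply co0_ext
  intro v
  rw [mul_smul, sgn_coe, sgn_coe, sgn_coe]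
  funext i
  simp only [sgnMap_apply, Finset.mem_symmDiff]
  by_cases h1 : i ∈ c <;> by_cases h2 : i ∈ d <;> simp [h1, h2]

theorem sgn_empty (h : (∅ : Finset GolayPt) ∈ Words) : sgn ∅ h = 1 := by
  apply co0_ext
  intro v
  rw [sgn_coe, one_smul]
  funext i
  simp [sgnMap_apply]

/-- If `H` contains the ten sign changes, it contains all sign changes on code words avoiding
`∞, 0`. -/
theorem sgn_mem_of {H : Subgroup Co0}
    (h : ∀ (k : ℕ) (hk : k < 10), sgn (GolayBase.fin (dMask k)) (fin_dMask_mem k hk) ∈ H)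
    {D : Finset GolayPt} (hD : D ∈ Words) (h1 : (none : GolayPt) ∉ D)
    (h2 : (some 0 : GolayPt) ∉ D) : sgn D hD ∈ H := by
  -- the masks whose sign change is in `H`
  let P : ℕ → Prop := fun m => ∃ hm : GolayBase.fin m ∈ Words, sgn (GolayBase.fin m) hm ∈ H
  have hxor : ∀ a b, P a → P b → P (a ^^^ b) := by
    rintro a b ⟨ha, ha'⟩ ⟨hb, hb'⟩
    have hm : GolayBase.fin (a ^^^ b) ∈ Words := by
      rw [GolayBase.fin_xor]; exact symmDiff_mem ha hb
    refine ⟨hm, ?_⟩
    rw [sgn_congr (GolayBase.fin_xor a b) hm (symmDiff_mem ha hb), sgn_symmDiff ha hb]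
    exact H.mul_mem ha' hb'
  have hz : P 0 := by
    have e : GolayBase.fin 0 = ∅ := by
      ext i; simp [GolayBase.mem_fin]
    have hm : GolayBase.fin 0 ∈ Words := by rw [e]; exact empty_mem
    refine ⟨hm, ?_⟩
    rw [sgn_congr e hm empty_mem, sgn_empty]
    exact H.one_mem
  have hk : ∀ (k : ℕ) (_ : k < 10) (m : ℕ), P (m % 2 * dMask k) := by
    intro k hk m
    rcases Nat.mod_two_eq_zero_or_one m with h0 | h0
    · rw [h0, zero_mul]; exact hz
    · rw [h0, one_mul]; exact ⟨fin_dMask_mem k hk, h k hk⟩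
  have hall : P (comb (GolayBase.maskOf D)) := by
    unfold comb
    exact hxor _ _ (hxor _ _ (hxor _ _ (hxor _ _ (hxor _ _ (hxor _ _ (hxor _ _ (hxor _ _
      (hxor _ _ (hk 0 (by norm_num) _) (hk 1 (by norm_num) _)) (hk 2 (by norm_num) _))
      (hk 3 (by norm_num) _)) (hk 4 (by norm_num) _)) (hk 5 (by norm_num) _))
      (hk 6 (by norm_num) _)) (hk 7 (by norm_num) _)) (hk 8 (by norm_num) _))
      (hk 9 (by norm_num) _)
  rw [comb_eq hD h1 h2] at hall
  obtain ⟨hm, hm'⟩ := hall
  rwa [sgn_congr (GolayBase.fin_maskOf D) hm hD] at hm'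

/-! ### The sextet -/

/-- masks of the tetrads of the sextet of `{∞, 0, 1, 2}` -/
def masks : List ℕ := [8388615, 147496, 4268048, 2621632, 268544, 1082880]

/-- the sextet of `{∞, 0, 1, 2}` -/
def S₀ : Finset (Finset GolayPt) := (masks.map GolayBase.fin).toFinset

theorem mem_S₀ {t : Finset GolayPt} : t ∈ S₀ ↔ ∃ m ∈ masks, GolayBase.fin m = t := by
  unfold S₀
  rw [List.mem_toFinset, List.mem_map]

theorem masks_lt : ∀ m ∈ masks, m < 2 ^ 24 := by decide +kernel

theorem masks_card : ∀ m ∈ masks, GolayBase.popcount m = 4 := by decide +kernel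

theorem masks_pair : ∀ a ∈ masks, ∀ b ∈ masks, a ≠ b →
    GolayBase.isCode (a ||| b) = true ∧ GolayBase.popcount (a ||| b) = 8 ∧ a ||| b < 2 ^ 24 := by
  decide +kernel

theorem masks_nodup : masks.Nodup := by decide +kernel

theorem S₀_mem : S₀ ∈ sextets := by
  refine ⟨?_, fun t ht => ?_, fun t ht u hu htu => ?_⟩
  · unfold S₀
    rw [List.toFinset_card_of_nodup]
    · rfl
    · refine (List.nodup_map_iff_inj_on masks_nodup).2 fun a ha b hb h => ?_
      exact GolayBase.fin_injective (masks_lt a ha) (masks_lt b hb) h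
  · obtain ⟨m, hm, rfl⟩ := mem_S₀.1 ht
    rw [GolayBase.card_fin, masks_card m hm]
  · obtain ⟨a, ha, rfl⟩ := mem_S₀.1 ht
    obtain ⟨b, hb, rfl⟩ := mem_S₀.1 hu
    obtain ⟨h1, h2, h3⟩ := masks_pair a ha b hb fun h => htu (h ▸ rfl)
    rw [← GolayBase.fin_or]
    exact (GolayBase.fin_mem_octads_iff h3).2 ⟨h1, h2⟩

/-- the tetrad on which signs are changed -/
def T₁ : Finset GolayPt := GolayBase.fin 4268048

theorem T₁_mem : T₁ ∈ S₀ := mem_S₀.2 ⟨4268048, by decide, rfl⟩

/-- the tetrad `{∞, 0, 1, 2}` -/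
def T₀ : Finset GolayPt := GolayBase.fin 8388615

theorem T₀_mem : T₀ ∈ S₀ := mem_S₀.2 ⟨8388615, by decide, rfl⟩

theorem T₀_ne : T₀ ≠ T₁ := by
  intro h
  exact absurd (GolayBase.fin_injective (by norm_num) (by norm_num) h) (by norm_num)

theorem T₀_eq : T₀ = {none, some 0, some 1, some 2} := by
  unfold T₀
  decide +kernel

theorem hne : (none : GolayPt) ≠ some 0 := by simp

/-- `λ₀ = 4 e_∞ - 4 e_0` -/
abbrev l₀ : leechLattice := v0 none (some 0) hne

/-- Conway's map of the model -/
def ξ : Co0 := xi S₀ T₁ S₀_mem T₁_mem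

/-- the element `-1` -/
def negOne : Co0 := sgn Finset.univ univ_mem

theorem negOne_smul (v : leechLattice) : negOne • v = -v := by
  apply Subtype.ext
  funext i
  show ((sgn Finset.univ univ_mem • v : leechLattice) : GolayPt → ℤ) i = -(v : GolayPt → ℤ) i
  rw [sgn_coe, sgnMap_apply, if_pos (Finset.mem_univ i)]

/-- On the coordinates in `T₀` the map `ξ` is `x ↦ x - (sum)/2`. -/
theorem ξ_apply (v : leechLattice) (i : GolayPt) (hi : i ∈ T₀) :
    ((ξ • v : leechLattice) : GolayPt → ℤ) i =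
      (v : GolayPt → ℤ) i - (∑ j ∈ T₀, (v : GolayPt → ℤ) j) / 2 := by
  unfold ξ
  rw [xi_coe, xiMap_apply]
  have hiT' : i ∉ T₁ := fun h => T₀_ne (sextet_unique S₀_mem T₀_mem T₁_mem hi h)
  rw [if_neg hiT']
  unfold hsum
  rw [tet_eq S₀_mem T₀_mem hi]

theorem ξ_supp (v : leechLattice) (hv : ∀ i, i ∉ T₀ → (v : GolayPt → ℤ) i = 0) (i : GolayPt)
    (hi : i ∉ T₀) : ((ξ • v : leechLattice) : GolayPt → ℤ) i = 0 := by
  unfold ξ
  rw [xi_coe, xiMap_apply]
  obtain ⟨t, ht, hit⟩ := sextet_exists S₀_mem i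
  have htT : t ≠ T₀ := fun h => hi (h ▸ hit)
  have h0 : hsum S₀ (v : GolayPt → ℤ) i = 0 := by
    unfold hsum
    rw [tet_eq S₀_mem ht hit, Finset.sum_eq_zero]
    · rfl
    · intro j hj
      refine hv j fun hjT => htT (sextet_unique S₀_mem ht T₀_mem hj hjT)
  rw [h0, hv i hi]
  split_ifs <;> rfl

theorem ξ_l₀ : ξ • l₀ = l₀ := by
  apply Subtype.ext
  funext i
  have hl : ∀ j, j ∉ T₀ → (l₀ : GolayPt → ℤ) j = 0 := by
    intro j hj
    rw [T₀_eq] at hj
    exact v0_other hne (fun h => hj (by simp [h])) (fun h => hj (by simp [h]))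
  by_cases hi : i ∈ T₀
  · rw [ξ_apply _ i hi]
    have : ∑ j ∈ T₀, (l₀ : GolayPt → ℤ) j = 0 := by
      rw [T₀_eq]
      exact v0_sum hne (by simp) (by simp) (by decide) (by decide) (by decide)
    rw [this]; simp
  · rw [ξ_supp _ hl i hi, hl i hi]

theorem perm_mul {σ τ : Equiv.Perm GolayPt} (hσ : σ ∈ M24) (hτ : τ ∈ M24) :
    perm (σ * τ) (M24.mul_mem hσ hτ) = perm σ hσ * perm τ hτ := by
  apply co0_ext
  intro v
  rw [mul_smul, perm_coe, perm_coe, perm_coe]
  rfl

theorem perm_one : perm 1 M24.one_mem = 1 := by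
  apply co0_ext
  intro v
  rw [perm_coe, one_smul]
  rfl

theorem perm_inv {σ : Equiv.Perm GolayPt} (hσ : σ ∈ M24) :
    perm σ⁻¹ (M24.inv_mem hσ) = (perm σ hσ)⁻¹ := by
  rw [eq_inv_iff_mul_eq_one, ← perm_mul]
  have : ∀ (τ : Equiv.Perm GolayPt) (hτ : τ ∈ M24), τ = 1 → perm τ hτ = 1 := by
    rintro τ hτ rfl
    exact perm_one
  exact this _ _ (inv_mul_cancel σ)

theorem negOne_comm (g : Co0) : negOne * g = g * negOne := by
  apply co0_ext
  intro v
  rw [mul_smul, mul_smul, negOne_smul, negOne_smul, smul_neg_co0]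

theorem negOne_mul_self : negOne * negOne = 1 := by
  apply co0_ext
  intro v
  rw [mul_smul, negOne_smul, negOne_smul, neg_neg, one_smul]

/-- The element of `Co0` attached to an element of the duad group: the permutation, times `-1` if
it exchanges `∞` and `0`. -/
theorem perm_l₀ {σ : Equiv.Perm GolayPt} (hσ : σ ∈ M24) (h1 : σ none = none)
    (h2 : σ (some 0) = some 0) : perm σ hσ • l₀ = l₀ := by
  apply Subtype.ext
  funext i
  rw [perm_coe, permMap_apply]
  by_cases hi : i = none
  · subst hi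
    have : σ.symm none = none := by rw [Equiv.symm_apply_eq]; exact h1.symm
    rw [this]
  · by_cases hi' : i = some 0
    · subst hi'
      have : σ.symm (some 0) = some 0 := by rw [Equiv.symm_apply_eq]; exact h2.symm
      rw [this]
    · rw [v0_other hne hi hi', v0_other hne]
      · intro h; rw [Equiv.symm_apply_eq, h1] at h; exact hi h
      · intro h; rw [Equiv.symm_apply_eq, h2] at h; exact hi' h

theorem neg_perm_l₀ {σ : Equiv.Perm GolayPt} (hσ : σ ∈ M24) (h1 : σ none = some 0)
    (h2 : σ (some 0) = none) : (negOne * perm σ hσ) • l₀ = l₀ := by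
  rw [mul_smul, negOne_smul]
  apply Subtype.ext
  funext i
  show -((perm σ hσ • l₀ : leechLattice) : GolayPt → ℤ) i = _
  rw [perm_coe, permMap_apply]
  by_cases hi : i = none
  · subst hi
    have : σ.symm none = some 0 := by rw [Equiv.symm_apply_eq]; exact h2.symm
    rw [this, v0_left, v0_right]; rfl
  · by_cases hi' : i = some 0
    · subst hi'
      have : σ.symm (some 0) = none := by rw [Equiv.symm_apply_eq]; exact h1.symm
      rw [this, v0_left, v0_right]
    · rw [v0_other hne hi hi', v0_other hne]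
      · rfl
      · intro h; rw [Equiv.symm_apply_eq, h1] at h; exact hi' h
      · intro h; rw [Equiv.symm_apply_eq, h2] at h; exact hi h

section

variable {p h : Equiv.Perm GolayPt}

open Cfsg.Agent.SporadicA.M24Gens (pidx pidx_injective)
open Cfsg.Agent.BabyM.DuadGen (tabP tabH duad)

/-- The generators. -/
inductive IsGen (hpM : p ∈ M24) (hhM : h ∈ M24) : Co0 → Prop
  | sgn (k : ℕ) (hk : k < 10) : IsGen hpM hhM (sgn (GolayBase.fin (dMask k)) (fin_dMask_mem k hk))
  | p : IsGen hpM hhM (perm p hpM)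
  | h : IsGen hpM hhM (negOne * perm h hhM)
  | xi : IsGen hpM hhM ξ

/-- The group generated by the explicit generators. -/
def genGroup (hpM : p ∈ M24) (hhM : h ∈ M24) : Subgroup Co0 :=
  Subgroup.closure {g | IsGen hpM hhM g}

theorem perm_mem_gen (hp : ∀ x, pidx (p x) = tabP.getD (pidx x) 0)
    (hh : ∀ x, pidx (h x) = tabH.getD (pidx x) 0) {H : Subgroup Co0}
    (hpH : perm p (DuadGen.p_mem hp) ∈ H) (hhH : negOne * perm h (DuadGen.h_mem hh) ∈ H)
    {σ : Equiv.Perm GolayPt} (hσ : σ ∈ M24) :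
    (σ none = none → σ (some 0) = some 0 → perm σ hσ ∈ H) ∧
    (σ none = some 0 → σ (some 0) = none → negOne * perm σ hσ ∈ H) := by
  -- the subgroup of permutations with the stated property
  let P : Subgroup (Equiv.Perm GolayPt) :=
    { carrier := {τ | ∃ hτ : τ ∈ M24, (τ none = none ∧ τ (some 0) = some 0 ∧ perm τ hτ ∈ H) ∨
        (τ none = some 0 ∧ τ (some 0) = none ∧ negOne * perm τ hτ ∈ H)}
      one_mem' := ⟨M24.one_mem, Or.inl ⟨rfl, rfl, by rw [perm_one]; exact H.one_mem⟩⟩
      mul_mem' := by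
        rintro a b ⟨ha, ha'⟩ ⟨hb, hb'⟩
        refine ⟨M24.mul_mem ha hb, ?_⟩
        rw [perm_mul ha hb]
        rcases ha' with ⟨a1, a2, a3⟩ | ⟨a1, a2, a3⟩ <;> rcases hb' with ⟨b1, b2, b3⟩ | ⟨b1, b2, b3⟩
        · left
          exact ⟨by rw [Equiv.Perm.mul_apply, b1, a1], by rw [Equiv.Perm.mul_apply, b2, a2],
            H.mul_mem a3 b3⟩
        · right
          refine ⟨by rw [Equiv.Perm.mul_apply, b1, a2], by rw [Equiv.Perm.mul_apply, b2, a1], ?_⟩
          rw [← mul_assoc, negOne_comm, mul_assoc]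
          exact H.mul_mem a3 b3
        · right
          refine ⟨by rw [Equiv.Perm.mul_apply, b1, a1], by rw [Equiv.Perm.mul_apply, b2, a2], ?_⟩
          rw [← mul_assoc]
          exact H.mul_mem a3 b3
        · left
          refine ⟨by rw [Equiv.Perm.mul_apply, b1, a2], by rw [Equiv.Perm.mul_apply, b2, a1], ?_⟩
          have e : perm a ha * perm b hb = (negOne * perm a ha) * (negOne * perm b hb) := by
            rw [mul_assoc, ← mul_assoc (perm a ha) negOne, ← negOne_comm (perm a ha), ← mul_assoc,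
              ← mul_assoc, negOne_mul_self, one_mul]
          rw [e]
          exact H.mul_mem a3 b3
      inv_mem' := by
        rintro a ⟨ha, ha'⟩
        refine ⟨M24.inv_mem ha, ?_⟩
        rw [perm_inv ha]
        rcases ha' with ⟨a1, a2, a3⟩ | ⟨a1, a2, a3⟩
        · left
          exact ⟨by rw [Equiv.Perm.inv_eq_iff_eq]; exact a1.symm,
            by rw [Equiv.Perm.inv_eq_iff_eq]; exact a2.symm, H.inv_mem a3⟩
        · right
          refine ⟨by rw [Equiv.Perm.inv_eq_iff_eq]; exact a2.symm,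
            by rw [Equiv.Perm.inv_eq_iff_eq]; exact a1.symm, ?_⟩
          have e : negOne * (perm a ha)⁻¹ = (negOne * perm a ha)⁻¹ := by
            have h1 : negOne⁻¹ = negOne := inv_eq_of_mul_eq_one_left negOne_mul_self
            rw [mul_inv_rev, h1, negOne_comm]
          rw [e]
          exact H.inv_mem a3 }
  have hcl : Subgroup.closure {p, h} ≤ P := by
    rw [Subgroup.closure_le]
    have hpd : p ∈ duad := DuadGen.closure_le hp hh (Subgroup.subset_closure (by simp))
    have hhd : h ∈ duad := DuadGen.closure_le hp hh (Subgroup.subset_closure (by simp))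
    rintro g (rfl | rfl)
    · refine ⟨DuadGen.p_mem hp, Or.inl ⟨?_, ?_, hpH⟩⟩
      · apply pidx_injective; rw [hp]; rfl
      · apply pidx_injective; rw [hp]; rfl
    · refine ⟨DuadGen.h_mem hh, Or.inr ⟨?_, ?_, hhH⟩⟩
      · apply pidx_injective; rw [hh]; rfl
      · apply pidx_injective; rw [hh]; rfl
  rw [DuadGen.closure_eq hp hh] at hcl
  constructor
  · intro h1 h2
    obtain ⟨hτ, h3⟩ := hcl (show σ ∈ duad from ⟨hσ, Or.inl ⟨h1, h2⟩⟩)
    rcases h3 with ⟨-, -, h3⟩ | ⟨h4, -, -⟩
    · exact h3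
    · rw [h1] at h4; exact absurd h4 (by simp)
  · intro h1 h2
    obtain ⟨hτ, h3⟩ := hcl (show σ ∈ duad from ⟨hσ, Or.inr ⟨h1, h2⟩⟩)
    rcases h3 with ⟨h4, -, -⟩ | ⟨-, -, h3⟩
    · rw [h1] at h4; exact absurd h4 (by simp)
    · exact h3

theorem gen_genGroup (hp : ∀ x, pidx (p x) = tabP.getD (pidx x) 0)
    (hh : ∀ x, pidx (h x) = tabH.getD (pidx x) 0) :
    Gen none (some 0) hne (genGroup (DuadGen.p_mem hp) (DuadGen.h_mem hh)) := by
  have hmem : ∀ g, IsGen (DuadGen.p_mem hp) (DuadGen.h_mem hh) g →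
      g ∈ genGroup (DuadGen.p_mem hp) (DuadGen.h_mem hh) := fun g hg => Subgroup.subset_closure hg
  refine ⟨fun g hg => ?_, fun D hD h1 h2 => ?_, fun k l hkl hpk hpl hqk hql => ?_⟩
  · have : genGroup (DuadGen.p_mem hp) (DuadGen.h_mem hh) ≤ MulAction.stabilizer Co0 l₀ := by
      unfold genGroup
      rw [Subgroup.closure_le]
      rintro x hx
      show x • l₀ = l₀
      cases hx with
      | sgn k hk =>
        apply Subtype.ext
        funext i
        rw [sgn_coe, sgnMap_apply]
        split_ifs with hi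
        · rw [v0_other hne]
          · rfl
          · rintro rfl; exact none_notMem_dMask k hk hi
          · rintro rfl; exact zero_notMem_dMask k hk hi
        · rfl
      | p =>
        apply perm_l₀
        · apply pidx_injective; rw [hp]; rfl
        · apply pidx_injective; rw [hp]; rfl
      | h =>
        apply neg_perm_l₀
        · apply pidx_injective; rw [hh]; rfl
        · apply pidx_injective; rw [hh]; rfl
      | xi => exact ξ_l₀
    exact this hg
  · exact sgn_mem_of (fun k hk => hmem _ (.sgn k hk)) hD h1 h2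
  · obtain ⟨m, hm⟩ := exists_notMem {none, some 0, k, l}
      (lt_of_le_of_lt Finset.card_le_four (by decide))
    simp only [Finset.mem_insert, Finset.mem_singleton, not_or] at hm
    obtain ⟨π, hπ, h1, h2, h3, h4, -⟩ := M24Trans.exists_map ![none, some 0, k, l, m] (by
      have key : Set.InjOn (![none, some 0, k, l, m] : Fin 5 → GolayPt) Set.univ := by
        intro a _ b _ hab
        fin_cases a <;> fin_cases b <;> simp_all
      exact Set.injOn_univ.1 key)
    have hπH : perm π hπ ∈ genGroup (DuadGen.p_mem hp) (DuadGen.h_mem hh) :=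
      (perm_mem_gen hp hh (hmem _ .p) (hmem _ .h) hπ).1 h1 h2
    have hinv : ∀ (v : leechLattice) (j : GolayPt),
        (((perm π hπ)⁻¹ • v : leechLattice) : GolayPt → ℤ) j = (v : GolayPt → ℤ) (π j) := by
      intro v j
      rw [← perm_inv hπ, perm_coe, permMap_apply]
      rfl
    have hT : ∀ j, j ∈ T₀ ↔ π j ∈ ({none, some 0, k, l} : Finset GolayPt) := by
      intro j
      rw [T₀_eq]
      simp only [Finset.mem_insert, Finset.mem_singleton]
      constructor
      · rintro (rfl | rfl | rfl | rfl)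
        · exact Or.inl h1
        · exact Or.inr (Or.inl h2)
        · exact Or.inr (Or.inr (Or.inl h3))
        · exact Or.inr (Or.inr (Or.inr h4))
      · rintro (h | h | h | h)
        · left; apply π.injective; rw [h, h1]; rfl
        · right; left; apply π.injective; rw [h, h2]; rfl
        · right; right; left; apply π.injective; rw [h, h3]; rfl
        · right; right; right; apply π.injective; rw [h, h4]; rfl
    have hsum : ∀ v : leechLattice, ∑ j ∈ T₀, (v : GolayPt → ℤ) (π j) =
        ∑ j ∈ ({none, some 0, k, l} : Finset GolayPt), (v : GolayPt → ℤ) j := by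
      intro v
      refine Finset.sum_bij (fun j _ => π j) (fun j hj => (hT j).1 hj)
        (fun a _ b _ hab => π.injective hab) (fun j hj => ⟨π.symm j, ?_, by simp⟩) fun j _ => rfl
      rw [hT]; simpa using hj
    refine ⟨perm π hπ * ξ * (perm π hπ)⁻¹, ?_, fun v i hi => ?_, fun v hv i hi => ?_⟩
    · exact mul_mem (mul_mem hπH (hmem _ .xi)) (inv_mem hπH)
    · have hj : π.symm i ∈ T₀ := by rw [hT]; simpa using hi
      rw [mul_smul, mul_smul, perm_coe, permMap_apply, ξ_apply _ _ hj, hinv]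
      simp only [hinv]
      rw [hsum, Equiv.apply_symm_apply]
    · have hj : π.symm i ∉ T₀ := by rw [hT]; simpa using hi
      rw [mul_smul, mul_smul, perm_coe, permMap_apply]
      refine ξ_supp _ (fun j hj' => ?_) _ hj
      rw [hinv]
      apply hv
      intro h5
      exact hj' ((hT j).2 h5)

/-- **The explicit generators generate the stabiliser of `λ₀` in `Co0`.** -/
theorem genGroup_eq (hp : ∀ x, pidx (p x) = tabP.getD (pidx x) 0)
    (hh : ∀ x, pidx (h x) = tabH.getD (pidx x) 0) :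
    genGroup (DuadGen.p_mem hp) (DuadGen.h_mem hh) = MulAction.stabilizer Co0 l₀ :=
  eq_stab (gen_genGroup hp hh) fun _ hσ h1 h2 =>
    (perm_mem_gen hp hh (Subgroup.subset_closure .p) (Subgroup.subset_closure .h) hσ).1 h1 h2

end

end Cfsg.Agent.BabyM.Co2GenStd
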