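import Cfsg.Agent.SporadicStructure.Co2RankThree
import Cfsg.Agent.SporadicA.ConwayStab
import Cfsg.Agent.Leech.ModTwoLeech

/-!
The action of the stabiliser in `Co0` of a minimal vector `u` on the vectors of the lattice having
even customary inner product with `u`, modulo twice the lattice and `u`: it is faithful and
irreducible.
-/

set_option autoImplicit false

namespace Cfsg.Agent.BabyM.CoTwoMod

open Cfsg Cfsg.Agent.SporadicStructure.Co2RankThree Cfsg.Agent.SporadicA
open Cfsg.Agent.SporadicA.Co0Basic (toHom map_neg map_zsmul)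

/-! ### The stabiliser -/

theorem isCo2_stab (u : leechLattice) (hu : dt u u = 32) : IsCo2 (MulAction.stabilizer Co0 u) := by
  refine ConwayStab.isCo2 Cfsg.Agent.S1582.card_co0 (fun v w hv hw => ?_) Cfsg.Agent.S0394.result
    (fun x hx hx0 => Cfsg.Agent.Leech.Basic.le_sqNorm hx hx0) u (by rw [norm_eq]; exact hu)
  exact Cfsg.Agent.S0400.result v w hv hw

/-- The stabiliser of a minimal vector is simple. -/
theorem isSimpleGroup_stab (u : leechLattice) (hu : dt u u = 32) :
    IsSimpleGroup (MulAction.stabilizer Co0 u) := (isCo2_stab u hu).1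

/-- The order of the stabiliser of a minimal vector. -/
theorem card_stab (u : leechLattice) (hu : dt u u = 32) :
    Nat.card (MulAction.stabilizer Co0 u) = 42305421312000 := card_stab_min u hu

/-! ### Subgroups of the lattice -/

/-- Twice the lattice. -/
def dbl : AddSubgroup leechLattice := (nsmulAddMonoidHom (α := leechLattice) 2).range

theorem mem_dbl {x : leechLattice} : x ∈ dbl ↔ ∃ z, x = 2 • z := Cfsg.Agent.Leech.ModTwo.mem_range_two

theorem dt_zero_right (u : leechLattice) : dt u 0 = 0 := by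
  have := dt_add_right u 0 0
  rw [add_zero] at this
  omega

/-- The vectors of even customary inner product with `u`. -/
def evn (u : leechLattice) : AddSubgroup leechLattice where
  carrier := {x | (16 : ℤ) ∣ dt u x}
  add_mem' := fun {a b} ha hb => by
    change (16 : ℤ) ∣ dt u (a + b)
    rw [dt_add_right]
    exact dvd_add ha hb
  zero_mem' := by
    change (16 : ℤ) ∣ dt u 0
    rw [dt_zero_right]
    exact dvd_zero _
  neg_mem' := fun {a} ha => by
    change (16 : ℤ) ∣ dt u (-a)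
    rw [dt_neg_right]
    exact (dvd_neg).2 ha

theorem mem_evn {u x : leechLattice} : x ∈ evn u ↔ (16 : ℤ) ∣ dt u x := Iff.rfl

/-- Twice the lattice together with `u`. -/
def rad (u : leechLattice) : AddSubgroup leechLattice := dbl ⊔ AddSubgroup.zmultiples u

theorem eight_dvd_dt (x y : leechLattice) : (8 : ℤ) ∣ dt x y :=
  Cfsg.Agent.Leech.Basic.eight_dvd_dotInt x.2 y.2

theorem dbl_le_rad (u : leechLattice) : dbl ≤ rad u := le_sup_left

theorem self_mem_rad (u : leechLattice) : u ∈ rad u :=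
  (le_sup_right : AddSubgroup.zmultiples u ≤ rad u) (AddSubgroup.mem_zmultiples u)

theorem two_smul_mem_rad (u x : leechLattice) : 2 • x ∈ rad u := dbl_le_rad u (mem_dbl.2 ⟨x, rfl⟩)

theorem mem_rad {u x : leechLattice} : x ∈ rad u ↔ ∃ z : leechLattice, x = 2 • z ∨ x = 2 • z + u := by
  constructor
  · intro h
    obtain ⟨a, ha, b, hb, rfl⟩ := AddSubgroup.mem_sup.1 h
    obtain ⟨z, rfl⟩ := mem_dbl.1 ha
    obtain ⟨k, rfl⟩ := AddSubgroup.mem_zmultiples_iff.1 hb
    rcases Int.even_or_odd' k with ⟨l, hl | hl⟩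
    · refine ⟨z + l • u, Or.inl ?_⟩
      change 2 • z + k • u = _
      rw [hl, smul_add, mul_smul]
      congr 1
    · refine ⟨z + l • u, Or.inr ?_⟩
      change 2 • z + k • u = _
      rw [hl, smul_add, add_smul, mul_smul, one_smul, ← add_assoc]
      congr 1
  · rintro ⟨z, rfl | rfl⟩
    · exact two_smul_mem_rad u z
    · exact add_mem (two_smul_mem_rad u z) (self_mem_rad u)

theorem dt_two_smul_right (u z : leechLattice) : dt u (2 • z) = 2 * dt u z := by
  rw [two_smul, dt_add_right]; ring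

theorem rad_le_evn (u : leechLattice) (hu : dt u u = 32) : rad u ≤ evn u := by
  intro x hx
  obtain ⟨z, rfl | rfl⟩ := mem_rad.1 hx
  · rw [mem_evn, dt_two_smul_right]
    obtain ⟨k, hk⟩ := eight_dvd_dt u z
    exact ⟨k, by rw [hk]; ring⟩
  · rw [mem_evn, dt_add_right, dt_two_smul_right, hu]
    obtain ⟨k, hk⟩ := eight_dvd_dt u z
    exact ⟨k + 2, by rw [hk]; ring⟩

/-! ### The action on a section -/

theorem smul_add' (g : Co0) (a b : leechLattice) : g • (a + b) = g • a + g • b := Co0Basic.map_add g a b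

theorem smul_neg' (g : Co0) (a : leechLattice) : g • (-a) = -(g • a) := Co0Basic.map_neg g a

theorem smul_sub' (g : Co0) (a b : leechLattice) : g • (a - b) = g • a - g • b := by
  rw [sub_eq_add_neg, smul_add', smul_neg', sub_eq_add_neg]

theorem smul_two (g : Co0) (a : leechLattice) : g • (2 • a) = 2 • (g • a) := by
  rw [two_smul, smul_add', two_smul]

theorem smul_mem_evn {u : leechLattice} {g : Co0} (hg : g • u = u) {x : leechLattice} (hx : x ∈ evn u) :
    g • x ∈ evn u := by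
  rw [mem_evn, dt_smul_of_fix hg]
  exact hx

theorem smul_mem_rad {u : leechLattice} {g : Co0} (hg : g • u = u) {x : leechLattice} (hx : x ∈ rad u) :
    g • x ∈ rad u := by
  obtain ⟨z, rfl | rfl⟩ := mem_rad.1 hx
  · rw [smul_two]; exact two_smul_mem_rad u _
  · rw [smul_add', smul_two, hg]
    exact add_mem (two_smul_mem_rad u _) (self_mem_rad u)

section Section

variable {K : Subgroup Co0} {U R : AddSubgroup leechLattice}

/-- The restriction of an element of `K` to an invariant subgroup. -/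
def restr (hU : ∀ g ∈ K, ∀ x ∈ U, g • x ∈ U) (g : K) : U →+ U :=
  ((toHom g.1).comp U.subtype).codRestrict U (fun x => hU g.1 g.2 x.1 x.2)

theorem restr_coe (hU : ∀ g ∈ K, ∀ x ∈ U, g • x ∈ U) (g : K) (x : U) :
    (restr hU g x : leechLattice) = g.1 • (x : leechLattice) := rfl

/-- The action of `K` on the section `U / (U ∩ R)`. -/
def act (hU : ∀ g ∈ K, ∀ x ∈ U, g • x ∈ U) (hR : ∀ g ∈ K, ∀ x ∈ R, g • x ∈ R) :
    K →* AddMonoid.End (U ⧸ R.addSubgroupOf U) where
  toFun g := QuotientAddGroup.map _ _ (restr hU g) (fun x hx => by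
    rw [AddSubgroup.mem_comap, AddSubgroup.mem_addSubgroupOf, restr_coe]
    exact hR g.1 g.2 x.1 hx)
  map_one' := by
    apply QuotientAddGroup.addMonoidHom_ext
    ext x
    rfl
  map_mul' g h := by
    apply QuotientAddGroup.addMonoidHom_ext
    ext x
    rfl

theorem act_mk (hU : ∀ g ∈ K, ∀ x ∈ U, g • x ∈ U) (hR : ∀ g ∈ K, ∀ x ∈ R, g • x ∈ R) (g : K)
    (x : U) : act hU hR g (QuotientAddGroup.mk x) = QuotientAddGroup.mk (restr hU g x) := rfl

end Section

/-! ### The element of order 23 -/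

open Cfsg.Agent.SporadicA.ConwayShift in
/-- The minimal vector `(-3, 1^23)`. -/
def u0 : leechLattice := ConwayShift.u (-3) (Or.inl rfl)

theorem dt_u0_u0 : dt u0 u0 = 32 := by
  rw [← norm_eq]; exact ConwayShift.sqNorm_u_neg3

theorem shift_u0 : ConwayShift.shift • u0 = u0 := ConwayShift.shift_u (-3) (Or.inl rfl)

theorem coe_u0_none : (u0 : GolayPt → ℤ) none = -3 := rfl

theorem coe_u0_some (s : ZMod 23) : (u0 : GolayPt → ℤ) (some s) = 1 := rfl

theorem dt_u0_e8 : dt u0 (Co0Basic.e8 none) = -24 := by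
  change dotInt (u0 : GolayPt → ℤ) (Co0Basic.e8 none : GolayPt → ℤ) = -24
  rw [ConwayShift.dot_e8, coe_u0_none]
  norm_num

/-- A vector of the lattice supported at one point. -/
theorem eight_dvd_of_single {x : GolayPt → ℤ} (hx : x ∈ leechLattice) (h : ∀ s : ZMod 23, x (some s) = 0) :
    (8 : ℤ) ∣ x none := by
  obtain ⟨m, hm⟩ := (Cfsg.Agent.Leech.Basic.mem_leech_iff_isLeech x).1 hx
  have h1 := hm.par (some 0)
  have h2 := hm.sum
  rw [ConwayShift.sum_option] at h2
  simp only [h, Finset.sum_const_zero, add_zero] at h2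
  rw [h] at h1
  unfold Int.ModEq at h1 h2
  omega

/-- The vectors fixed by the shift. -/
theorem fixed_form (v : leechLattice) (h : ConwayShift.shift • v = v) :
    ∃ b c : ℤ, v = b • u0 + c • Co0Basic.e8 none := by
  have h1 := ConwayShift.const_of_shift_fixed v h
  set b := (v : GolayPt → ℤ) (some 0) with hb
  have h2 : (8 : ℤ) ∣ ((v - b • u0 : leechLattice) : GolayPt → ℤ) none := by
    refine eight_dvd_of_single (v - b • u0 : leechLattice).2 fun s => ?_
    rw [AddSubgroup.coe_sub, AddSubgroup.coe_zsmul, Pi.sub_apply, Pi.smul_apply, h1, coe_u0_some]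
    simp
  obtain ⟨c, hc⟩ := h2
  refine ⟨b, c, ?_⟩
  apply Subtype.ext
  funext i
  rcases i with _ | s
  · rw [AddSubgroup.coe_sub, AddSubgroup.coe_zsmul, Pi.sub_apply, Pi.smul_apply] at hc
    rw [AddSubgroup.coe_add, AddSubgroup.coe_zsmul, AddSubgroup.coe_zsmul, Pi.add_apply,
      Pi.smul_apply, Pi.smul_apply, Co0Basic.e8_apply, if_pos rfl]
    simp only [smul_eq_mul] at hc ⊢
    omega
  · rw [h1, AddSubgroup.coe_add, AddSubgroup.coe_zsmul, AddSubgroup.coe_zsmul, Pi.add_apply,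
      Pi.smul_apply, Pi.smul_apply, Co0Basic.e8_apply, if_neg (by simp), coe_u0_some]
    simp

theorem dt_zsmul_right (u z : leechLattice) (k : ℤ) : dt u (k • z) = k * dt u z := by
  change dotInt _ _ = k * dotInt _ _
  unfold dotInt
  rw [Finset.mul_sum]
  refine Finset.sum_congr rfl fun i _ => ?_
  rw [AddSubgroup.coe_zsmul, Pi.smul_apply, smul_eq_mul]
  ring

theorem fixed_mem_rad (v : leechLattice) (h : ConwayShift.shift • v = v) (hv : v ∈ evn u0) :
    v ∈ rad u0 := by
  obtain ⟨b, c, rfl⟩ := fixed_form v h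
  rw [mem_evn, dt_add_right, dt_zsmul_right, dt_zsmul_right, dt_u0_u0, dt_u0_e8] at hv
  obtain ⟨l, hl⟩ : (2 : ℤ) ∣ c := by omega
  refine add_mem ?_ (dbl_le_rad u0 (mem_dbl.2 ⟨l • Co0Basic.e8 none, ?_⟩))
  · exact AddSubgroup.zsmul_mem _ (self_mem_rad u0) b
  · rw [hl, mul_smul, two_smul, two_smul]

/-- The shift has no fixed points on `evn u0 / rad u0`. -/
theorem mem_rad_of_shift (x : leechLattice) (hx : x ∈ evn u0)
    (h : ConwayShift.shift • x - x ∈ rad u0) : x ∈ rad u0 := by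
  set s := ConwayShift.shift with hs
  have hsu : s • u0 = u0 := shift_u0
  have hpow : ∀ n : ℕ, (s ^ n) • x - x ∈ rad u0 := by
    intro n
    induction n with
    | zero => simp
    | succ n ih =>
      have h1 : (s ^ (n + 1)) • x - x = s • ((s ^ n) • x - x) + (s • x - x) := by
        rw [pow_succ', mul_smul]
        have : s • ((s ^ n) • x) = s • ((s ^ n) • x - x) + s • x := by
          rw [← smul_add', sub_add_cancel]
        rw [this]
        abel
      rw [h1]
      exact add_mem (smul_mem_rad hsu ih) h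
  set y := ∑ i ∈ Finset.range 23, (s ^ i) • x with hy
  have hfix : s • y = y := by
    have h1 : s • y = ∑ i ∈ Finset.range 23, (s ^ (i + 1)) • x := by
      change s.1 y = _
      rw [hy, Co0Basic.map_sum]
      refine Finset.sum_congr rfl fun i _ => ?_
      rw [pow_succ', mul_smul]
      rfl
    have h2 := Finset.sum_range_succ (fun i => (s ^ i) • x) 23
    have h3 := Finset.sum_range_succ' (fun i => (s ^ i) • x) 23
    rw [h2] at h3
    simp only [pow_zero, ConwayShift.shift_pow_23, hs, one_smul] at h3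
    rw [h1]
    exact (add_right_cancel h3).symm
  have hdiff : y - 23 • x ∈ rad u0 := by
    have : y - 23 • x = ∑ i ∈ Finset.range 23, ((s ^ i) • x - x) := by
      rw [Finset.sum_sub_distrib, Finset.sum_const, Finset.card_range]
    rw [this]
    exact AddSubgroup.sum_mem _ fun i _ => hpow i
  have hev : y ∈ evn u0 := by
    have : y = (y - 23 • x) + 23 • x := by abel
    rw [this]
    exact add_mem (rad_le_evn u0 dt_u0_u0 hdiff) (AddSubgroup.nsmul_mem _ hx 23)
  have h23 : 23 • x ∈ rad u0 := by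
    have := sub_mem (fixed_mem_rad y hfix hev) hdiff
    rwa [sub_sub_cancel] at this
  have h22 : 2 • (11 • x) ∈ rad u0 := two_smul_mem_rad u0 _
  have : x = 23 • x - 2 • (11 • x) := by
    rw [← mul_smul, show 23 = 2 * 11 + 1 from rfl, add_smul, one_smul]
    abel
  rw [this]
  exact sub_mem h23 h22

/-! ### Indices -/

theorem index_dbl : ∃ r : ℕ, r ≤ 24 ∧ dbl.index = 2 ^ r := by
  have hrank : Module.finrank ℤ Cfsg.Agent.Leech.ModTwoLeech.lat ≤ 24 := by
    have := Submodule.finrank_le Cfsg.Agent.Leech.ModTwoLeech.lat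
    rw [Module.finrank_fintype_fun_eq_card] at this
    simpa [GolayPt] using this
  have h1 : dbl.index = 2 ^ Module.finrank ℤ Cfsg.Agent.Leech.ModTwoLeech.lat :=
    Cfsg.Agent.Leech.ModTwo.card_quot (L := Cfsg.Agent.Leech.ModTwoLeech.lat)
  exact ⟨_, hrank, h1⟩

theorem not_mem_dbl (u : leechLattice) (hu : dt u u = 32) : u ∉ dbl := by
  intro h
  obtain ⟨z, rfl⟩ := mem_dbl.1 h
  have h1 : dt (2 • z) (2 • z) = 4 * dt z z := by
    rw [dt_two_smul_right, dt_comm, dt_two_smul_right]; ring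
  rw [h1] at hu
  have h2 := Cfsg.Agent.Leech.Basic.sixteen_dvd_sqNorm z.2
  rw [norm_eq] at h2
  omega

theorem pow_mod_23 : ∀ d : ℕ, d ≤ 22 → 2 ^ d % 23 = 1 → d = 0 ∨ d = 11 ∨ d = 22 := by
  intro d hd h
  interval_cases d <;> omega

/-- The sizes of the sections. -/
theorem index_bound (U : AddSubgroup leechLattice) (h1 : rad u0 ≤ U) (h2 : U ≤ evn u0) :
    ∃ d : ℕ, d ≤ 22 ∧ (rad u0).relIndex U = 2 ^ d ∧ (d = 22 → U = evn u0) := by
  obtain ⟨r, hr, hrd⟩ := index_dbl
  have e1 := AddSubgroup.relIndex_mul_index (dbl_le_rad u0)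
  have e2 := AddSubgroup.relIndex_mul_index h1
  have e3 := AddSubgroup.relIndex_mul_index h2
  rw [← e3, ] at e2
  rw [← e2, hrd] at e1
  set a := dbl.relIndex (rad u0)
  set b := (rad u0).relIndex U
  set c := U.relIndex (evn u0)
  set d := (evn u0).index
  have hpos : 0 < 2 ^ r := by positivity
  have ha : a ≠ 0 := by rintro h; rw [h, zero_mul] at e1; omega
  have hb : b ≠ 0 := by rintro h; rw [h, zero_mul, mul_zero] at e1; omega
  have hc : c ≠ 0 := by rintro h; rw [h, zero_mul, mul_zero, mul_zero] at e1; omega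
  have hd : d ≠ 0 := by rintro h; rw [h, mul_zero, mul_zero, mul_zero] at e1; omega
  have ha1 : a ≠ 1 := by
    intro h
    exact not_mem_dbl u0 dt_u0_u0 (AddSubgroup.relIndex_eq_one.1 h (self_mem_rad u0))
  have hd1 : d ≠ 1 := by
    intro h
    have h3 : Co0Basic.e8 none ∈ evn u0 := by rw [AddSubgroup.index_eq_one.1 h]; trivial
    rw [mem_evn, dt_u0_e8] at h3
    omega
  obtain ⟨k, hk, hbk⟩ := (Nat.dvd_prime_pow Nat.prime_two).1
    (show b ∣ 2 ^ r from ⟨a * (c * d), by rw [← e1]; ring⟩)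
  have hle : (2 : ℕ) ^ r ≤ 2 ^ 24 := Nat.pow_le_pow_right (by norm_num) hr
  have h4 : 4 * (b * c) ≤ 2 ^ 24 := by
    have h5 : 2 * 2 ≤ a * d := Nat.mul_le_mul (by omega) (by omega)
    calc 4 * (b * c) ≤ (a * d) * (b * c) := Nat.mul_le_mul_right _ (by omega)
      _ = a * (b * (c * d)) := by ring
      _ ≤ 2 ^ 24 := by rw [e1]; exact hle
  have h6 : b * c ≤ 2 ^ 22 := by omega
  refine ⟨k, ?_, hbk, ?_⟩
  · have h7 : (2 : ℕ) ^ k ≤ 2 ^ 22 := by
      rw [← hbk]
      exact le_trans (Nat.le_mul_of_pos_right b (by omega)) h6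
    exact (Nat.pow_le_pow_iff_right (by norm_num)).1 h7
  · rintro rfl
    have h8 : c = 1 := by
      by_contra hne
      have h9 : 2 ^ 22 * 2 ≤ b * c := by rw [hbk]; exact Nat.mul_le_mul_left _ (by omega)
      omega
    exact le_antisymm h2 (AddSubgroup.relIndex_eq_one.1 h8)

/-- The shift in the stabiliser. -/
def sh : MulAction.stabilizer Co0 u0 := ⟨ConwayShift.shift, shift_u0⟩

theorem card_zpowers_sh : Nat.card (Subgroup.zpowers sh) = 23 := by
  rw [Nat.card_zpowers]
  exact ConwayShift.orderOf_shiftStab (-3) (Or.inl rfl)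

section Irr

variable (U : AddSubgroup leechLattice) (hU : ∀ g ∈ MulAction.stabilizer Co0 u0, ∀ x ∈ U, g • x ∈ U)

/-- The action on the section `U / rad`. -/
abbrev phi : MulAction.stabilizer Co0 u0 →* AddMonoid.End (U ⧸ (rad u0).addSubgroupOf U) :=
  act hU (fun _ hg _ hx => smul_mem_rad hg hx)

include hU in
theorem phi_fixed (h2 : U ≤ evn u0) (m : U ⧸ (rad u0).addSubgroupOf U) (hm : phi U hU sh m = m) :
    m = 0 := by
  obtain ⟨x, rfl⟩ := QuotientAddGroup.mk_surjective m
  rw [act_mk, eq_comm, QuotientAddGroup.eq, AddSubgroup.mem_addSubgroupOf] at hm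
  rw [QuotientAddGroup.eq_zero_iff, AddSubgroup.mem_addSubgroupOf]
  apply mem_rad_of_shift _ (h2 x.2)
  rw [AddSubgroup.coe_add, AddSubgroup.coe_neg, restr_coe] at hm
  rw [sub_eq_neg_add]
  exact hm

include hU in
theorem card_mod (h2 : U ≤ evn u0) (hfin : Finite (U ⧸ (rad u0).addSubgroupOf U)) :
    Nat.card (U ⧸ (rad u0).addSubgroupOf U) % 23 = 1 := by
  have : Fact (Nat.Prime 23) := ⟨by norm_num⟩
  let ψ : Subgroup.zpowers sh →* AddMonoid.End (U ⧸ (rad u0).addSubgroupOf U) :=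
    (phi U hU).comp (Subgroup.subtype _)
  let inst : MulAction (Subgroup.zpowers sh) (U ⧸ (rad u0).addSubgroupOf U) :=
    MulAction.compHom _ ψ
  have hp : IsPGroup 23 (Subgroup.zpowers sh) :=
    IsPGroup.of_card (n := 1) (by rw [card_zpowers_sh, pow_one])
  have h3 := hp.card_modEq_card_fixedPoints (U ⧸ (rad u0).addSubgroupOf U)
  have h4 : MulAction.fixedPoints (Subgroup.zpowers sh) (U ⧸ (rad u0).addSubgroupOf U) = {0} := by
    ext m
    rw [MulAction.mem_fixedPoints, Set.mem_singleton_iff]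
    constructor
    · intro h
      exact phi_fixed U hU h2 m (h ⟨sh, Subgroup.mem_zpowers sh⟩)
    · rintro rfl g
      change ψ g 0 = 0
      exact _root_.map_zero (ψ g)
  rw [h4, Nat.card_coe_set_eq, Set.ncard_singleton] at h3
  exact h3

end Irr

theorem irreducible_u0 (U : AddSubgroup leechLattice) (h1 : rad u0 ≤ U) (h2 : U ≤ evn u0)
    (hU : ∀ g ∈ MulAction.stabilizer Co0 u0, ∀ x ∈ U, g • x ∈ U) : U = rad u0 ∨ U = evn u0 := by
  obtain ⟨d, hd, hcard, htop⟩ := index_bound U h1 h2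
  have hcard' : Nat.card (U ⧸ (rad u0).addSubgroupOf U) = 2 ^ d := hcard
  have hfin : Finite (U ⧸ (rad u0).addSubgroupOf U) := Nat.finite_of_card_ne_zero (by
    rw [hcard']; positivity)
  have hmod := card_mod U hU h2 hfin
  rw [hcard'] at hmod
  rcases pow_mod_23 d hd hmod with rfl | rfl | rfl
  · left
    rw [pow_zero] at hcard
    exact le_antisymm (AddSubgroup.relIndex_eq_one.1 hcard) h1
  · exfalso
    have hs := isSimpleGroup_stab u0 dt_u0_u0
    have : Fact (Nat.Prime 2) := ⟨Nat.prime_two⟩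
    rcases (MonoidHom.normal_ker (phi U hU)).eq_bot_or_eq_top with h | h
    · have hinj := (MonoidHom.ker_eq_bot_iff _).1 h
      let mod : Module (ZMod 2) (U ⧸ (rad u0).addSubgroupOf U) :=
        AddCommGroup.zmodModule (fun x => by
          obtain ⟨y, rfl⟩ := QuotientAddGroup.mk_surjective x
          rw [← QuotientAddGroup.mk_nsmul, QuotientAddGroup.eq_zero_iff,
            AddSubgroup.mem_addSubgroupOf, AddSubgroup.coe_nsmul]
          exact two_smul_mem_rad u0 _)
      have h3 := SelfCentTwo.card_dvd_card_GL 2 11 hcard' (phi U hU) hinj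
      rw [card_stab u0 dt_u0_u0] at h3
      exact ConwayStab.not_dvd_GL11 (h3.trans (Dvd.intro_left _ rfl))
    · have hsh : phi U hU sh = 1 := by
        have : sh ∈ (phi U hU).ker := by rw [h]; trivial
        exact this
      have h3 : ∀ m : U ⧸ (rad u0).addSubgroupOf U, m = 0 := fun m =>
        phi_fixed U hU h2 m (by rw [hsh]; rfl)
      have h4 : Nat.card (U ⧸ (rad u0).addSubgroupOf U) = 1 := by
        have : Subsingleton (U ⧸ (rad u0).addSubgroupOf U) :=
          ⟨fun a b => by rw [h3 a, h3 b]⟩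
        exact Nat.card_unique
      rw [hcard'] at h4
      norm_num at h4
  · right
    exact htop rfl

/-- **Irreducibility**: between `2Λ + ℤu` and the vectors of even inner product with `u` there is
no further subgroup invariant under the stabiliser of `u`. -/
theorem irreducible (u : leechLattice) (hu : dt u u = 32) (U : AddSubgroup leechLattice)
    (h1 : rad u ≤ U) (h2 : U ≤ evn u) (hU : ∀ g : Co0, g • u = u → ∀ x ∈ U, g • x ∈ U) :
    U = rad u ∨ U = evn u := by
  obtain ⟨g, hg⟩ := Cfsg.Agent.S0400.result u0 u (by rw [norm_eq]; exact dt_u0_u0)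
    (by rw [norm_eq]; exact hu)
  have hg : g • u0 = u := hg
  have hg' : g⁻¹ • u = u0 := by rw [← hg, inv_smul_smul]
  set V : AddSubgroup leechLattice := U.comap (toHom g) with hV
  have hmV : ∀ x, x ∈ V ↔ g • x ∈ U := fun x => Iff.rfl
  have hrad : ∀ x, x ∈ rad u0 ↔ g • x ∈ rad u := by
    intro x
    constructor
    · intro hx
      obtain ⟨z, rfl | rfl⟩ := mem_rad.1 hx
      · rw [smul_two]; exact two_smul_mem_rad u _
      · rw [smul_add', smul_two, hg]
        exact add_mem (two_smul_mem_rad u _) (self_mem_rad u)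
    · intro hx
      rw [← inv_smul_smul g x]
      obtain ⟨z, hz | hz⟩ := mem_rad.1 hx
      · rw [hz, smul_two]; exact two_smul_mem_rad u0 _
      · rw [hz, smul_add', smul_two, hg']
        exact add_mem (two_smul_mem_rad u0 _) (self_mem_rad u0)
  have hevn : ∀ x, x ∈ evn u0 ↔ g • x ∈ evn u := by
    intro x
    rw [mem_evn, mem_evn, ← hg, dt_smul]
  rcases irreducible_u0 V (fun x hx => h1 ((hrad x).1 hx)) (fun x hx => (hevn x).2 (h2 hx))
    (fun s hs x hx => by
      rw [hmV] at hx ⊢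
      have h3 := hU (g * s * g⁻¹) (by
        rw [mul_smul, mul_smul, hg', (hs : s • u0 = u0), hg]) _ hx
      rwa [mul_smul, mul_smul, inv_smul_smul] at h3) with h | h
  · left
    refine le_antisymm (fun x hx => ?_) h1
    have h3 : g⁻¹ • x ∈ V := by rw [hmV, smul_inv_smul]; exact hx
    rw [h, hrad, smul_inv_smul] at h3
    exact h3
  · right
    refine le_antisymm h2 (fun x hx => ?_)
    have h3 : g⁻¹ • x ∈ evn u0 := by rw [hevn, smul_inv_smul]; exact hx
    rw [← h, hmV, smul_inv_smul] at h3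
    exact h3

/-! ### Faithfulness -/

/-- A vector of `A u` is not in the radical. -/
theorem not_mem_rad_of_A (u w : leechLattice) (hu : dt u u = 32) (hw : w ∈ A u) : w ∉ rad u := by
  intro h
  have hn : ∀ z : leechLattice, dt z z ≠ 8 := by
    intro z hz
    have h2 := Cfsg.Agent.Leech.Basic.sixteen_dvd_sqNorm z.2
    rw [norm_eq] at h2
    omega
  have h4 : ∀ z : leechLattice, dt (2 • z) (2 • z) = 4 * dt z z := by
    intro z
    rw [dt_two_smul_right, dt_comm, dt_two_smul_right]; ring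
  obtain ⟨z, hz | hz⟩ := mem_rad.1 h
  · have h1 := hw.1
    rw [hz, h4] at h1
    exact hn z (by omega)
  · have h1 : dt (w + u) (w + u) = 32 := by
      rw [dt_add_left, dt_add_right, dt_add_right, hw.1, hu, hw.2, dt_comm, hw.2]
      norm_num
    have h2 : w + u = 2 • (z + u) := by
      rw [hz, smul_add, two_smul ℕ u]
      abel
    rw [h2, h4] at h1
    exact hn (z + u) (by omega)

theorem faithful_u0 (g : Co0) (hg : g • u0 = u0) (h : ∀ x ∈ evn u0, g • x - x ∈ rad u0) : g = 1 := by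
  have hU : ∀ g ∈ MulAction.stabilizer Co0 u0, ∀ x ∈ evn u0, g • x ∈ evn u0 :=
    fun _ hg _ hx => smul_mem_evn hg hx
  have hs := isSimpleGroup_stab u0 dt_u0_u0
  rcases (MonoidHom.normal_ker (phi (evn u0) hU)).eq_bot_or_eq_top with h1 | h1
  · have h2 : (⟨g, hg⟩ : MulAction.stabilizer Co0 u0) ∈ (phi (evn u0) hU).ker := by
      rw [MonoidHom.mem_ker]
      apply QuotientAddGroup.addMonoidHom_ext
      ext x
      change (QuotientAddGroup.mk (restr hU ⟨g, hg⟩ x) : evn u0 ⧸ (rad u0).addSubgroupOf (evn u0)) =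
        QuotientAddGroup.mk x
      rw [eq_comm, QuotientAddGroup.eq, AddSubgroup.mem_addSubgroupOf, AddSubgroup.coe_add,
        AddSubgroup.coe_neg, restr_coe, ← sub_eq_neg_add]
      exact h _ x.2
    rw [h1, Subgroup.mem_bot] at h2
    exact congrArg Subtype.val h2
  · exfalso
    have hsh : phi (evn u0) hU sh = 1 := by
      have : sh ∈ (phi (evn u0) hU).ker := by rw [h1]; trivial
      exact this
    obtain ⟨w, hw⟩ : (A u0).Nonempty := by
      apply Set.nonempty_of_ncard_ne_zero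
      rw [ncard_A u0 dt_u0_u0]
      norm_num
    have hw2 : w ∈ evn u0 := by rw [mem_evn, hw.2]; norm_num
    have h3 := phi_fixed (evn u0) hU le_rfl (QuotientAddGroup.mk ⟨w, hw2⟩) (by rw [hsh]; rfl)
    rw [QuotientAddGroup.eq_zero_iff, AddSubgroup.mem_addSubgroupOf] at h3
    exact not_mem_rad_of_A u0 w dt_u0_u0 hw h3

/-- **Faithfulness.** -/
theorem faithful (u : leechLattice) (hu : dt u u = 32) (g : Co0) (hg : g • u = u)
    (h : ∀ x ∈ evn u, g • x - x ∈ rad u) : g = 1 := by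
  obtain ⟨a, ha⟩ := Cfsg.Agent.S0400.result u0 u (by rw [norm_eq]; exact dt_u0_u0)
    (by rw [norm_eq]; exact hu)
  have ha : a • u0 = u := ha
  have ha' : a⁻¹ • u = u0 := by rw [← ha, inv_smul_smul]
  have h1 : a⁻¹ * g * a = 1 := by
    apply faithful_u0
    · rw [mul_smul, mul_smul, ha, hg, ha']
    · intro x hx
      have h2 : a • x ∈ evn u := by
        rw [mem_evn, ← ha, dt_smul]; exact hx
      obtain ⟨z, hz | hz⟩ := mem_rad.1 (h _ h2)
      · have h3 : (a⁻¹ * g * a) • x - x = 2 • (a⁻¹ • z) := by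
          rw [← smul_two, ← hz, mul_smul, mul_smul, smul_sub', inv_smul_smul]
        rw [h3]
        exact two_smul_mem_rad u0 _
      · have h3 : (a⁻¹ * g * a) • x - x = 2 • (a⁻¹ • z) + u0 := by
          rw [← ha', ← smul_two, ← smul_add', ← hz, mul_smul, mul_smul, smul_sub', inv_smul_smul]
        rw [h3]
        exact add_mem (two_smul_mem_rad u0 _) (self_mem_rad u0)
  have h2 : a * (a⁻¹ * g * a) * a⁻¹ = a * 1 * a⁻¹ := by rw [h1]
  simpa [mul_assoc] using h2

/-! ### The group `Q` -/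

/-- The irreducibility in terms of a group `Q` with a map `θ` to the lattice, a homomorphism to
`evn u / rad u` with kernel `{1, z}`. -/
theorem irred_of_map {Γ : Type*} [Group Γ] (C Q : Subgroup Γ) (z : Γ) (u : leechLattice)
    (hu : dt u u = 32) (θ : Γ → leechLattice)
    (hθ : ∀ q ∈ Q, θ q ∈ evn u)
    (hmul : ∀ q ∈ Q, ∀ r ∈ Q, θ (q * r) - (θ q + θ r) ∈ rad u)
    (hker : ∀ q ∈ Q, θ q ∈ rad u → q = 1 ∨ q = z)
    (hact : ∀ g : Co0, g • u = u → ∃ c ∈ C, ∀ q ∈ Q, c * q * c⁻¹ ∈ Q ∧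
      θ (c * q * c⁻¹) - g • θ q ∈ rad u)
    (hz : ∀ q ∈ Q, q * z = z * q)
    (hnc : ∃ q ∈ Q, ∃ r ∈ Q, q * r * q⁻¹ * r⁻¹ = z) :
    ∀ N : Subgroup Γ, N ≤ Q → (∀ g ∈ C, ∀ n ∈ N, g * n * g⁻¹ ∈ N) →
      (∀ n ∈ N, n = 1 ∨ n = z) ∨ N = Q := by
  intro N hNQ hN
  -- the subgroup of the lattice
  have hinv : ∀ q ∈ Q, θ q⁻¹ - θ q ∈ rad u := by
    intro q hq
    have h1 : θ 1 ∈ rad u := by
      have := hmul 1 Q.one_mem 1 Q.one_mem
      rw [one_mul] at this
      have h2 : θ 1 = -(θ 1 - (θ 1 + θ 1)) := by abel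
      rw [h2]
      exact neg_mem this
    have h2 := hmul q hq q⁻¹ (Q.inv_mem hq)
    rw [mul_inv_cancel] at h2
    have h3 : θ q⁻¹ - θ q = θ 1 - (θ 1 - (θ q + θ q⁻¹)) - 2 • θ q := by
      rw [two_smul]; abel
    rw [h3]
    exact sub_mem (sub_mem h1 h2) (two_smul_mem_rad u _)
  let U : AddSubgroup leechLattice :=
    { carrier := {x | ∃ n ∈ N, θ n - x ∈ rad u}
      add_mem' := by
        rintro a b ⟨n, hn, hna⟩ ⟨m, hm, hmb⟩
        refine ⟨n * m, N.mul_mem hn hm, ?_⟩
        have h1 := hmul n (hNQ hn) m (hNQ hm)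
        have h2 : θ (n * m) - (a + b) = (θ (n * m) - (θ n + θ m)) + ((θ n - a) + (θ m - b)) := by abel
        rw [h2]
        exact add_mem h1 (add_mem hna hmb)
      zero_mem' := by
        refine ⟨1, N.one_mem, ?_⟩
        have := hmul 1 Q.one_mem 1 Q.one_mem
        rw [one_mul] at this
        have h2 : θ 1 - 0 = -(θ 1 - (θ 1 + θ 1)) := by abel
        rw [h2]
        exact neg_mem this
      neg_mem' := by
        rintro a ⟨n, hn, hna⟩
        refine ⟨n⁻¹, N.inv_mem hn, ?_⟩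
        have h2 : θ n⁻¹ - -a = (θ n⁻¹ - θ n) + 2 • θ n - (θ n - a) := by rw [two_smul]; abel
        rw [h2]
        exact sub_mem (add_mem (hinv n (hNQ hn)) (two_smul_mem_rad u _)) hna }
  have hU : ∀ x, x ∈ U ↔ ∃ n ∈ N, θ n - x ∈ rad u := fun x => Iff.rfl
  have hθ1 : θ 1 ∈ rad u := by
    have := hmul 1 Q.one_mem 1 Q.one_mem
    rw [one_mul] at this
    have h2 : θ 1 = -(θ 1 - (θ 1 + θ 1)) := by abel
    rw [h2]
    exact neg_mem this
  have h1 : rad u ≤ U := fun x hx => (hU x).2 ⟨1, N.one_mem, sub_mem hθ1 hx⟩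
  have h2 : U ≤ evn u := by
    intro x hx
    obtain ⟨n, hn, hx⟩ := (hU x).1 hx
    have h3 : x = θ n - (θ n - x) := by abel
    rw [h3]
    exact sub_mem (hθ n (hNQ hn)) (rad_le_evn u hu hx)
  have h3 : ∀ g : Co0, g • u = u → ∀ x ∈ U, g • x ∈ U := by
    intro g hg x hx
    obtain ⟨n, hn, hx⟩ := (hU x).1 hx
    obtain ⟨c, hc, hcq⟩ := hact g hg
    refine (hU _).2 ⟨c * n * c⁻¹, hN c hc n hn, ?_⟩
    have h4 : θ (c * n * c⁻¹) - g • x = (θ (c * n * c⁻¹) - g • θ n) + (g • (θ n - x)) := by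
      rw [smul_sub']
      abel
    rw [h4]
    exact add_mem (hcq n (hNQ hn)).2 (smul_mem_rad hg hx)
  -- congruent elements
  have hcong : ∀ q ∈ Q, ∀ r ∈ Q, θ q - θ r ∈ rad u → q = r ∨ q = z * r := by
    intro q hq r hr h
    have h4 := hmul q hq r⁻¹ (Q.inv_mem hr)
    have h5 := hinv r hr
    have h6 : θ (q * r⁻¹) = (θ (q * r⁻¹) - (θ q + θ r⁻¹)) + (θ r⁻¹ - θ r) + (θ q - θ r) + 2 • θ r := by
      rw [two_smul]; abel
    have h7 : θ (q * r⁻¹) ∈ rad u := by
      rw [h6]
      exact add_mem (add_mem (add_mem h4 h5) h) (two_smul_mem_rad u _)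
    rcases hker _ (Q.mul_mem hq (Q.inv_mem hr)) h7 with h8 | h8
    · left; exact mul_inv_eq_one.1 h8
    · right; exact mul_inv_eq_iff_eq_mul.1 h8
  rcases irreducible u hu U h1 h2 h3 with h | h
  · left
    intro n hn
    apply hker n (hNQ hn)
    rw [← h]
    exact (hU _).2 ⟨n, hn, by rw [sub_self]; exact zero_mem _⟩
  · right
    refine le_antisymm hNQ ?_
    have hcov : ∀ q ∈ Q, q ∈ N ∨ ∃ n ∈ N, q = z * n := by
      intro q hq
      have h4 : θ q ∈ U := by rw [h]; exact hθ q hq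
      obtain ⟨n, hn, h5⟩ := (hU _).1 h4
      have h6 : θ q - θ n ∈ rad u := by
        rw [← neg_sub]; exact neg_mem h5
      rcases hcong q hq n (hNQ hn) h6 with h7 | h7
      · left; rw [h7]; exact hn
      · right; exact ⟨n, hn, h7⟩
    have hzN : z ∈ N := by
      obtain ⟨q, hq, r, hr, hqr⟩ := hnc
      have key : ∀ n ∈ Q, ∀ m ∈ Q, (z * n) * m * (z * n)⁻¹ * m⁻¹ = n * m * n⁻¹ * m⁻¹ ∧
          n * (z * m) * n⁻¹ * (z * m)⁻¹ = n * m * n⁻¹ * m⁻¹ := by
        intro n hn m hm
        have e1 := hz n hn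
        have e2 := hz m hm
        have e3 : n⁻¹ * z⁻¹ = z⁻¹ * n⁻¹ := by rw [← mul_inv_rev, ← mul_inv_rev, e1]
        have e4 : m⁻¹ * z⁻¹ = z⁻¹ * m⁻¹ := by rw [← mul_inv_rev, ← mul_inv_rev, e2]
        have e5 : z * (n * m) = (n * m) * z := by
          rw [← mul_assoc, ← e1, mul_assoc, ← e2, mul_assoc]
        have e6 : n⁻¹ * m⁻¹ * z⁻¹ = z⁻¹ * (n⁻¹ * m⁻¹) := by
          rw [mul_assoc, e4, ← mul_assoc, e3, mul_assoc]
        constructor
        · calc (z * n) * m * (z * n)⁻¹ * m⁻¹ = (z * (n * m)) * (n⁻¹ * z⁻¹) * m⁻¹ := by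
                rw [mul_inv_rev]; simp only [mul_assoc]
            _ = (n * m) * z * (z⁻¹ * n⁻¹) * m⁻¹ := by rw [e5, e3]
            _ = n * m * n⁻¹ * m⁻¹ := by group
        · calc n * (z * m) * n⁻¹ * (z * m)⁻¹ = (n * z) * m * (n⁻¹ * m⁻¹ * z⁻¹) := by
                rw [mul_inv_rev]; simp only [mul_assoc]
            _ = (z * (n * m)) * (z⁻¹ * (n⁻¹ * m⁻¹)) := by rw [e1, e6]; simp only [mul_assoc]
            _ = (n * m) * z * (z⁻¹ * (n⁻¹ * m⁻¹)) := by rw [e5]
            _ = n * m * n⁻¹ * m⁻¹ := by group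
      have hnn : ∀ n ∈ N, ∀ m ∈ N, n * m * n⁻¹ * m⁻¹ ∈ N := fun n hn m hm =>
        N.mul_mem (N.mul_mem (N.mul_mem hn hm) (N.inv_mem hn)) (N.inv_mem hm)
      rw [← hqr]
      rcases hcov q hq with h4 | ⟨n, hn, rfl⟩ <;> rcases hcov r hr with h5 | ⟨m, hm, rfl⟩
      · exact hnn q h4 r h5
      · rw [(key q hq m (hNQ hm)).2]; exact hnn q h4 m hm
      · rw [(key n (hNQ hn) r hr).1]; exact hnn n hn r h5
      · rw [(key n (hNQ hn) (z * m) hr).1, (key n (hNQ hn) m (hNQ hm)).2]; exact hnn n hn m hm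
    intro q hq
    rcases hcov q hq with h4 | ⟨n, hn, rfl⟩
    · exact h4
    · exact N.mul_mem hzN hn

end Cfsg.Agent.BabyM.CoTwoMod
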