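/-
The concrete model of the Baby Monster: letters, words, the form, and that all generators are isometries.
-/
import Cfsg.Agent.Monster.VecSpace
import Cfsg.Agent.Monster.PlaneArith
import Cfsg.Agent.BabyM.ConcQ
import Cfsg.Agent.BabyM.ConcY
import Cfsg.Agent.BabyM.ConcP
import Cfsg.Agent.BabyM.ConcPP
import Cfsg.Agent.BabyM.ConcT

set_option autoImplicit false

namespace Cfsg.Agent.BabyM.Conc

open Cfsg.Agent.Lib.PermNet Cfsg.Agent.Monster.VecEngine Cfsg.Agent.Monster.VecSpace

/-- The letters: the central involution `z`, the Paulis `X_k`, `Z_k`, the elements `y_k`, `p`, `h`, `ξ`, powers and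
inverses of `p`, `h`, `ξ`, and `τ`, `τ⁻¹`. -/
inductive Ltr : Type
  | z
  | X0
  | X1
  | X2
  | X3
  | X4
  | X5
  | X6
  | X7
  | X8
  | X9
  | X10
  | Z0
  | Z1
  | Z2
  | Z3
  | Z4
  | Z5
  | Z6
  | Z7
  | Z8
  | Z9
  | Z10
  | y1
  | y2
  | y3
  | y4
  | y5
  | y6
  | y7
  | y8
  | y9
  | y10
  | p
  | h
  | xi
  | p2
  | p3
  | p4
  | p5
  | p6
  | p7
  | p8
  | p9
  | p10
  | hi
  | xii
  | tau
  | taui

/-- The central involution `z` of `C` as a program: the sign change on the spin part. -/
def gz : Prog := .neg 0xfffffffffffffffffffffffffffffffffffffffffffffffffffffffffffffffffffffffffffffffffffffffffffffffffffffffffffffffffffffffffffffffffffffffffffffffffffffffffffffffffffffffffffffffffffffffffffffffffffffffffffffffffffffffffffffffffffffffffffffffffffffffffffffffffffffffffffffffffffffffffffffffffffffffffffffffffffffffffffffffffffffffffffffffffffffffffffffffffffffffffffffffffffffffffffffffffffffffffffffffffffffffffffffffffffffffffffffffffffffffffffffffffffffffffffffffffffffffffffffffffffffffffffffffffffff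fffffffffff0000000000000000000000000000000000000000000000000000000000000000000000000000000000000000000000000000000000000000000000000000000000000000000000000000000000000000000000000000000000000000000000000000000000000000000000000000000000000000000000000000000000000000000000000000000000000000000000000000000000000000000000000000000000000000000000000000000000000000000000000000000000000000000000000000000000000000000000000000000000000000000000000000000000000000000000000000000000000000000000000000000000000000000000000000000000000000000000000000000000000000000000000000000000000000000000000000000000000000000000000000000000000000000000000000000000000000000000000000000000000000000000000000000000000000000000000000000000000000000000000000000000000000000000000000000000000000000000000000000000000000000000000000000000000000000000000000000000000000000000000000000000000000000000000000000000000000000000000000000000000000000000000000000000000000000000000000000000000000000000000000000000000000000000000000000000000000000000000000000000000000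 .nil

/-- The program of a letter. -/
def Ltr.prog : Ltr → Prog
  | .z => gz
  | .X0 => ConcQ.gX0
  | .X1 => ConcQ.gX1
  | .X2 => ConcQ.gX2
  | .X3 => ConcQ.gX3
  | .X4 => ConcQ.gX4
  | .X5 => ConcQ.gX5
  | .X6 => ConcQ.gX6
  | .X7 => ConcQ.gX7
  | .X8 => ConcQ.gX8
  | .X9 => ConcQ.gX9
  | .X10 => ConcQ.gX10
  | .Z0 => ConcQ.gZ0
  | .Z1 => ConcQ.gZ1
  | .Z2 => ConcQ.gZ2
  | .Z3 => ConcQ.gZ3
  | .Z4 => ConcQ.gZ4
  | .Z5 => ConcQ.gZ5
  | .Z6 => ConcQ.gZ6
  | .Z7 => ConcQ.gZ7
  | .Z8 => ConcQ.gZ8
  | .Z9 => ConcQ.gZ9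
  | .Z10 => ConcQ.gZ10
  | .y1 => ConcY.gy1
  | .y2 => ConcY.gy2
  | .y3 => ConcY.gy3
  | .y4 => ConcY.gy4
  | .y5 => ConcY.gy5
  | .y6 => ConcY.gy6
  | .y7 => ConcY.gy7
  | .y8 => ConcY.gy8
  | .y9 => ConcY.gy9
  | .y10 => ConcY.gy10
  | .p => ConcP.gp
  | .h => ConcP.gh
  | .xi => ConcT.gxi
  | .p2 => ConcPP.gp2
  | .p3 => ConcPP.gp3
  | .p4 => ConcPP.gp4
  | .p5 => ConcPP.gp5
  | .p6 => ConcPP.gp6
  | .p7 => ConcPP.gp7
  | .p8 => ConcPP.gp8
  | .p9 => ConcPP.gp9
  | .p10 => ConcPP.gp10
  | .hi => ConcP.ghi
  | .xii => ConcT.gxii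
  | .tau => ConcT.gtau
  | .taui => ConcT.gtaui

/-- The lanes in use. -/
abbrev U : ℕ := ConcQ.U

/-- The exponents of the weights: `-1` on the lanes `A_j`, else `0`. -/
def wt : Pl := .sgn 0x7ffffe000000000000000000000000000000000000000000000000000000000000000000000000000000000000000000000000000000000000000000000000000000000000000000000000000000000000000000000000000000000000000000000000000000000000000000000000000000000000000000000000000000000000000000000000000000000000000000000000000000000000000000000000000000000000000000000000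

theorem good_z : GoodW (2 ^ 13) U wt (Ltr.prog .z) := goodW_sound (by decide +kernel)

theorem good_X0 : GoodW (2 ^ 13) U wt (Ltr.prog .X0) := goodW_sound (by decide +kernel)

theorem good_X1 : GoodW (2 ^ 13) U wt (Ltr.prog .X1) := goodW_sound (by decide +kernel)

theorem good_X2 : GoodW (2 ^ 13) U wt (Ltr.prog .X2) := goodW_sound (by decide +kernel)

theorem good_X3 : GoodW (2 ^ 13) U wt (Ltr.prog .X3) := goodW_sound (by decide +kernel)

theorem good_X4 : GoodW (2 ^ 13) U wt (Ltr.prog .X4) := goodW_sound (by decide +kernel)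

theorem good_X5 : GoodW (2 ^ 13) U wt (Ltr.prog .X5) := goodW_sound (by decide +kernel)

theorem good_X6 : GoodW (2 ^ 13) U wt (Ltr.prog .X6) := goodW_sound (by decide +kernel)

theorem good_X7 : GoodW (2 ^ 13) U wt (Ltr.prog .X7) := goodW_sound (by decide +kernel)

theorem good_X8 : GoodW (2 ^ 13) U wt (Ltr.prog .X8) := goodW_sound (by decide +kernel)

theorem good_X9 : GoodW (2 ^ 13) U wt (Ltr.prog .X9) := goodW_sound (by decide +kernel)

theorem good_X10 : GoodW (2 ^ 13) U wt (Ltr.prog .X10) := goodW_sound (by decide +kernel)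

theorem good_Z0 : GoodW (2 ^ 13) U wt (Ltr.prog .Z0) := goodW_sound (by decide +kernel)

theorem good_Z1 : GoodW (2 ^ 13) U wt (Ltr.prog .Z1) := goodW_sound (by decide +kernel)

theorem good_Z2 : GoodW (2 ^ 13) U wt (Ltr.prog .Z2) := goodW_sound (by decide +kernel)

theorem good_Z3 : GoodW (2 ^ 13) U wt (Ltr.prog .Z3) := goodW_sound (by decide +kernel)

theorem good_Z4 : GoodW (2 ^ 13) U wt (Ltr.prog .Z4) := goodW_sound (by decide +kernel)

theorem good_Z5 : GoodW (2 ^ 13) U wt (Ltr.prog .Z5) := goodW_sound (by decide +kernel)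

theorem good_Z6 : GoodW (2 ^ 13) U wt (Ltr.prog .Z6) := goodW_sound (by decide +kernel)

theorem good_Z7 : GoodW (2 ^ 13) U wt (Ltr.prog .Z7) := goodW_sound (by decide +kernel)

theorem good_Z8 : GoodW (2 ^ 13) U wt (Ltr.prog .Z8) := goodW_sound (by decide +kernel)

theorem good_Z9 : GoodW (2 ^ 13) U wt (Ltr.prog .Z9) := goodW_sound (by decide +kernel)

theorem good_Z10 : GoodW (2 ^ 13) U wt (Ltr.prog .Z10) := goodW_sound (by decide +kernel)

theorem good_y1 : GoodW (2 ^ 13) U wt (Ltr.prog .y1) := goodW_sound (by decide +kernel)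

theorem good_y2 : GoodW (2 ^ 13) U wt (Ltr.prog .y2) := goodW_sound (by decide +kernel)

theorem good_y3 : GoodW (2 ^ 13) U wt (Ltr.prog .y3) := goodW_sound (by decide +kernel)

theorem good_y4 : GoodW (2 ^ 13) U wt (Ltr.prog .y4) := goodW_sound (by decide +kernel)

theorem good_y5 : GoodW (2 ^ 13) U wt (Ltr.prog .y5) := goodW_sound (by decide +kernel)

theorem good_y6 : GoodW (2 ^ 13) U wt (Ltr.prog .y6) := goodW_sound (by decide +kernel)

theorem good_y7 : GoodW (2 ^ 13) U wt (Ltr.prog .y7) := goodW_sound (by decide +kernel)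

theorem good_y8 : GoodW (2 ^ 13) U wt (Ltr.prog .y8) := goodW_sound (by decide +kernel)

theorem good_y9 : GoodW (2 ^ 13) U wt (Ltr.prog .y9) := goodW_sound (by decide +kernel)

theorem good_y10 : GoodW (2 ^ 13) U wt (Ltr.prog .y10) := goodW_sound (by decide +kernel)

theorem good_p : GoodW (2 ^ 13) U wt (Ltr.prog .p) := goodW_sound (by decide +kernel)

theorem good_h : GoodW (2 ^ 13) U wt (Ltr.prog .h) := goodW_sound (by decide +kernel)

theorem good_xi : GoodW (2 ^ 13) U wt (Ltr.prog .xi) := goodW_sound (by decide +kernel)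

theorem good_p2 : GoodW (2 ^ 13) U wt (Ltr.prog .p2) := goodW_sound (by decide +kernel)

theorem good_p3 : GoodW (2 ^ 13) U wt (Ltr.prog .p3) := goodW_sound (by decide +kernel)

theorem good_p4 : GoodW (2 ^ 13) U wt (Ltr.prog .p4) := goodW_sound (by decide +kernel)

theorem good_p5 : GoodW (2 ^ 13) U wt (Ltr.prog .p5) := goodW_sound (by decide +kernel)

theorem good_p6 : GoodW (2 ^ 13) U wt (Ltr.prog .p6) := goodW_sound (by decide +kernel)

theorem good_p7 : GoodW (2 ^ 13) U wt (Ltr.prog .p7) := goodW_sound (by decide +kernel)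

theorem good_p8 : GoodW (2 ^ 13) U wt (Ltr.prog .p8) := goodW_sound (by decide +kernel)

theorem good_p9 : GoodW (2 ^ 13) U wt (Ltr.prog .p9) := goodW_sound (by decide +kernel)

theorem good_p10 : GoodW (2 ^ 13) U wt (Ltr.prog .p10) := goodW_sound (by decide +kernel)

theorem good_hi : GoodW (2 ^ 13) U wt (Ltr.prog .hi) := goodW_sound (by decide +kernel)

theorem good_xii : GoodW (2 ^ 13) U wt (Ltr.prog .xii) := goodW_sound (by decide +kernel)

theorem good_tau : GoodW (2 ^ 13) U wt (Ltr.prog .tau) := goodW_sound (by decide +kernel)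

theorem good_taui : GoodW (2 ^ 13) U wt (Ltr.prog .taui) := goodW_sound (by decide +kernel)

theorem good_prog (l : Ltr) : GoodW (2 ^ 13) U wt l.prog := by
  cases l
  · exact good_z
  · exact good_X0
  · exact good_X1
  · exact good_X2
  · exact good_X3
  · exact good_X4
  · exact good_X5
  · exact good_X6
  · exact good_X7
  · exact good_X8
  · exact good_X9
  · exact good_X10
  · exact good_Z0
  · exact good_Z1
  · exact good_Z2
  · exact good_Z3
  · exact good_Z4
  · exact good_Z5
  · exact good_Z6
  · exact good_Z7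
  · exact good_Z8
  · exact good_Z9
  · exact good_Z10
  · exact good_y1
  · exact good_y2
  · exact good_y3
  · exact good_y4
  · exact good_y5
  · exact good_y6
  · exact good_y7
  · exact good_y8
  · exact good_y9
  · exact good_y10
  · exact good_p
  · exact good_h
  · exact good_xi
  · exact good_p2
  · exact good_p3
  · exact good_p4
  · exact good_p5
  · exact good_p6
  · exact good_p7
  · exact good_p8
  · exact good_p9
  · exact good_p10
  · exact good_hi
  · exact good_xii
  · exact good_tau
  · exact good_taui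

theorem good_progs (v : List Ltr) : ∀ P ∈ v.map Ltr.prog, GoodW (2 ^ 13) U wt P := by
  intro P hP
  obtain ⟨l, -, rfl⟩ := List.mem_map.1 hP
  exact good_prog l

theorem U_lt : U < 2 ^ 2 ^ 13 := by decide +kernel

/-! ### The space and the form -/

/-- The space of the model. -/
abbrev V : Type := Lane U → ℚ

theorem card_lane : Fintype.card (Lane U) = 4371 := by
  have h1 := sum_lane U_lt (fun _ => (1 : ℕ))
  rw [Finset.sum_const, Finset.card_univ, smul_eq_mul, mul_one] at h1
  rw [h1, ← Finset.sum_filter, ← Finset.card_eq_sum_ones]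
  exact Cfsg.Agent.Monster.PlaneArith.cardIs_sound (k := 13) (by norm_num) (by decide +kernel)

theorem finrank_eq : Module.finrank ℚ V = 4371 := by
  rw [Module.finrank_fintype_fun_eq_card, card_lane]

/-- The invariant form: `(1 / 16) * ∑ c_i f_i g_i` with `c = 2` on the lanes `A_j` and `c = 1` else. -/
noncomputable def F : LinearMap.BilinForm ℚ V := (1 / 16 : ℚ) • dotWB ℚ U wt

theorem F_apply (f g : V) : F f g = 1 / 16 * dotW ℚ U wt f g := rfl

theorem F_symm (f g : V) : F f g = F g f := by rw [F_apply, F_apply, dotW_comm]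

theorem F_nondeg (f : V) (h : ∀ g, F f g = 0) : f = 0 := by
  apply dotW_nondegenerate ℚ two_ne_zero U wt f
  intro g
  have := h g
  rw [F_apply] at this
  linarith

theorem F_self_nonneg (f : V) : 0 ≤ F f f := by
  rw [F_apply]
  exact mul_nonneg (by norm_num) (Finset.sum_nonneg fun i _ => mul_nonneg (by positivity) (mul_self_nonneg _))

theorem F_self_eq_zero {f : V} (h : F f f = 0) : f = 0 := by
  rw [F_apply, mul_eq_zero, or_iff_right (by norm_num)] at h
  unfold dotW at h
  rw [Finset.sum_eq_zero_iff_of_nonneg (fun i _ => mul_nonneg (by positivity) (mul_self_nonneg _))] at h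
  funext i
  rcases mul_eq_zero.1 (h i (Finset.mem_univ _)) with h2 | h2
  · exact absurd h2 (by positivity)
  · exact mul_self_eq_zero.1 h2

/-! ### Words -/

/-- The group element of a letter. -/
noncomputable def E (l : Ltr) : V ≃ₗ[ℚ] V := semE ℚ U l.prog

/-- The group element of a word, the FIRST letter acts first. -/
noncomputable def W (v : List Ltr) : V ≃ₗ[ℚ] V := wordE ℚ U (v.map Ltr.prog)

@[simp] theorem W_nil : W [] = 1 := rfl

theorem W_cons (l : Ltr) (v : List Ltr) : W (l :: v) = W v * E l := wordE_cons ℚ U _ _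

theorem W_append (v v' : List Ltr) : W (v ++ v') = W v' * W v := by
  unfold W; rw [List.map_append, wordE_append]

theorem W_single (l : Ltr) : W [l] = E l := by rw [W_cons, W_nil, one_mul]

theorem W_apply (v : List Ltr) (f : V) : W v f = semUL ℚ U (v.map Ltr.prog) f :=
  wordE_apply ℚ two_ne_zero (good_progs v) f

theorem E_apply (l : Ltr) (f : V) : E l f = semU ℚ U l.prog f := semE_apply ℚ two_ne_zero (good_prog l) f

theorem F_E (l : Ltr) (f g : V) : F (E l f) (E l g) = F f g := by
  rw [F_apply, F_apply]; exact congrArg _ (dotW_semE ℚ two_ne_zero (good_prog l) f g)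

theorem F_W (v : List Ltr) (f g : V) : F (W v f) (W v g) = F f g := by
  rw [F_apply, F_apply]; exact congrArg _ (dotW_wordE ℚ two_ne_zero (good_progs v) f g)

/-- VECTOR IDENTITIES: `check` is a kernel computation. -/
theorem W_eq_of_check {v₁ v₂ : List Ltr} {x₁ x₂ : Pl}
    (h : check (v₁.map Ltr.prog) x₁ (v₂.map Ltr.prog) x₂ = true) : W v₁ (vecU ℚ U x₁) = W v₂ (vecU ℚ U x₂) :=
  checkE_sound ℚ two_ne_zero (good_progs v₁) (good_progs v₂) h

theorem W_fix_of_check {v : List Ltr} {x : Pl} (h : checkFix (v.map Ltr.prog) x = true) :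
    W v (vecU ℚ U x) = vecU ℚ U x :=
  checkFixE_sound ℚ two_ne_zero (good_progs v) h

/-! ### The groups -/

/-- The letters generating `Q`: `X_k`, `Z_k`. -/
def Ltr.isQ : Ltr → Bool
  | .X0 => true
  | .X1 => true
  | .X2 => true
  | .X3 => true
  | .X4 => true
  | .X5 => true
  | .X6 => true
  | .X7 => true
  | .X8 => true
  | .X9 => true
  | .X10 => true
  | .Z0 => true
  | .Z1 => true
  | .Z2 => true
  | .Z3 => true
  | .Z4 => true
  | .Z5 => true
  | .Z6 => true
  | .Z7 => true
  | .Z8 => true
  | .Z9 => true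
  | .Z10 => true
  | _ => false

/-- The letters generating `C`: `X_k`, `Z_k`, `y_k`, `p`, `h`, `ξ`. -/
def Ltr.isC : Ltr → Bool
  | .X0 => true
  | .X1 => true
  | .X2 => true
  | .X3 => true
  | .X4 => true
  | .X5 => true
  | .X6 => true
  | .X7 => true
  | .X8 => true
  | .X9 => true
  | .X10 => true
  | .Z0 => true
  | .Z1 => true
  | .Z2 => true
  | .Z3 => true
  | .Z4 => true
  | .Z5 => true
  | .Z6 => true
  | .Z7 => true
  | .Z8 => true
  | .Z9 => true
  | .Z10 => true
  | .y1 => true
  | .y2 => true
  | .y3 => true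
  | .y4 => true
  | .y5 => true
  | .y6 => true
  | .y7 => true
  | .y8 => true
  | .y9 => true
  | .y10 => true
  | .p => true
  | .h => true
  | .xi => true
  | _ => false

/-- `Q = 2^{1+22}`. -/
noncomputable def Q : Subgroup (V ≃ₗ[ℚ] V) := Subgroup.closure {g | ∃ l : Ltr, l.isQ = true ∧ g = E l}

/-- `C = 2^{1+22}.Co2`. -/
noncomputable def C : Subgroup (V ≃ₗ[ℚ] V) := Subgroup.closure {g | ∃ l : Ltr, l.isC = true ∧ g = E l}

/-- The triality element. -/
noncomputable def τ : V ≃ₗ[ℚ] V := E .tau

/-- The central involution of `C`. -/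
noncomputable def z : V ≃ₗ[ℚ] V := E .z

theorem E_mem_Q {l : Ltr} (h : l.isQ = true) : E l ∈ Q := Subgroup.subset_closure ⟨l, h, rfl⟩

theorem E_mem_C {l : Ltr} (h : l.isC = true) : E l ∈ C := Subgroup.subset_closure ⟨l, h, rfl⟩

theorem isC_of_isQ {l : Ltr} (h : l.isQ = true) : l.isC = true := by
  cases l <;> first | rfl | (exact absurd (show false = true from h) (by simp))

theorem Q_le_C : Q ≤ C := by
  apply Subgroup.closure_mono
  rintro g ⟨l, hl, rfl⟩
  exact ⟨l, isC_of_isQ hl, rfl⟩

theorem C_isom : ∀ g ∈ C, ∀ x y : V, F (g x) (g y) = F x y := by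
  intro g hg
  induction hg using Subgroup.closure_induction with
  | mem g hg =>
    obtain ⟨l, -, rfl⟩ := hg
    exact F_E l
  | one => intro x y; rfl
  | mul a b _ _ ha hb => intro x y; rw [LinearEquiv.mul_apply, LinearEquiv.mul_apply, ha, hb]
  | inv a _ ha =>
    intro x y
    rw [← ha (a⁻¹ x) (a⁻¹ y), ← LinearEquiv.mul_apply, ← LinearEquiv.mul_apply, mul_inv_cancel]
    rfl

theorem τ_isom (x y : V) : F (τ x) (τ y) = F x y := F_E .tau x y

end Cfsg.Agent.BabyM.Conc
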