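/-
Conjugates of the Paulis under `y_1, …, y_5`: `W [q, y] = W (y :: v)`.
-/
import Cfsg.Agent.BabyM.ConcEq

set_option autoImplicit false

namespace Cfsg.Agent.BabyM.ConcPhi1

open Cfsg.Agent.BabyM.Conc Cfsg.Agent.BabyM.ConcEq

theorem phi_y1_X0 : W [.X0, .y1] = W [.y1, .X0] :=
  eqM (by decide +kernel)

theorem phi_y1_X1 : W [.X1, .y1] = W [.y1, .Z2, .Z7, .Z9, .X1] :=
  eqM (by decide +kernel)

theorem phi_y1_X2 : W [.X2, .y1] = W [.y1, .Z1, .Z3, .Z4, .Z9, .X2] :=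
  eqM (by decide +kernel)

theorem phi_y1_X3 : W [.X3, .y1] = W [.y1, .Z2, .Z5, .Z8, .Z9, .X3] :=
  eqM (by decide +kernel)

theorem phi_y1_X4 : W [.X4, .y1] = W [.y1, .Z2, .Z6, .Z9, .X4] :=
  eqM (by decide +kernel)

theorem phi_y1_X5 : W [.X5, .y1] = W [.y1, .Z3, .Z6, .Z7, .Z9, .X5] :=
  eqM (by decide +kernel)

theorem phi_y1_X6 : W [.X6, .y1] = W [.y1, .Z4, .Z5, .Z9, .X6] :=
  eqM (by decide +kernel)

theorem phi_y1_X7 : W [.X7, .y1] = W [.y1, .Z1, .Z5, .Z9, .X7] :=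
  eqM (by decide +kernel)

theorem phi_y1_X8 : W [.X8, .y1] = W [.y1, .Z3, .Z9, .X8] :=
  eqM (by decide +kernel)

theorem phi_y1_X9 : W [.X9, .y1] = W [.y1, .Z1, .Z2, .Z3, .Z4, .Z5, .Z6, .Z7, .Z8, .X9, .z] :=
  eqM (by decide +kernel)

theorem phi_y1_X10 : W [.X10, .y1] = W [.y1, .X0, .X10] :=
  eqM (by decide +kernel)

theorem phi_y1_Z0 : W [.Z0, .y1] = W [.y1, .Z0, .Z10] :=
  eqM (by decide +kernel)

theorem phi_y1_Z1 : W [.Z1, .y1] = W [.y1, .Z1] :=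
  eqM (by decide +kernel)

theorem phi_y1_Z2 : W [.Z2, .y1] = W [.y1, .Z2] :=
  eqM (by decide +kernel)

theorem phi_y1_Z3 : W [.Z3, .y1] = W [.y1, .Z3] :=
  eqM (by decide +kernel)

theorem phi_y1_Z4 : W [.Z4, .y1] = W [.y1, .Z4] :=
  eqM (by decide +kernel)

theorem phi_y1_Z5 : W [.Z5, .y1] = W [.y1, .Z5] :=
  eqM (by decide +kernel)

theorem phi_y1_Z6 : W [.Z6, .y1] = W [.y1, .Z6] :=
  eqM (by decide +kernel)

theorem phi_y1_Z7 : W [.Z7, .y1] = W [.y1, .Z7] :=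
  eqM (by decide +kernel)

theorem phi_y1_Z8 : W [.Z8, .y1] = W [.y1, .Z8] :=
  eqM (by decide +kernel)

theorem phi_y1_Z9 : W [.Z9, .y1] = W [.y1, .Z9] :=
  eqM (by decide +kernel)

theorem phi_y1_Z10 : W [.Z10, .y1] = W [.y1, .Z10] :=
  eqM (by decide +kernel)

theorem phi_y2_X0 : W [.X0, .y2] = W [.y2, .Z2, .Z7, .Z9, .X0] :=
  eqM (by decide +kernel)

theorem phi_y2_X1 : W [.X1, .y2] = W [.y2, .X1] :=
  eqM (by decide +kernel)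

theorem phi_y2_X2 : W [.X2, .y2] = W [.y2, .Z0, .Z3, .Z4, .Z5, .Z6, .Z7, .Z8, .Z9, .X2, .z] :=
  eqM (by decide +kernel)

theorem phi_y2_X3 : W [.X3, .y2] = W [.y2, .Z2, .Z4, .Z5, .X3] :=
  eqM (by decide +kernel)

theorem phi_y2_X4 : W [.X4, .y2] = W [.y2, .Z2, .Z3, .Z6, .Z7, .X4] :=
  eqM (by decide +kernel)

theorem phi_y2_X5 : W [.X5, .y2] = W [.y2, .Z2, .Z3, .Z9, .X5] :=
  eqM (by decide +kernel)

theorem phi_y2_X6 : W [.X6, .y2] = W [.y2, .Z2, .Z4, .Z8, .Z9, .X6] :=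
  eqM (by decide +kernel)

theorem phi_y2_X7 : W [.X7, .y2] = W [.y2, .Z0, .Z2, .Z4, .X7] :=
  eqM (by decide +kernel)

theorem phi_y2_X8 : W [.X8, .y2] = W [.y2, .Z2, .Z6, .X8] :=
  eqM (by decide +kernel)

theorem phi_y2_X9 : W [.X9, .y2] = W [.y2, .Z0, .Z2, .Z5, .Z6, .X9] :=
  eqM (by decide +kernel)

theorem phi_y2_X10 : W [.X10, .y2] = W [.y2, .X1, .X10] :=
  eqM (by decide +kernel)

theorem phi_y2_Z0 : W [.Z0, .y2] = W [.y2, .Z0] :=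
  eqM (by decide +kernel)

theorem phi_y2_Z1 : W [.Z1, .y2] = W [.y2, .Z1, .Z10] :=
  eqM (by decide +kernel)

theorem phi_y2_Z2 : W [.Z2, .y2] = W [.y2, .Z2] :=
  eqM (by decide +kernel)

theorem phi_y2_Z3 : W [.Z3, .y2] = W [.y2, .Z3] :=
  eqM (by decide +kernel)

theorem phi_y2_Z4 : W [.Z4, .y2] = W [.y2, .Z4] :=
  eqM (by decide +kernel)

theorem phi_y2_Z5 : W [.Z5, .y2] = W [.y2, .Z5] :=
  eqM (by decide +kernel)

theorem phi_y2_Z6 : W [.Z6, .y2] = W [.y2, .Z6] :=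
  eqM (by decide +kernel)

theorem phi_y2_Z7 : W [.Z7, .y2] = W [.y2, .Z7] :=
  eqM (by decide +kernel)

theorem phi_y2_Z8 : W [.Z8, .y2] = W [.y2, .Z8] :=
  eqM (by decide +kernel)

theorem phi_y2_Z9 : W [.Z9, .y2] = W [.y2, .Z9] :=
  eqM (by decide +kernel)

theorem phi_y2_Z10 : W [.Z10, .y2] = W [.y2, .Z10] :=
  eqM (by decide +kernel)

theorem phi_y3_X0 : W [.X0, .y3] = W [.y3, .Z1, .Z3, .Z4, .Z9, .X0] :=
  eqM (by decide +kernel)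

theorem phi_y3_X1 : W [.X1, .y3] = W [.y3, .Z0, .Z3, .Z4, .Z5, .Z6, .Z7, .Z8, .Z9, .Z10, .X1, .z] :=
  eqM (by decide +kernel)

theorem phi_y3_X2 : W [.X2, .y3] = W [.y3, .X2] :=
  eqM (by decide +kernel)

theorem phi_y3_X3 : W [.X3, .y3] = W [.y3, .Z0, .Z1, .Z5, .Z7, .X3] :=
  eqM (by decide +kernel)

theorem phi_y3_X4 : W [.X4, .y3] = W [.y3, .Z0, .Z1, .Z6, .X4] :=
  eqM (by decide +kernel)

theorem phi_y3_X5 : W [.X5, .y3] = W [.y3, .Z1, .Z3, .Z6, .Z8, .X5] :=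
  eqM (by decide +kernel)

theorem phi_y3_X6 : W [.X6, .y3] = W [.y3, .Z1, .Z4, .Z5, .X6] :=
  eqM (by decide +kernel)

theorem phi_y3_X7 : W [.X7, .y3] = W [.y3, .Z1, .Z3, .X7] :=
  eqM (by decide +kernel)

theorem phi_y3_X8 : W [.X8, .y3] = W [.y3, .Z1, .Z5, .Z9, .X8] :=
  eqM (by decide +kernel)

theorem phi_y3_X9 : W [.X9, .y3] = W [.y3, .Z0, .Z1, .Z8, .X9] :=
  eqM (by decide +kernel)

theorem phi_y3_X10 : W [.X10, .y3] = W [.y3, .Z1, .X2, .X10] :=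
  eqM (by decide +kernel)

theorem phi_y3_Z0 : W [.Z0, .y3] = W [.y3, .Z0] :=
  eqM (by decide +kernel)

theorem phi_y3_Z1 : W [.Z1, .y3] = W [.y3, .Z1] :=
  eqM (by decide +kernel)

theorem phi_y3_Z2 : W [.Z2, .y3] = W [.y3, .Z2, .Z10] :=
  eqM (by decide +kernel)

theorem phi_y3_Z3 : W [.Z3, .y3] = W [.y3, .Z3] :=
  eqM (by decide +kernel)

theorem phi_y3_Z4 : W [.Z4, .y3] = W [.y3, .Z4] :=
  eqM (by decide +kernel)

theorem phi_y3_Z5 : W [.Z5, .y3] = W [.y3, .Z5] :=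
  eqM (by decide +kernel)

theorem phi_y3_Z6 : W [.Z6, .y3] = W [.y3, .Z6] :=
  eqM (by decide +kernel)

theorem phi_y3_Z7 : W [.Z7, .y3] = W [.y3, .Z7] :=
  eqM (by decide +kernel)

theorem phi_y3_Z8 : W [.Z8, .y3] = W [.y3, .Z8] :=
  eqM (by decide +kernel)

theorem phi_y3_Z9 : W [.Z9, .y3] = W [.y3, .Z9] :=
  eqM (by decide +kernel)

theorem phi_y3_Z10 : W [.Z10, .y3] = W [.y3, .Z10] :=
  eqM (by decide +kernel)

theorem phi_y4_X0 : W [.X0, .y4] = W [.y4, .Z2, .Z5, .Z8, .Z9, .X0] :=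
  eqM (by decide +kernel)

theorem phi_y4_X1 : W [.X1, .y4] = W [.y4, .Z2, .Z4, .Z5, .X1] :=
  eqM (by decide +kernel)

theorem phi_y4_X2 : W [.X2, .y4] = W [.y4, .Z0, .Z1, .Z5, .Z7, .X2] :=
  eqM (by decide +kernel)

theorem phi_y4_X3 : W [.X3, .y4] = W [.y4, .X3] :=
  eqM (by decide +kernel)

theorem phi_y4_X4 : W [.X4, .y4] = W [.y4, .Z1, .Z5, .Z6, .Z9, .X4] :=
  eqM (by decide +kernel)

theorem phi_y4_X5 : W [.X5, .y4] = W [.y4, .Z0, .Z1, .Z2, .Z4, .Z6, .Z7, .Z8, .Z9, .X5, .z] :=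
  eqM (by decide +kernel)

theorem phi_y4_X6 : W [.X6, .y4] = W [.y4, .Z4, .Z5, .Z7, .Z8, .X6] :=
  eqM (by decide +kernel)

theorem phi_y4_X7 : W [.X7, .y4] = W [.y4, .Z2, .Z5, .Z6, .X7] :=
  eqM (by decide +kernel)

theorem phi_y4_X8 : W [.X8, .y4] = W [.y4, .Z0, .Z5, .Z6, .X8] :=
  eqM (by decide +kernel)

theorem phi_y4_X9 : W [.X9, .y4] = W [.y4, .Z0, .Z4, .Z5, .X9] :=
  eqM (by decide +kernel)

theorem phi_y4_X10 : W [.X10, .y4] = W [.y4, .X3, .X10] :=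
  eqM (by decide +kernel)

theorem phi_y4_Z0 : W [.Z0, .y4] = W [.y4, .Z0] :=
  eqM (by decide +kernel)

theorem phi_y4_Z1 : W [.Z1, .y4] = W [.y4, .Z1] :=
  eqM (by decide +kernel)

theorem phi_y4_Z2 : W [.Z2, .y4] = W [.y4, .Z2] :=
  eqM (by decide +kernel)

theorem phi_y4_Z3 : W [.Z3, .y4] = W [.y4, .Z3, .Z10] :=
  eqM (by decide +kernel)

theorem phi_y4_Z4 : W [.Z4, .y4] = W [.y4, .Z4] :=
  eqM (by decide +kernel)

theorem phi_y4_Z5 : W [.Z5, .y4] = W [.y4, .Z5] :=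
  eqM (by decide +kernel)

theorem phi_y4_Z6 : W [.Z6, .y4] = W [.y4, .Z6] :=
  eqM (by decide +kernel)

theorem phi_y4_Z7 : W [.Z7, .y4] = W [.y4, .Z7] :=
  eqM (by decide +kernel)

theorem phi_y4_Z8 : W [.Z8, .y4] = W [.y4, .Z8] :=
  eqM (by decide +kernel)

theorem phi_y4_Z9 : W [.Z9, .y4] = W [.y4, .Z9] :=
  eqM (by decide +kernel)

theorem phi_y4_Z10 : W [.Z10, .y4] = W [.y4, .Z10] :=
  eqM (by decide +kernel)

theorem phi_y5_X0 : W [.X0, .y5] = W [.y5, .Z2, .Z6, .Z9, .X0] :=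
  eqM (by decide +kernel)

theorem phi_y5_X1 : W [.X1, .y5] = W [.y5, .Z2, .Z3, .Z6, .Z7, .X1] :=
  eqM (by decide +kernel)

theorem phi_y5_X2 : W [.X2, .y5] = W [.y5, .Z0, .Z1, .Z6, .X2] :=
  eqM (by decide +kernel)

theorem phi_y5_X3 : W [.X3, .y5] = W [.y5, .Z1, .Z5, .Z6, .Z9, .X3] :=
  eqM (by decide +kernel)

theorem phi_y5_X4 : W [.X4, .y5] = W [.y5, .X4] :=
  eqM (by decide +kernel)

theorem phi_y5_X5 : W [.X5, .y5] = W [.y5, .Z3, .Z6, .X5] :=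
  eqM (by decide +kernel)

theorem phi_y5_X6 : W [.X6, .y5] = W [.y5, .Z0, .Z1, .Z2, .Z3, .Z5, .Z7, .Z8, .Z9, .X6, .z] :=
  eqM (by decide +kernel)

theorem phi_y5_X7 : W [.X7, .y5] = W [.y5, .Z1, .Z6, .Z8, .X7] :=
  eqM (by decide +kernel)

theorem phi_y5_X8 : W [.X8, .y5] = W [.y5, .Z6, .Z7, .Z9, .X8] :=
  eqM (by decide +kernel)

theorem phi_y5_X9 : W [.X9, .y5] = W [.y5, .Z0, .Z3, .Z6, .Z8, .X9] :=
  eqM (by decide +kernel)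

theorem phi_y5_X10 : W [.X10, .y5] = W [.y5, .X4, .X10] :=
  eqM (by decide +kernel)

theorem phi_y5_Z0 : W [.Z0, .y5] = W [.y5, .Z0] :=
  eqM (by decide +kernel)

theorem phi_y5_Z1 : W [.Z1, .y5] = W [.y5, .Z1] :=
  eqM (by decide +kernel)

theorem phi_y5_Z2 : W [.Z2, .y5] = W [.y5, .Z2] :=
  eqM (by decide +kernel)

theorem phi_y5_Z3 : W [.Z3, .y5] = W [.y5, .Z3] :=
  eqM (by decide +kernel)

theorem phi_y5_Z4 : W [.Z4, .y5] = W [.y5, .Z4, .Z10] :=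
  eqM (by decide +kernel)

theorem phi_y5_Z5 : W [.Z5, .y5] = W [.y5, .Z5] :=
  eqM (by decide +kernel)

theorem phi_y5_Z6 : W [.Z6, .y5] = W [.y5, .Z6] :=
  eqM (by decide +kernel)

theorem phi_y5_Z7 : W [.Z7, .y5] = W [.y5, .Z7] :=
  eqM (by decide +kernel)

theorem phi_y5_Z8 : W [.Z8, .y5] = W [.y5, .Z8] :=
  eqM (by decide +kernel)

theorem phi_y5_Z9 : W [.Z9, .y5] = W [.y5, .Z9] :=
  eqM (by decide +kernel)

theorem phi_y5_Z10 : W [.Z10, .y5] = W [.y5, .Z10] :=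
  eqM (by decide +kernel)

end Cfsg.Agent.BabyM.ConcPhi1
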