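/-
Conjugates of the Paulis under `y_6, …, y_10`: `W [q, y] = W (y :: v)`.
-/
import Cfsg.Agent.BabyM.ConcEq

set_option autoImplicit false

namespace Cfsg.Agent.BabyM.ConcPhi2

open Cfsg.Agent.BabyM.Conc Cfsg.Agent.BabyM.ConcEq

theorem phi_y6_X0 : W [.X0, .y6] = W [.y6, .Z3, .Z6, .Z7, .Z9, .X0] :=
  eqM (by decide +kernel)

theorem phi_y6_X1 : W [.X1, .y6] = W [.y6, .Z2, .Z3, .Z9, .X1] :=
  eqM (by decide +kernel)

theorem phi_y6_X2 : W [.X2, .y6] = W [.y6, .Z1, .Z3, .Z6, .Z8, .X2] :=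
  eqM (by decide +kernel)

theorem phi_y6_X3 : W [.X3, .y6] = W [.y6, .Z0, .Z1, .Z2, .Z4, .Z6, .Z7, .Z8, .Z9, .Z10, .X3, .z] :=
  eqM (by decide +kernel)

theorem phi_y6_X4 : W [.X4, .y6] = W [.y6, .Z3, .Z6, .X4] :=
  eqM (by decide +kernel)

theorem phi_y6_X5 : W [.X5, .y6] = W [.y6, .X5] :=
  eqM (by decide +kernel)

theorem phi_y6_X6 : W [.X6, .y6] = W [.y6, .Z0, .Z2, .Z3, .Z4, .X6] :=
  eqM (by decide +kernel)

theorem phi_y6_X7 : W [.X7, .y6] = W [.y6, .Z0, .Z3, .Z8, .X7] :=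
  eqM (by decide +kernel)

theorem phi_y6_X8 : W [.X8, .y6] = W [.y6, .Z2, .Z3, .Z7, .X8] :=
  eqM (by decide +kernel)

theorem phi_y6_X9 : W [.X9, .y6] = W [.y6, .Z0, .Z1, .Z3, .X9] :=
  eqM (by decide +kernel)

theorem phi_y6_X10 : W [.X10, .y6] = W [.y6, .Z3, .X5, .X10] :=
  eqM (by decide +kernel)

theorem phi_y6_Z0 : W [.Z0, .y6] = W [.y6, .Z0] :=
  eqM (by decide +kernel)

theorem phi_y6_Z1 : W [.Z1, .y6] = W [.y6, .Z1] :=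
  eqM (by decide +kernel)

theorem phi_y6_Z2 : W [.Z2, .y6] = W [.y6, .Z2] :=
  eqM (by decide +kernel)

theorem phi_y6_Z3 : W [.Z3, .y6] = W [.y6, .Z3] :=
  eqM (by decide +kernel)

theorem phi_y6_Z4 : W [.Z4, .y6] = W [.y6, .Z4] :=
  eqM (by decide +kernel)

theorem phi_y6_Z5 : W [.Z5, .y6] = W [.y6, .Z5, .Z10] :=
  eqM (by decide +kernel)

theorem phi_y6_Z6 : W [.Z6, .y6] = W [.y6, .Z6] :=
  eqM (by decide +kernel)

theorem phi_y6_Z7 : W [.Z7, .y6] = W [.y6, .Z7] :=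
  eqM (by decide +kernel)

theorem phi_y6_Z8 : W [.Z8, .y6] = W [.y6, .Z8] :=
  eqM (by decide +kernel)

theorem phi_y6_Z9 : W [.Z9, .y6] = W [.y6, .Z9] :=
  eqM (by decide +kernel)

theorem phi_y6_Z10 : W [.Z10, .y6] = W [.y6, .Z10] :=
  eqM (by decide +kernel)

theorem phi_y7_X0 : W [.X0, .y7] = W [.y7, .Z4, .Z5, .Z9, .X0] :=
  eqM (by decide +kernel)

theorem phi_y7_X1 : W [.X1, .y7] = W [.y7, .Z2, .Z4, .Z8, .Z9, .X1] :=
  eqM (by decide +kernel)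

theorem phi_y7_X2 : W [.X2, .y7] = W [.y7, .Z1, .Z4, .Z5, .X2] :=
  eqM (by decide +kernel)

theorem phi_y7_X3 : W [.X3, .y7] = W [.y7, .Z4, .Z5, .Z7, .Z8, .X3] :=
  eqM (by decide +kernel)

theorem phi_y7_X4 : W [.X4, .y7] = W [.y7, .Z0, .Z1, .Z2, .Z3, .Z5, .Z7, .Z8, .Z9, .Z10, .X4, .z] :=
  eqM (by decide +kernel)

theorem phi_y7_X5 : W [.X5, .y7] = W [.y7, .Z0, .Z2, .Z3, .Z4, .X5] :=
  eqM (by decide +kernel)

theorem phi_y7_X6 : W [.X6, .y7] = W [.y7, .X6] :=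
  eqM (by decide +kernel)

theorem phi_y7_X7 : W [.X7, .y7] = W [.y7, .Z3, .Z4, .Z9, .X7] :=
  eqM (by decide +kernel)

theorem phi_y7_X8 : W [.X8, .y7] = W [.y7, .Z1, .Z3, .Z4, .X8] :=
  eqM (by decide +kernel)

theorem phi_y7_X9 : W [.X9, .y7] = W [.y7, .Z0, .Z1, .Z4, .Z7, .X9] :=
  eqM (by decide +kernel)

theorem phi_y7_X10 : W [.X10, .y7] = W [.y7, .Z4, .X6, .X10] :=
  eqM (by decide +kernel)

theorem phi_y7_Z0 : W [.Z0, .y7] = W [.y7, .Z0] :=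
  eqM (by decide +kernel)

theorem phi_y7_Z1 : W [.Z1, .y7] = W [.y7, .Z1] :=
  eqM (by decide +kernel)

theorem phi_y7_Z2 : W [.Z2, .y7] = W [.y7, .Z2] :=
  eqM (by decide +kernel)

theorem phi_y7_Z3 : W [.Z3, .y7] = W [.y7, .Z3] :=
  eqM (by decide +kernel)

theorem phi_y7_Z4 : W [.Z4, .y7] = W [.y7, .Z4] :=
  eqM (by decide +kernel)

theorem phi_y7_Z5 : W [.Z5, .y7] = W [.y7, .Z5] :=
  eqM (by decide +kernel)

theorem phi_y7_Z6 : W [.Z6, .y7] = W [.y7, .Z6, .Z10] :=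
  eqM (by decide +kernel)

theorem phi_y7_Z7 : W [.Z7, .y7] = W [.y7, .Z7] :=
  eqM (by decide +kernel)

theorem phi_y7_Z8 : W [.Z8, .y7] = W [.y7, .Z8] :=
  eqM (by decide +kernel)

theorem phi_y7_Z9 : W [.Z9, .y7] = W [.y7, .Z9] :=
  eqM (by decide +kernel)

theorem phi_y7_Z10 : W [.Z10, .y7] = W [.y7, .Z10] :=
  eqM (by decide +kernel)

theorem phi_y8_X0 : W [.X0, .y8] = W [.y8, .Z1, .Z5, .Z9, .X0] :=
  eqM (by decide +kernel)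

theorem phi_y8_X1 : W [.X1, .y8] = W [.y8, .Z0, .Z2, .Z4, .X1] :=
  eqM (by decide +kernel)

theorem phi_y8_X2 : W [.X2, .y8] = W [.y8, .Z1, .Z3, .X2] :=
  eqM (by decide +kernel)

theorem phi_y8_X3 : W [.X3, .y8] = W [.y8, .Z2, .Z5, .Z6, .X3] :=
  eqM (by decide +kernel)

theorem phi_y8_X4 : W [.X4, .y8] = W [.y8, .Z1, .Z6, .Z8, .X4] :=
  eqM (by decide +kernel)

theorem phi_y8_X5 : W [.X5, .y8] = W [.y8, .Z0, .Z3, .Z8, .X5] :=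
  eqM (by decide +kernel)

theorem phi_y8_X6 : W [.X6, .y8] = W [.y8, .Z3, .Z4, .Z9, .X6] :=
  eqM (by decide +kernel)

theorem phi_y8_X7 : W [.X7, .y8] = W [.y8, .X7] :=
  eqM (by decide +kernel)

theorem phi_y8_X8 : W [.X8, .y8] = W [.y8, .Z4, .Z5, .X8] :=
  eqM (by decide +kernel)

theorem phi_y8_X9 : W [.X9, .y8] = W [.y8, .Z0, .Z6, .X9] :=
  eqM (by decide +kernel)

theorem phi_y8_X10 : W [.X10, .y8] = W [.y8, .X7, .X10] :=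
  eqM (by decide +kernel)

theorem phi_y8_Z0 : W [.Z0, .y8] = W [.y8, .Z0] :=
  eqM (by decide +kernel)

theorem phi_y8_Z1 : W [.Z1, .y8] = W [.y8, .Z1] :=
  eqM (by decide +kernel)

theorem phi_y8_Z2 : W [.Z2, .y8] = W [.y8, .Z2] :=
  eqM (by decide +kernel)

theorem phi_y8_Z3 : W [.Z3, .y8] = W [.y8, .Z3] :=
  eqM (by decide +kernel)

theorem phi_y8_Z4 : W [.Z4, .y8] = W [.y8, .Z4] :=
  eqM (by decide +kernel)

theorem phi_y8_Z5 : W [.Z5, .y8] = W [.y8, .Z5] :=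
  eqM (by decide +kernel)

theorem phi_y8_Z6 : W [.Z6, .y8] = W [.y8, .Z6] :=
  eqM (by decide +kernel)

theorem phi_y8_Z7 : W [.Z7, .y8] = W [.y8, .Z7, .Z10] :=
  eqM (by decide +kernel)

theorem phi_y8_Z8 : W [.Z8, .y8] = W [.y8, .Z8] :=
  eqM (by decide +kernel)

theorem phi_y8_Z9 : W [.Z9, .y8] = W [.y8, .Z9] :=
  eqM (by decide +kernel)

theorem phi_y8_Z10 : W [.Z10, .y8] = W [.y8, .Z10] :=
  eqM (by decide +kernel)

theorem phi_y9_X0 : W [.X0, .y9] = W [.y9, .Z3, .Z9, .X0] :=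
  eqM (by decide +kernel)

theorem phi_y9_X1 : W [.X1, .y9] = W [.y9, .Z2, .Z6, .X1] :=
  eqM (by decide +kernel)

theorem phi_y9_X2 : W [.X2, .y9] = W [.y9, .Z1, .Z5, .Z9, .X2] :=
  eqM (by decide +kernel)

theorem phi_y9_X3 : W [.X3, .y9] = W [.y9, .Z0, .Z5, .Z6, .X3] :=
  eqM (by decide +kernel)

theorem phi_y9_X4 : W [.X4, .y9] = W [.y9, .Z6, .Z7, .Z9, .X4] :=
  eqM (by decide +kernel)

theorem phi_y9_X5 : W [.X5, .y9] = W [.y9, .Z2, .Z3, .Z7, .X5] :=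
  eqM (by decide +kernel)

theorem phi_y9_X6 : W [.X6, .y9] = W [.y9, .Z1, .Z3, .Z4, .X6] :=
  eqM (by decide +kernel)

theorem phi_y9_X7 : W [.X7, .y9] = W [.y9, .Z4, .Z5, .X7] :=
  eqM (by decide +kernel)

theorem phi_y9_X8 : W [.X8, .y9] = W [.y9, .X8] :=
  eqM (by decide +kernel)

theorem phi_y9_X9 : W [.X9, .y9] = W [.y9, .Z0, .Z2, .Z4, .X9] :=
  eqM (by decide +kernel)

theorem phi_y9_X10 : W [.X10, .y9] = W [.y9, .X8, .X10] :=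
  eqM (by decide +kernel)

theorem phi_y9_Z0 : W [.Z0, .y9] = W [.y9, .Z0] :=
  eqM (by decide +kernel)

theorem phi_y9_Z1 : W [.Z1, .y9] = W [.y9, .Z1] :=
  eqM (by decide +kernel)

theorem phi_y9_Z2 : W [.Z2, .y9] = W [.y9, .Z2] :=
  eqM (by decide +kernel)

theorem phi_y9_Z3 : W [.Z3, .y9] = W [.y9, .Z3] :=
  eqM (by decide +kernel)

theorem phi_y9_Z4 : W [.Z4, .y9] = W [.y9, .Z4] :=
  eqM (by decide +kernel)

theorem phi_y9_Z5 : W [.Z5, .y9] = W [.y9, .Z5] :=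
  eqM (by decide +kernel)

theorem phi_y9_Z6 : W [.Z6, .y9] = W [.y9, .Z6] :=
  eqM (by decide +kernel)

theorem phi_y9_Z7 : W [.Z7, .y9] = W [.y9, .Z7] :=
  eqM (by decide +kernel)

theorem phi_y9_Z8 : W [.Z8, .y9] = W [.y9, .Z8, .Z10] :=
  eqM (by decide +kernel)

theorem phi_y9_Z9 : W [.Z9, .y9] = W [.y9, .Z9] :=
  eqM (by decide +kernel)

theorem phi_y9_Z10 : W [.Z10, .y9] = W [.y9, .Z10] :=
  eqM (by decide +kernel)

theorem phi_y10_X0 : W [.X0, .y10] = W [.y10, .Z1, .Z2, .Z3, .Z4, .Z5, .Z6, .Z7, .Z8, .Z10, .X0, .z] :=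
  eqM (by decide +kernel)

theorem phi_y10_X1 : W [.X1, .y10] = W [.y10, .Z0, .Z2, .Z5, .Z6, .X1] :=
  eqM (by decide +kernel)

theorem phi_y10_X2 : W [.X2, .y10] = W [.y10, .Z0, .Z1, .Z8, .X2] :=
  eqM (by decide +kernel)

theorem phi_y10_X3 : W [.X3, .y10] = W [.y10, .Z0, .Z4, .Z5, .X3] :=
  eqM (by decide +kernel)

theorem phi_y10_X4 : W [.X4, .y10] = W [.y10, .Z0, .Z3, .Z6, .Z8, .X4] :=
  eqM (by decide +kernel)

theorem phi_y10_X5 : W [.X5, .y10] = W [.y10, .Z0, .Z1, .Z3, .X5] :=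
  eqM (by decide +kernel)

theorem phi_y10_X6 : W [.X6, .y10] = W [.y10, .Z0, .Z1, .Z4, .Z7, .X6] :=
  eqM (by decide +kernel)

theorem phi_y10_X7 : W [.X7, .y10] = W [.y10, .Z0, .Z6, .X7] :=
  eqM (by decide +kernel)

theorem phi_y10_X8 : W [.X8, .y10] = W [.y10, .Z0, .Z2, .Z4, .X8] :=
  eqM (by decide +kernel)

theorem phi_y10_X9 : W [.X9, .y10] = W [.y10, .X9] :=
  eqM (by decide +kernel)

theorem phi_y10_X10 : W [.X10, .y10] = W [.y10, .Z0, .X9, .X10] :=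
  eqM (by decide +kernel)

theorem phi_y10_Z0 : W [.Z0, .y10] = W [.y10, .Z0] :=
  eqM (by decide +kernel)

theorem phi_y10_Z1 : W [.Z1, .y10] = W [.y10, .Z1] :=
  eqM (by decide +kernel)

theorem phi_y10_Z2 : W [.Z2, .y10] = W [.y10, .Z2] :=
  eqM (by decide +kernel)

theorem phi_y10_Z3 : W [.Z3, .y10] = W [.y10, .Z3] :=
  eqM (by decide +kernel)

theorem phi_y10_Z4 : W [.Z4, .y10] = W [.y10, .Z4] :=
  eqM (by decide +kernel)

theorem phi_y10_Z5 : W [.Z5, .y10] = W [.y10, .Z5] :=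
  eqM (by decide +kernel)

theorem phi_y10_Z6 : W [.Z6, .y10] = W [.y10, .Z6] :=
  eqM (by decide +kernel)

theorem phi_y10_Z7 : W [.Z7, .y10] = W [.y10, .Z7] :=
  eqM (by decide +kernel)

theorem phi_y10_Z8 : W [.Z8, .y10] = W [.y10, .Z8] :=
  eqM (by decide +kernel)

theorem phi_y10_Z9 : W [.Z9, .y10] = W [.y10, .Z9, .Z10] :=
  eqM (by decide +kernel)

theorem phi_y10_Z10 : W [.Z10, .y10] = W [.y10, .Z10] :=
  eqM (by decide +kernel)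

end Cfsg.Agent.BabyM.ConcPhi2
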