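/-
Conjugates of the Paulis under `p`, `h`: `W [q, l] = W (l :: v)`.
-/
import Cfsg.Agent.BabyM.ConcEq

set_option autoImplicit false

namespace Cfsg.Agent.BabyM.ConcPhi3

open Cfsg.Agent.BabyM.Conc Cfsg.Agent.BabyM.ConcEq

theorem phi_p_X0 : W [.X0, .p] = W [.p, .Z4, .Z5, .X3, .X9] :=
  eqM (by decide +kernel)

theorem phi_p_X1 : W [.X1, .p] = W [.p, .Z3, .X5] :=
  eqM (by decide +kernel)

theorem phi_p_X2 : W [.X2, .p] = W [.p, .Z1, .Z5, .Z6, .Z7, .Z8, .X1, .X3, .X7, .X9] :=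
  eqM (by decide +kernel)

theorem phi_p_X3 : W [.X3, .p] = W [.p, .Z0, .Z3, .Z4, .Z5, .Z7, .Z8, .X1, .X3, .X5, .X9] :=
  eqM (by decide +kernel)

theorem phi_p_X4 : W [.X4, .p] = W [.p, .Z1, .Z3, .Z6, .Z8, .X5, .X7, .X9] :=
  eqM (by decide +kernel)

theorem phi_p_X5 : W [.X5, .p] = W [.p, .Z3, .Z4, .Z5, .Z7, .Z9, .X0, .X3, .X7] :=
  eqM (by decide +kernel)

theorem phi_p_X6 : W [.X6, .p] = W [.p, .Z3, .Z5, .Z6, .Z7, .X1, .X2, .X3, .X5] :=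
  eqM (by decide +kernel)

theorem phi_p_X7 : W [.X7, .p] = W [.p, .Z0, .Z1, .Z3, .Z4, .Z5, .Z8, .Z9, .X1, .X3, .X4, .X5, .X7] :=
  eqM (by decide +kernel)

theorem phi_p_X8 : W [.X8, .p] = W [.p, .Z1, .Z2, .Z3, .Z4, .Z5, .Z6, .Z7, .Z8, .X3, .X5, .X6, .X7, .X9] :=
  eqM (by decide +kernel)

theorem phi_p_X9 : W [.X9, .p] = W [.p, .Z4, .Z7, .Z9, .X1, .X5, .X7, .X8, .X9] :=
  eqM (by decide +kernel)

theorem phi_p_X10 : W [.X10, .p] = W [.p, .X10] :=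
  eqM (by decide +kernel)

theorem phi_p_Z0 : W [.Z0, .p] = W [.p, .Z0, .Z1, .Z3, .Z6, .Z8] :=
  eqM (by decide +kernel)

theorem phi_p_Z1 : W [.Z1, .p] = W [.p, .Z0, .Z1, .Z4, .Z5, .Z7, .Z8] :=
  eqM (by decide +kernel)

theorem phi_p_Z2 : W [.Z2, .p] = W [.p, .Z2, .Z3, .Z6, .Z7, .Z9] :=
  eqM (by decide +kernel)

theorem phi_p_Z3 : W [.Z3, .p] = W [.p, .Z1, .Z3, .Z4, .Z6, .Z7, .Z8, .Z9] :=
  eqM (by decide +kernel)

theorem phi_p_Z4 : W [.Z4, .p] = W [.p, .Z0, .Z2, .Z3, .Z4, .Z8, .Z9] :=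
  eqM (by decide +kernel)

theorem phi_p_Z5 : W [.Z5, .p] = W [.p, .Z0] :=
  eqM (by decide +kernel)

theorem phi_p_Z6 : W [.Z6, .p] = W [.p, .Z2] :=
  eqM (by decide +kernel)

theorem phi_p_Z7 : W [.Z7, .p] = W [.p, .Z4] :=
  eqM (by decide +kernel)

theorem phi_p_Z8 : W [.Z8, .p] = W [.p, .Z6] :=
  eqM (by decide +kernel)

theorem phi_p_Z9 : W [.Z9, .p] = W [.p, .Z8] :=
  eqM (by decide +kernel)

theorem phi_p_Z10 : W [.Z10, .p] = W [.p, .Z10] :=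
  eqM (by decide +kernel)

theorem phi_h_X0 : W [.X0, .h] = W [.h, .X0] :=
  eqM (by decide +kernel)

theorem phi_h_X1 : W [.X1, .h] = W [.h, .X1] :=
  eqM (by decide +kernel)

theorem phi_h_X2 : W [.X2, .h] = W [.h, .Z3, .Z4, .Z6, .Z7, .Z8, .Z9, .X2] :=
  eqM (by decide +kernel)

theorem phi_h_X3 : W [.X3, .h] = W [.h, .Z2, .Z5, .Z6, .Z7, .Z8, .Z9, .X1, .X2, .X7] :=
  eqM (by decide +kernel)

theorem phi_h_X4 : W [.X4, .h] = W [.h, .Z2, .Z6, .X1, .X8] :=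
  eqM (by decide +kernel)

theorem phi_h_X5 : W [.X5, .h] = W [.h, .Z3, .Z7, .X5] :=
  eqM (by decide +kernel)

theorem phi_h_X6 : W [.X6, .h] = W [.h, .Z2, .Z3, .Z4, .Z7, .Z8, .Z9, .X1, .X2, .X9] :=
  eqM (by decide +kernel)

theorem phi_h_X7 : W [.X7, .h] = W [.h, .Z2, .Z3, .Z5, .Z6, .Z8, .Z9, .X1, .X2, .X3] :=
  eqM (by decide +kernel)

theorem phi_h_X8 : W [.X8, .h] = W [.h, .Z2, .Z3, .Z6, .Z7, .X1, .X4] :=
  eqM (by decide +kernel)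

theorem phi_h_X9 : W [.X9, .h] = W [.h, .Z2, .Z3, .Z6, .Z7, .X1, .X2, .X6] :=
  eqM (by decide +kernel)

theorem phi_h_X10 : W [.X10, .h] = W [.h, .X10] :=
  eqM (by decide +kernel)

theorem phi_h_Z0 : W [.Z0, .h] = W [.h, .Z0] :=
  eqM (by decide +kernel)

theorem phi_h_Z1 : W [.Z1, .h] = W [.h, .Z1, .Z3, .Z4, .Z6, .Z7, .Z8, .Z9] :=
  eqM (by decide +kernel)

theorem phi_h_Z2 : W [.Z2, .h] = W [.h, .Z2, .Z3, .Z6, .Z7, .Z9] :=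
  eqM (by decide +kernel)

theorem phi_h_Z3 : W [.Z3, .h] = W [.h, .Z7] :=
  eqM (by decide +kernel)

theorem phi_h_Z4 : W [.Z4, .h] = W [.h, .Z8] :=
  eqM (by decide +kernel)

theorem phi_h_Z5 : W [.Z5, .h] = W [.h, .Z5] :=
  eqM (by decide +kernel)

theorem phi_h_Z6 : W [.Z6, .h] = W [.h, .Z9] :=
  eqM (by decide +kernel)

theorem phi_h_Z7 : W [.Z7, .h] = W [.h, .Z3] :=
  eqM (by decide +kernel)

theorem phi_h_Z8 : W [.Z8, .h] = W [.h, .Z4] :=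
  eqM (by decide +kernel)

theorem phi_h_Z9 : W [.Z9, .h] = W [.h, .Z6] :=
  eqM (by decide +kernel)

theorem phi_h_Z10 : W [.Z10, .h] = W [.h, .Z10] :=
  eqM (by decide +kernel)

end Cfsg.Agent.BabyM.ConcPhi3
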