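import Cfsg.Agent.BabyM.RigidField
import Cfsg.Agent.SporadicStructure.OrthPairs

/-!
# The design property of the 4600 vectors, and a generation lemma

`∑_{r ∈ RR l} (2 r - l, x) (2 r - l) = 600 (32 x - (x, l) l)` for all `x` in the Leech lattice.
-/

set_option autoImplicit false

namespace Cfsg.Agent.BabyM.Design

open Cfsg Cfsg.Agent.Leech.Code Cfsg.Agent.Leech.Basic Cfsg.Agent.Leech.Min
open Cfsg.Agent.SporadicA Cfsg.Agent.Leech.Co0Elts
open Cfsg.Agent.BabyM.Rigid23 Cfsg.Agent.BabyM.Rigid23Main Cfsg.Agent.BabyM.Rigid23Thm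
  Cfsg.Agent.BabyM.RigidField

/-! ### The finset of the 4600 vectors -/

theorem finite_RR (l : leechLattice) (hl : sqNorm (l : GolayPt → ℤ) = 32) :
    {r : leechLattice | (r : GolayPt → ℤ) ∈ RR l}.Finite := by
  have h : (RR (l : GolayPt → ℤ)).Finite :=
    Set.finite_of_ncard_ne_zero (by rw [card_RR l hl]; decide)
  exact h.preimage (Subtype.val_injective.injOn)

/-- The finset of the 4600 vectors. -/
noncomputable def RF (l : leechLattice) (hl : sqNorm (l : GolayPt → ℤ) = 32) : Finset leechLattice :=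
  (finite_RR l hl).toFinset

theorem mem_RF {l : leechLattice} {hl : sqNorm (l : GolayPt → ℤ) = 32} {r : leechLattice} :
    r ∈ RF l hl ↔ (r : GolayPt → ℤ) ∈ RR l := by
  unfold RF
  rw [Set.Finite.mem_toFinset]
  rfl

theorem card_RF (l : leechLattice) (hl : sqNorm (l : GolayPt → ℤ) = 32) : (RF l hl).card = 4600 := by
  have h : RR (l : GolayPt → ℤ) = Subtype.val '' {r : leechLattice | (r : GolayPt → ℤ) ∈ RR l} := by
    ext x
    constructor
    · intro hx; exact ⟨⟨x, hx.1⟩, hx, rfl⟩
    · rintro ⟨r, hr, rfl⟩; exact hr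
  have h2 := card_RR l hl
  rw [h, Set.ncard_image_of_injective _ Subtype.val_injective,
    Set.ncard_eq_toFinset_card _ (finite_RR l hl)] at h2
  exact h2

/-- The vector `2 r - l`. -/
def vv (l r : leechLattice) : leechLattice := r + r - l

theorem vv_coe (l r : leechLattice) : ((vv l r : leechLattice) : GolayPt → ℤ) =
    (r : GolayPt → ℤ) + r - l := by
  unfold vv
  rw [AddSubgroup.coe_sub, AddSubgroup.coe_add]

theorem smul_sub_co0 (g : ↥Co0) (v w : leechLattice) : g • (v - w) = g • v - g • w := by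
  rw [sub_eq_add_neg, smul_add_co0, smul_neg_co0, ← sub_eq_add_neg]

theorem smul_vv (g : ↥Co0) (l r : leechLattice) : g • vv l r = vv (g • l) (g • r) := by
  unfold vv
  rw [smul_sub_co0, smul_add_co0]

/-- `Co0` acts by additive maps. -/
def act (g : ↥Co0) : leechLattice →+ leechLattice where
  toFun := fun x => g • x
  map_zero' := Cfsg.Agent.Leech.Trans.smul_zero_co0 g
  map_add' := smul_add_co0 g

theorem act_apply (g : ↥Co0) (x : leechLattice) : act g x = g • x := rfl

/-- `T x = ∑ (2 r - l, x) (2 r - l)`. -/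
noncomputable def T (l : leechLattice) (hl : sqNorm (l : GolayPt → ℤ) = 32) (x : GolayPt → ℤ) :
    leechLattice :=
  ∑ r ∈ RF l hl, dotInt (vv l r : leechLattice) x • vv l r

theorem T_coe (l : leechLattice) (hl : sqNorm (l : GolayPt → ℤ) = 32) (x : GolayPt → ℤ)
    (i : GolayPt) : ((T l hl x : leechLattice) : GolayPt → ℤ) i =
      ∑ r ∈ RF l hl, dotInt (vv l r : leechLattice) x * ((vv l r : leechLattice) : GolayPt → ℤ) i := by
  unfold T
  rw [AddSubgroup.val_finsetSum, Finset.sum_apply]
  refine Finset.sum_congr rfl fun r _ => ?_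
  rw [AddSubgroup.coe_zsmul, Pi.smul_apply, smul_eq_mul]

theorem dotInt_T (l : leechLattice) (hl : sqNorm (l : GolayPt → ℤ) = 32) (x y : GolayPt → ℤ) :
    dotInt (T l hl x : leechLattice) y =
      ∑ r ∈ RF l hl, dotInt (vv l r : leechLattice) x * dotInt (vv l r : leechLattice) y := by
  unfold dotInt
  have h1 : ∀ i, ((T l hl x : leechLattice) : GolayPt → ℤ) i * y i =
      ∑ r ∈ RF l hl, dotInt (vv l r : leechLattice) x *
        (((vv l r : leechLattice) : GolayPt → ℤ) i * y i) := by
    intro i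
    rw [T_coe, Finset.sum_mul]
    exact Finset.sum_congr rfl fun r _ => by ring
  rw [Finset.sum_congr rfl fun i _ => h1 i, Finset.sum_comm]
  refine Finset.sum_congr rfl fun r _ => ?_
  rw [← Finset.mul_sum]
  rfl

theorem T_symm (l : leechLattice) (hl : sqNorm (l : GolayPt → ℤ) = 32) (x y : GolayPt → ℤ) :
    dotInt (T l hl x : leechLattice) y = dotInt x (T l hl y : leechLattice) := by
  rw [dotInt_comm x, dotInt_T, dotInt_T]
  exact Finset.sum_congr rfl fun r _ => by ring

theorem dotInt_vv_l {l r : leechLattice} (hl : sqNorm (l : GolayPt → ℤ) = 32)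
    (hr : (r : GolayPt → ℤ) ∈ RR l) : dotInt (vv l r : leechLattice) (l : GolayPt → ℤ) = 0 := by
  rw [vv_coe, dotInt_sub_left, dotInt_add_left, hr.2.2, dotInt_self, hl]
  norm_num

theorem T_l (l : leechLattice) (hl : sqNorm (l : GolayPt → ℤ) = 32) : T l hl l = 0 := by
  unfold T
  refine Finset.sum_eq_zero fun r hr => ?_
  rw [dotInt_vv_l hl (mem_RF.1 hr), zero_smul]

theorem sqNorm_vv {l r : leechLattice} (hl : sqNorm (l : GolayPt → ℤ) = 32)
    (hr : (r : GolayPt → ℤ) ∈ RR l) : sqNorm ((vv l r : leechLattice) : GolayPt → ℤ) = 96 := by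
  rw [vv_coe, sqNorm_sub, sqNorm_add, dotInt_add_left, hr.2.1, hr.2.2, dotInt_self, hr.2.1, hl]
  norm_num

/-- `T` commutes with the stabiliser of `l`; more generally, transport of structure. -/
theorem T_smul (g : ↥Co0) (l m : leechLattice) (hl : sqNorm (l : GolayPt → ℤ) = 32)
    (hm : sqNorm (m : GolayPt → ℤ) = 32) (hg : g • l = m) (x : leechLattice) :
    T m hm ((g • x : leechLattice) : GolayPt → ℤ) = g • T l hl x := by
  have hg' : g⁻¹ • m = l := by rw [← hg, inv_smul_smul]
  have hmem : ∀ {g : ↥Co0} {l m r : leechLattice}, g • l = m → (r : GolayPt → ℤ) ∈ RR l →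
      ((g • r : leechLattice) : GolayPt → ℤ) ∈ RR m := by
    intro g l m r hg hr
    refine ⟨(g • r).2, ?_, ?_⟩
    · rw [sqNorm_smul]; exact hr.2.1
    · have := dotInt_smul g r l
      rw [hg] at this
      rw [this]; exact hr.2.2
  show T m hm ((g • x : leechLattice) : GolayPt → ℤ) = act g (T l hl x)
  unfold T
  rw [map_sum]
  refine Finset.sum_bij' (fun r _ => g⁻¹ • r) (fun r _ => g • r)
    (fun r hr => mem_RF.2 (hmem hg' (mem_RF.1 hr))) (fun r hr => mem_RF.2 (hmem hg (mem_RF.1 hr)))
    (fun r _ => smul_inv_smul _ _) (fun r _ => inv_smul_smul _ _) (fun r hr => ?_)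
  rw [map_zsmul, act_apply, smul_vv, smul_inv_smul, hg]
  congr 1
  have := dotInt_smul g (vv l (g⁻¹ • r)) x
  rw [← this, smul_vv, smul_inv_smul, hg]

/-! ### Computation for `u = (4, 4, 0, …)` -/

/-- `(4, 4, 0, …)` in the lattice -/
abbrev U : leechLattice := Spor.leechU

/-- `(4, -4, 0, …)` in the lattice -/
abbrev U' : leechLattice := Spor.leechU'

theorem hU : sqNorm ((U : leechLattice) : GolayPt → ℤ) = 32 := sqNorm_u

theorem U_coe : ((U : leechLattice) : GolayPt → ℤ) = e none 4 + e (some 0) 4 := by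
  funext i
  show u i = _
  rw [u_apply, Pi.add_apply, e_apply, e_apply]
  by_cases h1 : i = none
  · subst h1; simp
  · by_cases h2 : i = some 0
    · subst h2; simp
    · simp [h1, h2]

theorem U'_coe : ((U' : leechLattice) : GolayPt → ℤ) = e none 4 + e (some 0) (-4) := by
  funext i
  show Spor.vecU' i = _
  unfold Spor.vecU'
  rw [Pi.add_apply, e_apply, e_apply]
  by_cases h1 : i = none
  · subst h1; simp
  · by_cases h2 : i = some 0
    · subst h2; simp
    · simp [h1, h2]

theorem U_apply (i : GolayPt) : ((U : leechLattice) : GolayPt → ℤ) i = e none 4 i + e (some 0) 4 i :=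
  congrFun U_coe i

theorem U'_apply (i : GolayPt) :
    ((U' : leechLattice) : GolayPt → ℤ) i = e none 4 i + e (some 0) (-4) i :=
  congrFun U'_coe i

theorem hU' : sqNorm ((U' : leechLattice) : GolayPt → ℤ) = 32 := by
  rw [U'_coe]
  exact sqNorm_of_type4 (type4_e none_ne (Or.inl rfl) (Or.inr rfl))

theorem dot_UU' : dotInt ((U : leechLattice) : GolayPt → ℤ) (U' : leechLattice) = 0 := by
  rw [dotInt_comm]
  show dotInt _ u = 0
  rw [dotInt_u, U'_coe]
  simp [e_apply]

/-- the components of `T U'` outside the two points vanish -/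
theorem T_U'_apply {j : GolayPt} (h1 : j ≠ none) (h2 : j ≠ some 0) :
    ((T U hU U' : leechLattice) : GolayPt → ℤ) j = 0 := by
  obtain ⟨A, hA, hj, hA'⟩ := Cfsg.Agent.Leech.Trans.exists_word j {none, some 0}
    (le_trans (Finset.card_le_two) (by norm_num)) (by
      rw [Finset.mem_insert, Finset.mem_singleton]; tauto)
  have hn : none ∉ A := hA' none (Finset.mem_insert_self _ _)
  have h0 : some 0 ∉ A := hA' (some 0) (by simp)
  have hs : ∀ i ∈ A, i ≠ none ∧ i ≠ some 0 := by
    intro i hi
    constructor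
    · rintro rfl; exact hn hi
    · rintro rfl; exact h0 hi
  have hU1 : sgn A hA • (U : leechLattice) = U := by
    apply Subtype.ext
    rw [sgn_coe]
    funext i
    rw [sgnMap_apply]
    split_ifs with hi
    · obtain ⟨h3, h4⟩ := hs i hi
      rw [U_coe, Pi.add_apply, e_apply, e_apply, if_neg h3, if_neg h4]; norm_num
    · rfl
  have hU2 : sgn A hA • (U' : leechLattice) = U' := by
    apply Subtype.ext
    rw [sgn_coe]
    funext i
    rw [sgnMap_apply]
    split_ifs with hi
    · obtain ⟨h3, h4⟩ := hs i hi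
      rw [U'_coe, Pi.add_apply, e_apply, e_apply, if_neg h3, if_neg h4]; norm_num
    · rfl
  have h3 := T_smul (sgn A hA) U U hU hU hU1 U'
  rw [hU2] at h3
  have h4 := congrArg (fun x : leechLattice => (x : GolayPt → ℤ) j) h3
  simp only [sgn_coe, sgnMap_apply, if_pos hj] at h4
  omega

/-- the eigenvalue (times 4) -/
noncomputable def α : ℤ := ((T U hU U' : leechLattice) : GolayPt → ℤ) none

theorem T_U'_zero : ((T U hU U' : leechLattice) : GolayPt → ℤ) (some 0) = -α := by
  have h1 := T_symm U hU (U' : leechLattice) (U : leechLattice)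
  rw [T_l] at h1
  have h2 : dotInt ((T U hU U' : leechLattice) : GolayPt → ℤ) u = 0 := by
    refine h1.trans ?_
    unfold dotInt
    simp
  rw [dotInt_u] at h2
  unfold α
  omega

theorem four_T_U' : (4 : ℤ) • T U hU U' = α • (U' : leechLattice) := by
  apply Subtype.ext
  funext i
  rw [AddSubgroup.coe_zsmul, AddSubgroup.coe_zsmul, Pi.smul_apply, Pi.smul_apply, smul_eq_mul,
    smul_eq_mul, U'_apply, e_apply, e_apply]
  by_cases h1 : i = none
  · subst h1
    rw [if_pos rfl, if_neg none_ne]
    unfold α; ring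
  · by_cases h2 : i = some 0
    · subst h2
      rw [if_neg h1, if_pos rfl, T_U'_zero]; ring
    · rw [if_neg h1, if_neg h2, T_U'_apply h1 h2]; ring

theorem act_zsmul (g : ↥Co0) (n : ℤ) (x : leechLattice) : g • (n • x) = n • (g • x) := by
  rw [← act_apply, map_zsmul, act_apply]

theorem four_T_orth (w : leechLattice) (hw : sqNorm (w : GolayPt → ℤ) = 32)
    (hd : dotInt ((U : leechLattice) : GolayPt → ℤ) w = 0) : (4 : ℤ) • T U hU w = α • w := by
  obtain ⟨g, h1, h2⟩ := Cfsg.Agent.SporadicStructure.OrthPairs.co0_orth_pair_trans U U' U w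
    hU hU' hU hw dot_UU' hd
  have h1' : g • (U : leechLattice) = U := h1
  have h2' : g • (U' : leechLattice) = w := h2
  have h3 := T_smul g U U hU hU h1' U'
  rw [h2'] at h3
  rw [h3, ← act_zsmul, four_T_U', act_zsmul, h2']

theorem T_add (x y : GolayPt → ℤ) : T U hU (x + y) = T U hU x + T U hU y := by
  unfold T
  rw [← Finset.sum_add_distrib]
  exact Finset.sum_congr rfl fun r _ => by rw [dotInt_add_right, add_smul]

theorem dotInt_zsmul_right (k : ℤ) (x y : GolayPt → ℤ) : dotInt x (k • y) = k * dotInt x y := by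
  rw [dotInt_comm, dotInt_zsmul_left, dotInt_comm]

theorem T_zsmul (n : ℤ) (x : GolayPt → ℤ) : T U hU (n • x) = n • T U hU x := by
  unfold T
  rw [Finset.smul_sum]
  exact Finset.sum_congr rfl fun r _ => by rw [dotInt_zsmul_right, mul_smul]

theorem exists_other (j : GolayPt) : ∃ k : GolayPt, k ≠ none ∧ k ≠ some 0 ∧ k ≠ j := by
  obtain ⟨k, hk⟩ := Cfsg.Agent.Leech.Trans.exists_notMem {none, some 0, j}
    (lt_of_le_of_lt Finset.card_le_three (by norm_num))
  simp only [Finset.mem_insert, Finset.mem_singleton, not_or] at hk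
  exact ⟨k, hk⟩

theorem dotInt_UL (x : GolayPt → ℤ) :
    dotInt ((U : leechLattice) : GolayPt → ℤ) x = 4 * (x none + x (some 0)) := by
  rw [dotInt_comm]; exact dotInt_u x

theorem T_e_apply {j : GolayPt} (h1 : j ≠ none) (h2 : j ≠ some 0) (i : GolayPt) :
    4 * ((T U hU (e j 1) : leechLattice) : GolayPt → ℤ) i = α * e j 1 i := by
  obtain ⟨k, hk1, hk2, hkj⟩ := exists_other j
  have ha := type4_e hkj.symm (Or.inl rfl : (4 : ℤ) = 4 ∨ (4 : ℤ) = -4) (Or.inl rfl : (4 : ℤ) = 4 ∨ (4 : ℤ) = -4)
  have hb := type4_e hkj.symm (Or.inl rfl : (4 : ℤ) = 4 ∨ (4 : ℤ) = -4) (Or.inr rfl : (-4 : ℤ) = 4 ∨ (-4 : ℤ) = -4)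
  have h3 := four_T_orth ⟨_, (isLeech_of_type4 ha).mem⟩ (sqNorm_of_type4 ha) (by
    rw [dotInt_UL]
    show 4 * ((e j 4 + e k 4) none + (e j 4 + e k 4) (some 0)) = 0
    rw [Pi.add_apply, Pi.add_apply, e_apply, e_apply, e_apply, e_apply, if_neg h1.symm,
      if_neg h2.symm, if_neg hk1.symm, if_neg hk2.symm]
    norm_num)
  have h4 := four_T_orth ⟨_, (isLeech_of_type4 hb).mem⟩ (sqNorm_of_type4 hb) (by
    rw [dotInt_UL]
    show 4 * ((e j 4 + e k (-4)) none + (e j 4 + e k (-4)) (some 0)) = 0
    rw [Pi.add_apply, Pi.add_apply, e_apply, e_apply, e_apply, e_apply, if_neg h1.symm,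
      if_neg h2.symm, if_neg hk1.symm, if_neg hk2.symm]
    norm_num)
  have h5 : (4 : ℤ) • T U hU (e j 4 + e k 4) + (4 : ℤ) • T U hU (e j 4 + e k (-4)) =
      (4 : ℤ) • (8 : ℤ) • T U hU (e j 1) := by
    rw [← smul_add, ← T_add]
    congr 1
    rw [← T_zsmul]
    congr 1
    funext m
    simp only [Pi.add_apply, Pi.smul_apply, e_apply, smul_eq_mul]
    split_ifs <;> norm_num
  have h6 := congrArg (fun x : leechLattice => (x : GolayPt → ℤ) i) h5
  have h7 := congrArg (fun x : leechLattice => (x : GolayPt → ℤ) i) h3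
  have h8 := congrArg (fun x : leechLattice => (x : GolayPt → ℤ) i) h4
  simp only [AddSubgroup.coe_add, AddSubgroup.coe_zsmul, Pi.add_apply, Pi.smul_apply,
    smul_eq_mul] at h6 h7 h8
  have h9 : e k (-4) i = - e k 4 i := by rw [e_apply, e_apply]; split_ifs <;> norm_num
  have h10 : e j 4 i = 4 * e j 1 i := by rw [e_apply, e_apply]; split_ifs <;> norm_num
  rw [h9] at h8
  rw [h10] at h7 h8
  have h11 : α * (4 * e j 1 i + e k 4 i) + α * (4 * e j 1 i + -e k 4 i) = 8 * (α * e j 1 i) := by ring
  omega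

theorem T_e_none (i : GolayPt) :
    8 * ((T U hU (e none 1) : leechLattice) : GolayPt → ℤ) i =
      ((T U hU U' : leechLattice) : GolayPt → ℤ) i := by
  have h1 : T U hU (U : leechLattice) + T U hU U' = (8 : ℤ) • T U hU (e none 1) := by
    rw [← T_add, ← T_zsmul]
    congr 1
    rw [U_coe, U'_coe]
    funext m
    simp only [Pi.add_apply, Pi.smul_apply, e_apply, smul_eq_mul]
    split_ifs <;> norm_num
  rw [T_l, zero_add] at h1
  have h2 := congrArg (fun x : leechLattice => (x : GolayPt → ℤ) i) h1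
  simp only [AddSubgroup.coe_zsmul, Pi.smul_apply, smul_eq_mul] at h2
  exact h2.symm

theorem T_e_zero (i : GolayPt) :
    8 * ((T U hU (e (some 0) 1) : leechLattice) : GolayPt → ℤ) i =
      - ((T U hU U' : leechLattice) : GolayPt → ℤ) i := by
  have h1 : T U hU U' + (8 : ℤ) • T U hU (e (some 0) 1) = T U hU (U : leechLattice) := by
    rw [← T_zsmul, ← T_add]
    congr 1
    rw [U_coe, U'_coe]
    funext m
    simp only [Pi.add_apply, Pi.smul_apply, e_apply, smul_eq_mul]
    split_ifs <;> norm_num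
  rw [T_l] at h1
  have h2 := congrArg (fun x : leechLattice => (x : GolayPt → ℤ) i) h1
  simp only [AddSubgroup.coe_add, AddSubgroup.coe_zsmul, Pi.add_apply, Pi.smul_apply, smul_eq_mul,
    ZeroMemClass.coe_zero, Pi.zero_apply] at h2
  omega

/-- the trace -/
theorem trace : ∑ i, ((T U hU (e i 1) : leechLattice) : GolayPt → ℤ) i = 441600 := by
  have h1 : ∀ i, ((T U hU (e i 1) : leechLattice) : GolayPt → ℤ) i =
      ∑ r ∈ RF U hU, (((vv U r : leechLattice) : GolayPt → ℤ) i) ^ 2 := by
    intro i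
    rw [T_coe]
    refine Finset.sum_congr rfl fun r _ => ?_
    rw [dotInt_e]; ring
  rw [Finset.sum_congr rfl fun i _ => h1 i, Finset.sum_comm]
  have h2 : ∀ r ∈ RF U hU, ∑ i, (((vv U r : leechLattice) : GolayPt → ℤ) i) ^ 2 = 96 := by
    intro r hr
    exact sqNorm_vv hU (mem_RF.1 hr)
  rw [Finset.sum_congr rfl h2, Finset.sum_const, card_RF]
  norm_num

theorem α_eq : α = 76800 := by
  have h1 := trace
  have h2 : ∑ i : GolayPt, 8 * ((T U hU (e i 1) : leechLattice) : GolayPt → ℤ) i =
      ∑ i : GolayPt, (if i = none then α else if i = some 0 then α else 2 * α) := by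
    refine Finset.sum_congr rfl fun i _ => ?_
    by_cases h3 : i = none
    · subst h3
      rw [if_pos rfl, T_e_none]; rfl
    · by_cases h4 : i = some 0
      · subst h4
        rw [if_neg h3, if_pos rfl, T_e_zero, T_U'_zero]; ring
      · rw [if_neg h3, if_neg h4]
        have := T_e_apply h3 h4 i
        rw [e_apply, if_pos rfl] at this
        omega
  rw [← Finset.mul_sum, h1] at h2
  have h3 : ∑ i : GolayPt, (if i = none then α else if i = some 0 then α else 2 * α) = 46 * α := by
    have h4 : ∀ i : GolayPt, (if i = none then α else if i = some 0 then α else 2 * α) =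
        2 * α - (if i = none then α else 0) - (if i = some 0 then α else 0) := by
      intro i
      by_cases h3 : i = none
      · subst h3; rw [if_pos rfl, if_pos rfl, if_neg none_ne]; ring
      · by_cases h4 : i = some 0
        · subst h4; rw [if_neg h3, if_pos rfl, if_neg h3, if_pos rfl]; ring
        · rw [if_neg h3, if_neg h4, if_neg h3, if_neg h4]; ring
    rw [Finset.sum_congr rfl fun i _ => h4 i, Finset.sum_sub_distrib, Finset.sum_sub_distrib,
      Finset.sum_const, Finset.sum_ite_eq', Finset.sum_ite_eq', if_pos (Finset.mem_univ _),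
      if_pos (Finset.mem_univ _), Finset.card_univ, card_golayPt]
    simp only [nsmul_eq_mul]
    push_cast
    ring
  rw [h3] at h2
  omega

/-- The design property for `u`. -/
theorem T_eq (x : leechLattice) : T U hU x = (600 : ℤ) •
    ((32 : ℤ) • x - dotInt (x : GolayPt → ℤ) (U : leechLattice) • (U : leechLattice)) := by
  apply Subtype.ext
  funext i
  have h0 : ((T U hU x : leechLattice) : GolayPt → ℤ) i =
      dotInt (x : GolayPt → ℤ) (T U hU (e i 1) : leechLattice) := by
    rw [← T_symm, dotInt_e, mul_one]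
  rw [h0]
  have h1 : dotInt (x : GolayPt → ℤ) (U : leechLattice) =
      4 * ((x : GolayPt → ℤ) none + (x : GolayPt → ℤ) (some 0)) := dotInt_u x
  rw [h1]
  simp only [AddSubgroup.coe_sub, AddSubgroup.coe_zsmul, Pi.sub_apply, Pi.smul_apply, smul_eq_mul]
  rw [U_apply, e_apply, e_apply]
  have hU'x : dotInt (x : GolayPt → ℤ) (U' : leechLattice) =
      4 * ((x : GolayPt → ℤ) none - (x : GolayPt → ℤ) (some 0)) := by
    rw [U'_coe, dotInt_add_right, dotInt_e, dotInt_e]; ring
  have h4 : 4 * dotInt (x : GolayPt → ℤ) (T U hU U' : leechLattice) =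
      α * (4 * ((x : GolayPt → ℤ) none - (x : GolayPt → ℤ) (some 0))) := by
    have h5 := congrArg (fun y : leechLattice => dotInt (x : GolayPt → ℤ) (y : GolayPt → ℤ)) four_T_U'
    simp only [AddSubgroup.coe_zsmul, dotInt_zsmul_right] at h5
    rw [h5, hU'x]
  rw [α_eq] at h4
  by_cases h2 : i = none
  · subst h2
    rw [if_pos rfl, if_neg none_ne]
    have h5 : 8 * dotInt (x : GolayPt → ℤ) (T U hU (e none 1) : leechLattice) =
        dotInt (x : GolayPt → ℤ) (T U hU U' : leechLattice) := by
      unfold dotInt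
      rw [Finset.mul_sum]
      exact Finset.sum_congr rfl fun i _ => by rw [← T_e_none]; ring
    omega
  · by_cases h3 : i = some 0
    · subst h3
      rw [if_neg h2, if_pos rfl]
      have h5 : 8 * dotInt (x : GolayPt → ℤ) (T U hU (e (some 0) 1) : leechLattice) =
          - dotInt (x : GolayPt → ℤ) (T U hU U' : leechLattice) := by
        unfold dotInt
        rw [Finset.mul_sum, ← Finset.sum_neg_distrib]
        exact Finset.sum_congr rfl fun i _ => by
          have := T_e_zero i
          have h6 : 8 * ((x : GolayPt → ℤ) i * ((T U hU (e (some 0) 1) : leechLattice) : GolayPt → ℤ) i) =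
            (x : GolayPt → ℤ) i * (8 * ((T U hU (e (some 0) 1) : leechLattice) : GolayPt → ℤ) i) := by ring
          rw [h6, this]; ring
      omega
    · rw [if_neg h2, if_neg h3]
      have h5 : 4 * dotInt (x : GolayPt → ℤ) (T U hU (e i 1) : leechLattice) =
          α * dotInt (x : GolayPt → ℤ) (e i 1) := by
        unfold dotInt
        rw [Finset.mul_sum, Finset.mul_sum]
        exact Finset.sum_congr rfl fun m _ => by
          have := T_e_apply h2 h3 m
          have h6 : 4 * ((x : GolayPt → ℤ) m * ((T U hU (e i 1) : leechLattice) : GolayPt → ℤ) m) =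
            (x : GolayPt → ℤ) m * (4 * ((T U hU (e i 1) : leechLattice) : GolayPt → ℤ) m) := by ring
          rw [h6, this]; ring
      rw [dotInt_e, α_eq] at h5
      omega

/-- **The design property of the 4600 vectors.** -/
theorem design (l : leechLattice) (hl : sqNorm (l : GolayPt → ℤ) = 32) (x : leechLattice) :
    ∑ r ∈ RF l hl, dotInt (vv l r : leechLattice) (x : GolayPt → ℤ) • vv l r = (600 : ℤ) •
      ((32 : ℤ) • x - dotInt (x : GolayPt → ℤ) (l : GolayPt → ℤ) • l) := by
  obtain ⟨g, hg⟩ := Cfsg.Agent.Leech.Trans.co0_transitive_min U l hU hl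
  have h1 := T_smul g U l hU hl hg (g⁻¹ • x)
  rw [smul_inv_smul, T_eq] at h1
  rw [act_zsmul, smul_sub_co0, act_zsmul, act_zsmul, smul_inv_smul, hg] at h1
  have h2 := dotInt_smul g (g⁻¹ • x) U
  rw [smul_inv_smul, hg] at h2
  rw [← h2] at h1
  exact h1

end Cfsg.Agent.BabyM.Design
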