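import Cfsg.Agent.BabyM.KCore

/-!
# Elements of the base orbit at inner product `-1` with the representatives: abstract part

* `t_d_of`: the field `BOrbit.t_d` from a condition on the `X`-coordinates;
* `ncard_neg`: the number of elements of `M.S` at inner product `-1` with a vector, from the number of
  `X`-coordinates;
* `card_pairs_of`: the field `BOrbit.card_pairs`.
-/

set_option autoImplicit false

namespace Cfsg.Agent.BabyM.FAbs

open Cfsg.Agent.Monster Cfsg.Agent.Monster.PauliBasic Cfsg.Agent.Monster.PauliRep Cfsg.Agent.Monster.PauliClif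
open Cfsg.Agent.BabyM.QAct Cfsg.Agent.BabyM.QData Cfsg.Agent.BabyM.QData.Good Cfsg.Agent.BabyM.Model
open Cfsg.Agent.BabyM.KCore Cfsg.Agent.BabyM.KCore.Link

/-! ### Counting pairs -/

section pairs

variable {W : Type} [AddCommGroup W] [Module ℚ W] {M : BData W}

/-- The orbit of a representative. -/
def Orb (M : BData W) (j : M.J) : Set W := {x | ∃ g ∈ M.C, x = g (M.d j)}

theorem orb_disjoint (hd : ∀ j k, ∀ g ∈ M.C, g (M.d j) = M.d k → j = k) {j k : M.J} {x : W}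
    (hj : x ∈ Orb M j) (hk : x ∈ Orb M k) : j = k := by
  obtain ⟨g, hg, rfl⟩ := hj
  obtain ⟨g', hg', hx⟩ := hk
  apply hd j k (g'⁻¹ * g) (M.C.mul_mem (M.C.inv_mem hg') hg)
  show g'⁻¹ (g (M.d j)) = M.d k
  rw [hx, ← LinearEquiv.mul_apply, inv_mul_cancel]; rfl

theorem S_smul {g : W ≃ₗ[ℚ] W} (hg : g ∈ M.C) {y : W} (hy : y ∈ M.S) : g y ∈ M.S := by
  obtain ⟨g', hg', rfl⟩ := hy
  exact ⟨g * g', M.C.mul_mem hg hg', rfl⟩

theorem ncard_orb (hC : ∀ g ∈ M.C, ∀ x y, M.F (g x) (g y) = M.F x y) (c : ℚ) {g : W ≃ₗ[ℚ] W} (hg : g ∈ M.C)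
    (x : W) : {y | y ∈ M.S ∧ M.F y (g x) = c}.ncard = {y | y ∈ M.S ∧ M.F y x = c}.ncard := by
  have h1 : {y | y ∈ M.S ∧ M.F y (g x) = c} = g '' {y | y ∈ M.S ∧ M.F y x = c} := by
    ext y
    constructor
    · rintro ⟨hy, hF⟩
      refine ⟨g⁻¹ y, ⟨S_smul (M.C.inv_mem hg) hy, ?_⟩, ?_⟩
      · rw [← hC g hg, ← LinearEquiv.mul_apply, mul_inv_cancel]; exact hF
      · rw [← LinearEquiv.mul_apply, mul_inv_cancel]; rfl
    · rintro ⟨y, ⟨hy, hF⟩, rfl⟩
      exact ⟨S_smul hg hy, by rw [hC g hg]; exact hF⟩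
  rw [h1, Set.ncard_image_of_injective _ g.injective]

/-- **The number of pairs.** -/
theorem card_pairs_of (hC : ∀ g ∈ M.C, ∀ x y, M.F (g x) (g y) = M.F x y) (c : ℚ) [Fintype M.J]
    (hd : ∀ j k, ∀ g ∈ M.C, g (M.d j) = M.d k → j = k) (hS : M.S.Finite) (hO : ∀ j, (Orb M j).Finite)
    (N m : M.J → ℕ) (hN : ∀ j, (Orb M j).ncard = N j) (hm : ∀ j, {y | y ∈ M.S ∧ M.F y (M.d j) = c}.ncard = m j) :
    {p : W × W | p.1 ∈ M.D ∧ p.2 ∈ M.S ∧ M.F p.2 p.1 = c}.ncard = ∑ j, N j * m j := by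
  classical
  have hD : M.D = ⋃ j, Orb M j := by
    ext x
    simp only [Set.mem_iUnion]
    constructor
    · rintro ⟨j, g, hg, rfl⟩; exact ⟨j, g, hg, rfl⟩
    · rintro ⟨j, g, hg, rfl⟩; exact ⟨j, g, hg, rfl⟩
  have hDf : M.D.Finite := by rw [hD]; exact Set.finite_iUnion hO
  set P : Set (W × W) := {p : W × W | p.1 ∈ M.D ∧ p.2 ∈ M.S ∧ M.F p.2 p.1 = c} with hP
  have hPf : P.Finite := (hDf.prod hS).subset (fun p hp => ⟨hp.1, hp.2.1⟩)
  have hfib : ∀ j, ∀ x ∈ Orb M j, (hPf.toFinset.filter (fun p => p.1 = x)).card = m j := by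
    rintro j x ⟨g, hg, rfl⟩
    rw [← hm j, ← ncard_orb hC c hg (M.d j)]
    have h1 : ((hPf.toFinset.filter (fun p => p.1 = g (M.d j)) : Finset (W × W)) : Set (W × W)) =
        (fun y => (g (M.d j), y)) '' {y | y ∈ M.S ∧ M.F y (g (M.d j)) = c} := by
      ext p
      simp only [Finset.coe_filter, Set.Finite.mem_toFinset, Set.mem_ofPred_eq, Set.mem_image]
      constructor
      · rintro ⟨⟨_, h2, h3⟩, h4⟩
        exact ⟨p.2, ⟨h2, by rw [← h4]; exact h3⟩, Prod.ext h4.symm rfl⟩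
      · rintro ⟨y, ⟨h2, h3⟩, rfl⟩
        exact ⟨⟨⟨j, g, hg, rfl⟩, h2, h3⟩, rfl⟩
    rw [← Set.ncard_coe_finset, h1, Set.ncard_image_of_injective]
    intro y y' hyy; exact (Prod.ext_iff.mp hyy).2
  have hcard : hPf.toFinset.card = ∑ x ∈ hDf.toFinset, (hPf.toFinset.filter (fun p => p.1 = x)).card := by
    apply Finset.card_eq_sum_card_fiberwise
    intro p hp
    rw [Finset.mem_coe, Set.Finite.mem_toFinset] at hp
    rw [Finset.mem_coe, Set.Finite.mem_toFinset]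
    exact hp.1
  have hDu : hDf.toFinset = Finset.univ.biUnion (fun j => (hO j).toFinset) := by
    ext x
    rw [Set.Finite.mem_toFinset, hD]
    simp
  rw [Set.ncard_eq_toFinset_card _ hPf, hcard, hDu, Finset.sum_biUnion]
  · apply Finset.sum_congr rfl
    intro j _
    rw [Finset.sum_congr rfl (fun x hx => hfib j x ((Set.Finite.mem_toFinset _).mp hx)), Finset.sum_const,
      smul_eq_mul, ← Set.ncard_eq_toFinset_card _ (hO j), hN]
  · intro j _ k _ hjk
    rw [Function.onFun, Finset.disjoint_left]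
    intro x hx hx'
    rw [Set.Finite.mem_toFinset] at hx hx'
    exact hjk (orb_disjoint hd hx hx')

end pairs

/-! ### The inner products with the base orbit -/

variable {n : ℕ} {ι : Type} [Fintype ι] [DecidableEq ι]
variable {C : Coord n ι} {u : ι → ι → ℚ} {wt : ι → ℚ} {M : BData (ι → ℚ)} {i₀ : ι} (h : Link C u wt M i₀)

/-- The inner product of `u_i + (-1)^s e_i` with a vector. -/
def G (M : BData (ι → ℚ)) (u : ι → ι → ℚ) (x : ι → ℚ) (i : ι) (s : ZMod 2) : ℚ :=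
  M.F (u i + sg ℚ s • Pi.single i 8) x

include h in
theorem t_d_of {x : ι → ℚ} (hx : ∀ i, C.isX i → ∀ s : ZMod 2, (G M u x i s = 1 ∨ G M u x i s = -1) →
    C.R (⟨s, 0, 0⟩ * C.c i) x = x) :
    ∀ g ∈ M.C, M.F (g M.d₀) x = -1 → (g * M.t₀ * g⁻¹) x = x := by
  intro g hg hF
  obtain ⟨i, hi, s, t, h1, h2, h3⟩ := h.base hg h.i₀_X
  have h4 : g M.d₀ = sg ℚ t • (u i + sg ℚ s • Pi.single i 8) := by
    unfold BData.d₀
    rw [map_add, h.u₀_eq, h.e₀_eq, h2, h3, smul_add, smul_smul, sg_add, mul_comm (sg ℚ s)]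
  rw [h4, map_smul, LinearMap.smul_apply, smul_eq_mul] at hF
  rw [h.t₀_eq, h1]
  apply hx i hi s
  unfold G
  rcases sg_eq_or ℚ t with h5 | h5
  · rw [h5, one_mul] at hF; exact Or.inr hF
  · rw [h5] at hF; left; linarith

/-! ### The number of elements of `M.S` at inner product `-1` -/

/-- The elements of `M.S`. -/
def SDesc (C : Coord n ι) (u : ι → ι → ℚ) (M : BData (ι → ℚ)) : Prop :=
  M.S = {x | ∃ i, C.isX i ∧ ∃ s t : ZMod 2, x = sg ℚ t • (u i + sg ℚ s • Pi.single i 8)}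

include h in
/-- The elements of the base orbit. -/
theorem sdesc (hneg : ∃ g ∈ M.C, g M.d₀ = - M.d₀) : SDesc C u M := by
  unfold SDesc
  ext x
  constructor
  · rintro ⟨g, hg, rfl⟩
    obtain ⟨i, hi, s, t, h1, h2, h3⟩ := h.base hg h.i₀_X
    refine ⟨i, hi, s, t, ?_⟩
    unfold BData.d₀
    rw [map_add, h.u₀_eq, h.e₀_eq, h2, h3, smul_add, smul_smul, sg_add, mul_comm (sg ℚ s)]
  · rintro ⟨i, hi, s, t, rfl⟩
    obtain ⟨g₀, hg₀, hgd⟩ := hneg
    obtain ⟨g, hg, hgu⟩ := h.trans i hi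
    obtain ⟨s', t', -, h2, h3⟩ := h.u₀_trans hg hi hgu
    have h4 : g M.d₀ = sg ℚ t' • (u i + sg ℚ s' • Pi.single i 8) := by
      unfold BData.d₀
      rw [map_add, h.u₀_eq, h.e₀_eq, h2, h3, smul_add, smul_smul, sg_add, mul_comm (sg ℚ s')]
    -- all signs of `e_i`
    have h5 : ∀ s₁ : ZMod 2, ∃ g ∈ M.C, g M.d₀ = sg ℚ t' • (u i + sg ℚ s₁ • Pi.single i 8) := by
      intro s₁
      obtain ⟨y, hy⟩ := exists_form_eq_one hi.2
      by_cases hs : s₁ = s'
      · subst hs; exact ⟨g, hg, h4⟩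
      · refine ⟨C.R y * g, M.C.mul_mem (h.hyp.Q_le y) hg, ?_⟩
        rw [LinearEquiv.mul_apply, h4, map_smul, map_add, map_smul, R_single y hi.1, hy,
          R_fix y (fun j hj => h.hyp.good.u_supp i j hi hj), smul_smul (sg ℚ s'), ← sg_add]
        have h6 : s' + 1 = s₁ := by
          have : ∀ a b : ZMod 2, ¬ a = b → b + 1 = a := by decide
          exact this _ _ hs
        rw [h6]
    obtain ⟨g₁, hg₁, h6⟩ := h5 s
    by_cases ht : t = t'
    · subst ht; exact ⟨g₁, hg₁, h6.symm⟩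
    · refine ⟨g₁ * g₀, M.C.mul_mem hg₁ hg₀, ?_⟩
      rw [LinearEquiv.mul_apply, hgd, map_neg, h6, ← neg_smul]
      have h7 : t = t' + 1 := by
        have : ∀ a b : ZMod 2, ¬ a = b → a = b + 1 := by decide
        exact this _ _ ht
      rw [h7, sg_add, sg_one, mul_neg_one]

theorem sg_inj {s t : ZMod 2} (h : sg ℚ s = sg ℚ t) : s = t := by
  rcases zmod2_cases s with rfl | rfl <;> rcases zmod2_cases t with rfl | rfl <;>
    simp only [sg_zero, sg_one] at h <;> first | rfl | norm_num at h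

include h in
theorem inj {i j : ι} (hi : C.isX i) (hj : C.isX j) {s t s' t' : ZMod 2}
    (he : sg ℚ t • (u i + sg ℚ s • (Pi.single i 8 : ι → ℚ)) = sg ℚ t' • (u j + sg ℚ s' • Pi.single j 8)) :
    i = j ∧ s = s' ∧ t = t' := by
  rw [smul_add, smul_add, smul_smul, smul_smul, ← sg_add, ← sg_add] at he
  obtain ⟨h1, h2⟩ := h.ue_split (h.u_supp₀ hi _) (e_supp₀ hi _ _) (h.u_supp₀ hj _) (e_supp₀ hj _ _) he
  have hij : i = j := h.u_eq_of hi hj h1
  subst hij
  have h3 : t = t' := by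
    have h4 : (sg ℚ t - sg ℚ t') • u i = 0 := by rw [sub_smul, h1, sub_self]
    rcases smul_eq_zero.mp h4 with h5 | h5
    · exact sg_inj (sub_eq_zero.mp h5)
    · exact absurd h5 (h.hyp.good.u_ne i hi)
  subst h3
  refine ⟨rfl, ?_, rfl⟩
  have h6 := congrFun h2 i
  rw [Pi.smul_apply, Pi.smul_apply, Pi.single_eq_same, smul_eq_mul, smul_eq_mul] at h6
  have h7 := sg_inj (mul_right_cancel₀ (by norm_num : (8 : ℚ) ≠ 0) h6)
  exact add_left_cancel h7

include h in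
theorem ncard_neg (hS : SDesc C u M) (x : ι → ℚ) :
    {y | y ∈ M.S ∧ M.F y x = -1}.ncard =
      {i | C.isX i ∧ (G M u x i 0 = 1 ∨ G M u x i 0 = -1)}.ncard +
      {i | C.isX i ∧ (G M u x i 1 = 1 ∨ G M u x i 1 = -1)}.ncard := by
  classical
  let tt : ι → ZMod 2 → ZMod 2 := fun i s => if G M u x i s = -1 then 0 else 1
  let f : ZMod 2 → ι → (ι → ℚ) := fun s i => sg ℚ (tt i s) • (u i + sg ℚ s • Pi.single i 8)
  let A : ZMod 2 → Set ι := fun s => {i | C.isX i ∧ (G M u x i s = 1 ∨ G M u x i s = -1)}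
  have hf : ∀ s, Set.InjOn (f s) (A s) := by
    intro s i hi j hj hij
    exact (inj h hi.1 hj.1 hij).1
  have hF : ∀ s, ∀ i ∈ A s, M.F (f s i) x = -1 := by
    intro s i hi
    show M.F (sg ℚ (tt i s) • (u i + sg ℚ s • Pi.single i 8)) x = -1
    rw [map_smul, LinearMap.smul_apply, smul_eq_mul]
    show sg ℚ (if G M u x i s = -1 then 0 else 1) * G M u x i s = -1
    split_ifs with h1
    · rw [sg_zero, one_mul, h1]
    · rw [sg_one, hi.2.resolve_right h1]; norm_num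
  have hset : {y | y ∈ M.S ∧ M.F y x = -1} = f 0 '' A 0 ∪ f 1 '' A 1 := by
    ext y
    constructor
    · rintro ⟨hy, hFy⟩
      rw [hS] at hy
      obtain ⟨i, hi, s, t, rfl⟩ := hy
      rw [map_smul, LinearMap.smul_apply, smul_eq_mul] at hFy
      have hG : sg ℚ t * G M u x i s = -1 := hFy
      have hA : i ∈ A s ∧ f s i = sg ℚ t • (u i + sg ℚ s • Pi.single i 8) := by
        rcases zmod2_cases t with rfl | rfl
        · rw [sg_zero, one_mul] at hG
          refine ⟨⟨hi, Or.inr hG⟩, ?_⟩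
          show sg ℚ (if G M u x i s = -1 then 0 else 1) • (u i + sg ℚ s • Pi.single i 8) = _
          rw [if_pos hG]
        · rw [sg_one] at hG
          have hG1 : G M u x i s = 1 := by linarith
          refine ⟨⟨hi, Or.inl hG1⟩, ?_⟩
          show sg ℚ (if G M u x i s = -1 then 0 else 1) • (u i + sg ℚ s • Pi.single i 8) = _
          rw [if_neg (by rw [hG1]; norm_num)]
      rcases zmod2_cases s with rfl | rfl
      · exact Or.inl ⟨i, hA.1, hA.2⟩
      · exact Or.inr ⟨i, hA.1, hA.2⟩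
    · rintro (⟨i, hi, rfl⟩ | ⟨i, hi, rfl⟩)
      · exact ⟨by rw [hS]; exact ⟨i, hi.1, 0, _, rfl⟩, hF 0 i hi⟩
      · exact ⟨by rw [hS]; exact ⟨i, hi.1, 1, _, rfl⟩, hF 1 i hi⟩
  rw [hset, Set.ncard_union_eq]
  · rw [(hf 0).ncard_image, (hf 1).ncard_image]
  · rw [Set.disjoint_left]
    rintro y ⟨i, hi, rfl⟩ ⟨j, hj, hji⟩
    have := (inj h hj.1 hi.1 hji).2.1
    exact absurd this (by decide)

end Cfsg.Agent.BabyM.FAbs
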