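import Cfsg.Agent.BabyM.FRows
import Cfsg.Agent.BabyM.FAbs
import Cfsg.Agent.BabyM.Inst

/-!
# Inner products of the base orbit with the five representatives
-/

set_option autoImplicit false

namespace Cfsg.Agent.BabyM.FTable

open Cfsg.Agent.Lib.PermNet Cfsg.Agent.Monster Cfsg.Agent.Monster.VecEngine Cfsg.Agent.Monster.VecSpace
open Cfsg.Agent.Monster.PauliBasic Cfsg.Agent.Monster.PauliRep Cfsg.Agent.Monster.PauliClif Cfsg.Agent.Monster.PauliBits
open Cfsg.Agent.Monster.PlaneArith Cfsg.Agent.Monster.LevelSets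
open Cfsg.Agent.BabyM.QAct Cfsg.Agent.BabyM.Conc Cfsg.Agent.BabyM.KTab Cfsg.Agent.BabyM.FRows Cfsg.Agent.BabyM.InstVec
open Cfsg.Agent.BabyM.Inst (M laneI laneA laneB)

/-! ### Masks -/

/-- The mask of the `X`-lanes. -/
noncomputable def XM : ℕ := Nat.land (Nat.xor U (Nat.shiftLeft (full 23) 1344)) (full 3072)

theorem U_head : Nat.land (Nat.shiftRight U 1344) (full 23) = full 23 := by decide +kernel

theorem U_gap : Nat.land (Nat.shiftRight U 3072) (full 1024) = 0 := by decide +kernel

theorem shl_aux (n m i : ℕ) : (Nat.shiftLeft (full n) m).testBit i = decide (m ≤ i ∧ i < m + n) := by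
  show ((full n <<< m : ℕ)).testBit i = _
  rw [Nat.testBit_shiftLeft, testBit_full, Bool.eq_iff_iff]
  simp only [Bool.and_eq_true, decide_eq_true_eq]
  omega

theorem gap_aux {A n m : ℕ} (h : Nat.land (Nat.shiftRight A n) (full m) = 0) {i : ℕ} (h1 : n ≤ i) (h2 : i < n + m) :
    A.testBit i = false := by
  have h3 : ((A >>> n) &&& full m).testBit (i - n) = (0 : ℕ).testBit (i - n) := congrArg (fun x => Nat.testBit x (i - n)) h
  rw [Nat.testBit_and, Nat.testBit_shiftRight, testBit_full, Nat.zero_testBit, Nat.add_sub_cancel' h1,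
    decide_eq_true (by omega), Bool.and_true] at h3
  exact h3

theorem full_aux {A n m : ℕ} (h : Nat.land (Nat.shiftRight A n) (full m) = full m) {i : ℕ} (h1 : n ≤ i)
    (h2 : i < n + m) : A.testBit i = true := by
  have h3 : ((A >>> n) &&& full m).testBit (i - n) = (full m).testBit (i - n) :=
    congrArg (fun x => Nat.testBit x (i - n)) h
  rw [Nat.testBit_and, Nat.testBit_shiftRight, testBit_full, Nat.add_sub_cancel' h1,
    decide_eq_true (by omega), Bool.and_true] at h3
  exact h3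

theorem mask_aux (A B n i : ℕ) : (Nat.land (Nat.xor A B) (full n)).testBit i =
    ((A.testBit i ^^ B.testBit i) && decide (i < n)) := by
  show ((A ^^^ B) &&& full n).testBit i = _
  rw [Nat.testBit_and, Nat.testBit_xor, testBit_full]

theorem lt_of_isX {i : Lane U} (h : Cd.isX i) : i.1 < 3072 := by
  rw [isX_iff] at h
  by_contra hc
  have h1 := gap_aux U_gap (i := i.1) (by omega) (by omega)
  rw [i.2] at h1
  exact absurd h1 (by simp)

theorem testBit_XM (i : ℕ) : XM.testBit i = ((U.testBit i ^^ decide (1344 ≤ i ∧ i < 1344 + 23)) && decide (i < 3072)) := by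
  unfold XM
  rw [mask_aux, shl_aux]

theorem isX_iff' {i : Lane U} : Cd.isX i ↔ XM.testBit i.1 = true := by
  rw [testBit_XM, i.2]
  constructor
  · intro h
    have h1 := lt_of_isX h
    rw [isX_iff] at h
    have h2 := (cd_eq_zero_iff i.2 h.1).not.mp h.2
    rw [decide_eq_true h1, decide_eq_false (by omega)]
    rfl
  · intro h
    rw [Bool.and_eq_true, decide_eq_true_eq] at h
    rw [isX_iff]
    refine ⟨by omega, (cd_eq_zero_iff i.2 (by omega)).not.mpr ?_⟩
    intro hc
    rw [decide_eq_true (by omega)] at h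
    exact absurd h.1 (by simp)

/-! ### Weights -/

theorem wt_mask : wt = .sgn (Nat.shiftLeft (full 22) 1345) := eq_of_eqP (by decide +kernel)

theorem val_wt (i : ℕ) : val wt i = if 1345 ≤ i ∧ i ≤ 1366 then -1 else 0 := by
  rw [wt_mask, val_sgn]
  unfold bt
  rw [shl_aux]
  by_cases h2 : 1345 ≤ i ∧ i ≤ 1366
  · rw [if_pos (decide_eq_true (by omega)), if_pos h2]
  · rw [decide_eq_false (by omega), if_neg (by simp), if_neg h2]; rfl

/-! ### The inner product with `u_i` -/

/-- The list of the head coordinates with their weights. -/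
noncomputable def headL : List (ℕ × Pl) :=
  [(1344, H 0), (1345, .cons 0 (H 1)), (1346, .cons 0 (H 2)), (1347, .cons 0 (H 3)), (1348, .cons 0 (H 4)),
    (1349, .cons 0 (H 5)), (1350, .cons 0 (H 6)), (1351, .cons 0 (H 7)), (1352, .cons 0 (H 8)),
    (1353, .cons 0 (H 9)), (1354, .cons 0 (H 10)), (1355, .cons 0 (H 11)), (1356, .cons 0 (H 12)),
    (1357, .cons 0 (H 13)), (1358, .cons 0 (H 14)), (1359, .cons 0 (H 15)), (1360, .cons 0 (H 16)),
    (1361, .cons 0 (H 17)), (1362, .cons 0 (H 18)), (1363, .cons 0 (H 19)), (1364, .cons 0 (H 20)),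
    (1365, .cons 0 (H 21)), (1366, .cons 0 (H 22))]

theorem val_uPl_off (r k : ℕ) (hk : ¬ (1344 ≤ k ∧ k ≤ 1366)) : val (uPl r) k = 0 := by
  unfold uPl
  rw [val_cons, val_cons, val_cons, val_sgn, bt_head _ _ hk, bt_head _ _ hk, bt_head _ _ hk, bt_head _ _ hk]
  norm_num

theorem F_vec (x y : Pl) : F (vecU ℚ U x) (vecU ℚ U y) =
    1 / 16 * ∑ k ∈ Finset.range 8192, if U.testBit k then (2 : ℚ) ^ (-(val wt k)) * ((val x k : ℚ) * (val y k : ℚ)) else 0 := by
  have h8 : (2 : ℕ) ^ 13 = 8192 := by norm_num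
  have h := sum_lane U_lt (fun k => (2 : ℚ) ^ (-(val wt k)) * ((val x k : ℚ) * (val y k : ℚ)))
  rw [h8] at h
  rw [F_apply, ← h]
  rfl

theorem sum_head (T : ℕ → Bool) (f : ℕ → ℚ) (hT : ∀ k, 1344 ≤ k → k < 1344 + 23 → T k = true)
    (hf : ∀ k, ¬ (1344 ≤ k ∧ k ≤ 1366) → f k = 0) :
    ∑ k ∈ Finset.range 8192, (if T k then f k else 0) = ∑ m ∈ Finset.range 23, f (1344 + m) := by
  have hsub : Finset.Ico 1344 1367 ⊆ Finset.range 8192 := by
    intro k hk
    rw [Finset.mem_Ico] at hk
    rw [Finset.mem_range]; omega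
  rw [← Finset.sum_subset hsub]
  · rw [Finset.sum_Ico_eq_sum_range]
    apply Finset.sum_congr rfl
    intro m hm
    rw [Finset.mem_range] at hm
    rw [if_pos (hT _ (by omega) (by omega))]
  · intro k hk hk'
    rw [Finset.mem_Ico] at hk'
    rw [hf k (by omega)]
    split_ifs <;> rfl

theorem F_u {i : Lane U} (hi : i.1 < 3072) (x : Pl) :
    F (KTab.u i) ((1 / 8 : ℚ) • vecU ℚ U x) = (1 / 128 : ℚ) * ((linVal headL x i.1 : ℤ) : ℚ) := by
  rw [map_smul, smul_eq_mul]
  unfold KTab.u
  rw [F_vec, sum_head (fun k => U.testBit k) (fun k => (2 : ℚ) ^ (-(val wt k)) * ((val (uPl i.1) k : ℚ) * (val x k : ℚ)))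
    (fun k h1 h2 => full_aux U_head h1 h2)
    (fun k hk => by
      show (2 : ℚ) ^ (-(val wt k)) * ((val (uPl i.1) k : ℚ) * (val x k : ℚ)) = 0
      rw [val_uPl_off _ _ hk]; simp)]
  have hterm : ∀ m ∈ Finset.range 23, (2 : ℚ) ^ (-(val wt (1344 + m))) *
      ((val (uPl i.1) (1344 + m) : ℚ) * (val x (1344 + m) : ℚ)) =
      (if m = 0 then 1 else 2) * ((val (H m) i.1 : ℚ) * (val x (1344 + m) : ℚ)) := by
    intro m hm
    rw [Finset.mem_range] at hm
    rw [val_uPl hi, val_wt]
    congr 1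
    by_cases h0 : m = 0
    · subst h0; norm_num
    · rw [if_pos (by omega), if_neg h0]; norm_num
  rw [Finset.sum_congr rfl hterm]
  simp only [Finset.sum_range_succ, Finset.sum_range_zero, headL, linVal_cons, linVal_nil,
    val_cons, bt_zero]
  push_cast
  norm_num
  ring

/-! ### Evaluation by the kernel -/

/-- `8 x` -/
noncomputable def x8 (x : Pl) : Pl := .cons 0 (.cons 0 (.cons 0 x))

theorem val_x8 (x : Pl) (i : ℕ) : val (x8 x) i = 8 * val x i := by
  unfold x8
  rw [val_cons, val_cons, val_cons, bt_zero]; ring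

/-- `128` times the inner product of `u_i + (-1)^s e_i` with `x / 8` -/
noncomputable def lv (s : Bool) (x : Pl) (i : ℕ) : ℤ := linVal headL x i + (Bool.rec 8 (-8) s : ℤ) * val x i

/-- The first summand. -/
noncomputable def ini (s : Bool) (x : Pl) : Pl := Bool.rec (x8 x) (sub 8192 (.sgn 0) (x8 x)) s

theorem val_ini (s : Bool) (x : Pl) {i : ℕ} (hi : i < 8192) :
    val (ini s x) i = (Bool.rec 8 (-8) s : ℤ) * val x i := by
  cases s
  · exact val_x8 x i
  · show val (sub 8192 (.sgn 0) (x8 x)) i = -8 * val x i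
    rw [val_sub _ _ _ _ hi, val_x8, val_sgn, bt_zero]; ring

/-- The lanes with negative values. -/
noncomputable def sgm (X : Pl) : ℕ := Pl.rec (motive := fun _ => ℕ) (fun s => s) (fun _ _ ih => ih) X

theorem testBit_sgm (X : Pl) (i : ℕ) : (sgm X).testBit i = true ↔ val X i < 0 := by
  induction X with
  | sgn s =>
    show s.testBit i = true ↔ _
    rw [val_sgn]
    unfold bt
    cases h : s.testBit i <;> simp
  | cons p L ih =>
    show (sgm L).testBit i = true ↔ _
    rw [ih, val_cons]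
    unfold bt
    split_ifs <;> omega

/-- Evaluation of a number before it is used. -/
noncomputable def forceN (n : ℕ) (k : ℕ → Bool) : Bool :=
  Nat.rec (motive := fun _ => Bool) (k 0) (fun m _ => k (Nat.succ m)) n

theorem forceN_eq (n : ℕ) (k : ℕ → Bool) : forceN n k = k n := by cases n <;> rfl

/-- The constant `128`. -/
noncomputable def c128 : Pl := cst 8192 8 128

theorem val_c128 {i : ℕ} (hi : i < 8192) : val c128 i = 128 := by
  unfold c128
  rw [val_cst _ _ _ _ hi (by norm_num)]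
  norm_num

/-- The lanes with absolute value `128`, and the lanes with larger absolute value. -/
noncomputable def flv (s : Bool) (x : Pl) (k : ℕ → ℕ → Bool) : Bool :=
  lin 8192 headL x (ini s x) fun y =>
    forceN (Nat.lor (lev 13 8 128 XM y) (lev 13 8 384 XM y)) fun L =>
      forceN (Nat.land XM (Nat.lor (sgm (sub 8192 c128 y)) (sgm (plus y c128)))) fun B => k L B

theorem lev_iff {y : Pl} {x : Pl} {s : Bool} (hy : ∀ i < 8192, val y i = lv s x i) (i : ℕ) :
    (Nat.lor (lev 13 8 128 XM y) (lev 13 8 384 XM y)).testBit i = true ↔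
      XM.testBit i = true ∧ i < 8192 ∧ (lv s x i = 128 ∨ lv s x i = -128) := by
  have h13 : (2 : ℕ) ^ 13 = 8192 := by norm_num
  show (lev 13 8 128 XM y ||| lev 13 8 384 XM y).testBit i = true ↔ _
  rw [Nat.testBit_or, Bool.or_eq_true, testBit_lev (by norm_num), testBit_lev (by norm_num), h13]
  have h1 : cstVal 8 128 = 128 := by unfold cstVal; norm_num
  have h2 : cstVal 8 384 = -128 := by unfold cstVal; norm_num
  rw [h1, h2]
  constructor
  · rintro (⟨h3, h4, h5⟩ | ⟨h3, h4, h5⟩)
    · exact ⟨h3, h4, Or.inl (by rw [← hy i h4]; exact h5)⟩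
    · exact ⟨h3, h4, Or.inr (by rw [← hy i h4]; exact h5)⟩
  · rintro ⟨h3, h4, h5 | h5⟩
    · exact Or.inl ⟨h3, h4, by rw [hy i h4]; exact h5⟩
    · exact Or.inr ⟨h3, h4, by rw [hy i h4]; exact h5⟩

theorem bad_iff {y : Pl} {x : Pl} {s : Bool} (hy : ∀ i < 8192, val y i = lv s x i) {i : ℕ} (hi : i < 8192)
    (hX : XM.testBit i = true)
    (hB : (Nat.land XM (Nat.lor (sgm (sub 8192 c128 y)) (sgm (plus y c128)))).testBit i = false) :
    -128 ≤ lv s x i ∧ lv s x i ≤ 128 := by
  have h1 : (XM &&& (sgm (sub 8192 c128 y) ||| sgm (plus y c128))).testBit i = false := hB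
  rw [Nat.testBit_and, Nat.testBit_or, hX, Bool.true_and, Bool.or_eq_false_iff] at h1
  have h2 : ¬ (val (sub 8192 c128 y) i < 0) := by
    rw [← testBit_sgm, h1.1]; simp
  have h3 : ¬ (val (plus y c128) i < 0) := by
    rw [← testBit_sgm, h1.2]; simp
  rw [val_sub _ _ _ _ hi, val_c128 hi, hy i hi] at h2
  rw [val_plus, val_c128 hi, hy i hi] at h3
  omega

theorem flv_sound {s : Bool} {x : Pl} {k : ℕ → ℕ → Bool} (h : flv s x k = true) :
    ∃ L B, (∀ i, L.testBit i = true ↔ XM.testBit i = true ∧ i < 8192 ∧ (lv s x i = 128 ∨ lv s x i = -128)) ∧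
      (∀ i < 8192, XM.testBit i = true → B.testBit i = false → -128 ≤ lv s x i ∧ lv s x i ≤ 128) ∧
      k L B = true := by
  obtain ⟨y, hy, hk⟩ := lin_sound h
  have hy' : ∀ i < 8192, val y i = lv s x i := by
    intro i hi
    rw [hy i hi, val_ini s x hi]
    unfold lv; ring
  rw [forceN_eq, forceN_eq] at hk
  exact ⟨_, _, lev_iff hy', fun i hi hX hB => bad_iff hy' hi hX hB, hk⟩

/-! ### The link with the form -/

theorem wt_X {i : Lane U} (hi : Cd.isX i) : val wt i.1 = 0 := by
  rw [val_wt, if_neg]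
  rw [isX_iff'] at hi
  rw [testBit_XM, i.2] at hi
  intro hc
  rw [decide_eq_true (by omega)] at hi
  exact absurd hi (by simp)

/-- The boolean of a sign. -/
def sB (s : ZMod 2) : Bool := decide (s = 1)

theorem F_e {i : Lane U} (hi : Cd.isX i) (x : Pl) :
    F (Pi.single i 8) ((1 / 8 : ℚ) • vecU ℚ U x) = (1 / 128 : ℚ) * ((8 * val x i.1 : ℤ) : ℚ) := by
  rw [F_symm, Inst.F_single, wt_X hi, Pi.smul_apply, smul_eq_mul]
  show 1 / 16 * ((2 : ℚ) ^ (-(0 : ℤ)) * (1 / 8 * ((val x i.1 : ℤ) : ℚ)) * 8) = _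
  push_cast
  norm_num
  ring

theorem G_eq {i : Lane U} (hi : Cd.isX i) (x : Pl) (s : ZMod 2) :
    FAbs.G M KTab.u ((1 / 8 : ℚ) • vecU ℚ U x) i s = (1 / 128 : ℚ) * ((lv (sB s) x i.1 : ℤ) : ℚ) := by
  have h1 : ∀ (a : ℚ) (f e y : V), F (f + a • e) y = F f y + a * F e y := by
    intro a f e y
    rw [F_symm, map_add, map_smul, F_symm y f, F_symm y e, smul_eq_mul]
  have h2 : FAbs.G M KTab.u ((1 / 8 : ℚ) • vecU ℚ U x) i s = _ := h1 _ _ _ _
  rw [h2, F_u (lt_of_isX hi), F_e hi]
  unfold lv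
  rcases zmod2_cases s with rfl | rfl
  · rw [sg_zero]
    show _ = 1 / 128 * (((linVal headL x i.1 + 8 * val x i.1 : ℤ)) : ℚ)
    push_cast; ring
  · rw [sg_one]
    show _ = 1 / 128 * (((linVal headL x i.1 + -8 * val x i.1 : ℤ)) : ℚ)
    push_cast; ring

theorem pm_one_iff (z : ℤ) : ((1 / 128 : ℚ) * (z : ℚ) = 1 ∨ (1 / 128 : ℚ) * (z : ℚ) = -1) ↔ (z = 128 ∨ z = -128) := by
  constructor
  · rintro (h | h)
    · left; have : (z : ℚ) = 128 := by linarith
      exact_mod_cast this
    · right; have : (z : ℚ) = -128 := by linarith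
      exact_mod_cast this
  · rintro (rfl | rfl) <;> norm_num

/-! ### The tables -/

/-- Parity of the commutator of the class with code `c` with `t₀`. -/
noncomputable def pc (c : ℕ) : Bool :=
  Nat.beq (Nat.land (Nat.xor (Nat.shiftRight c 11) (Nat.xor (Nat.shiftRight c 13) (Nat.xor (Nat.shiftRight c 15)
    (Nat.xor (Nat.shiftRight c 16) (Nat.shiftRight c 17))))) 1) 0

/-- All lanes of the mask have classes commuting with `t₀`. -/
noncomputable def comm (L : ℕ) : Bool :=
  allN 12 (fun i => or (Nat.beq (Nat.land (Nat.shiftRight L i) 1) 0) (pc (cd i))) 0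

theorem t00 : flv false dv0 (fun L B => and (Nat.beq B (Nat.pow 2 1281)) (and (cardIs 13 12 891 L) (comm L))) = true := by
  decide +kernel

theorem t01 : flv true dv0 (fun L B => and (Nat.beq B 0) (and (cardIs 13 12 892 L) (comm L))) = true := by
  decide +kernel

/-- The lanes with inner product `1` or `-1`, `j = 1`, `s = 0`. -/
def L10 : List ℕ := [208, 209, 210, 211, 212, 213, 214, 215, 216, 217, 218, 219, 220, 221, 222, 223, 1281, 1282, 1288, 1291, 1292, 1298, 1313, 1314, 1320, 1323, 1324, 1330]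

theorem t10 : flv false dv1 (fun L B => and (Nat.beq B 0) (and (cardIs 13 12 28 L) (sub? L L10))) = true := by
  decide +kernel

/-- The lanes with inner product `1` or `-1`, `j = 1`, `s = 1`. -/
def L11 : List ℕ := [208, 209, 210, 211, 212, 213, 214, 215, 216, 217, 218, 219, 220, 221, 222, 223, 1281, 1282, 1288, 1291, 1292, 1298, 1313, 1314, 1320, 1323, 1324, 1330]

theorem t11 : flv true dv1 (fun L B => and (Nat.beq B 0) (and (cardIs 13 12 28 L) (sub? L L11))) = true := by
  decide +kernel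

/-- The lanes with inner product `1` or `-1`, `j = 2`, `s = 0`. -/
def L20 : List ℕ := [1281, 1283, 1284, 1285, 1286, 1290, 1292, 1294, 1295, 1300, 1313, 1315, 1316, 1317, 1318, 1322, 1324, 1326, 1327, 1332]

theorem t20 : flv false dv2 (fun L B => and (Nat.beq B 0) (and (cardIs 13 12 20 L) (sub? L L20))) = true := by
  decide +kernel

/-- The lanes with inner product `1` or `-1`, `j = 2`, `s = 1`. -/
def L21 : List ℕ := [1282, 1287, 1288, 1289, 1291, 1293, 1296, 1297, 1298, 1299, 1301, 1302, 1314, 1319, 1320, 1321, 1323, 1325, 1328, 1329, 1330, 1331, 1333, 1334]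

theorem t21 : flv true dv2 (fun L B => and (Nat.beq B 0) (and (cardIs 13 12 24 L) (sub? L L21))) = true := by
  decide +kernel

/-- The lanes with inner product `1` or `-1`, `j = 3`, `s = 0`. -/
def L30 : List ℕ := []

theorem t30 : flv false dv3 (fun L B => and (Nat.beq B 0) (and (cardIs 13 12 0 L) (sub? L L30))) = true := by
  decide +kernel

/-- The lanes with inner product `1` or `-1`, `j = 3`, `s = 1`. -/
def L31 : List ℕ := []

theorem t31 : flv true dv3 (fun L B => and (Nat.beq B 0) (and (cardIs 13 12 0 L) (sub? L L31))) = true := by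
  decide +kernel

/-- The lanes with inner product `1` or `-1`, `j = 4`, `s = 0`. -/
def L40 : List ℕ := []

theorem t40 : flv false dv4 (fun L B => and (Nat.beq B 0) (and (cardIs 13 12 0 L) (sub? L L40))) = true := by
  decide +kernel

/-- The lanes with inner product `1` or `-1`, `j = 4`, `s = 1`. -/
def L41 : List ℕ := [1313]

theorem t41 : flv true dv4 (fun L B => and (Nat.beq B 0) (and (cardIs 13 12 1 L) (sub? L L41))) = true := by
  decide +kernel

end Cfsg.Agent.BabyM.FTable
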