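/-
Fi23 in the Baby Monster model (part Fi23 of S0474) (helper537; arm swap of helper630, words of helper925).
-/
import Cfsg.Agent.BM.StageWRel
import Cfsg.Agent.MonsterX.WordRels

set_option autoImplicit false

namespace Cfsg.Agent.BabyM.Fi23B

open Cfsg.Agent.Monster.VecEngine Cfsg.Agent.Monster.VecSpace
open Cfsg.Agent.BabyM.Conc Cfsg.Agent.BabyM.Model Cfsg.Agent.BabyM.Inst Cfsg.Agent.BabyM.InstMem
  Cfsg.Agent.BabyM.WordsInst Cfsg.Agent.BM.StageW Cfsg.Agent.MonsterX.WordSub Cfsg.Agent.MonsterX.WordRels Cfsg.Spor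

/-- The arm swap. -/
def m : Fi23.Gen → BabyMonster.Gen
  | .a => .t11
  | .b => .t10
  | .c => .t9
  | .d => .t5
  | .e => .t4
  | .f => .t3
  | .g => .t2
  | .j => .t1
  | .h => .t6
  | .i => .t7

theorem label (s t : Fi23.Gen) : coxLabel Fi23.edges s t = coxLabel BabyMonster.edges (m s) (m t) := by
  cases s <;> cases t <;> rfl

section group

variable {Γ : Type} [Group Γ]

theorem rot {a b : Γ} {n : ℕ} (h : (a * b) ^ n = 1) : (b * a) ^ n = 1 := by
  have e : b * a = a⁻¹ * (a * b) * a⁻¹⁻¹ := by group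
  rw [e, conj_pow, h, mul_one, mul_inv_cancel]

/-- Two Coxeter elements of the same tree. -/
theorem e7 {u t9 t10 t11 : Γ} (h11 : t11 * u = u * t11) (h119 : t11 * t9 = t9 * t11) (h10 : t10 * u = u * t10)
    (h : (u * t9 * t10 * t11) ^ 9 = 1) : (t11 * t10 * t9 * u) ^ 9 = 1 := by
  have h1 := rot h
  rw [show t11 * (u * t9 * t10) = u * t9 * t11 * t10 by
    rw [← mul_assoc, ← mul_assoc, h11, mul_assoc u t11, h119, ← mul_assoc]] at h1
  have h2 := rot h1
  rw [show t10 * (u * t9 * t11) = u * (t10 * t9 * t11) by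
    rw [← mul_assoc, ← mul_assoc, h10]; simp only [mul_assoc]] at h2
  rw [show u * (t10 * t9 * t11) = (u * t10 * t11) * t9 by
    rw [mul_assoc t10, ← h119]; simp only [mul_assoc]] at h2
  have h3 := rot h2
  rw [← mul_assoc] at h3
  have h4 := rot h3
  rw [show t11 * (t9 * (u * t10)) = t9 * u * t11 * t10 by
    rw [← mul_assoc, h119, mul_assoc, ← mul_assoc t11, h11]; simp only [mul_assoc]] at h4
  have h5 := rot h4
  rw [show t10 * (t9 * u * t11) = (t10 * t9 * u) * t11 by simp only [mul_assoc]] at h5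
  have h6 := rot h5
  rw [← mul_assoc, ← mul_assoc] at h6
  exact h6

end group

variable {K₀ : Type} [Group K₀] (A : BAll M K₀) (O : base.Ok)

/-- A moved lane. -/
theorem t2_chk : check ((tw .t2).map Ltr.prog) (posP 4097) [] (negP 4097) = true := by decide +kernel

theorem laneU : U.testBit 4097 = true := by decide +kernel

theorem t2_ne : x .t2 ≠ 1 := by
  intro h
  have h1 : W (tw .t2) = 1 := congrArg Subtype.val h
  have h2 : W (tw .t2) (vecU ℚ U (posP 4097)) = W [] (vecU ℚ U (negP 4097)) := W_eq_of_check t2_chk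
  rw [h1, W_nil] at h2
  have h3 := congrFun h2 (⟨4097, laneU⟩ : Lane U)
  have h4 : ((val (posP 4097) 4097 : ℤ) : ℚ) = (val (negP 4097) 4097 : ℚ) := h3
  rw [val_posP, val_negP, if_pos rfl, if_pos rfl] at h4
  norm_num at h4

include A O

/-- The further relators. -/
theorem rels : ∀ r ∈ fi23Ws, ev (fun t => x (m t)) r = 1 := by
  intro r hr
  have comm : ∀ s t : BabyMonster.Gen, chk (tw s ++ tw t) (tw t ++ tw s) = true → x s * x t = x t * x s :=
    fun s t h => comm_of A O h
  simp only [fi23Ws, List.mem_cons, List.not_mem_nil, or_false] at hr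
  rcases hr with rfl | rfl
  · show (x .t5 * x .t9 * x .t10 * x .t5 * x .t4 * x .t3 * x .t5 * x .t6 * x .t7) ^ 10 = 1
    have h := rot (a := x .t5 * x .t4 * x .t3 * x .t5 * x .t6 * x .t7) (b := x .t5 * x .t9 * x .t10) (n := 10) (by
      have := spider A O
      simpa only [mul_assoc] using this)
    simpa only [mul_assoc] using h
  · show (x .t11 * x .t10 * x .t9 * x .t5 * x .t4 * x .t3 * x .t6) ^ 9 = 1
    have c11 : x .t11 * (x .t5 * x .t4 * x .t3 * x .t6) = x .t5 * x .t4 * x .t3 * x .t6 * x .t11 := by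
      have a1 := comm _ _ c5_11
      have a2 := comm _ _ c4_11
      have a3 := comm _ _ c3_11
      have a4 := comm _ _ c6_11
      simp only [mul_assoc]
      rw [← mul_assoc (x .t11), ← a1, mul_assoc, ← mul_assoc (x .t11), ← a2, mul_assoc, ← mul_assoc (x .t11), ← a3,
        mul_assoc, ← a4]
    have c10 : x .t10 * (x .t5 * x .t4 * x .t3 * x .t6) = x .t5 * x .t4 * x .t3 * x .t6 * x .t10 := by
      have a1 := comm _ _ c5_10
      have a2 := comm _ _ c4_10
      have a3 := comm _ _ c3_10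
      have a4 := comm _ _ c6_10
      simp only [mul_assoc]
      rw [← mul_assoc (x .t10), ← a1, mul_assoc, ← mul_assoc (x .t10), ← a2, mul_assoc, ← mul_assoc (x .t10), ← a3,
        mul_assoc, ← a4]
    have h := e7 (t9 := x .t9) c11 (comm _ _ c9_11).symm c10 (by simpa only [mul_assoc] using e7b A O)
    simpa only [mul_assoc] using h

/-- **Fischer 23 in the Baby Monster.** -/
theorem main (hs : Cfsg.IsFi23 Cfsg.Spor.Fi23) : ∃ K : Subgroup M.G, Cfsg.IsFi23 K := by
  obtain ⟨K, hK, -⟩ := fi23_of hs (fun t => x (m t)) (fun s t => by rw [label]; exact cox A O (m s) (m t)) (rels A O)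
    ⟨.g, t2_ne⟩
  exact ⟨K, hK⟩

end Cfsg.Agent.BabyM.Fi23B
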