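import Cfsg.Agent.BabyM.ThetaXi

/-!
# The homomorphism `π : C → Co0` with image the stabiliser of `λ₀`

Every element of `C` acts on the vectors `θ v` of the head as a unique element of `Co0`; the values
on the letters, and the image.
-/

set_option autoImplicit false

namespace Cfsg.Agent.BabyM.ThetaHom

open Cfsg Cfsg.Agent.Leech.Code Cfsg.Agent.Leech.Basic Cfsg.Agent.Leech.Co0Elts
  Cfsg.Agent.Leech.Xi Cfsg.Agent.Leech.Min Cfsg.Agent.Leech.Trans Cfsg.Agent.Leech.TransPair
  Cfsg.Agent.BabyM.Co2Gen Cfsg.Agent.BabyM.Co2GenStd Cfsg.Agent.BabyM.NbAct Cfsg.Agent.SporadicA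
  Cfsg.Agent.BabyM.Conc Cfsg.Agent.Monster.VecEngine Cfsg.Agent.Monster.VecSpace
  Cfsg.Agent.BabyM.ThetaInst Cfsg.Agent.BabyM.ThetaXi

/-! ### The letters -/

/-- the number of `y_{k+1}` -/
def yIdx : Ltr → Option ℕ
  | .y1 => some 0
  | .y2 => some 1
  | .y3 => some 2
  | .y4 => some 3
  | .y5 => some 4
  | .y6 => some 5
  | .y7 => some 6
  | .y8 => some 7
  | .y9 => some 8
  | .y10 => some 9
  | _ => none

theorem yIdx_lt {l : Ltr} {k : ℕ} (h : yIdx l = some k) : k < 10 := by
  cases l <;> simp [yIdx] at h <;> omega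

theorem one_check : ∀ l : Ltr, l.isQ = true → ∀ k < 23, check [l.prog] (ub k) [] (ub k) = true := by
  intro l hl
  cases l <;> first | exact absurd (show false = true from hl) Bool.false_ne_true | decide +kernel

theorem y_check : ∀ l : Ltr, ∀ m : ℕ, (yIdx l).map dMask = some m → ∀ k < 23,
    check [l.prog] (ub k) [] (res id (fun k => m.testBit k) k) = true := by
  intro l m hl
  cases l <;> first | exact absurd (show none = some m from hl) (Option.some_ne_none m).symm |
    (rw [← Option.some.inj hl]; decide +kernel)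

theorem rel_Q {l : Ltr} (h : l.isQ = true) : Rel (E l) 1 := rel_one l (one_check l h)

theorem rel_y {l : Ltr} {k : ℕ} (h : yIdx l = some k) :
    Rel (E l) (sgn (GolayBase.fin (dMask k)) (fin_dMask_mem k (yIdx_lt h))) :=
  rel_sgn l (dMask k) _ (dMask_pts k (yIdx_lt h)).1 (dMask_pts k (yIdx_lt h)).2
    (y_check l (dMask k) (by rw [h]; rfl))

theorem p_check : ∀ k < 23, check [Ltr.prog .p] (ub k) [] (ub (DuadGen.tabP.getD k 0)) = true := by
  decide +kernel

theorem p_tab : ∀ k < 23, DuadGen.tabP.getD k 0 < 23 ∧ (k ≠ 0 → DuadGen.tabP.getD k 0 ≠ 0) := by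
  decide +kernel

theorem h_check0 : check [Ltr.prog .h] (ub 0) [] (nub 0) = true := by decide +kernel

theorem h_check : ∀ k < 23, k ≠ 0 →
    check [Ltr.prog .h] (ub k) [] (nub (DuadGen.tabH.getD k 0)) = true := by decide +kernel

theorem h_tab : ∀ k < 23, k ≠ 0 → DuadGen.tabH.getD k 0 < 23 ∧ DuadGen.tabH.getD k 0 ≠ 0 := by
  decide +kernel

theorem p_none : pPerm none = none := by
  apply M24Gens.pidx_injective; rw [pPerm_tab]; rfl

theorem p_zero : pPerm (some 0) = some 0 := by
  apply M24Gens.pidx_injective; rw [pPerm_tab]; rfl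

theorem h_none : hPerm none = some 0 := by
  apply M24Gens.pidx_injective; rw [hPerm_tab]; rfl

theorem h_zero : hPerm (some 0) = none := by
  apply M24Gens.pidx_injective; rw [hPerm_tab]; rfl

/-- the element of `Co0` of the letter `p` -/
noncomputable def cp : Co0 := perm pPerm (DuadGen.p_mem pPerm_tab)

/-- the element of `Co0` of the letter `h` -/
noncomputable def ch : Co0 := negOne * perm hPerm (DuadGen.h_mem hPerm_tab)

/-- the element of `Co0` of the letter `y_{k+1}` -/
noncomputable def cy (k : ℕ) (hk : k < 10) : Co0 :=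
  sgn (GolayBase.fin (dMask k)) (fin_dMask_mem k hk)

theorem rel_p : Rel (E .p) cp :=
  rel_perm .p _ pPerm_tab p_none p_zero p_tab p_check

theorem rel_h : Rel (E .h) ch :=
  rel_neg_perm .h _ hPerm_tab h_none h_zero h_tab h_check0 h_check

/-- Every letter of `C` acts on the head as an element of `Co0`. -/
theorem rel_letter {l : Ltr} (h : l.isC = true) : ∃ c, Rel (E l) c := by
  by_cases hQ : l.isQ = true
  · exact ⟨1, rel_Q hQ⟩
  by_cases hy : ∃ k, yIdx l = some k
  · obtain ⟨k, hk⟩ := hy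
    exact ⟨_, rel_y hk⟩
  · have h3 : l = .p ∨ l = .h ∨ l = .xi := by
      cases l <;> first | exact Or.inl rfl | exact Or.inr (Or.inl rfl) |
        exact Or.inr (Or.inr rfl) | exact absurd rfl hQ | exact absurd ⟨_, rfl⟩ hy |
        exact absurd (show false = true from h) (by simp)
    rcases h3 with rfl | rfl | rfl
    · exact ⟨_, rel_p⟩
    · exact ⟨_, rel_h⟩
    · exact ⟨_, rel_xi⟩

theorem rel_C : ∀ g ∈ C, ∃ c, Rel g c := by
  intro g hg
  induction hg using Subgroup.closure_induction with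
  | mem g hg =>
    obtain ⟨l, hl, rfl⟩ := hg
    exact rel_letter hl
  | one => exact ⟨1, Rel.one⟩
  | mul a b _ _ ha hb =>
    obtain ⟨c, hc⟩ := ha
    obtain ⟨d, hd⟩ := hb
    exact ⟨c * d, hc.mul hd⟩
  | inv a _ ha =>
    obtain ⟨c, hc⟩ := ha
    exact ⟨c⁻¹, hc.inv⟩

/-! ### The homomorphism -/

/-- **The action of `C` on the head.** -/
noncomputable def π : C →* Co0 where
  toFun g := Classical.choose (rel_C g g.2)
  map_one' := (Classical.choose_spec (rel_C _ (1 : C).2)).unique Rel.one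
  map_mul' g h := (Classical.choose_spec (rel_C _ (g * h).2)).unique
    ((Classical.choose_spec (rel_C g g.2)).mul (Classical.choose_spec (rel_C h h.2)))

theorem rel_π (g : C) : Rel (g : V ≃ₗ[ℚ] V) (π g) := Classical.choose_spec (rel_C g g.2)

theorem π_eq {g : C} {c : Co0} (h : Rel (g : V ≃ₗ[ℚ] V) c) : π g = c := (rel_π g).unique h

theorem π_iff {g : C} {c : Co0} : π g = c ↔ Rel (g : V ≃ₗ[ℚ] V) c :=
  ⟨fun h => h ▸ rel_π g, π_eq⟩

/-- **The image is the stabiliser of `λ₀`.** -/
theorem onto (c : Co0) (hc : c • l₀ = l₀) : ∃ g ∈ C, Rel g c := by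
  let R' : Subgroup Co0 :=
    { carrier := {c | ∃ g ∈ C, Rel g c}
      one_mem' := ⟨1, C.one_mem, Rel.one⟩
      mul_mem' := by
        rintro a b ⟨g, hg, h1⟩ ⟨g', hg', h2⟩
        exact ⟨g * g', C.mul_mem hg hg', h1.mul h2⟩
      inv_mem' := by
        rintro a ⟨g, hg, h1⟩
        exact ⟨g⁻¹, C.inv_mem hg, h1.inv⟩ }
  have h1 : genGroup (DuadGen.p_mem pPerm_tab) (DuadGen.h_mem hPerm_tab) ≤ R' := by
    unfold genGroup
    rw [Subgroup.closure_le]
    rintro x hx
    cases hx with
    | sgn k hk =>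
      have : ∃ l : Ltr, l.isC = true ∧ yIdx l = some k := by
        interval_cases k
        · exact ⟨.y1, rfl, rfl⟩
        · exact ⟨.y2, rfl, rfl⟩
        · exact ⟨.y3, rfl, rfl⟩
        · exact ⟨.y4, rfl, rfl⟩
        · exact ⟨.y5, rfl, rfl⟩
        · exact ⟨.y6, rfl, rfl⟩
        · exact ⟨.y7, rfl, rfl⟩
        · exact ⟨.y8, rfl, rfl⟩
        · exact ⟨.y9, rfl, rfl⟩
        · exact ⟨.y10, rfl, rfl⟩
      obtain ⟨l, hl, hk'⟩ := this
      exact ⟨E l, E_mem_C hl, rel_y hk'⟩
    | p => exact ⟨E .p, E_mem_C rfl, rel_p⟩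
    | h => exact ⟨E .h, E_mem_C rfl, rel_h⟩
    | xi => exact ⟨E .xi, E_mem_C rfl, rel_xi⟩
  rw [genGroup_eq pPerm_tab hPerm_tab] at h1
  exact h1 hc

theorem range_π : π.range = MulAction.stabilizer Co0 l₀ := by
  ext c
  rw [MonoidHom.mem_range, MulAction.mem_stabilizer_iff]
  constructor
  · rintro ⟨g, rfl⟩
    exact (rel_π g).1
  · intro hc
    obtain ⟨g, hg, h⟩ := onto c hc
    exact ⟨⟨g, hg⟩, π_eq h⟩

/-! ### `θ` is additive -/

theorem coef_add (k : ℕ) (v w : leechLattice) : coef k (v + w) = coef k v + coef k w := by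
  unfold coef
  split_ifs
  · rw [AddSubgroup.coe_add, Pi.add_apply, Pi.add_apply]; push_cast; ring
  · rw [AddSubgroup.coe_add, Pi.add_apply]; push_cast; ring

theorem θ_add (v w : leechLattice) : θ (v + w) = θ v + θ w := by
  unfold θ
  rw [← Finset.sum_add_distrib]
  refine Finset.sum_congr rfl fun k _ => ?_
  rw [coef_add, add_smul]

/-- `θ` as an additive map -/
noncomputable def Θ : leechLattice →+ V := AddMonoidHom.mk' θ θ_add

theorem Θ_apply (v : leechLattice) : Θ v = θ v := rfl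

end Cfsg.Agent.BabyM.ThetaHom
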