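import Cfsg.Agent.BabyM.RepInst
import Cfsg.Agent.BabyM.ThetaHom
import Cfsg.Agent.BabyM.CoTwoMod
import Cfsg.Agent.BabyM.QIrrInst
import Cfsg.Agent.BabyM.Count

/-!
# The fields of `BGroup` for the concrete model, from `KCore.Link`
-/

set_option autoImplicit false

namespace Cfsg.Agent.BabyM.GroupInst

open Cfsg Cfsg.Agent.Leech.Basic Cfsg.Agent.Monster Cfsg.Agent.Monster.VecEngine
  Cfsg.Agent.Monster.VecSpace
open Cfsg.Agent.BabyM.Model Cfsg.Agent.BabyM.Conc Cfsg.Agent.BabyM.KTab Cfsg.Agent.BabyM.HeadAct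
  Cfsg.Agent.BabyM.Co2GenStd Cfsg.Agent.BabyM.ThetaInst
open Cfsg.Agent.SporadicA.GolayBase (idx pt idx_lt pt_idx idx_pt idx_injective mem_fin)

/-! ### The two maps to the head agree up to sign -/

theorem Dn_eq {n : ℕ} (hn : n < 23) : Dn n = b n := by
  funext i
  rw [b_apply]
  have h1 : ln n = 1344 + n := by
    unfold ln
    have : Nat.beq n 23 = false := by
      rw [Bool.eq_false_iff]; intro h; have := Nat.eq_of_beq_eq_true h; omega
    rw [this]; rfl
  show (if i.1 = ln n then (1 : ℚ) else 0) = _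
  rw [h1]

theorem Dn_23 : Dn 23 = b 0 := by
  funext i
  rw [b_apply]
  rfl

theorem ω_eq (x : leechLattice) : ω x = - θ x := by
  rw [ω_apply]
  have h1 := sum_idx (fun n => (((x : GolayPt → ℤ) (pt n) : ℤ) : ℚ) • Dn n)
  have h2 : ∑ i : GolayPt, (((x : GolayPt → ℤ) i : ℤ) : ℚ) • D i =
      ∑ k : GolayPt, (((x : GolayPt → ℤ) (pt (idx k)) : ℤ) : ℚ) • Dn (idx k) :=
    Finset.sum_congr rfl fun k _ => by rw [pt_idx]; rfl
  have h3 : ((List.range 24).map (fun n => (((x : GolayPt → ℤ) (pt n) : ℤ) : ℚ) • Dn n)).sum =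
      ∑ n ∈ Finset.range 24, (((x : GolayPt → ℤ) (pt n) : ℤ) : ℚ) • Dn n := by
    rw [Finset.sum, Finset.range_val, Multiset.range, Multiset.map_coe, Multiset.sum_coe]
  rw [h2, ← h1, h3, Finset.sum_range_succ, Dn_23]
  unfold θ
  conv_rhs => rw [Finset.sum_range_succ']
  rw [Finset.sum_range_succ']
  have h4 : ∀ k ∈ Finset.range 22, coef (k + 1) x • b (k + 1) =
      (1 / 2 : ℚ) • ((((x : GolayPt → ℤ) (pt (k + 1)) : ℤ) : ℚ) • Dn (k + 1)) := by
    intro k hk
    rw [Finset.mem_range] at hk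
    rw [Dn_eq (by omega), coef_pos (Nat.succ_ne_zero k), smul_smul]
    congr 1
    ring
  rw [Finset.sum_congr rfl h4, ← Finset.smul_sum, Dn_eq (show 0 < 23 by norm_num), coef_zero]
  have h5 : pt 0 = some 0 := rfl
  have h6 : pt 23 = none := rfl
  rw [h5, h6]
  module

/-! ### The fields -/

section

variable {wt' : Lane U → ℚ} (L : KCore.Link Cd u wt' Inst.M Inst.laneB)

include L

/-- An element of `C` acting trivially on the head is in `Q`. -/
theorem ker_ω {g : V ≃ₗ[ℚ] V} (hg : g ∈ C) (h : ∀ x : leechLattice, g (ω x) = ω x) : g ∈ Q := by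
  refine (L.ker hg).mp ?_
  intro i hi
  obtain ⟨k, hk, hki⟩ := L.trans i hi
  obtain ⟨c, -, hkc⟩ := HeadHyp.act k hk
  have h1 : u Inst.laneB = ω (Cfsg.Agent.BabyM.Design.vv l₀ HeadHyp.r₀) := L.u₀_eq.symm.trans HeadHyp.u₀_eq
  rw [h1, hkc] at hki
  rcases hki with h2 | h2
  · rw [← h2, h]
  · have h3 : u i = - ω (c • Cfsg.Agent.BabyM.Design.vv l₀ HeadHyp.r₀) := by rw [h2, neg_neg]
    rw [h3, map_neg, h]

/-- The hypothesis `hker` of `ThetaN`. -/
theorem ker : ∀ g ∈ C, (∀ v : leechLattice, g (θ v) = θ v) → g ∈ Q := by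
  intro g hg h
  refine ker_ω L hg fun x => ?_
  rw [ω_eq, map_neg, h]

theorem ker_rel : ∀ g ∈ C, Rel g 1 → g ∈ Q := by
  intro g hg h
  refine ker L g hg fun v => ?_
  have h1 := h.2 v
  rwa [one_smul] at h1

/-- `Q` is trivial on the head. -/
theorem Q_ω {q : V ≃ₗ[ℚ] V} (hq : q ∈ Q) (x : leechLattice) : q (ω x) = ω x :=
  RepE.Aux.Q_ω HeadHyp.hyp23 (RepLink.aux' L) hq x

theorem rel_iff {g : V ≃ₗ[ℚ] V} (hg : g ∈ C) : Rel g 1 ↔ g ∈ Q := by
  constructor
  · exact ker_rel L g hg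
  · intro hq
    refine ⟨one_smul _ _, fun v => ?_⟩
    have h1 := Q_ω L hq v
    rw [ω_eq, map_neg] at h1
    rw [one_smul]
    exact neg_injective h1

omit L in
/-- The homomorphism to the stabiliser of `l₀`. -/
noncomputable def π₀ : Inst.M.C →* MulAction.stabilizer Co0 l₀ :=
  ThetaHom.π.codRestrict (MulAction.stabilizer Co0 l₀) fun g => by
    rw [← ThetaHom.range_π]; exact ⟨g, rfl⟩

omit L in
theorem π₀_surjective : Function.Surjective π₀ := by
  rintro ⟨c, hc⟩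
  rw [← ThetaHom.range_π] at hc
  obtain ⟨g, rfl⟩ := hc
  exact ⟨g, rfl⟩

/-- Field `quot`. -/
theorem quot : ∃ π : Inst.M.C →* MulAction.stabilizer Co0 l₀, Function.Surjective π ∧
    ∀ g : Inst.M.C, π g = 1 ↔ (g : V ≃ₗ[ℚ] V) ∈ Inst.M.Q := by
  refine ⟨π₀, π₀_surjective, fun g => ?_⟩
  have h1 : π₀ g = 1 ↔ ThetaHom.π g = 1 := by
    rw [Subtype.ext_iff]; rfl
  exact h1.trans ((ThetaHom.π_iff (g := (⟨g.1, g.2⟩ : C)) (c := 1)).trans (rel_iff L g.2))

end

theorem dt_l₀ : Cfsg.Agent.SporadicStructure.Co2RankThree.dt l₀ l₀ = 32 := by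
  have h1 := Cfsg.Agent.Leech.TransPair.sqNorm_v0 hne
  exact h1

/-- Field `simple`. -/
theorem simple : IsSimpleGroup (MulAction.stabilizer Co0 l₀) := CoTwoMod.isSimpleGroup_stab l₀ dt_l₀

/-- Field `card`. -/
theorem card : Nat.card (MulAction.stabilizer Co0 l₀) = 42305421312000 := CoTwoMod.card_stab l₀ dt_l₀

/-- The group `Co2` of the model. -/
abbrev K₀ : Type := MulAction.stabilizer Co0 l₀

/-- **All fields of `BGroup`.** -/
theorem bGroup {wt' : Lane U → ℚ} (L : KCore.Link Cd u wt' Inst.M Inst.laneB) : BGroup Inst.M K₀ where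
  z_mem := L.z_mem
  z_ne := L.z_ne
  z_sq := L.z_sq
  Q_le := L.Q_le
  Q_card := L.Q_card
  z_comm := L.z_comm
  Q_comm := L.Q_comm
  Q_sq := L.Q_sq
  Q_center := L.Q_center
  Q_irred := QIrrInst.Q_irred L simple card (quot L)
  quot := quot L
  simple := simple
  card := card

/-- `C` is finite. -/
theorem finite_C {wt' : Lane U → ℚ} (L : KCore.Link Cd u wt' Inst.M Inst.laneB) : Finite C :=
  Count.finite_C (bGroup L)

end Cfsg.Agent.BabyM.GroupInst
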