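/-
HN in the Baby Monster model: words (helper33) for the generators (helper537).
-/
import Cfsg.Agent.BabyM.WordsInst
import Cfsg.Agent.BabyM.InstMem

set_option autoImplicit false
set_option Elab.async false

namespace Cfsg.Agent.BabyM.HNBWords

open Cfsg.Agent.Monster.VecEngine Cfsg.Agent.Monster.VecSpace
  Cfsg.Agent.BabyM.Conc Cfsg.Agent.BabyM.Model Cfsg.Agent.BabyM.Inst
  Cfsg.Agent.BabyM.InstMem Cfsg.Agent.BabyM.WordsInst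

/-- `x` -/
def xw : List Ltr :=
  [.Z2, .Z3, .Z5, .Z8, .Z9, .X3, .X5, .X8, .X9, .X10, .z, .p8, .h, .p3, .xi]

/-- `x⁻¹ = x z` (the letter `z`) -/
def xi : List Ltr := xw ++ [.z]

/-- `y` -/
def yw : List Ltr :=
  [.Z0, .Z4, .Z5, .Z7, .Z9, .Z10, .X1, .X3, .X4, .X5, .X6, .X7, .X9, .z, .p, .h, .p4, .h, .p7, .h, .p2, .y9, .y7, .y4, .y3]

/-- `y⁻¹` -/
def yi : List Ltr :=
  [.y3, .y4, .y7, .y9, .p9, .hi, .p4, .hi, .p7, .hi, .p10, .z, .X9, .X7, .X6, .X5, .X4, .X3, .X1, .Z10, .Z9, .Z7, .Z5, .Z4, .Z0]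

/-- `z` -/
def zw : List Ltr :=
  [.Z0, .Z2, .Z3, .Z5, .Z6, .Z7, .Z9, .Z10, .X1, .X2, .X6, .X9, .X10, .p6, .h, .p2, .h, .p3, .xi]

/-- `t` -/
def tw : List Ltr :=
  [.y7, .y3, .taui, .xii, .p8, .xii, .p3, .tau, .h, .p9, .xi, .p8, .xi, .tau, .Z1, .Z4, .Z5, .Z6, .Z8, .X1, .X8, .taui, .xii, .p3, .xii, .p2, .hi, .taui, .p8, .xi, .p3, .xi, .tau, .y3, .y7, .z]

/-- `y ^ 3` -/
def yt : List Ltr := yw ++ yw ++ yw
/-- `x⁻¹ y⁻¹ x y` -/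
def c3 : List Ltr := yw ++ xw ++ yi ++ xi
/-- `x⁻¹ y ^ 2 x y ^ 3` -/
def c4 : List Ltr := yt ++ xw ++ (yw ++ yw) ++ xi
/-- `x y` -/
def mo : List Ltr := yw ++ xw
/-- `x y x y ^ 3` -/
def c6 : List Ltr := yt ++ xw ++ mo
/-- `y x y x y ^ 2 x y⁻¹` -/
def c9 : List Ltr := yi ++ xw ++ yw ++ mo ++ mo ++ yw
/-- `u⁻¹ z u`, `u = y ^ 3 x y x y` -/
def c10 : List Ltr := mo ++ mo ++ yt ++ zw ++ yt ++ xi ++ yi ++ xi ++ yi

/-- The check that two words agree on the base. -/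
noncomputable def chk (v v' : List Ltr) : Bool := check (v.map Ltr.prog) vB (v'.map Ltr.prog) vB

variable {K₀ : Type} [Group K₀] (A : BAll M K₀) (O : base.Ok)

include A O

theorem eq_of {v v' : List Ltr} (h : chk v v' = true) : W v = W v' :=
  eq_of_check A O (W_mem_G v) (W_mem_G v') h

end Cfsg.Agent.BabyM.HNBWords
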