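/-
HN in the Baby Monster model: relators, kernel checks (helper537).
-/
import Cfsg.Agent.BabyM.HNBWords

set_option autoImplicit false
set_option Elab.async false

namespace Cfsg.Agent.BabyM.HNBRel1

open Cfsg.Agent.BabyM.HNBWords

theorem x2 : chk (xw ++ xw) ([.z]) = true := by decide +kernel

theorem yy : chk (yw ++ yi) ([]) = true := by decide +kernel

theorem yj : chk (yw ++ [.z]) ([.z] ++ yw) = true := by decide +kernel

theorem y6 : chk (yt ++ yt) ([]) = true := by decide +kernel

theorem z2 : chk (zw ++ zw) ([]) = true := by decide +kernel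

theorem zx2 : chk (xw ++ zw ++ xw ++ zw) ([]) = true := by decide +kernel

theorem r3 : chk (c3 ++ c3 ++ c3) ([]) = true := by decide +kernel

end Cfsg.Agent.BabyM.HNBRel1
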