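/-
HN in the Baby Monster model: relators, kernel checks (helper537).
-/
import Cfsg.Agent.BabyM.HNBWords

set_option autoImplicit false
set_option Elab.async false

namespace Cfsg.Agent.BabyM.HNBRel2

open Cfsg.Agent.BabyM.HNBWords

theorem r4 : chk (c4 ++ c4 ++ c4) ([]) = true := by decide +kernel

theorem r5 : chk (mo ++ mo ++ mo ++ mo ++ mo ++ mo ++ mo ++ mo) ([]) = true := by decide +kernel

theorem r6 : chk (c6 ++ c6 ++ c6 ++ c6) ([]) = true := by decide +kernel

theorem r9 : chk (c9 ++ zw) ([.z] ++ zw ++ c9) = true := by decide +kernel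

end Cfsg.Agent.BabyM.HNBRel2
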