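/-
HN in the Baby Monster model: relators, kernel checks (helper537).
-/
import Cfsg.Agent.BabyM.HNBWords

set_option autoImplicit false
set_option Elab.async false

namespace Cfsg.Agent.BabyM.HNBRel3

open Cfsg.Agent.BabyM.HNBWords

theorem t5 : chk (tw ++ tw ++ tw ++ tw ++ tw) ([]) = true := by decide +kernel

theorem tx : chk (tw ++ tw ++ xw ++ tw ++ xi) ([]) = true := by decide +kernel

theorem ty : chk (yw ++ tw) (tw ++ yw) = true := by decide +kernel

theorem tz : chk (tw ++ zw ++ tw ++ zw ++ tw ++ zw) ([]) = true := by decide +kernel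

end Cfsg.Agent.BabyM.HNBRel3
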