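/-
HN in the Baby Monster model: relators, kernel checks (helper537).
-/
import Cfsg.Agent.BabyM.HNBWords

set_option autoImplicit false
set_option Elab.async false

namespace Cfsg.Agent.BabyM.HNBRel4

open Cfsg.Agent.BabyM.HNBWords

theorem r10 : chk (c10 ++ xw ++ c10) (xi ++ c10 ++ xi ++ zw) = true := by decide +kernel

end Cfsg.Agent.BabyM.HNBRel4
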