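/-
HN in the Baby Monster model: the subgroup (part HN of S0474) (helper537; words of helper33).
-/
import Cfsg.Agent.BabyM.HNBRel1
import Cfsg.Agent.BabyM.HNBRel2
import Cfsg.Agent.BabyM.HNBRel3
import Cfsg.Agent.BabyM.HNBRel4
import Cfsg.Agent.MonsterX.HNTen

set_option autoImplicit false

namespace Cfsg.Agent.BabyM.HNB

open Cfsg.Agent.Monster.VecEngine Cfsg.Agent.Monster.VecSpace
  Cfsg.Agent.BabyM.Conc Cfsg.Agent.BabyM.Model Cfsg.Agent.BabyM.Inst
  Cfsg.Agent.BabyM.InstMem Cfsg.Agent.BabyM.WordsInst Cfsg.Agent.BabyM.HNBWords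
open Cfsg.Agent.MonsterX.WordSub Cfsg.Agent.MonsterX.WordRels Cfsg.Agent.MonsterX.HNTen

/-- The words of the generators. -/
def ws : Cfsg.Spor.HN.Gen → List Ltr
  | .x => xw
  | .y => yw
  | .z => zw
  | .t => tw

/-- The generators. -/
noncomputable def gen (a : Cfsg.Spor.HN.Gen) : M.G := ⟨W (ws a), W_mem_G _⟩

/-- The element `j`. -/
noncomputable def j : M.G := ⟨W [.z], W_mem_G _⟩

/-- The values of words in `M.G`. -/
noncomputable def wd (v : List Ltr) : M.G := ⟨W v, W_mem_G v⟩

theorem wd_append (v v' : List Ltr) : wd (v ++ v') = wd v' * wd v := Subtype.ext (W_append v v')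

theorem wd_nil : wd [] = 1 := rfl

variable {K₀ : Type} [Group K₀] (A : BAll M K₀)

include A

theorem j_sq : j * j = 1 := Subtype.ext (by
  show W [.z] * W [.z] = 1
  rw [W_single]
  exact A.grp.z_sq)

theorem j_ne : j ≠ 1 := fun h => A.grp.z_ne (by
  have h1 : W [.z] = 1 := congrArg Subtype.val h
  rw [W_single] at h1
  exact h1)

variable (O : base.Ok)

include O

theorem eq_of' {v v' : List Ltr} (h : chk v v' = true) : wd v = wd v' := Subtype.ext (eq_of A O h)

theorem x_sq : wd xw * wd xw = j := by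
  have h := eq_of' A O HNBRel1.x2
  rwa [wd_append] at h

theorem w_xi : wd xi = (wd xw)⁻¹ := by
  rw [xi, wd_append]
  apply eq_inv_of_mul_eq_one_left
  rw [mul_assoc, x_sq A O]
  exact j_sq A

theorem w_yi : wd yi = (wd yw)⁻¹ := by
  have h := eq_of' A O HNBRel1.yy
  rw [wd_append, wd_nil] at h
  exact eq_inv_of_mul_eq_one_left h

omit A O in
theorem w_yt : wd yt = wd yw ^ 3 := by
  rw [yt, wd_append, wd_append, ← pow_two, ← pow_succ']

omit A O in
theorem w_mo : wd mo = wd xw * wd yw := wd_append _ _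

theorem w_c3 : wd c3 = (wd xw)⁻¹ * (wd yw)⁻¹ * wd xw * wd yw := by
  rw [c3, wd_append, wd_append, wd_append, w_xi A O, w_yi A O]
  simp only [mul_assoc]

theorem w_c4 : wd c4 = (wd xw)⁻¹ * wd yw ^ 2 * wd xw * wd yw ^ 3 := by
  rw [c4, wd_append, wd_append, wd_append, wd_append, w_xi A O, w_yt, pow_two]
  simp only [mul_assoc]

omit A O in
theorem w_c6 : wd c6 = wd xw * wd yw * wd xw * wd yw ^ 3 := by
  rw [c6, wd_append, wd_append, w_mo, w_yt]
  simp only [mul_assoc]

theorem w_c9 : wd c9 = w9 (wd xw) (wd yw) := by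
  rw [c9, wd_append, wd_append, wd_append, wd_append, wd_append, w_mo, w_yi A O]
  unfold w9
  simp only [mul_assoc]

theorem w_c10 : wd c10 = e10 (wd xw) (wd yw) (wd zw) := by
  rw [c10, wd_append, wd_append, wd_append, wd_append, wd_append, wd_append, wd_append, wd_append, w_mo, w_yt,
    w_yi A O, w_xi A O]
  unfold e10
  simp only [mul_assoc]

/-- **The relators of `HN`.** -/
theorem rels : ∀ r ∈ hnWs, ev gen r = 1 := by
  have hx : gen .x = wd xw := rfl
  have hy : gen .y = wd yw := rfl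
  have hz : gen .z = wd zw := rfl
  have ht : gen .t = wd tw := rfl
  have h := ten gen j
  rw [hx, hy, hz, ht] at h
  refine h (x_sq A O) (j_sq A) ?_ ?_ ?_ ?_ ?_ ?_ ?_ ?_ ?_ ?_ ?_ ?_ ?_ ?_
  · have h := eq_of' A O HNBRel1.yj
    rwa [wd_append, wd_append] at h
  · have h := eq_of' A O HNBRel1.y6
    rw [wd_append, w_yt, wd_nil, ← pow_add] at h
    exact h
  · have h := eq_of' A O HNBRel1.r3
    rw [wd_append, wd_append, w_c3 A O, wd_nil] at h
    rw [pow_succ, pow_succ, pow_one, mul_assoc]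
    exact h
  · have h := eq_of' A O HNBRel2.r4
    rw [wd_append, wd_append, w_c4 A O, wd_nil] at h
    rw [pow_succ, pow_succ, pow_one, mul_assoc]
    exact h
  · have h := eq_of' A O HNBRel2.r5
    simp only [wd_append, wd_nil, w_mo] at h
    rw [← h]
    simp only [pow_succ, pow_zero, one_mul, mul_assoc]
  · have h := eq_of' A O HNBRel2.r6
    simp only [wd_append, wd_nil, w_c6] at h
    rw [← h]
    generalize wd xw * wd yw * wd xw * wd yw ^ 3 = g
    simp only [pow_succ, pow_zero, one_mul, mul_assoc]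
  · have h := eq_of' A O HNBRel1.z2
    rwa [wd_append, wd_nil] at h
  · have h := eq_of' A O HNBRel1.zx2
    rw [wd_append, wd_append, wd_append, wd_nil] at h
    rw [mul_assoc]
    exact h
  · have h := eq_of' A O HNBRel2.r9
    rw [wd_append, wd_append, wd_append, w_c9 A O, ← mul_assoc] at h
    exact h
  · have h := eq_of' A O HNBRel4.r10
    rw [wd_append, wd_append, wd_append, wd_append, wd_append, w_c10 A O, w_xi A O] at h
    simp only [← mul_assoc] at h
    exact h
  · have h := eq_of' A O HNBRel3.t5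
    simp only [wd_append, wd_nil] at h
    rw [← h]
    simp only [pow_succ, pow_zero, one_mul, mul_assoc]
  · have h := eq_of' A O HNBRel3.tx
    simp only [wd_append, wd_nil, w_xi A O] at h
    rw [← h, pow_two]
    simp only [mul_assoc]
  · have h := eq_of' A O HNBRel3.ty
    rw [wd_append, wd_append] at h
    rw [mul_assoc, h]
    group
  · have h := eq_of' A O HNBRel3.tz
    simp only [wd_append, wd_nil] at h
    rw [← h]
    simp only [pow_succ, pow_zero, one_mul, mul_assoc]

/-- **Harada-Norton in the Baby Monster.** -/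
theorem main (hs : Cfsg.IsHN Cfsg.Spor.HN) : ∃ K : Subgroup M.G, Cfsg.IsHN K := by
  obtain ⟨K, hK, -⟩ := hn_of hs gen (rels A O) ⟨.x, fun h => j_ne A (by
    have h1 : wd xw = 1 := h
    rw [← x_sq A O, h1, one_mul])⟩
  exact ⟨K, hK⟩

end Cfsg.Agent.BabyM.HNB
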