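import Cfsg.Agent.BabyM.Inst
import Cfsg.Agent.BabyM.NbAct
import Cfsg.Agent.BabyM.RepOf

/-!
# The action of the letters of `C` on the head (the `23`-dimensional part)

`ω : leechLattice →+ V`, `ω x = -(1/2) ∑ x_i D i`, where `D ∞ = D 0` is the unit vector of the lane
`1344` and `D j` the unit vector of the lane `1344 + j`.  For every letter `l` of `C` there is an
element `c` of `Co0` with `E l (ω x) = ω (c x)`.
-/

set_option autoImplicit false

namespace Cfsg.Agent.BabyM.HeadAct

open Cfsg Cfsg.Agent.Leech.Code Cfsg.Agent.Leech.Basic Cfsg.Agent.Leech.Co0Elts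
  Cfsg.Agent.Leech.Xi Cfsg.Agent.SporadicA
open Cfsg.Agent.Monster.VecEngine Cfsg.Agent.Monster.VecSpace Cfsg.Agent.BabyM.Conc
open Cfsg.Agent.BabyM.Inst (bt_two_pow bt_zero vecU_add)
open Cfsg.Agent.BabyM.Co2GenStd
open Cfsg.Agent.BabyM.NbAct (pPerm hPerm pPerm_tab hPerm_tab idx_eq_pidx)
open Cfsg.Agent.SporadicA.GolayBase (idx pt idx_lt pt_idx idx_pt idx_injective mem_fin)

/-- the lane of the point of index `n` -/
def ln (n : ℕ) : ℕ := bif Nat.beq n 23 then 1344 else 1344 + n

/-- the unit vector of the lane of the point of index `n` -/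
def Dn (n : ℕ) : V := fun j => if j.1 = ln n then 1 else 0

/-! ### Planes -/

/-- one bit of a small number, at the lane `L` -/
noncomputable def bl (c j L : ℕ) : ℕ := bif Nat.testBit c j then 2 ^ L else 0

/-- planes with the value coded by `c < 32` (two's complement, 5 bits) at the lane `L` -/
noncomputable def pz (c L : ℕ) : Pl :=
  .cons (bl c 0 L) (.cons (bl c 1 L) (.cons (bl c 2 L) (.cons (bl c 3 L) (.sgn (bl c 4 L)))))

/-- the value coded by `c` -/
def dec (c : ℕ) : ℤ := (c.testBit 0).toInt + 2 * ((c.testBit 1).toInt + 2 * ((c.testBit 2).toInt +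
  2 * ((c.testBit 3).toInt + 2 * (-(c.testBit 4).toInt))))

theorem bt_bl (c j L i : ℕ) : bt (bl c j L) i = if i = L then (c.testBit j).toInt else 0 := by
  unfold bl
  cases h : c.testBit j
  · rw [cond_false, bt_zero]; simp
  · rw [cond_true, bt_two_pow]; rfl

theorem val_pz (c L i : ℕ) : val (pz c L) i = if i = L then dec c else 0 := by
  unfold pz
  simp only [val_cons, val_sgn, bt_bl]
  split_ifs
  · rfl
  · norm_num

theorem vecU_pz (c n : ℕ) : vecU ℚ U (pz c (ln n)) = (dec c : ℚ) • Dn n := by
  funext j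
  show ((val (pz c (ln n)) j.1 : ℤ) : ℚ) = (dec c : ℚ) * (if j.1 = ln n then 1 else 0)
  rw [val_pz]
  split_ifs
  · rw [mul_one]
  · simp

/-- planes of `∑_{k ∈ l} f k` -/
noncomputable def spc (f : ℕ → ℕ) (l : List ℕ) : Pl :=
  l.foldr (fun k acc => bif Nat.beq (f k) 0 then acc else add (pz (f k) (ln k)) acc 0) (.sgn 0)

theorem vecU_sgn0 : vecU ℚ U (.sgn 0) = 0 := by
  funext j
  show ((val (.sgn 0) j.1 : ℤ) : ℚ) = 0
  rw [val_sgn, bt_zero]; simp

theorem vecU_spc (f : ℕ → ℕ) (l : List ℕ) :
    vecU ℚ U (spc f l) = (l.map fun k => (dec (f k) : ℚ) • Dn k).sum := by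
  induction l with
  | nil => rw [List.map_nil, List.sum_nil]; exact vecU_sgn0
  | cons k l ih =>
    rw [List.map_cons, List.sum_cons, ← ih]
    show vecU ℚ U (bif Nat.beq (f k) 0 then spc f l else add (pz (f k) (ln k)) (spc f l) 0) = _
    cases h : Nat.beq (f k) 0
    · rw [cond_false, vecU_add, vecU_pz]
    · rw [cond_true, Nat.eq_of_beq_eq_true h]
      have : dec 0 = 0 := by decide
      rw [this]; simp

/-- the check of the matrix of a letter on the head: `8 D n ↦ ∑_k f n k D k` -/
noncomputable def okL (l : Ltr) (f : ℕ → ℕ → ℕ) : Bool :=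
  (List.range 24).all fun n => check [l.prog] (pz 8 (ln n)) [] (spc (f n) (List.range 24))

/-- The vector `D i`. -/
def D (i : GolayPt) : V := Dn (idx i)

theorem sum_idx {A : Type*} [AddCommMonoid A] (g : ℕ → A) :
    ((List.range 24).map g).sum = ∑ k : GolayPt, g (idx k) := by
  have h1 : ((List.range 24).map g).sum = ∑ n ∈ Finset.range 24, g n := by
    rw [Finset.sum, Finset.range_val, Multiset.range, Multiset.map_coe, Multiset.sum_coe]
  rw [h1]
  refine Finset.sum_bij' (fun n _ => pt n) (fun k _ => idx k) (fun n _ => Finset.mem_univ _)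
    (fun k _ => Finset.mem_range.2 (idx_lt k)) (fun n hn => idx_pt (Finset.mem_range.1 hn))
    (fun k _ => pt_idx k) (fun n hn => ?_)
  rw [idx_pt (Finset.mem_range.1 hn)]

theorem E_D {l : Ltr} {f : ℕ → ℕ → ℕ} (h : okL l f = true) (i : GolayPt) :
    (8 : ℚ) • E l (D i) = ∑ k : GolayPt, (dec (f (idx i) (idx k)) : ℚ) • D k := by
  have h1 := List.all_eq_true.1 h (idx i) (List.mem_range.2 (idx_lt i))
  have h2 := W_eq_of_check (v₁ := [l]) (v₂ := []) h1
  rw [W_single, W_nil, vecU_pz, vecU_spc] at h2
  rw [show dec 8 = 8 by decide] at h2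
  have h3 := sum_idx (fun k => (dec (f (idx i) k) : ℚ) • Dn k)
  rw [h3] at h2
  rw [← map_smul]
  exact h2

/-! ### The embedding of the lattice -/

/-- The map `ω`. -/
noncomputable def ω : leechLattice →+ V where
  toFun x := (-(1 / 2) : ℚ) • ∑ i : GolayPt, (((x : GolayPt → ℤ) i : ℤ) : ℚ) • D i
  map_zero' := by
    simp
  map_add' x y := by
    rw [← smul_add, ← Finset.sum_add_distrib]
    congr 1
    refine Finset.sum_congr rfl fun i _ => ?_
    rw [AddSubgroup.coe_add, Pi.add_apply]
    push_cast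
    rw [add_smul]

theorem ω_apply (x : leechLattice) :
    ω x = (-(1 / 2) : ℚ) • ∑ i : GolayPt, (((x : GolayPt → ℤ) i : ℤ) : ℚ) • D i := rfl

/-- The letter `l` acts on the head as the element `c` of `Co0`. -/
def Acts (l : Ltr) (c : Co0) : Prop := ∀ x : leechLattice, E l (ω x) = ω (c • x)

theorem acts_of {l : Ltr} {f : ℕ → ℕ → ℕ} (h : okL l f = true) {c : Co0}
    (hc : ∀ (x : leechLattice) (k : GolayPt), 8 * ((c • x : leechLattice) : GolayPt → ℤ) k =
      ∑ i : GolayPt, dec (f (idx i) (idx k)) * (x : GolayPt → ℤ) i) : Acts l c := by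
  intro x
  have h1 : (8 : ℚ) • E l (ω x) = (8 : ℚ) • ω (c • x) := by
    rw [ω_apply, ω_apply, map_smul, map_sum, smul_comm, smul_comm (8 : ℚ) (-(1 / 2) : ℚ)]
    congr 1
    rw [Finset.smul_sum, Finset.smul_sum]
    have h2 : ∀ i : GolayPt, (8 : ℚ) • E l ((((x : GolayPt → ℤ) i : ℤ) : ℚ) • D i) =
        ∑ k : GolayPt, ((dec (f (idx i) (idx k)) : ℚ) * (((x : GolayPt → ℤ) i : ℤ) : ℚ)) • D k := by
      intro i
      rw [map_smul, smul_comm, E_D h, Finset.smul_sum]
      refine Finset.sum_congr rfl fun k _ => ?_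
      rw [smul_smul, mul_comm]
    rw [Finset.sum_congr rfl fun i _ => h2 i, Finset.sum_comm]
    refine Finset.sum_congr rfl fun k _ => ?_
    rw [← Finset.sum_smul, smul_smul]
    congr 1
    have h3 := hc x k
    have h4 : ((8 * ((c • x : leechLattice) : GolayPt → ℤ) k : ℤ) : ℚ) =
      ((∑ i : GolayPt, dec (f (idx i) (idx k)) * (x : GolayPt → ℤ) i : ℤ) : ℚ) := by rw [h3]
    push_cast at h4
    exact h4.symm
  have h5 := congrArg (fun v : V => (1 / 8 : ℚ) • v) h1
  simp only [smul_smul] at h5
  norm_num at h5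
  exact h5

/-! ### The letters -/

/-- identity -/
def fOne (n k : ℕ) : ℕ := bif Nat.beq k n then 8 else 0

/-- sign change -/
def fSgn (m n k : ℕ) : ℕ := bif Nat.beq k n then (bif m.testBit n then 24 else 8) else 0

/-- permutation -/
def fPerm (tab : List ℕ) (n k : ℕ) : ℕ := bif Nat.beq k (tab.getD n 0) then 8 else 0

/-- minus a permutation -/
def fNeg (tab : List ℕ) (n k : ℕ) : ℕ := bif Nat.beq k (tab.getD n 0) then 24 else 0

/-- the mask of the tetrad containing `n` -/
def mk (n : ℕ) : ℕ :=
  bif Nat.testBit 8388615 n then 8388615 else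
  bif Nat.testBit 147496 n then 147496 else
  bif Nat.testBit 4268048 n then 4268048 else
  bif Nat.testBit 2621632 n then 2621632 else
  bif Nat.testBit 268544 n then 268544 else 1082880

/-- Conway's map -/
def fXi (n k : ℕ) : ℕ :=
  bif Nat.testBit (mk n) k then
    (bif xor (Nat.beq k n) (Nat.testBit 4268048 k) then 4 else 28) else 0

theorem ok_X0 : okL .X0 fOne = true := by decide +kernel
theorem ok_X1 : okL .X1 fOne = true := by decide +kernel
theorem ok_X2 : okL .X2 fOne = true := by decide +kernel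
theorem ok_X3 : okL .X3 fOne = true := by decide +kernel
theorem ok_X4 : okL .X4 fOne = true := by decide +kernel
theorem ok_X5 : okL .X5 fOne = true := by decide +kernel
theorem ok_X6 : okL .X6 fOne = true := by decide +kernel
theorem ok_X7 : okL .X7 fOne = true := by decide +kernel
theorem ok_X8 : okL .X8 fOne = true := by decide +kernel
theorem ok_X9 : okL .X9 fOne = true := by decide +kernel
theorem ok_X10 : okL .X10 fOne = true := by decide +kernel
theorem ok_Z0 : okL .Z0 fOne = true := by decide +kernel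
theorem ok_Z1 : okL .Z1 fOne = true := by decide +kernel
theorem ok_Z2 : okL .Z2 fOne = true := by decide +kernel
theorem ok_Z3 : okL .Z3 fOne = true := by decide +kernel
theorem ok_Z4 : okL .Z4 fOne = true := by decide +kernel
theorem ok_Z5 : okL .Z5 fOne = true := by decide +kernel
theorem ok_Z6 : okL .Z6 fOne = true := by decide +kernel
theorem ok_Z7 : okL .Z7 fOne = true := by decide +kernel
theorem ok_Z8 : okL .Z8 fOne = true := by decide +kernel
theorem ok_Z9 : okL .Z9 fOne = true := by decide +kernel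
theorem ok_Z10 : okL .Z10 fOne = true := by decide +kernel
theorem ok_y1 : okL .y1 (fSgn (dMask 0)) = true := by decide +kernel
theorem ok_y2 : okL .y2 (fSgn (dMask 1)) = true := by decide +kernel
theorem ok_y3 : okL .y3 (fSgn (dMask 2)) = true := by decide +kernel
theorem ok_y4 : okL .y4 (fSgn (dMask 3)) = true := by decide +kernel
theorem ok_y5 : okL .y5 (fSgn (dMask 4)) = true := by decide +kernel
theorem ok_y6 : okL .y6 (fSgn (dMask 5)) = true := by decide +kernel
theorem ok_y7 : okL .y7 (fSgn (dMask 6)) = true := by decide +kernel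
theorem ok_y8 : okL .y8 (fSgn (dMask 7)) = true := by decide +kernel
theorem ok_y9 : okL .y9 (fSgn (dMask 8)) = true := by decide +kernel
theorem ok_y10 : okL .y10 (fSgn (dMask 9)) = true := by decide +kernel
theorem ok_p : okL .p (fPerm DuadGen.tabP) = true := by decide +kernel
theorem ok_h : okL .h (fNeg DuadGen.tabH) = true := by decide +kernel
theorem ok_xi : okL .xi fXi = true := by decide +kernel

theorem dec_zero : dec 0 = 0 := by decide
theorem dec_8 : dec 8 = 8 := by decide
theorem dec_24 : dec 24 = -8 := by decide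
theorem dec_4 : dec 4 = 4 := by decide
theorem dec_28 : dec 28 = -4 := by decide

theorem beq_idx (k i : GolayPt) : Nat.beq (idx k) (idx i) = decide (k = i) := by
  by_cases h : k = i
  · subst h; simp
  · rw [decide_eq_false h]
    by_contra h2
    rw [Bool.not_eq_false] at h2
    exact h (idx_injective (Nat.eq_of_beq_eq_true h2))

theorem acts_one {l : Ltr} (h : okL l fOne = true) : Acts l 1 := by
  refine acts_of h fun x k => ?_
  rw [one_smul, Finset.sum_eq_single k]
  · show _ = dec (bif Nat.beq (idx k) (idx k) then 8 else 0) * _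
    rw [beq_idx, decide_eq_true rfl, cond_true, dec_8]
  · intro i _ hi
    show dec (bif Nat.beq (idx k) (idx i) then 8 else 0) * _ = 0
    rw [beq_idx, decide_eq_false hi.symm, cond_false, dec_zero, zero_mul]
  · intro h; exact absurd (Finset.mem_univ _) h

theorem acts_sgn {l : Ltr} {j : ℕ} (hj : j < 10) (h : okL l (fSgn (dMask j)) = true) :
    Acts l (sgn (GolayBase.fin (dMask j)) (fin_dMask_mem j hj)) := by
  refine acts_of h fun x k => ?_
  rw [sgn_coe, sgnMap_apply, Finset.sum_eq_single k]
  · show _ = dec (bif Nat.beq (idx k) (idx k) then (bif (dMask j).testBit (idx k) then 24 else 8)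
      else 0) * _
    rw [beq_idx, decide_eq_true rfl, cond_true]
    split_ifs with hk
    · rw [mem_fin.1 hk, cond_true, dec_24]; ring
    · rw [mem_fin] at hk
      rw [Bool.not_eq_true] at hk
      rw [hk, cond_false, dec_8]
  · intro i _ hi
    show dec (bif Nat.beq (idx k) (idx i) then (bif (dMask j).testBit (idx i) then 24 else 8)
      else 0) * _ = 0
    rw [beq_idx, decide_eq_false hi.symm, cond_false, dec_zero, zero_mul]
  · intro h; exact absurd (Finset.mem_univ _) h

theorem beq_tab {σ : Equiv.Perm GolayPt} {tab : List ℕ}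
    (htab : ∀ x, M24Gens.pidx (σ x) = tab.getD (M24Gens.pidx x) 0) (k i : GolayPt) :
    Nat.beq (idx k) (tab.getD (idx i) 0) = decide (i = σ.symm k) := by
  have h1 := htab i
  rw [← idx_eq_pidx, ← idx_eq_pidx] at h1
  rw [← h1, beq_idx]
  congr 1
  rw [eq_iff_iff, Equiv.eq_symm_apply]
  exact eq_comm

theorem acts_perm {l : Ltr} {σ : Equiv.Perm GolayPt} {tab : List ℕ}
    (htab : ∀ x, M24Gens.pidx (σ x) = tab.getD (M24Gens.pidx x) 0) (hσ : σ ∈ M24)
    (h : okL l (fPerm tab) = true) : Acts l (perm σ hσ) := by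
  refine acts_of h fun x k => ?_
  rw [perm_coe, permMap_apply, Finset.sum_eq_single (σ.symm k)]
  · show _ = dec (bif Nat.beq (idx k) (tab.getD (idx (σ.symm k)) 0) then 8 else 0) * _
    rw [beq_tab htab, decide_eq_true rfl, cond_true, dec_8]
  · intro i _ hi
    show dec (bif Nat.beq (idx k) (tab.getD (idx i) 0) then 8 else 0) * _ = 0
    rw [beq_tab htab, decide_eq_false hi, cond_false, dec_zero, zero_mul]
  · intro h; exact absurd (Finset.mem_univ _) h

theorem acts_neg {l : Ltr} {σ : Equiv.Perm GolayPt} {tab : List ℕ}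
    (htab : ∀ x, M24Gens.pidx (σ x) = tab.getD (M24Gens.pidx x) 0) (hσ : σ ∈ M24)
    (h : okL l (fNeg tab) = true) : Acts l (negOne * perm σ hσ) := by
  refine acts_of h fun x k => ?_
  rw [mul_smul, negOne_smul, AddSubgroup.coe_neg, Pi.neg_apply, perm_coe, permMap_apply,
    Finset.sum_eq_single (σ.symm k)]
  · show _ = dec (bif Nat.beq (idx k) (tab.getD (idx (σ.symm k)) 0) then 24 else 0) * _
    rw [beq_tab htab, decide_eq_true rfl, cond_true, dec_24]; ring
  · intro i _ hi
    show dec (bif Nat.beq (idx k) (tab.getD (idx i) 0) then 24 else 0) * _ = 0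
    rw [beq_tab htab, decide_eq_false hi, cond_false, dec_zero, zero_mul]
  · intro h; exact absurd (Finset.mem_univ _) h

theorem mk_mem : ∀ n < 24, mk n ∈ masks ∧ (mk n).testBit n = true := by decide +kernel

theorem mk_symm : ∀ n < 24, ∀ k < 24, (mk n).testBit k = (mk k).testBit n := by decide +kernel

theorem mem_tet (i k : GolayPt) : i ∈ tet S₀ k ↔ (mk (idx i)).testBit (idx k) = true := by
  have h1 := mk_mem (idx k) (idx_lt k)
  rw [tet_eq S₀_mem (mem_S₀.2 ⟨_, h1.1, rfl⟩) (mem_fin.2 h1.2), mem_fin,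
    mk_symm _ (idx_lt i) _ (idx_lt k)]

theorem self_mem_tet (k : GolayPt) : k ∈ tet S₀ k := (mem_tet k k).2 (mk_mem _ (idx_lt k)).2

theorem acts_xi {l : Ltr} (h : okL l fXi = true) : Acts l ξ := by
  refine acts_of h fun x k => ?_
  have hx := two_mul_hsum S₀_mem x.2 k
  have h0 : ∀ i : GolayPt, dec (fXi (idx i) (idx k)) * (x : GolayPt → ℤ) i =
      if i ∈ tet S₀ k then (if k ∈ T₁ then
        (4 * (x : GolayPt → ℤ) i - (if i = k then 8 * (x : GolayPt → ℤ) k else 0)) else
        ((if i = k then 8 * (x : GolayPt → ℤ) k else 0) - 4 * (x : GolayPt → ℤ) i)) else 0 := by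
    intro i
    show dec (bif Nat.testBit (mk (idx i)) (idx k) then
      (bif xor (Nat.beq (idx k) (idx i)) (Nat.testBit 4268048 (idx k)) then 4 else 28) else 0) * _ = _
    by_cases hi : i ∈ tet S₀ k
    · rw [if_pos hi, (mem_tet i k).1 hi, cond_true, beq_idx]
      by_cases hT : k ∈ T₁
      · have hT' : Nat.testBit 4268048 (idx k) = true := mem_fin.1 hT
        rw [if_pos hT, hT']
        by_cases hik : i = k
        · subst hik
          rw [decide_eq_true rfl, if_pos rfl]
          show dec 28 * _ = _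
          rw [dec_28]; ring
        · rw [decide_eq_false (fun h => hik h.symm), if_neg hik]
          show dec 4 * _ = _
          rw [dec_4]; ring
      · have hT' : Nat.testBit 4268048 (idx k) = false := by
          rw [← Bool.not_eq_true]; exact fun h => hT (mem_fin.2 h)
        rw [if_neg hT, hT']
        by_cases hik : i = k
        · subst hik
          rw [decide_eq_true rfl, if_pos rfl]
          show dec 4 * _ = _
          rw [dec_4]; ring
        · rw [decide_eq_false (fun h => hik h.symm), if_neg hik]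
          show dec 28 * _ = _
          rw [dec_28]; ring
    · rw [if_neg hi]
      have h2 : (mk (idx i)).testBit (idx k) = false := by
        rw [← Bool.not_eq_true]; exact fun h => hi ((mem_tet i k).2 h)
      rw [h2, cond_false, dec_zero, zero_mul]
  rw [Finset.sum_congr rfl fun i _ => h0 i, Finset.sum_ite_mem, Finset.univ_inter]
  have h1 : ∑ i ∈ tet S₀ k, (if i = k then 8 * (x : GolayPt → ℤ) k else 0) =
      8 * (x : GolayPt → ℤ) k := by
    rw [Finset.sum_ite_eq', if_pos (self_mem_tet k)]
  have h2 : ∑ i ∈ tet S₀ k, 4 * (x : GolayPt → ℤ) i = 8 * hsum S₀ (x : GolayPt → ℤ) k := by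
    rw [← Finset.mul_sum, hx]; ring
  have h3 : ((ξ • x : leechLattice) : GolayPt → ℤ) k = if k ∈ T₁ then
      -((x : GolayPt → ℤ) k - hsum S₀ (x : GolayPt → ℤ) k) else
      (x : GolayPt → ℤ) k - hsum S₀ (x : GolayPt → ℤ) k := by
    unfold ξ
    rw [xi_coe, xiMap_apply]
  rw [h3]
  by_cases hT : k ∈ T₁
  · simp only [if_pos hT]
    rw [Finset.sum_sub_distrib, h1, h2]; ring
  · simp only [if_neg hT]
    rw [Finset.sum_sub_distrib, h1, h2]; ring

end Cfsg.Agent.BabyM.HeadAct
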