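import Cfsg.Agent.BabyM.KQ
import Cfsg.Agent.BabyM.ConcRelX
import Cfsg.Agent.BabyM.KRowData

/-! Conjugates of the Pauli letters under `xi` (helper235). -/

set_option autoImplicit false

namespace Cfsg.Agent.BabyM.KRelXi

open Cfsg.Agent.Monster.PauliBits Cfsg.Agent.BabyM.Conc Cfsg.Agent.BabyM.ConcEq Cfsg.Agent.BabyM.KTab
open Cfsg.Agent.BabyM.KRow Cfsg.Agent.BabyM.KRowData Cfsg.Agent.BabyM.KQ

theorem rel_x {k : ℕ} (hk : k < 22) {v : List Ltr} (hv : v.all isq = true)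
    (hc : Nat.beq (cw v) (im I_xi k) = true) (h : W [.xii, qL k, .xi] = W v) :
    E .xi * Cd.R (dec 11 (2 ^ k)) = Cd.R (dec 11 (im I_xi k)) * E .xi := by
  have hi : E .xii = (E .xi)⁻¹ := by
    have h2 := w_xii
    rw [W_cons, W_single, W_nil] at h2
    exact eq_inv_of_mul_eq_one_left h2
  rw [W_cons, W_cons, W_single, W_eq_R v hv, Nat.eq_of_beq_eq_true hc, E_qL k hk, hi] at h
  rw [← h, inv_mul_cancel_right]

theorem rel_xi : ∀ k < 22, E .xi * Cd.R (dec 11 (2 ^ k)) = Cd.R (dec 11 (im I_xi k)) * E .xi := by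
  intro k hk
  interval_cases k
  · exact rel_x (v := [.Z0, .Z1, .Z3, .Z4, .Z5, .Z7, .Z9, .X1, .X2, .X4, .X5, .X6, .X7, .X8, .z]) (by norm_num) (by decide) (by decide +kernel) Cfsg.Agent.BabyM.ConcRelX.xi_Z0
  · exact rel_x (v := [.Z2, .Z5, .Z8, .Z9, .Z10, .X0, .X2, .X3, .X5, .X6, .X7, .X8, .X9]) (by norm_num) (by decide) (by decide +kernel) Cfsg.Agent.BabyM.ConcRelX.xi_Z1
  · exact rel_x (v := [.Z0, .Z5, .Z6, .Z7, .Z8, .Z10, .X0, .X1, .X3, .X4, .X5, .X6, .X8, .X9, .z]) (by norm_num) (by decide) (by decide +kernel) Cfsg.Agent.BabyM.ConcRelX.xi_Z2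
  · exact rel_x (v := [.Z1, .Z4, .Z5, .Z7, .Z9, .X1, .X2, .X4, .X5, .X6, .X7, .X8, .z]) (by norm_num) (by decide) (by decide +kernel) Cfsg.Agent.BabyM.ConcRelX.xi_Z3
  · exact rel_x (v := [.Z1, .Z2, .Z4, .Z5, .Z8, .Z9, .Z10, .X0, .X2, .X3, .X5, .X6, .X7, .X8, .X9]) (by norm_num) (by decide) (by decide +kernel) Cfsg.Agent.BabyM.ConcRelX.xi_Z4
  · exact rel_x (v := [.Z2, .Z3, .Z5, .Z6, .Z8, .Z10, .X0, .X1, .X2, .X3, .X4, .X6, .X7, .X8, .X9]) (by norm_num) (by decide) (by decide +kernel) Cfsg.Agent.BabyM.ConcRelX.xi_Z5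
  · exact rel_x (v := [.Z0, .Z2, .Z4, .Z5, .Z6, .Z8, .Z10, .X0, .X1, .X2, .X3, .X4, .X5, .X7, .X9, .z]) (by norm_num) (by decide) (by decide +kernel) Cfsg.Agent.BabyM.ConcRelX.xi_Z6
  · exact rel_x (v := [.Z0, .Z2, .Z5, .Z6, .Z8, .Z10, .X0, .X1, .X3, .X4, .X5, .X6, .X8, .X9, .z]) (by norm_num) (by decide) (by decide +kernel) Cfsg.Agent.BabyM.ConcRelX.xi_Z7
  · exact rel_x (v := [.Z0, .Z2, .Z4, .Z5, .Z10, .X0, .X1, .X2, .X3, .X4, .X5, .X7, .X9, .z]) (by norm_num) (by decide) (by decide +kernel) Cfsg.Agent.BabyM.ConcRelX.xi_Z8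
  · exact rel_x (v := [.Z1, .Z3, .Z4, .Z5, .Z7, .X1, .X2, .X4, .X5, .X6, .X7, .X8]) (by norm_num) (by decide) (by decide +kernel) Cfsg.Agent.BabyM.ConcRelX.xi_Z9
  · exact rel_x (v := [.Z1, .Z3, .Z5, .Z6, .Z7, .Z10]) (by norm_num) (by decide) (by decide +kernel) Cfsg.Agent.BabyM.ConcRelX.xi_Z10
  · exact rel_x (v := [.Z1, .Z4, .Z5, .Z9, .X0, .X2, .X6, .X7, .X8, .z]) (by norm_num) (by decide) (by decide +kernel) Cfsg.Agent.BabyM.ConcRelX.xi_X0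
  · exact rel_x (v := [.Z0, .Z2, .Z4, .Z7, .Z8, .Z9, .Z10, .X0, .X3, .X4, .X9, .X10, .z]) (by norm_num) (by decide) (by decide +kernel) Cfsg.Agent.BabyM.ConcRelX.xi_X1
  · exact rel_x (v := [.Z1, .Z3, .Z4, .Z5, .Z7, .Z9, .X1, .X4, .X5, .X6, .X7, .X8]) (by norm_num) (by decide) (by decide +kernel) Cfsg.Agent.BabyM.ConcRelX.xi_X2
  · exact rel_x (v := [.Z2, .Z4, .Z8, .Z9, .Z10, .X0, .X5, .X9, .X10, .z]) (by norm_num) (by decide) (by decide +kernel) Cfsg.Agent.BabyM.ConcRelX.xi_X3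
  · exact rel_x (v := [.Z0, .Z1, .Z2, .Z3, .Z7, .Z8, .Z9, .Z10, .X0, .X3, .X4, .X6, .X8, .X9, .z]) (by norm_num) (by decide) (by decide +kernel) Cfsg.Agent.BabyM.ConcRelX.xi_X4
  · exact rel_x (v := [.Z0, .Z2, .Z6, .Z8, .Z9, .Z10, .X0, .X1, .X2, .X3, .X4, .X5, .X6, .X7, .X8, .X9, .X10]) (by norm_num) (by decide) (by decide +kernel) Cfsg.Agent.BabyM.ConcRelX.xi_X5
  · exact rel_x (v := [.Z5, .Z7, .Z9, .X2, .X5, .X6, .X7, .X10, .z]) (by norm_num) (by decide) (by decide +kernel) Cfsg.Agent.BabyM.ConcRelX.xi_X6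
  · exact rel_x (v := [.Z1, .Z2, .Z4, .Z6, .Z8, .Z10, .X0, .X2, .X3, .X9, .X10]) (by norm_num) (by decide) (by decide +kernel) Cfsg.Agent.BabyM.ConcRelX.xi_X7
  · exact rel_x (v := [.Z1, .Z3, .Z4, .Z5, .Z7, .Z9, .X1, .X2, .X4, .X5, .X6, .X7]) (by norm_num) (by decide) (by decide +kernel) Cfsg.Agent.BabyM.ConcRelX.xi_X8
  · exact rel_x (v := [.Z0, .Z1, .Z2, .Z3, .Z4, .Z5, .Z6, .Z8, .Z10, .X0, .X1, .X3, .X4, .z]) (by norm_num) (by decide) (by decide +kernel) Cfsg.Agent.BabyM.ConcRelX.xi_X9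
  · exact rel_x (v := [.Z1, .Z3, .Z4, .Z5, .Z7, .Z9, .X1, .X2, .X4, .X5, .X6, .X7, .X8, .X10]) (by norm_num) (by decide) (by decide +kernel) Cfsg.Agent.BabyM.ConcRelX.xi_X10

end Cfsg.Agent.BabyM.KRelXi
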