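import Cfsg.Agent.BabyM.KQ
import Cfsg.Agent.BabyM.ConcEq
import Cfsg.Agent.BabyM.KRowData

/-! Conjugates of the Pauli letters under y1, y2, y3, y4, y5 (helper235). -/

set_option autoImplicit false

namespace Cfsg.Agent.BabyM.KRelY1

open Cfsg.Agent.Monster.PauliBits Cfsg.Agent.BabyM.Conc Cfsg.Agent.BabyM.ConcEq Cfsg.Agent.BabyM.KTab
open Cfsg.Agent.BabyM.KRow Cfsg.Agent.BabyM.KRowData Cfsg.Agent.BabyM.KQ

theorem y1_0 : W [.Z0, .y1] = W [.y1, .Z0, .Z10] :=
  eqM (by decide +kernel)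

theorem y1_1 : W [.Z1, .y1] = W [.y1, .Z1] :=
  eqM (by decide +kernel)

theorem y1_2 : W [.Z2, .y1] = W [.y1, .Z2] :=
  eqM (by decide +kernel)

theorem y1_3 : W [.Z3, .y1] = W [.y1, .Z3] :=
  eqM (by decide +kernel)

theorem y1_4 : W [.Z4, .y1] = W [.y1, .Z4] :=
  eqM (by decide +kernel)

theorem y1_5 : W [.Z5, .y1] = W [.y1, .Z5] :=
  eqM (by decide +kernel)

theorem y1_6 : W [.Z6, .y1] = W [.y1, .Z6] :=
  eqM (by decide +kernel)

theorem y1_7 : W [.Z7, .y1] = W [.y1, .Z7] :=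
  eqM (by decide +kernel)

theorem y1_8 : W [.Z8, .y1] = W [.y1, .Z8] :=
  eqM (by decide +kernel)

theorem y1_9 : W [.Z9, .y1] = W [.y1, .Z9] :=
  eqM (by decide +kernel)

theorem y1_10 : W [.Z10, .y1] = W [.y1, .Z10] :=
  eqM (by decide +kernel)

theorem y1_11 : W [.X0, .y1] = W [.y1, .X0] :=
  eqM (by decide +kernel)

theorem y1_12 : W [.X1, .y1] = W [.y1, .Z2, .Z7, .Z9, .X1] :=
  eqM (by decide +kernel)

theorem y1_13 : W [.X2, .y1] = W [.y1, .Z1, .Z3, .Z4, .Z9, .X2] :=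
  eqM (by decide +kernel)

theorem y1_14 : W [.X3, .y1] = W [.y1, .Z2, .Z5, .Z8, .Z9, .X3] :=
  eqM (by decide +kernel)

theorem y1_15 : W [.X4, .y1] = W [.y1, .Z2, .Z6, .Z9, .X4] :=
  eqM (by decide +kernel)

theorem y1_16 : W [.X5, .y1] = W [.y1, .Z3, .Z6, .Z7, .Z9, .X5] :=
  eqM (by decide +kernel)

theorem y1_17 : W [.X6, .y1] = W [.y1, .Z4, .Z5, .Z9, .X6] :=
  eqM (by decide +kernel)

theorem y1_18 : W [.X7, .y1] = W [.y1, .Z1, .Z5, .Z9, .X7] :=
  eqM (by decide +kernel)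

theorem y1_19 : W [.X8, .y1] = W [.y1, .Z3, .Z9, .X8] :=
  eqM (by decide +kernel)

theorem y1_20 : W [.X9, .y1] = W [.y1, .Z1, .Z2, .Z3, .Z4, .Z5, .Z6, .Z7, .Z8, .X9, .z] :=
  eqM (by decide +kernel)

theorem y1_21 : W [.X10, .y1] = W [.y1, .X0, .X10] :=
  eqM (by decide +kernel)

theorem rel_y1 : ∀ k < 22, E .y1 * Cd.R (dec 11 (2 ^ k)) = Cd.R (dec 11 (im I_y1 k)) * E .y1 := by
  intro k hk
  interval_cases k
  · exact rel_R (v := [.Z0, .Z10]) (by norm_num) (by decide) (by decide +kernel) y1_0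
  · exact rel_R (v := [.Z1]) (by norm_num) (by decide) (by decide +kernel) y1_1
  · exact rel_R (v := [.Z2]) (by norm_num) (by decide) (by decide +kernel) y1_2
  · exact rel_R (v := [.Z3]) (by norm_num) (by decide) (by decide +kernel) y1_3
  · exact rel_R (v := [.Z4]) (by norm_num) (by decide) (by decide +kernel) y1_4
  · exact rel_R (v := [.Z5]) (by norm_num) (by decide) (by decide +kernel) y1_5
  · exact rel_R (v := [.Z6]) (by norm_num) (by decide) (by decide +kernel) y1_6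
  · exact rel_R (v := [.Z7]) (by norm_num) (by decide) (by decide +kernel) y1_7
  · exact rel_R (v := [.Z8]) (by norm_num) (by decide) (by decide +kernel) y1_8
  · exact rel_R (v := [.Z9]) (by norm_num) (by decide) (by decide +kernel) y1_9
  · exact rel_R (v := [.Z10]) (by norm_num) (by decide) (by decide +kernel) y1_10
  · exact rel_R (v := [.X0]) (by norm_num) (by decide) (by decide +kernel) y1_11
  · exact rel_R (v := [.Z2, .Z7, .Z9, .X1]) (by norm_num) (by decide) (by decide +kernel) y1_12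
  · exact rel_R (v := [.Z1, .Z3, .Z4, .Z9, .X2]) (by norm_num) (by decide) (by decide +kernel) y1_13
  · exact rel_R (v := [.Z2, .Z5, .Z8, .Z9, .X3]) (by norm_num) (by decide) (by decide +kernel) y1_14
  · exact rel_R (v := [.Z2, .Z6, .Z9, .X4]) (by norm_num) (by decide) (by decide +kernel) y1_15
  · exact rel_R (v := [.Z3, .Z6, .Z7, .Z9, .X5]) (by norm_num) (by decide) (by decide +kernel) y1_16
  · exact rel_R (v := [.Z4, .Z5, .Z9, .X6]) (by norm_num) (by decide) (by decide +kernel) y1_17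
  · exact rel_R (v := [.Z1, .Z5, .Z9, .X7]) (by norm_num) (by decide) (by decide +kernel) y1_18
  · exact rel_R (v := [.Z3, .Z9, .X8]) (by norm_num) (by decide) (by decide +kernel) y1_19
  · exact rel_R (v := [.Z1, .Z2, .Z3, .Z4, .Z5, .Z6, .Z7, .Z8, .X9, .z]) (by norm_num) (by decide) (by decide +kernel) y1_20
  · exact rel_R (v := [.X0, .X10]) (by norm_num) (by decide) (by decide +kernel) y1_21

theorem y2_0 : W [.Z0, .y2] = W [.y2, .Z0] :=
  eqM (by decide +kernel)

theorem y2_1 : W [.Z1, .y2] = W [.y2, .Z1, .Z10] :=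
  eqM (by decide +kernel)

theorem y2_2 : W [.Z2, .y2] = W [.y2, .Z2] :=
  eqM (by decide +kernel)

theorem y2_3 : W [.Z3, .y2] = W [.y2, .Z3] :=
  eqM (by decide +kernel)

theorem y2_4 : W [.Z4, .y2] = W [.y2, .Z4] :=
  eqM (by decide +kernel)

theorem y2_5 : W [.Z5, .y2] = W [.y2, .Z5] :=
  eqM (by decide +kernel)

theorem y2_6 : W [.Z6, .y2] = W [.y2, .Z6] :=
  eqM (by decide +kernel)

theorem y2_7 : W [.Z7, .y2] = W [.y2, .Z7] :=
  eqM (by decide +kernel)

theorem y2_8 : W [.Z8, .y2] = W [.y2, .Z8] :=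
  eqM (by decide +kernel)

theorem y2_9 : W [.Z9, .y2] = W [.y2, .Z9] :=
  eqM (by decide +kernel)

theorem y2_10 : W [.Z10, .y2] = W [.y2, .Z10] :=
  eqM (by decide +kernel)

theorem y2_11 : W [.X0, .y2] = W [.y2, .Z2, .Z7, .Z9, .X0] :=
  eqM (by decide +kernel)

theorem y2_12 : W [.X1, .y2] = W [.y2, .X1] :=
  eqM (by decide +kernel)

theorem y2_13 : W [.X2, .y2] = W [.y2, .Z0, .Z3, .Z4, .Z5, .Z6, .Z7, .Z8, .Z9, .X2, .z] :=
  eqM (by decide +kernel)

theorem y2_14 : W [.X3, .y2] = W [.y2, .Z2, .Z4, .Z5, .X3] :=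
  eqM (by decide +kernel)

theorem y2_15 : W [.X4, .y2] = W [.y2, .Z2, .Z3, .Z6, .Z7, .X4] :=
  eqM (by decide +kernel)

theorem y2_16 : W [.X5, .y2] = W [.y2, .Z2, .Z3, .Z9, .X5] :=
  eqM (by decide +kernel)

theorem y2_17 : W [.X6, .y2] = W [.y2, .Z2, .Z4, .Z8, .Z9, .X6] :=
  eqM (by decide +kernel)

theorem y2_18 : W [.X7, .y2] = W [.y2, .Z0, .Z2, .Z4, .X7] :=
  eqM (by decide +kernel)

theorem y2_19 : W [.X8, .y2] = W [.y2, .Z2, .Z6, .X8] :=
  eqM (by decide +kernel)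

theorem y2_20 : W [.X9, .y2] = W [.y2, .Z0, .Z2, .Z5, .Z6, .X9] :=
  eqM (by decide +kernel)

theorem y2_21 : W [.X10, .y2] = W [.y2, .X1, .X10] :=
  eqM (by decide +kernel)

theorem rel_y2 : ∀ k < 22, E .y2 * Cd.R (dec 11 (2 ^ k)) = Cd.R (dec 11 (im I_y2 k)) * E .y2 := by
  intro k hk
  interval_cases k
  · exact rel_R (v := [.Z0]) (by norm_num) (by decide) (by decide +kernel) y2_0
  · exact rel_R (v := [.Z1, .Z10]) (by norm_num) (by decide) (by decide +kernel) y2_1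
  · exact rel_R (v := [.Z2]) (by norm_num) (by decide) (by decide +kernel) y2_2
  · exact rel_R (v := [.Z3]) (by norm_num) (by decide) (by decide +kernel) y2_3
  · exact rel_R (v := [.Z4]) (by norm_num) (by decide) (by decide +kernel) y2_4
  · exact rel_R (v := [.Z5]) (by norm_num) (by decide) (by decide +kernel) y2_5
  · exact rel_R (v := [.Z6]) (by norm_num) (by decide) (by decide +kernel) y2_6
  · exact rel_R (v := [.Z7]) (by norm_num) (by decide) (by decide +kernel) y2_7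
  · exact rel_R (v := [.Z8]) (by norm_num) (by decide) (by decide +kernel) y2_8
  · exact rel_R (v := [.Z9]) (by norm_num) (by decide) (by decide +kernel) y2_9
  · exact rel_R (v := [.Z10]) (by norm_num) (by decide) (by decide +kernel) y2_10
  · exact rel_R (v := [.Z2, .Z7, .Z9, .X0]) (by norm_num) (by decide) (by decide +kernel) y2_11
  · exact rel_R (v := [.X1]) (by norm_num) (by decide) (by decide +kernel) y2_12
  · exact rel_R (v := [.Z0, .Z3, .Z4, .Z5, .Z6, .Z7, .Z8, .Z9, .X2, .z]) (by norm_num) (by decide) (by decide +kernel) y2_13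
  · exact rel_R (v := [.Z2, .Z4, .Z5, .X3]) (by norm_num) (by decide) (by decide +kernel) y2_14
  · exact rel_R (v := [.Z2, .Z3, .Z6, .Z7, .X4]) (by norm_num) (by decide) (by decide +kernel) y2_15
  · exact rel_R (v := [.Z2, .Z3, .Z9, .X5]) (by norm_num) (by decide) (by decide +kernel) y2_16
  · exact rel_R (v := [.Z2, .Z4, .Z8, .Z9, .X6]) (by norm_num) (by decide) (by decide +kernel) y2_17
  · exact rel_R (v := [.Z0, .Z2, .Z4, .X7]) (by norm_num) (by decide) (by decide +kernel) y2_18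
  · exact rel_R (v := [.Z2, .Z6, .X8]) (by norm_num) (by decide) (by decide +kernel) y2_19
  · exact rel_R (v := [.Z0, .Z2, .Z5, .Z6, .X9]) (by norm_num) (by decide) (by decide +kernel) y2_20
  · exact rel_R (v := [.X1, .X10]) (by norm_num) (by decide) (by decide +kernel) y2_21

theorem y3_0 : W [.Z0, .y3] = W [.y3, .Z0] :=
  eqM (by decide +kernel)

theorem y3_1 : W [.Z1, .y3] = W [.y3, .Z1] :=
  eqM (by decide +kernel)

theorem y3_2 : W [.Z2, .y3] = W [.y3, .Z2, .Z10] :=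
  eqM (by decide +kernel)

theorem y3_3 : W [.Z3, .y3] = W [.y3, .Z3] :=
  eqM (by decide +kernel)

theorem y3_4 : W [.Z4, .y3] = W [.y3, .Z4] :=
  eqM (by decide +kernel)

theorem y3_5 : W [.Z5, .y3] = W [.y3, .Z5] :=
  eqM (by decide +kernel)

theorem y3_6 : W [.Z6, .y3] = W [.y3, .Z6] :=
  eqM (by decide +kernel)

theorem y3_7 : W [.Z7, .y3] = W [.y3, .Z7] :=
  eqM (by decide +kernel)

theorem y3_8 : W [.Z8, .y3] = W [.y3, .Z8] :=
  eqM (by decide +kernel)

theorem y3_9 : W [.Z9, .y3] = W [.y3, .Z9] :=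
  eqM (by decide +kernel)

theorem y3_10 : W [.Z10, .y3] = W [.y3, .Z10] :=
  eqM (by decide +kernel)

theorem y3_11 : W [.X0, .y3] = W [.y3, .Z1, .Z3, .Z4, .Z9, .X0] :=
  eqM (by decide +kernel)

theorem y3_12 : W [.X1, .y3] = W [.y3, .Z0, .Z3, .Z4, .Z5, .Z6, .Z7, .Z8, .Z9, .Z10, .X1, .z] :=
  eqM (by decide +kernel)

theorem y3_13 : W [.X2, .y3] = W [.y3, .X2] :=
  eqM (by decide +kernel)

theorem y3_14 : W [.X3, .y3] = W [.y3, .Z0, .Z1, .Z5, .Z7, .X3] :=
  eqM (by decide +kernel)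

theorem y3_15 : W [.X4, .y3] = W [.y3, .Z0, .Z1, .Z6, .X4] :=
  eqM (by decide +kernel)

theorem y3_16 : W [.X5, .y3] = W [.y3, .Z1, .Z3, .Z6, .Z8, .X5] :=
  eqM (by decide +kernel)

theorem y3_17 : W [.X6, .y3] = W [.y3, .Z1, .Z4, .Z5, .X6] :=
  eqM (by decide +kernel)

theorem y3_18 : W [.X7, .y3] = W [.y3, .Z1, .Z3, .X7] :=
  eqM (by decide +kernel)

theorem y3_19 : W [.X8, .y3] = W [.y3, .Z1, .Z5, .Z9, .X8] :=
  eqM (by decide +kernel)

theorem y3_20 : W [.X9, .y3] = W [.y3, .Z0, .Z1, .Z8, .X9] :=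
  eqM (by decide +kernel)

theorem y3_21 : W [.X10, .y3] = W [.y3, .Z1, .X2, .X10] :=
  eqM (by decide +kernel)

theorem rel_y3 : ∀ k < 22, E .y3 * Cd.R (dec 11 (2 ^ k)) = Cd.R (dec 11 (im I_y3 k)) * E .y3 := by
  intro k hk
  interval_cases k
  · exact rel_R (v := [.Z0]) (by norm_num) (by decide) (by decide +kernel) y3_0
  · exact rel_R (v := [.Z1]) (by norm_num) (by decide) (by decide +kernel) y3_1
  · exact rel_R (v := [.Z2, .Z10]) (by norm_num) (by decide) (by decide +kernel) y3_2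
  · exact rel_R (v := [.Z3]) (by norm_num) (by decide) (by decide +kernel) y3_3
  · exact rel_R (v := [.Z4]) (by norm_num) (by decide) (by decide +kernel) y3_4
  · exact rel_R (v := [.Z5]) (by norm_num) (by decide) (by decide +kernel) y3_5
  · exact rel_R (v := [.Z6]) (by norm_num) (by decide) (by decide +kernel) y3_6
  · exact rel_R (v := [.Z7]) (by norm_num) (by decide) (by decide +kernel) y3_7
  · exact rel_R (v := [.Z8]) (by norm_num) (by decide) (by decide +kernel) y3_8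
  · exact rel_R (v := [.Z9]) (by norm_num) (by decide) (by decide +kernel) y3_9
  · exact rel_R (v := [.Z10]) (by norm_num) (by decide) (by decide +kernel) y3_10
  · exact rel_R (v := [.Z1, .Z3, .Z4, .Z9, .X0]) (by norm_num) (by decide) (by decide +kernel) y3_11
  · exact rel_R (v := [.Z0, .Z3, .Z4, .Z5, .Z6, .Z7, .Z8, .Z9, .Z10, .X1, .z]) (by norm_num) (by decide) (by decide +kernel) y3_12
  · exact rel_R (v := [.X2]) (by norm_num) (by decide) (by decide +kernel) y3_13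
  · exact rel_R (v := [.Z0, .Z1, .Z5, .Z7, .X3]) (by norm_num) (by decide) (by decide +kernel) y3_14
  · exact rel_R (v := [.Z0, .Z1, .Z6, .X4]) (by norm_num) (by decide) (by decide +kernel) y3_15
  · exact rel_R (v := [.Z1, .Z3, .Z6, .Z8, .X5]) (by norm_num) (by decide) (by decide +kernel) y3_16
  · exact rel_R (v := [.Z1, .Z4, .Z5, .X6]) (by norm_num) (by decide) (by decide +kernel) y3_17
  · exact rel_R (v := [.Z1, .Z3, .X7]) (by norm_num) (by decide) (by decide +kernel) y3_18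
  · exact rel_R (v := [.Z1, .Z5, .Z9, .X8]) (by norm_num) (by decide) (by decide +kernel) y3_19
  · exact rel_R (v := [.Z0, .Z1, .Z8, .X9]) (by norm_num) (by decide) (by decide +kernel) y3_20
  · exact rel_R (v := [.Z1, .X2, .X10]) (by norm_num) (by decide) (by decide +kernel) y3_21

theorem y4_0 : W [.Z0, .y4] = W [.y4, .Z0] :=
  eqM (by decide +kernel)

theorem y4_1 : W [.Z1, .y4] = W [.y4, .Z1] :=
  eqM (by decide +kernel)

theorem y4_2 : W [.Z2, .y4] = W [.y4, .Z2] :=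
  eqM (by decide +kernel)

theorem y4_3 : W [.Z3, .y4] = W [.y4, .Z3, .Z10] :=
  eqM (by decide +kernel)

theorem y4_4 : W [.Z4, .y4] = W [.y4, .Z4] :=
  eqM (by decide +kernel)

theorem y4_5 : W [.Z5, .y4] = W [.y4, .Z5] :=
  eqM (by decide +kernel)

theorem y4_6 : W [.Z6, .y4] = W [.y4, .Z6] :=
  eqM (by decide +kernel)

theorem y4_7 : W [.Z7, .y4] = W [.y4, .Z7] :=
  eqM (by decide +kernel)

theorem y4_8 : W [.Z8, .y4] = W [.y4, .Z8] :=
  eqM (by decide +kernel)

theorem y4_9 : W [.Z9, .y4] = W [.y4, .Z9] :=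
  eqM (by decide +kernel)

theorem y4_10 : W [.Z10, .y4] = W [.y4, .Z10] :=
  eqM (by decide +kernel)

theorem y4_11 : W [.X0, .y4] = W [.y4, .Z2, .Z5, .Z8, .Z9, .X0] :=
  eqM (by decide +kernel)

theorem y4_12 : W [.X1, .y4] = W [.y4, .Z2, .Z4, .Z5, .X1] :=
  eqM (by decide +kernel)

theorem y4_13 : W [.X2, .y4] = W [.y4, .Z0, .Z1, .Z5, .Z7, .X2] :=
  eqM (by decide +kernel)

theorem y4_14 : W [.X3, .y4] = W [.y4, .X3] :=
  eqM (by decide +kernel)

theorem y4_15 : W [.X4, .y4] = W [.y4, .Z1, .Z5, .Z6, .Z9, .X4] :=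
  eqM (by decide +kernel)

theorem y4_16 : W [.X5, .y4] = W [.y4, .Z0, .Z1, .Z2, .Z4, .Z6, .Z7, .Z8, .Z9, .X5, .z] :=
  eqM (by decide +kernel)

theorem y4_17 : W [.X6, .y4] = W [.y4, .Z4, .Z5, .Z7, .Z8, .X6] :=
  eqM (by decide +kernel)

theorem y4_18 : W [.X7, .y4] = W [.y4, .Z2, .Z5, .Z6, .X7] :=
  eqM (by decide +kernel)

theorem y4_19 : W [.X8, .y4] = W [.y4, .Z0, .Z5, .Z6, .X8] :=
  eqM (by decide +kernel)

theorem y4_20 : W [.X9, .y4] = W [.y4, .Z0, .Z4, .Z5, .X9] :=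
  eqM (by decide +kernel)

theorem y4_21 : W [.X10, .y4] = W [.y4, .X3, .X10] :=
  eqM (by decide +kernel)

theorem rel_y4 : ∀ k < 22, E .y4 * Cd.R (dec 11 (2 ^ k)) = Cd.R (dec 11 (im I_y4 k)) * E .y4 := by
  intro k hk
  interval_cases k
  · exact rel_R (v := [.Z0]) (by norm_num) (by decide) (by decide +kernel) y4_0
  · exact rel_R (v := [.Z1]) (by norm_num) (by decide) (by decide +kernel) y4_1
  · exact rel_R (v := [.Z2]) (by norm_num) (by decide) (by decide +kernel) y4_2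
  · exact rel_R (v := [.Z3, .Z10]) (by norm_num) (by decide) (by decide +kernel) y4_3
  · exact rel_R (v := [.Z4]) (by norm_num) (by decide) (by decide +kernel) y4_4
  · exact rel_R (v := [.Z5]) (by norm_num) (by decide) (by decide +kernel) y4_5
  · exact rel_R (v := [.Z6]) (by norm_num) (by decide) (by decide +kernel) y4_6
  · exact rel_R (v := [.Z7]) (by norm_num) (by decide) (by decide +kernel) y4_7
  · exact rel_R (v := [.Z8]) (by norm_num) (by decide) (by decide +kernel) y4_8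
  · exact rel_R (v := [.Z9]) (by norm_num) (by decide) (by decide +kernel) y4_9
  · exact rel_R (v := [.Z10]) (by norm_num) (by decide) (by decide +kernel) y4_10
  · exact rel_R (v := [.Z2, .Z5, .Z8, .Z9, .X0]) (by norm_num) (by decide) (by decide +kernel) y4_11
  · exact rel_R (v := [.Z2, .Z4, .Z5, .X1]) (by norm_num) (by decide) (by decide +kernel) y4_12
  · exact rel_R (v := [.Z0, .Z1, .Z5, .Z7, .X2]) (by norm_num) (by decide) (by decide +kernel) y4_13
  · exact rel_R (v := [.X3]) (by norm_num) (by decide) (by decide +kernel) y4_14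
  · exact rel_R (v := [.Z1, .Z5, .Z6, .Z9, .X4]) (by norm_num) (by decide) (by decide +kernel) y4_15
  · exact rel_R (v := [.Z0, .Z1, .Z2, .Z4, .Z6, .Z7, .Z8, .Z9, .X5, .z]) (by norm_num) (by decide) (by decide +kernel) y4_16
  · exact rel_R (v := [.Z4, .Z5, .Z7, .Z8, .X6]) (by norm_num) (by decide) (by decide +kernel) y4_17
  · exact rel_R (v := [.Z2, .Z5, .Z6, .X7]) (by norm_num) (by decide) (by decide +kernel) y4_18
  · exact rel_R (v := [.Z0, .Z5, .Z6, .X8]) (by norm_num) (by decide) (by decide +kernel) y4_19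
  · exact rel_R (v := [.Z0, .Z4, .Z5, .X9]) (by norm_num) (by decide) (by decide +kernel) y4_20
  · exact rel_R (v := [.X3, .X10]) (by norm_num) (by decide) (by decide +kernel) y4_21

theorem y5_0 : W [.Z0, .y5] = W [.y5, .Z0] :=
  eqM (by decide +kernel)

theorem y5_1 : W [.Z1, .y5] = W [.y5, .Z1] :=
  eqM (by decide +kernel)

theorem y5_2 : W [.Z2, .y5] = W [.y5, .Z2] :=
  eqM (by decide +kernel)

theorem y5_3 : W [.Z3, .y5] = W [.y5, .Z3] :=
  eqM (by decide +kernel)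

theorem y5_4 : W [.Z4, .y5] = W [.y5, .Z4, .Z10] :=
  eqM (by decide +kernel)

theorem y5_5 : W [.Z5, .y5] = W [.y5, .Z5] :=
  eqM (by decide +kernel)

theorem y5_6 : W [.Z6, .y5] = W [.y5, .Z6] :=
  eqM (by decide +kernel)

theorem y5_7 : W [.Z7, .y5] = W [.y5, .Z7] :=
  eqM (by decide +kernel)

theorem y5_8 : W [.Z8, .y5] = W [.y5, .Z8] :=
  eqM (by decide +kernel)

theorem y5_9 : W [.Z9, .y5] = W [.y5, .Z9] :=
  eqM (by decide +kernel)

theorem y5_10 : W [.Z10, .y5] = W [.y5, .Z10] :=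
  eqM (by decide +kernel)

theorem y5_11 : W [.X0, .y5] = W [.y5, .Z2, .Z6, .Z9, .X0] :=
  eqM (by decide +kernel)

theorem y5_12 : W [.X1, .y5] = W [.y5, .Z2, .Z3, .Z6, .Z7, .X1] :=
  eqM (by decide +kernel)

theorem y5_13 : W [.X2, .y5] = W [.y5, .Z0, .Z1, .Z6, .X2] :=
  eqM (by decide +kernel)

theorem y5_14 : W [.X3, .y5] = W [.y5, .Z1, .Z5, .Z6, .Z9, .X3] :=
  eqM (by decide +kernel)

theorem y5_15 : W [.X4, .y5] = W [.y5, .X4] :=
  eqM (by decide +kernel)

theorem y5_16 : W [.X5, .y5] = W [.y5, .Z3, .Z6, .X5] :=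
  eqM (by decide +kernel)

theorem y5_17 : W [.X6, .y5] = W [.y5, .Z0, .Z1, .Z2, .Z3, .Z5, .Z7, .Z8, .Z9, .X6, .z] :=
  eqM (by decide +kernel)

theorem y5_18 : W [.X7, .y5] = W [.y5, .Z1, .Z6, .Z8, .X7] :=
  eqM (by decide +kernel)

theorem y5_19 : W [.X8, .y5] = W [.y5, .Z6, .Z7, .Z9, .X8] :=
  eqM (by decide +kernel)

theorem y5_20 : W [.X9, .y5] = W [.y5, .Z0, .Z3, .Z6, .Z8, .X9] :=
  eqM (by decide +kernel)

theorem y5_21 : W [.X10, .y5] = W [.y5, .X4, .X10] :=
  eqM (by decide +kernel)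

theorem rel_y5 : ∀ k < 22, E .y5 * Cd.R (dec 11 (2 ^ k)) = Cd.R (dec 11 (im I_y5 k)) * E .y5 := by
  intro k hk
  interval_cases k
  · exact rel_R (v := [.Z0]) (by norm_num) (by decide) (by decide +kernel) y5_0
  · exact rel_R (v := [.Z1]) (by norm_num) (by decide) (by decide +kernel) y5_1
  · exact rel_R (v := [.Z2]) (by norm_num) (by decide) (by decide +kernel) y5_2
  · exact rel_R (v := [.Z3]) (by norm_num) (by decide) (by decide +kernel) y5_3
  · exact rel_R (v := [.Z4, .Z10]) (by norm_num) (by decide) (by decide +kernel) y5_4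
  · exact rel_R (v := [.Z5]) (by norm_num) (by decide) (by decide +kernel) y5_5
  · exact rel_R (v := [.Z6]) (by norm_num) (by decide) (by decide +kernel) y5_6
  · exact rel_R (v := [.Z7]) (by norm_num) (by decide) (by decide +kernel) y5_7
  · exact rel_R (v := [.Z8]) (by norm_num) (by decide) (by decide +kernel) y5_8
  · exact rel_R (v := [.Z9]) (by norm_num) (by decide) (by decide +kernel) y5_9
  · exact rel_R (v := [.Z10]) (by norm_num) (by decide) (by decide +kernel) y5_10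
  · exact rel_R (v := [.Z2, .Z6, .Z9, .X0]) (by norm_num) (by decide) (by decide +kernel) y5_11
  · exact rel_R (v := [.Z2, .Z3, .Z6, .Z7, .X1]) (by norm_num) (by decide) (by decide +kernel) y5_12
  · exact rel_R (v := [.Z0, .Z1, .Z6, .X2]) (by norm_num) (by decide) (by decide +kernel) y5_13
  · exact rel_R (v := [.Z1, .Z5, .Z6, .Z9, .X3]) (by norm_num) (by decide) (by decide +kernel) y5_14
  · exact rel_R (v := [.X4]) (by norm_num) (by decide) (by decide +kernel) y5_15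
  · exact rel_R (v := [.Z3, .Z6, .X5]) (by norm_num) (by decide) (by decide +kernel) y5_16
  · exact rel_R (v := [.Z0, .Z1, .Z2, .Z3, .Z5, .Z7, .Z8, .Z9, .X6, .z]) (by norm_num) (by decide) (by decide +kernel) y5_17
  · exact rel_R (v := [.Z1, .Z6, .Z8, .X7]) (by norm_num) (by decide) (by decide +kernel) y5_18
  · exact rel_R (v := [.Z6, .Z7, .Z9, .X8]) (by norm_num) (by decide) (by decide +kernel) y5_19
  · exact rel_R (v := [.Z0, .Z3, .Z6, .Z8, .X9]) (by norm_num) (by decide) (by decide +kernel) y5_20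
  · exact rel_R (v := [.X4, .X10]) (by norm_num) (by decide) (by decide +kernel) y5_21

end Cfsg.Agent.BabyM.KRelY1
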