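import Cfsg.Agent.BabyM.KGood
import Cfsg.Agent.BabyM.KRelXi
import Cfsg.Agent.BabyM.KRelP
import Cfsg.Agent.BabyM.KRelY1
import Cfsg.Agent.BabyM.KRelY2
import Cfsg.Agent.BabyM.KRow_y1
import Cfsg.Agent.BabyM.KRow_y2
import Cfsg.Agent.BabyM.KRow_y3
import Cfsg.Agent.BabyM.KRow_y4
import Cfsg.Agent.BabyM.KRow_y5
import Cfsg.Agent.BabyM.KRow_y6
import Cfsg.Agent.BabyM.KRow_y7
import Cfsg.Agent.BabyM.KRow_y8
import Cfsg.Agent.BabyM.KRow_y9
import Cfsg.Agent.BabyM.KRow_y10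
import Cfsg.Agent.BabyM.KRow_p
import Cfsg.Agent.BabyM.KRow_h
import Cfsg.Agent.BabyM.KRow_xi

/-!
# The facts for all elements of `C` (helper235)
-/

set_option autoImplicit false

namespace Cfsg.Agent.BabyM.KFact

open Cfsg.Agent.Monster Cfsg.Agent.Monster.VecEngine Cfsg.Agent.Monster.VecSpace
open Cfsg.Agent.Monster.PauliBasic Cfsg.Agent.Monster.PauliRep Cfsg.Agent.Monster.PauliClif Cfsg.Agent.Monster.PauliBits
open Cfsg.Agent.BabyM.KTabData Cfsg.Agent.BabyM.QAct Cfsg.Agent.BabyM.QData Cfsg.Agent.BabyM.QData.Good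
open Cfsg.Agent.BabyM.Conc Cfsg.Agent.BabyM.KTab Cfsg.Agent.BabyM.KRow Cfsg.Agent.BabyM.KQ

section

variable {n : ℕ} {ι : Type} [DecidableEq ι] {C : Coord n ι} {u : ι → ι → ℚ}

theorem aut_s (α : MulAut (Pauli n)) (s : ZMod 2) : α ⟨s, 0, 0⟩ = ⟨s, 0, 0⟩ := by
  rcases zmod2_cases s with h | h
  · rw [h]; exact map_one α
  · rw [h]; exact aut_z α

theorem s_mul_s (s t : ZMod 2) : (⟨s, 0, 0⟩ : Pauli n) * ⟨t, 0, 0⟩ = ⟨s + t, 0, 0⟩ := by
  refine Pauli.ext ?_ ?_ ?_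
  · rw [Pauli.mul_s]; simp
  · rw [Pauli.mul_a]; simp
  · rw [Pauli.mul_b]; simp

/-- The fact for an element of the Pauli group. -/
theorem xfact_R (hu : ∀ i j, C.isX i → ¬ C.isU j → u i j = 0) (y : Pauli n) : XFact C u (C.R y) (MulAut.conj y) := by
  intro i hi
  refine ⟨i, hi, Pauli.form y (C.c i), 0, ?_, ?_, ?_⟩
  · show y * C.c i * y⁻¹ = _
    rw [Pauli.conj_eq]
    refine Pauli.ext ?_ ?_ ?_
    · rw [Pauli.mul_s]; simp [add_comm]
    · rw [Pauli.mul_a]; simp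
    · rw [Pauli.mul_b]; simp
  · rw [sg_zero, one_smul]
    exact R_fix y (fun j hj => hu i j hi hj)
  · rw [add_zero]
    exact R_single y hi.1 1

theorem xfact_mul {g h : (ι → ℚ) ≃ₗ[ℚ] (ι → ℚ)} {α β : MulAut (Pauli n)} (hg : XFact C u g α) (hh : XFact C u h β) :
    XFact C u (g * h) (α * β) := by
  intro i hi
  obtain ⟨j, hj, s, t, h1, h2, h3⟩ := hh i hi
  obtain ⟨k, hk, s', t', h4, h5, h6⟩ := hg j hj
  refine ⟨k, hk, s + s', t + t', ?_, ?_, ?_⟩
  · show α (β (C.c i)) = _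
    rw [h1, map_mul, h4, aut_s, ← mul_assoc, s_mul_s]
  · show g (h (u i)) = _
    rw [h2, map_smul, h5, smul_smul, ← sg_add]
  · show g (h (Pi.single i 1)) = _
    rw [h3, map_smul, h6, smul_smul, ← sg_add]
    congr 2
    ring

theorem xfact_one : XFact C u 1 1 := by
  intro i hi
  refine ⟨i, hi, 0, 0, ?_, ?_, ?_⟩
  · show C.c i = _
    have : (⟨0, 0, 0⟩ : Pauli n) = 1 := rfl
    rw [this, one_mul]
  · rw [sg_zero, one_smul]; rfl
  · rw [add_zero, sg_zero, one_smul]; rfl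

theorem sg_mul_self (s : ZMod 2) : sg ℚ s * sg ℚ s = 1 := by
  rcases sg_eq_or ℚ s with h | h <;> rw [h] <;> norm_num

theorem xfact_inv [Finite ι] (hinj : ∀ i j, C.isX i → C.isX j → ab (C.c i) = ab (C.c j) → i = j)
    {g : (ι → ℚ) ≃ₗ[ℚ] (ι → ℚ)} {α : MulAut (Pauli n)} (hg : XFact C u g α) :
    XFact C u g⁻¹ α⁻¹ := by
  have key : ∀ i : {i // C.isX i}, ∃ j : {i // C.isX i}, ∃ s t : ZMod 2, α (C.c i.1) = ⟨s, 0, 0⟩ * C.c j.1 ∧
      g (u i.1) = sg ℚ t • u j.1 ∧ g (Pi.single i.1 1) = sg ℚ (s + t) • Pi.single j.1 1 := by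
    rintro ⟨i, hi⟩
    obtain ⟨j, hj, s, t, h⟩ := hg i hi
    exact ⟨⟨j, hj⟩, s, t, h⟩
  choose σ hσ using key
  have hab : ∀ i : {i // C.isX i}, ab (α (C.c i.1)) = ab (C.c (σ i).1) := by
    intro i
    obtain ⟨s, t, h1, -, -⟩ := hσ i
    rw [h1, ab_mul]
    show (0 : B n × B n) + _ = _
    rw [zero_add]
  have hσi : Function.Injective σ := by
    intro i i' hii
    have h1 : ab (α (C.c i.1)) = ab (α (C.c i'.1)) := by rw [hab, hab, hii]
    have h2 := ab_aut_congr α⁻¹ h1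
    rw [MulAut.inv_apply_self, MulAut.inv_apply_self] at h2
    exact Subtype.ext (hinj _ _ i.2 i'.2 h2)
  have hσs : Function.Surjective σ := Finite.surjective_of_injective hσi
  intro j hj
  obtain ⟨i, hi⟩ := hσs ⟨j, hj⟩
  obtain ⟨s, t, h1, h2, h3⟩ := hσ i
  rw [hi] at h1 h2 h3
  refine ⟨i.1, i.2, s, t, ?_, ?_, ?_⟩
  · apply α.injective
    rw [MulAut.apply_inv_self, map_mul, aut_s, h1, ← mul_assoc, s_mul_s]
    have h0 : s + s = 0 := by
      rcases zmod2_cases s with h | h <;> rw [h] <;> decide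
    rw [h0]
    show C.c j = 1 * C.c j
    rw [one_mul]
  · show g.symm (u j) = _
    rw [LinearEquiv.symm_apply_eq, map_smul, h2, smul_smul, sg_mul_self, one_smul]
  · show g.symm (Pi.single j 1) = _
    rw [LinearEquiv.symm_apply_eq, map_smul, h3, smul_smul, sg_mul_self, one_smul]

end

/-- **The facts for all elements of `C`.** -/
theorem fact_letter {l : Ltr} (hl : l.isC = true) :
    ∃ α : MulAut (Pauli 11), (∀ x, E l * Cd.R x = Cd.R (α x) * E l) ∧ XFact Cd u (E l) α := by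
  by_cases hq : l.isQ = true
  · obtain ⟨k, hk, rfl⟩ := exists_qL hq
    refine ⟨MulAut.conj (dec 11 (2 ^ k)), ?_, ?_⟩
    · intro x
      rw [E_qL k hk, ← map_mul, ← map_mul]
      show _ = Cd.R (dec 11 (2 ^ k) * x * (dec 11 (2 ^ k))⁻¹ * dec 11 (2 ^ k))
      rw [inv_mul_cancel_right]
    · rw [E_qL k hk]
      exact xfact_R (fun i j _ hj => u_supp i j hj) _
  · cases l
    case y1 => exact fact_of KRelY1.rel_y1 KRow_y1.rows
    case y2 => exact fact_of KRelY1.rel_y2 KRow_y2.rows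
    case y3 => exact fact_of KRelY1.rel_y3 KRow_y3.rows
    case y4 => exact fact_of KRelY1.rel_y4 KRow_y4.rows
    case y5 => exact fact_of KRelY1.rel_y5 KRow_y5.rows
    case y6 => exact fact_of KRelY2.rel_y6 KRow_y6.rows
    case y7 => exact fact_of KRelY2.rel_y7 KRow_y7.rows
    case y8 => exact fact_of KRelY2.rel_y8 KRow_y8.rows
    case y9 => exact fact_of KRelY2.rel_y9 KRow_y9.rows
    case y10 => exact fact_of KRelY2.rel_y10 KRow_y10.rows
    case p => exact fact_of KRelP.rel_p KRow_p.rows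
    case h => exact fact_of KRelP.rel_h KRow_h.rows
    case xi => exact fact_of KRelXi.rel_xi KRow_xi.rows
    all_goals first
      | (exact absurd hl (by decide))
      | (exact absurd rfl hq)

/-- **The facts for all elements of `C`.** -/
theorem fact : ∀ g ∈ Conc.C, ∃ α : MulAut (Pauli 11), (∀ x, g * Cd.R x = Cd.R (α x) * g) ∧ XFact Cd u g α := by
  intro g hg
  induction hg using Subgroup.closure_induction with
  | mem g hg =>
    obtain ⟨l, hl, rfl⟩ := hg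
    exact fact_letter hl
  | one => exact ⟨1, fun x => by rw [one_mul, mul_one]; rfl, xfact_one⟩
  | mul a b _ _ ha hb =>
    obtain ⟨α, h1, h2⟩ := ha
    obtain ⟨β, h3, h4⟩ := hb
    refine ⟨α * β, ?_, xfact_mul h2 h4⟩
    intro x
    rw [mul_assoc, h3, ← mul_assoc, h1, mul_assoc]
    rfl
  | inv a _ ha =>
    obtain ⟨α, h1, h2⟩ := ha
    refine ⟨α⁻¹, ?_, xfact_inv KGood.c_inj h2⟩
    intro x
    have h3 := h1 (α⁻¹ x)
    rw [MulAut.apply_inv_self] at h3
    rw [inv_mul_eq_iff_eq_mul, ← mul_assoc, h3, mul_inv_cancel_right]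

end Cfsg.Agent.BabyM.KFact
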