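import Cfsg.Agent.BabyM.KLink
import Cfsg.Agent.BabyM.FFinal

/-!
# The letters of `Q` for `FFinal` and the instances of its theorems (helper235)
-/

set_option autoImplicit false

namespace Cfsg.Agent.BabyM.KLinkR

open Cfsg.Agent.Monster Cfsg.Agent.Monster.VecEngine Cfsg.Agent.Monster.VecSpace
open Cfsg.Agent.Monster.PauliBasic Cfsg.Agent.Monster.PauliRep Cfsg.Agent.Monster.PauliClif Cfsg.Agent.Monster.PauliBits
open Cfsg.Agent.Monster.PauliGates
open Cfsg.Agent.BabyM.Conc Cfsg.Agent.BabyM.KTab Cfsg.Agent.BabyM.KQ Cfsg.Agent.BabyM.FFinal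

theorem Zl_eq (k : Fin 11) : Zl k = qL k.1 := by
  fin_cases k <;> rfl

theorem Xl_eq (k : Fin 11) : Xl k = qL (11 + k.1) := by
  fin_cases k <;> rfl

theorem rhyp : RHyp where
  hX k := by
    rw [Xl_eq, E_qL _ (by have := k.2; omega), dec_X]
    rfl
  hZ k := by
    rw [Zl_eq, E_qL _ (by have := k.2; omega), dec_Z]
    rfl
  hz := by
    rw [E_z, dec_z]
    rfl

end Cfsg.Agent.BabyM.KLinkR
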