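import Cfsg.Agent.BabyM.KTab
import Cfsg.Agent.BabyM.STabLetters

/-!
# Transitivity of `C` on the 2300 lines `± u i` (helper512)

The coverage of `STabCover` gives transitivity on the coordinates of the X-lanes; with `KCore.Hyp` this is the field `trans` of
`KCore.Link`.
-/

set_option autoImplicit false

namespace Cfsg.Agent.BabyM.KTrans

open Cfsg.Agent.Lib.PermNet Cfsg.Agent.Monster Cfsg.Agent.Monster.VecEngine Cfsg.Agent.Monster.VecSpace
open Cfsg.Agent.BabyM.Conc Cfsg.Agent.BabyM.KTab Cfsg.Agent.BabyM.STabTrack Cfsg.Agent.BabyM.STabCover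
open Cfsg.Agent.BabyM.STabHead Cfsg.Agent.BabyM.STabData Cfsg.Agent.BabyM.KCore Cfsg.Agent.Monster.PauliBasic
open Cfsg.Agent.Monster.PauliRep Cfsg.Agent.Monster.PauliClif Cfsg.Agent.Monster.PauliBits

/-! ### The X-lanes -/

/-- `mE` is the mask of the X-lanes. -/
theorem mE_check : allN 12 (fun i => not (xor (Nat.testBit mE i) (and (Nat.testBit U i) (not (Nat.beq (cd i) 0))))) 0 =
    true := by
  decide +kernel

theorem mE_lt : Nat.shiftRight mE 4096 = 0 := by decide +kernel

theorem mE_iff {i : ℕ} : mE.testBit i = true ↔ U.testBit i = true ∧ i < 4096 ∧ cd i ≠ 0 := by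
  by_cases hi : i < 4096
  · have h1 := allN_spec mE_check (Nat.zero_le i) (by rw [zero_add]; exact hi)
    have h2 : Nat.testBit mE i = (Nat.testBit U i && !(Nat.beq (cd i) 0)) := by
      revert h1
      show (!(xor (Nat.testBit mE i) (Nat.testBit U i && !(Nat.beq (cd i) 0)))) = true → _
      cases Nat.testBit mE i <;> cases (Nat.testBit U i && !(Nat.beq (cd i) 0)) <;> simp
    rw [h2, Bool.and_eq_true]
    constructor
    · rintro ⟨h3, h4⟩
      refine ⟨h3, hi, fun h5 => ?_⟩
      rw [h5] at h4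
      exact absurd h4 (by decide)
    · rintro ⟨h3, -, h5⟩
      refine ⟨h3, ?_⟩
      cases h6 : Nat.beq (cd i) 0 with
      | true => exact absurd (Nat.eq_of_beq_eq_true h6) h5
      | false => rfl
  · constructor
    · intro h
      exfalso
      have h1 : (mE >>> 4096).testBit (i - 4096) = (0 : ℕ).testBit (i - 4096) :=
        congrArg (fun x => Nat.testBit x (i - 4096)) mE_lt
      rw [Nat.testBit_shiftRight, Nat.zero_testBit] at h1
      have h2 : 4096 + (i - 4096) = i := by omega
      rw [h2, h] at h1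
      exact absurd h1 (by simp)
    · rintro ⟨-, h, -⟩
      exact absurd h hi

theorem isX_iff_mE {i : Lane U} : Cd.isX i ↔ mE.testBit i.1 = true := by
  rw [isX_iff, mE_iff]
  exact ⟨fun h => ⟨i.2, h⟩, fun h => h.2⟩

/-! ### Transitivity on the coordinates -/

/-- The letters used. -/
def lets : List Ltr := [.X0, .X1, .X2, .X3, .X4, .X5, .X6, .X7, .X8, .X9, .X10, .y1, .y2, .y3, .y4, .y5, .y6, .y7, .y8,
  .y9, .y10, .p, .h, .xi]

theorem sat_check : sat mE (lets.map fun l => STabLetters.wl [l]) 6 (Nat.pow 2 1281) 0 = true := by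
  decide +kernel

theorem sub_base : Sub (Nat.pow 2 1281) mE := by
  intro i hi
  have h1 : (2 ^ 1281).testBit i = true := hi
  rw [Nat.testBit_two_pow, decide_eq_true_eq] at h1
  rw [← h1]
  exact STabLetters.mE_base

theorem sub_zero : Sub 0 mE := by
  intro i hi
  rw [Nat.zero_testBit] at hi
  exact absurd hi (by simp)

theorem lets_isC {l : Ltr} (h : l ∈ lets) : l.isC = true := by
  revert l; decide

theorem cover_all : ∀ y ∈ Lines STabLetters.u STabLetters.e mE mE, ∃ l ∈ C,
    ∃ x ∈ Lines STabLetters.u STabLetters.e (Nat.pow 2 1281) 0, y = l x := by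
  refine cover (ws := lets.map fun l => STabLetters.wl [l]) ?_ sub_base sub_zero (n := 6) sat_check
  intro w hw
  obtain ⟨l, hl, rfl⟩ := List.mem_map.mp hw
  refine ⟨W [l], ?_, STabLetters.wordOK [l] ?_⟩
  · rw [W_single]; exact E_mem_C (lets_isC hl)
  · intro l' hl'
    rw [List.mem_singleton] at hl'
    subst hl'
    exact STabLetters.notTau_of_isC (lets_isC hl)

theorem e_apply (i : ℕ) (l : Lane U) : STabLetters.e i l = if l.1 = i then 8 else 0 := rfl

theorem u_apply_X (i : ℕ) {l : Lane U} (hl : Cd.isX l) : STabLetters.u i l = 0 := by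
  show uFun 1344 mu i l.1 = 0
  unfold uFun
  split_ifs with h
  · rfl
  · rw [headVal_of_le mu _ _ ?_]
    · norm_num
    · show 23 ≤ l.1 - 1344
      rw [isX_iff] at hl
      have h1 := (cd_eq_zero_iff l.2 hl.1).not.mp hl.2
      omega

/-- `C` is transitive on the coordinates of the X-lanes, up to signs. -/
theorem trans_e {i : Lane U} (hi : Cd.isX i) : ∃ g ∈ C, g (Pi.single Inst.laneB 1) = (Pi.single i 1 : V) ∨
    g (Pi.single Inst.laneB 1) = - (Pi.single i 1 : V) := by
  have hi' := isX_iff_mE.mp hi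
  obtain ⟨g, hg, x, hx, hxe⟩ := cover_all (STabLetters.u i.1 + STabLetters.e i.1) ⟨i.1, Or.inl ⟨hi', Or.inl rfl⟩⟩
  obtain ⟨σ, δ, ε, hact⟩ := STabLetters.exists_act_C g hg
  -- `x = ± (u 1281 + e 1281)`
  have hx' : x = STabLetters.u 1281 + STabLetters.e 1281 ∨ x = -(STabLetters.u 1281 + STabLetters.e 1281) := by
    obtain ⟨k, (⟨hk, h2⟩ | ⟨hk, h2⟩)⟩ := hx
    · have h1 : (2 ^ 1281).testBit k = true := hk
      rw [Nat.testBit_two_pow, decide_eq_true_eq] at h1
      subst h1
      exact h2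
    · rw [Nat.zero_testBit] at hk
      exact absurd hk (by simp)
  set j := σ⁻¹ 1281 with hj
  have hσ : σ j = 1281 := app_inv σ 1281
  have hjm : mE.testBit j = true := by
    rw [← hact.mask, hσ]; exact STabLetters.mE_base
  have hu := hact.hu j hjm
  have he := hact.he j hjm
  rw [hσ] at hu he
  have hjU : U.testBit j = true := (mE_iff.mp hjm).1
  -- compare in the lane `i`
  have key : i.1 = j := by
    by_contra hne
    have h1 : (g x) i = 0 := by
      have h2 : (g (STabLetters.u 1281 + STabLetters.e 1281)) i = 0 := by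
        rw [map_add, hu, he, Pi.add_apply, Pi.smul_apply, Pi.smul_apply, u_apply_X j hi, e_apply, if_neg hne, smul_zero,
          smul_zero, add_zero]
      rcases hx' with rfl | rfl
      · exact h2
      · rw [map_neg, Pi.neg_apply, h2, neg_zero]
    rw [← hxe, Pi.add_apply, u_apply_X _ hi, e_apply, if_pos rfl] at h1
    norm_num at h1
  have hs : ∀ k : Lane U, STabLetters.e k.1 = (8 : ℚ) • (Pi.single k 1 : V) := by
    intro k
    funext l
    rw [e_apply, Pi.smul_apply, smul_eq_mul]
    by_cases h : l = k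
    · subst h; simp
    · rw [Pi.single_eq_of_ne h, if_neg (fun h' => h (Subtype.ext h')), mul_zero]
  have hB : STabLetters.e 1281 = (8 : ℚ) • (Pi.single Inst.laneB 1 : V) := hs Inst.laneB
  rw [← key, hs i, hB, map_smul, smul_comm] at he
  have h8 : g (Pi.single Inst.laneB 1) = sgQ (ε i.1) • (Pi.single i 1 : V) := by
    have h9 := congrArg (fun v : V => (1 / 8 : ℚ) • v) he
    simp only [smul_smul] at h9
    have h11 : (1 / 8 * 8 : ℚ) = 1 := by norm_num
    have h12 : (1 / 8 * (8 * sgQ (ε i.1)) : ℚ) = sgQ (ε i.1) := by ring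
    rw [h12, h11, one_smul] at h9
    exact h9
  refine ⟨g, hg, ?_⟩
  rw [h8]
  unfold sgQ
  split_ifs
  · right; rw [neg_smul, one_smul]
  · left; rw [one_smul]

/-- Field `trans` of `KCore.Link`. -/
theorem trans {n : ℕ} {Cd : QAct.Coord n (Lane U)} {u : Lane U → V} {wt : Lane U → ℚ} (h : Hyp Cd u wt C)
    (hX : ∀ i, Cd.isX i ↔ KTab.Cd.isX i) : ∀ i, Cd.isX i → ∃ g ∈ C, g (u Inst.laneB) = u i ∨ g (u Inst.laneB) = - u i := by
  intro i hi
  obtain ⟨g, hg, h1⟩ := trans_e ((hX i).mp hi)
  have hB : Cd.isX Inst.laneB := (hX _).mpr (isX_iff_mE.mpr STabLetters.mE_base)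
  obtain ⟨j, hj, s, t, -, h2, h3⟩ := h.fact_X hg hB
  have hji : j = i := by
    apply Hyp.single_inj (ι := Lane U) (a := 1) one_ne_zero
    rcases sg_eq_or ℚ (s + t) with h4 | h4 <;> rw [h3, h4] at h1
    · rw [one_smul] at h1; exact h1
    · rw [neg_smul, one_smul] at h1
      rcases h1 with h1 | h1
      · right; rw [← h1, neg_neg]
      · left; exact neg_injective h1
  subst hji
  refine ⟨g, hg, ?_⟩
  rw [h2]
  rcases sg_eq_or ℚ t with h4 | h4 <;> rw [h4]
  · left; rw [one_smul]
  · right; rw [neg_smul, one_smul]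

theorem laneB_X : KTab.Cd.isX Inst.laneB := isX_iff_mE.mpr STabLetters.mE_base

/-- `trans` for the coordinates of `KTab`. -/
theorem trans' {u : Lane U → V} {wt : Lane U → ℚ} (h : Hyp KTab.Cd u wt C) :
    ∀ i, KTab.Cd.isX i → ∃ g ∈ C, g (u Inst.laneB) = u i ∨ g (u Inst.laneB) = - u i :=
  trans h fun _ => Iff.rfl

/-- Field `c_sq` of `KCore.Link`. -/
theorem c_sq : KTab.Cd.c Inst.laneB * KTab.Cd.c Inst.laneB = 1 := by
  have h1 : Nat.beq (Nat.shiftRight (cd 1281) 11) 0 = true := by decide +kernel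
  have h2 : cd 1281 >>> 11 = 0 := Nat.eq_of_beq_eq_true h1
  have h3 : (KTab.Cd.c Inst.laneB).a = 0 := by
    funext i
    show bit (cd 1281) (11 + i.1) = 0
    have h4 : (cd 1281).testBit (11 + i.1) = false := by
      rw [← Nat.testBit_shiftRight, h2, Nat.zero_testBit]
    rcases zmod2_cases (bit (cd 1281) (11 + i.1)) with h5 | h5
    · exact h5
    · rw [bit_eq_one_iff, h4] at h5
      exact absurd h5 (by simp)
  rw [Pauli.sq_eq, h3, dotProduct_zero]
  rfl

end Cfsg.Agent.BabyM.KTrans
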