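import Mathlib

/-!
# The spin side of the 4371-dimensional model of the Baby Monster (helper235), abstract part

`Q` is an extraspecial-like group with central involution `z`, acting on a `ℚ`-space `V` by `R`.  `V` is spanned by
vectors `v x` (`x ∈ P`, fixed by `Q`), vectors `Y x` (`x ∈ P`, permuted by conjugation, `Y (z x) = - Y x`) and a subspace `S`
on which `z` is `-1` and the commutant of `Q` is scalar.  An automorphism `g` of `V` is *compatible* with `α : MulAut Q` if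
`g S = S`, `g R(x) = R(α x) g` on `S`, `g (v x) = ε v (α x)` and `g (Y x) = ε Y (α x)` with the same sign `ε = ±1`.  The elements compatible with some `α`
form a subgroup `Nrm`, which contains `R Q` as a normal subgroup, and a compatible isometry fixing all `v x` is in `R Q`.
-/

set_option autoImplicit false

namespace Cfsg.Agent.BabyM.Spin

universe u1 u2

/-- The data: `Q`, `z`, `P`, the representation `R` on `V`, the vectors `Y`, `v` and the subspace `S`. -/
structure Data (Q : Type u1) [Group Q] (V : Type u2) [AddCommGroup V] [Module ℚ V] where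
  /-- the central involution -/
  z : Q
  /-- the subset `P` of `Q` -/
  P : Set Q
  /-- the representation of `Q` on `V` -/
  R : Q →* (V ≃ₗ[ℚ] V)
  /-- the monomial vectors -/
  Y : Q → V
  /-- the vectors fixed by `Q` -/
  v : Q → V
  /-- the spin part -/
  S : Submodule ℚ V
  z_sq : z * z = 1
  z_comm : ∀ x, z * x = x * z
  R_S : ∀ x, ∀ s ∈ S, R x s ∈ S
  Rz_S : ∀ s ∈ S, R z s = -s
  R_v : ∀ y, ∀ x ∈ P, R y (v x) = v x
  R_Y : ∀ y, ∀ x ∈ P, R y (Y x) = Y (y * x * y⁻¹)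
  v_conj : ∀ x ∈ P, ∀ y, v (y * x * y⁻¹) = v x
  v_ne : ∀ x ∈ P, v x ≠ 0
  P_conj : ∀ x ∈ P, ∀ y, y * x * y⁻¹ ∈ P
  P_gen : Subgroup.closure P = ⊤
  span : Submodule.span ℚ (v '' P) ⊔ Submodule.span ℚ (Y '' P) ⊔ S = ⊤
  v_inj : ∀ x ∈ P, ∀ y ∈ P, v y = v x ∨ v y = - v x → y = x ∨ y = z * x
  comm_scalar : ∀ t : V ≃ₗ[ℚ] V, (∀ s ∈ S, t s ∈ S) → (∀ x, ∀ s ∈ S, t (R x s) = R x (t s)) →
    ∃ c : ℚ, ∀ s ∈ S, t s = c • s
  inner : ∀ α : MulAut Q, (∀ x, α x = x ∨ α x = z * x) → ∃ y, ∀ x, α x = y * x * y⁻¹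

variable {Q : Type u1} [Group Q] {V : Type u2} [AddCommGroup V] [Module ℚ V]

namespace Data

variable (D : Data Q V)

/-- Compatibility of an automorphism of `V` with an automorphism of `Q`. -/
structure Compat (g : V ≃ₗ[ℚ] V) (α : MulAut Q) : Prop where
  mem : ∀ x ∈ D.P, α x ∈ D.P
  mem' : ∀ x ∈ D.P, α.symm x ∈ D.P
  S_mem : ∀ s ∈ D.S, g s ∈ D.S
  S_mem' : ∀ s ∈ D.S, g.symm s ∈ D.S
  t_eq : ∀ x, ∀ s ∈ D.S, g (D.R x s) = D.R (α x) (g s)
  uw_eq : ∀ x ∈ D.P, ∃ ε : ℚ, (ε = 1 ∨ ε = -1) ∧ g (D.v x) = ε • D.v (α x) ∧ g (D.Y x) = ε • D.Y (α x)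

variable {D}

theorem Compat.mul {g g' : V ≃ₗ[ℚ] V} {α α' : MulAut Q} (h : D.Compat g α) (h' : D.Compat g' α') :
    D.Compat (g * g') (α * α') where
  mem x hx := h.mem _ (h'.mem x hx)
  mem' x hx := h'.mem' _ (h.mem' x hx)
  S_mem s hs := h.S_mem _ (h'.S_mem s hs)
  S_mem' s hs := h'.S_mem' _ (h.S_mem' s hs)
  t_eq x s hs := by
    simp only [LinearEquiv.mul_apply, MulAut.mul_apply]
    rw [h'.t_eq x s hs, h.t_eq _ _ (h'.S_mem s hs)]
  uw_eq x hx := by
    obtain ⟨ε, hε, h1, h2⟩ := h'.uw_eq x hx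
    obtain ⟨δ, hδ, h3, h4⟩ := h.uw_eq _ (h'.mem x hx)
    refine ⟨ε * δ, ?_, ?_, ?_⟩
    · rcases hε with rfl | rfl <;> rcases hδ with rfl | rfl <;> norm_num
    · simp only [LinearEquiv.mul_apply, MulAut.mul_apply]
      rw [h1, map_smul, h3, smul_smul]
    · simp only [LinearEquiv.mul_apply, MulAut.mul_apply]
      rw [h2, map_smul, h4, smul_smul]

theorem Compat.inv {g : V ≃ₗ[ℚ] V} {α : MulAut Q} (h : D.Compat g α) : D.Compat g⁻¹ α⁻¹ where
  mem x hx := h.mem' x hx
  mem' x hx := h.mem x hx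
  S_mem s hs := h.S_mem' s hs
  S_mem' s hs := h.S_mem s hs
  t_eq x s hs := by
    apply g.injective
    change g (g.symm _) = g (D.R (α.symm x) (g.symm s))
    rw [h.t_eq _ _ (h.S_mem' s hs), g.apply_symm_apply, g.apply_symm_apply]
    rw [show α (α.symm x) = x from MulEquiv.apply_symm_apply α x]
  uw_eq x hx := by
    obtain ⟨ε, hε, h1, h2⟩ := h.uw_eq _ (h.mem' x hx)
    rw [MulEquiv.apply_symm_apply] at h1 h2
    have hεε : ε * ε = 1 := by rcases hε with rfl | rfl <;> norm_num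
    refine ⟨ε, hε, ?_, ?_⟩
    · apply g.injective
      change g (g.symm _) = g (ε • D.v (α.symm x))
      rw [map_smul, h1, g.apply_symm_apply, smul_smul, hεε, one_smul]
    · apply g.injective
      change g (g.symm _) = g (ε • D.Y (α.symm x))
      rw [map_smul, h2, g.apply_symm_apply, smul_smul, hεε, one_smul]

/-- A compatible element conjugates `R x` to `R (α x)` on the whole space. -/
theorem Compat.conj {g : V ≃ₗ[ℚ] V} {α : MulAut Q} (h : D.Compat g α) (x : Q) :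
    g * D.R x = D.R (α x) * g := by
  apply LinearEquiv.toLinearMap_injective
  rw [← LinearMap.eqLocus_eq_top, eq_top_iff, ← D.span]
  refine sup_le (sup_le ?_ ?_) ?_
  · rw [Submodule.span_le]
    rintro _ ⟨p, hp, rfl⟩
    change g (D.R x (D.v p)) = D.R (α x) (g (D.v p))
    rw [D.R_v x p hp]
    obtain ⟨ε, -, k, -⟩ := h.uw_eq p hp
    rw [k, map_smul, D.R_v _ _ (h.mem p hp)]
  · rw [Submodule.span_le]
    rintro _ ⟨p, hp, rfl⟩
    change g (D.R x (D.Y p)) = D.R (α x) (g (D.Y p))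
    obtain ⟨ε, hε, k, k'⟩ := h.uw_eq p hp
    obtain ⟨δ, hδ, m, m'⟩ := h.uw_eq _ (D.P_conj p hp x)
    rw [D.v_conj p hp x] at m
    have hv : D.v (α (x * p * x⁻¹)) = D.v (α p) := by
      rw [map_mul, map_mul, map_inv, D.v_conj _ (h.mem p hp)]
    rw [hv, k] at m
    have hεδ : ε = δ := by
      by_contra hne
      have h0 : (ε - δ) • D.v (α p) = 0 := by rw [sub_smul, m, sub_self]
      rcases smul_eq_zero.mp h0 with h1 | h1
      · exact hne (sub_eq_zero.mp h1)
      · exact D.v_ne _ (h.mem p hp) h1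
    rw [D.R_Y x p hp, m', k', map_smul, D.R_Y _ _ (h.mem p hp), hεδ]
    simp only [map_mul, map_inv]
  · intro s hs
    exact h.t_eq x s hs

variable (D)

/-- The group of compatible automorphisms. -/
def Nrm : Subgroup (V ≃ₗ[ℚ] V) where
  carrier := {g | ∃ α : MulAut Q, D.Compat g α}
  one_mem' := ⟨1, ⟨fun _ hx => hx, fun _ hx => hx, fun _ hs => hs, fun _ hs => hs, fun _ _ _ => rfl,
    fun _ _ => ⟨1, Or.inl rfl, by simp, by simp⟩⟩⟩
  mul_mem' := by
    rintro a b ⟨α, ha⟩ ⟨β, hb⟩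
    exact ⟨α * β, ha.mul hb⟩
  inv_mem' := by
    rintro a ⟨α, ha⟩
    exact ⟨α⁻¹, ha.inv⟩

variable {D}

theorem mem_Nrm {g : V ≃ₗ[ℚ] V} : g ∈ D.Nrm ↔ ∃ α : MulAut Q, D.Compat g α := Iff.rfl

variable (D)

/-- `R y` is compatible with conjugation by `y`. -/
theorem compat_R (y : Q) : D.Compat (D.R y) (MulAut.conj y) where
  mem x hx := by simpa [MulAut.conj_apply] using D.P_conj x hx y
  mem' x hx := by simpa [MulAut.conj_symm_apply] using D.P_conj x hx y⁻¹
  S_mem s hs := D.R_S y s hs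
  S_mem' s hs := by
    have := D.R_S y⁻¹ s hs
    rw [map_inv] at this
    exact this
  t_eq x s _ := by
    rw [MulAut.conj_apply, ← LinearEquiv.mul_apply, ← LinearEquiv.mul_apply, ← map_mul, ← map_mul]
    congr 2
    group
  uw_eq x hx := by
    refine ⟨1, Or.inl rfl, ?_, ?_⟩
    · rw [MulAut.conj_apply, D.v_conj x hx y, D.R_v y x hx, one_smul]
    · rw [MulAut.conj_apply, D.R_Y y x hx, one_smul]

theorem R_mem_Nrm (y : Q) : D.R y ∈ D.Nrm := ⟨_, D.compat_R y⟩

/-- `Nrm` normalises `R Q`. -/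
theorem conj_R_mem {g : V ≃ₗ[ℚ] V} (hg : g ∈ D.Nrm) {r : V ≃ₗ[ℚ] V} (hr : r ∈ D.R.range) :
    g * r * g⁻¹ ∈ D.R.range := by
  obtain ⟨α, hα⟩ := hg
  obtain ⟨x, rfl⟩ := hr
  exact ⟨α x, by rw [hα.conj x, mul_assoc, mul_inv_cancel, mul_one]⟩

theorem z_inv : D.z⁻¹ = D.z := inv_eq_of_mul_eq_one_left D.z_sq

/-- An automorphism compatible with `g` which fixes all `v x` is inner. -/
theorem exists_inner {g : V ≃ₗ[ℚ] V} {α : MulAut Q} (hα : D.Compat g α) (h1 : ∀ x ∈ D.P, g (D.v x) = D.v x) :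
    ∃ y : Q, ∀ x, α x = y * x * y⁻¹ := by
  have hP : ∀ x ∈ D.P, α x = x ∨ α x = D.z * x := by
    intro x hx
    apply D.v_inj x hx (α x) (hα.mem x hx)
    obtain ⟨ε, hε, k, -⟩ := hα.uw_eq x hx
    rw [h1 x hx] at k
    rcases hε with rfl | rfl
    · left; rw [k, one_smul]
    · right; rw [k, neg_smul, one_smul, neg_neg]
  have hall : ∀ x, α x = x ∨ α x = D.z * x := by
    intro x
    have hx : x ∈ Subgroup.closure D.P := by rw [D.P_gen]; trivial
    induction hx using Subgroup.closure_induction with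
    | mem x hx => exact hP x hx
    | one => left; exact map_one α
    | mul a b _ _ iha ihb =>
      rw [map_mul]
      rcases iha with h | h <;> rcases ihb with h' | h' <;> rw [h, h']
      · left; rfl
      · right; rw [← mul_assoc, ← D.z_comm a, mul_assoc]
      · right; rw [mul_assoc]
      · left
        rw [mul_assoc, ← mul_assoc a D.z b, ← D.z_comm a, ← mul_assoc, ← mul_assoc, D.z_sq, one_mul]
    | inv a _ iha =>
      rw [map_inv]
      rcases iha with h | h <;> rw [h]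
      · left; rfl
      · right; rw [mul_inv_rev, D.z_inv, ← D.z_comm]
  exact D.inner α hall

/-- **Kernel on the `v x`.** A compatible isometry fixing all `v x` is the action of an element of `Q`. -/
theorem exists_eq_R (N : V → ℚ) (hN : ∀ (c : ℚ) s, N (c • s) = c ^ 2 * N s) (hRN : ∀ y s, N (D.R y s) = N s)
    {s0 : V} (hs0S : s0 ∈ D.S) (hs0 : N s0 ≠ 0)
    {g : V ≃ₗ[ℚ] V} (hg : g ∈ D.Nrm) (h1 : ∀ x ∈ D.P, g (D.v x) = D.v x)
    (hz : ∀ x ∈ D.P, D.Y (D.z * x * D.z⁻¹) = D.Y x)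
    (hiso : ∀ s, N (g s) = N s) : ∃ y : Q, g = D.R y := by
  obtain ⟨α, hα⟩ := hg
  obtain ⟨y, hy⟩ := D.exists_inner hα h1
  -- the quotient `t = R(y)⁻¹ g`
  set t : V ≃ₗ[ℚ] V := (D.R y)⁻¹ * g with ht
  have htg : g = D.R y * t := by rw [ht, mul_inv_cancel_left]
  have htS : ∀ s ∈ D.S, t s ∈ D.S := by
    intro s hs
    have := D.R_S y⁻¹ _ (hα.S_mem s hs)
    rw [map_inv] at this
    exact this
  have htc : ∀ x, ∀ s ∈ D.S, t (D.R x s) = D.R x (t s) := by
    intro x s hs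
    change (D.R y)⁻¹ (g (D.R x s)) = D.R x ((D.R y)⁻¹ (g s))
    have key : ∀ a, D.R y⁻¹ (D.R (y * x * y⁻¹) a) = D.R x (D.R y⁻¹ a) := by
      intro a
      rw [← LinearEquiv.mul_apply, ← LinearEquiv.mul_apply, ← map_mul, ← map_mul]
      congr 2
      group
    rw [hα.t_eq x s hs, hy, ← map_inv, key]
  obtain ⟨c, hc⟩ := D.comm_scalar t htS htc
  have hc2 : c ^ 2 = 1 := by
    have h := hiso s0
    rw [htg, LinearEquiv.mul_apply, hRN, hc s0 hs0S, hN] at h
    exact mul_right_cancel₀ hs0 (by rw [one_mul]; exact h)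
  have htv : ∀ x ∈ D.P, t (D.v x) = D.v x := by
    intro x hx
    change (D.R y)⁻¹ (g (D.v x)) = D.v x
    rw [h1 x hx, ← map_inv, D.R_v _ x hx]
  have htY : ∀ x ∈ D.P, t (D.Y x) = D.Y x := by
    intro x hx
    change (D.R y)⁻¹ (g (D.Y x)) = D.Y x
    obtain ⟨ε, hε, k, k'⟩ := hα.uw_eq x hx
    have hε1 : ε = 1 := by
      rw [h1 x hx, hy, D.v_conj x hx] at k
      by_contra hne
      have h0 : (ε - 1) • D.v x = 0 := by rw [sub_smul, ← k, one_smul, sub_self]
      rcases smul_eq_zero.mp h0 with h2 | h2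
      · exact hne (sub_eq_zero.mp h2)
      · exact D.v_ne _ hx h2
    rw [k', hε1, one_smul, hy, ← map_inv, D.R_Y _ _ (D.P_conj x hx y)]
    congr 1
    group
  have hcases : c = 1 ∨ c = -1 := by
    have : (c - 1) * (c + 1) = 0 := by ring_nf; linarith
    rcases mul_eq_zero.mp this with h | h
    · left; linarith
    · right; linarith
  rcases hcases with rfl | rfl
  · refine ⟨y, ?_⟩
    have : t = 1 := by
      apply LinearEquiv.toLinearMap_injective
      rw [← LinearMap.eqLocus_eq_top, eq_top_iff, ← D.span]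
      refine sup_le (sup_le ?_ ?_) ?_
      · rw [Submodule.span_le]; rintro _ ⟨p, hp, rfl⟩; exact htv p hp
      · rw [Submodule.span_le]; rintro _ ⟨p, hp, rfl⟩; exact htY p hp
      · intro s hs
        change t s = s
        rw [hc s hs, one_smul]
    rw [htg, this, mul_one]
  · refine ⟨y * D.z, ?_⟩
    have : t = D.R D.z := by
      apply LinearEquiv.toLinearMap_injective
      rw [← LinearMap.eqLocus_eq_top, eq_top_iff, ← D.span]
      refine sup_le (sup_le ?_ ?_) ?_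
      · rw [Submodule.span_le]; rintro _ ⟨p, hp, rfl⟩
        change t (D.v p) = D.R D.z (D.v p)
        rw [htv p hp, D.R_v _ p hp]
      · rw [Submodule.span_le]; rintro _ ⟨p, hp, rfl⟩
        change t (D.Y p) = D.R D.z (D.Y p)
        rw [htY p hp, D.R_Y _ p hp, hz p hp]
      · intro s hs
        change t s = D.R D.z s
        rw [hc s hs, D.Rz_S s hs, neg_smul, one_smul]
    rw [htg, this, map_mul]

end Data

end Cfsg.Agent.BabyM.Spin
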