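import Mathlib
import Cfsg.Agent.Monster.PauliClif
import Cfsg.Agent.BabyM.Spin

/-!
# The action of the Pauli group on the coordinates of the 4371-dimensional model (helper235)

`Coord n ι`: the index set `ι` of the coordinates is split into *qubit* coordinates (in bijection with `B n`) and the
others; coordinate `i` of the second kind carries a class `c i` of the Pauli group.  `R x` acts on the qubit
coordinates as the `2^n`-dimensional representation, and on the other coordinates by the sign `(-1)^form(x, c i)`.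
With the vectors `u i` fixed by `Q` this gives an instance of `Spin.Data`.
-/

set_option autoImplicit false

namespace Cfsg.Agent.BabyM.QAct

open Cfsg.Agent.Monster Cfsg.Agent.Monster.PauliBasic Cfsg.Agent.Monster.PauliRep Cfsg.Agent.Monster.PauliClif

theorem form_mul_left {n : ℕ} (x y w : Pauli n) :
    Pauli.form (x * y) w = Pauli.form x w + Pauli.form y w := by
  simp only [Pauli.form, Pauli.mul_a, Pauli.mul_b, add_dotProduct, dotProduct_add]
  ring

theorem form_one_left {n : ℕ} (w : Pauli n) : Pauli.form 1 w = 0 := by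
  simp [Pauli.form]

theorem form_z_left {n : ℕ} (w : Pauli n) : Pauli.form (Pauli.z n) w = 0 := by
  simp [Pauli.form]

theorem form_congr {n : ℕ} (x : Pauli n) {w w' : Pauli n} (h : ab w = ab w') :
    Pauli.form x w = Pauli.form x w' := by
  have ha : w.a = w'.a := congrArg Prod.fst h
  have hb : w.b = w'.b := congrArg Prod.snd h
  simp only [Pauli.form, ha, hb]

theorem form_comm {n : ℕ} (x w : Pauli n) : Pauli.form x w = Pauli.form w x := by
  simp only [Pauli.form]; ring

theorem exists_form_eq_one {n : ℕ} {w : Pauli n} (h : ab w ≠ 0) : ∃ x : Pauli n, Pauli.form x w = 1 := by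
  by_cases ha : w.a = 0
  · have hb : w.b ≠ 0 := by
      intro hb; exact h (Prod.ext ha hb)
    obtain ⟨v, hv⟩ := Pauli.exists_dot_ne hb
    refine ⟨⟨0, v, 0⟩, ?_⟩
    simp only [Pauli.form, zero_dotProduct, zero_add]
    rw [dotProduct_comm]; exact hv
  · obtain ⟨v, hv⟩ := Pauli.exists_dot_ne ha
    refine ⟨⟨0, 0, v⟩, ?_⟩
    simp only [Pauli.form, dotProduct_zero, add_zero]
    exact hv

/-- The structure of the coordinates. -/
structure Coord (n : ℕ) (ι : Type) where
  /-- qubit coordinates -/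
  isq : ι → Prop
  /-- the coordinate of a basis vector of the qubit part -/
  ql : B n → ι
  /-- its inverse -/
  qb : ι → B n
  isq_ql : ∀ e, isq (ql e)
  qb_ql : ∀ e, qb (ql e) = e
  ql_qb : ∀ i, isq i → ql (qb i) = i
  /-- the classes of the other coordinates -/
  c : ι → Pauli n

namespace Coord

variable {n : ℕ} {ι : Type} (C : Coord n ι)

open Classical in
/-- The action of an element of the Pauli group. -/
noncomputable def act (x : Pauli n) : (ι → ℚ) →ₗ[ℚ] (ι → ℚ) where
  toFun f := fun i => if C.isq i then rho ℚ x (fun e => f (C.ql e)) (C.qb i)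
    else sg ℚ (Pauli.form x (C.c i)) * f i
  map_add' f g := by
    funext i
    by_cases h : C.isq i
    · simp only [h, if_true, Pi.add_apply, rho_apply]; ring
    · simp only [h, if_false, Pi.add_apply]; ring
  map_smul' a f := by
    funext i
    by_cases h : C.isq i
    · simp only [h, if_true, Pi.smul_apply, rho_apply, smul_eq_mul, RingHom.id_apply]; ring
    · simp only [h, if_false, Pi.smul_apply, smul_eq_mul, RingHom.id_apply]; ring

theorem act_q (x : Pauli n) (f : ι → ℚ) {i : ι} (hi : C.isq i) :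
    C.act x f i = rho ℚ x (fun e => f (C.ql e)) (C.qb i) := by
  simp [act, hi]

theorem act_ql (x : Pauli n) (f : ι → ℚ) (e : B n) :
    C.act x f (C.ql e) = rho ℚ x (fun e => f (C.ql e)) e := by
  rw [act_q C x f (C.isq_ql e), C.qb_ql]

theorem act_nq (x : Pauli n) (f : ι → ℚ) {i : ι} (hi : ¬ C.isq i) :
    C.act x f i = sg ℚ (Pauli.form x (C.c i)) * f i := by
  simp [act, hi]

theorem act_mul (x y : Pauli n) : C.act (x * y) = C.act x ∘ₗ C.act y := by
  apply LinearMap.ext
  intro f
  funext i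
  rw [LinearMap.comp_apply]
  by_cases h : C.isq i
  · rw [act_q C _ _ h, act_q C _ _ h, map_mul]
    show rho ℚ x (rho ℚ y _) _ = _
    have h2 : (fun e => C.act y f (C.ql e)) = rho ℚ y (fun e => f (C.ql e)) := by
      funext e; rw [act_ql]
    rw [h2]
  · rw [act_nq C _ _ h, act_nq C _ _ h, act_nq C _ _ h, form_mul_left, sg_add, mul_assoc]

theorem act_one : C.act 1 = LinearMap.id := by
  apply LinearMap.ext
  intro f
  funext i
  by_cases h : C.isq i
  · rw [act_q C _ _ h, map_one]
    show f (C.ql (C.qb i)) = f i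
    rw [C.ql_qb i h]
  · rw [act_nq C _ _ h, form_one_left, sg_zero, one_mul]
    rfl

/-- The representation of the Pauli group. -/
noncomputable def R : Pauli n →* ((ι → ℚ) ≃ₗ[ℚ] (ι → ℚ)) :=
  MonoidHom.mk'
    (fun x => LinearEquiv.ofLinearMap (C.act x) (C.act x⁻¹)
      (by rw [← act_mul, mul_inv_cancel, act_one])
      (by rw [← act_mul, inv_mul_cancel, act_one]))
    (by
      intro x y
      apply LinearEquiv.ext
      intro f
      show C.act (x * y) f = C.act x (C.act y f)
      rw [act_mul]; rfl)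

theorem R_apply (x : Pauli n) (f : ι → ℚ) : C.R x f = C.act x f := rfl

theorem R_q (x : Pauli n) (f : ι → ℚ) {i : ι} (hi : C.isq i) :
    C.R x f i = rho ℚ x (fun e => f (C.ql e)) (C.qb i) := C.act_q x f hi

theorem R_ql (x : Pauli n) (f : ι → ℚ) (e : B n) :
    C.R x f (C.ql e) = rho ℚ x (fun e => f (C.ql e)) e := C.act_ql x f e

theorem R_nq (x : Pauli n) (f : ι → ℚ) {i : ι} (hi : ¬ C.isq i) :
    C.R x f i = sg ℚ (Pauli.form x (C.c i)) * f i := C.act_nq x f hi

theorem ql_injective : Function.Injective C.ql := by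
  intro a b h
  rw [← C.qb_ql a, h, C.qb_ql]

theorem R_injective : Function.Injective C.R := by
  intro x y h
  apply rho_injective (R := ℚ) (by norm_num)
  apply LinearEquiv.ext
  intro f
  funext e
  have h1 := congrArg (fun T : (ι → ℚ) ≃ₗ[ℚ] (ι → ℚ) => T (fun i => f (C.qb i)) (C.ql e)) h
  simp only [R_ql, C.qb_ql] at h1
  exact h1

/-- the `2300`-part -/
def isX (i : ι) : Prop := ¬ C.isq i ∧ ab (C.c i) ≠ 0

/-- the `23`-part -/
def isU (i : ι) : Prop := ¬ C.isq i ∧ ab (C.c i) = 0

theorem cases (i : ι) : C.isq i ∨ C.isX i ∨ C.isU i := by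
  by_cases h : C.isq i
  · exact Or.inl h
  · by_cases h2 : ab (C.c i) = 0
    · exact Or.inr (Or.inr ⟨h, h2⟩)
    · exact Or.inr (Or.inl ⟨h, h2⟩)

theorem not_isX_of_isU {i : ι} (h : C.isU i) : ¬ C.isX i := fun h2 => h2.2 h.2

theorem R_isU (x : Pauli n) (f : ι → ℚ) {i : ι} (hi : C.isU i) : C.R x f i = f i := by
  rw [R_nq C x f hi.1]
  have : Pauli.form x (C.c i) = 0 := by
    have h := form_congr x (w := C.c i) (w' := 1) hi.2
    rw [h, form_comm, form_one_left]
  rw [this, sg_zero, one_mul]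

theorem R_z_q (f : ι → ℚ) {i : ι} (hi : C.isq i) : C.R (Pauli.z n) f i = - f i := by
  rw [R_q C _ _ hi, rho_z]
  show - f (C.ql (C.qb i)) = - f i
  rw [C.ql_qb i hi]

theorem R_z_nq (f : ι → ℚ) {i : ι} (hi : ¬ C.isq i) : C.R (Pauli.z n) f i = f i := by
  rw [R_nq C _ _ hi, form_z_left, sg_zero, one_mul]

/-- The qubit part. -/
def S : Submodule ℚ (ι → ℚ) where
  carrier := {f | ∀ i, ¬ C.isq i → f i = 0}
  add_mem' := by
    intro f g hf hg i hi
    rw [Pi.add_apply, hf i hi, hg i hi, add_zero]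
  zero_mem' := fun _ _ => rfl
  smul_mem' := by
    intro a f hf i hi
    rw [Pi.smul_apply, hf i hi, smul_zero]

theorem mem_S {f : ι → ℚ} : f ∈ C.S ↔ ∀ i, ¬ C.isq i → f i = 0 := Iff.rfl

theorem R_mem_S (x : Pauli n) {f : ι → ℚ} (hf : f ∈ C.S) : C.R x f ∈ C.S := by
  intro i hi
  rw [R_nq C _ _ hi, hf i hi, mul_zero]

theorem mem_S_iff {f : ι → ℚ} : f ∈ C.S ↔ C.R (Pauli.z n) f = -f := by
  constructor
  · intro hf
    funext i
    by_cases hi : C.isq i
    · rw [R_z_q C f hi]; rfl
    · rw [R_z_nq C f hi, Pi.neg_apply, hf i hi, neg_zero]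
  · intro h i hi
    have h1 := congrFun h i
    rw [R_z_nq C f hi, Pi.neg_apply] at h1
    linarith

/-- Extension of a function on `B n` by zero. -/
noncomputable def ext (f : B n → ℚ) : ι → ℚ := open Classical in fun i => if C.isq i then f (C.qb i) else 0

theorem ext_ql (f : B n → ℚ) (e : B n) : C.ext f (C.ql e) = f e := by
  simp [ext, C.isq_ql, C.qb_ql]

theorem ext_nq (f : B n → ℚ) {i : ι} (hi : ¬ C.isq i) : C.ext f i = 0 := by
  simp [ext, hi]

theorem ext_mem (f : B n → ℚ) : C.ext f ∈ C.S := fun _ hi => C.ext_nq f hi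

/-- Extension by zero as a linear map. -/
noncomputable def extL : (B n → ℚ) →ₗ[ℚ] (ι → ℚ) where
  toFun := C.ext
  map_add' f g := by
    funext i
    by_cases hi : C.isq i <;> simp [ext, hi]
  map_smul' a f := by
    funext i
    by_cases hi : C.isq i <;> simp [ext, hi]

/-- Restriction to the qubit coordinates. -/
def res : (ι → ℚ) →ₗ[ℚ] (B n → ℚ) where
  toFun f := fun e => f (C.ql e)
  map_add' _ _ := rfl
  map_smul' _ _ := rfl

theorem res_extL (f : B n → ℚ) : C.res (C.extL f) = f := by
  funext e; exact C.ext_ql f e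

theorem extL_res {f : ι → ℚ} (hf : f ∈ C.S) : C.extL (C.res f) = f := by
  funext i
  show C.ext (fun e => f (C.ql e)) i = f i
  by_cases hi : C.isq i
  · simp only [ext, hi, if_true]; rw [C.ql_qb i hi]
  · rw [ext_nq C _ hi, hf i hi]

theorem R_extL (x : Pauli n) (f : B n → ℚ) : C.R x (C.extL f) = C.extL (rho ℚ x f) := by
  funext i
  by_cases hi : C.isq i
  · rw [← C.ql_qb i hi, R_ql]
    show rho ℚ x (fun e => C.ext f (C.ql e)) (C.qb i) = C.ext (rho ℚ x f) (C.ql (C.qb i))
    rw [ext_ql]
    have h2 : (fun e => C.ext f (C.ql e)) = f := by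
      funext e; rw [ext_ql]
    rw [h2]
  · rw [R_nq C _ _ hi]
    show _ * C.ext f i = C.ext _ i
    rw [ext_nq C _ hi, ext_nq C _ hi, mul_zero]

theorem res_R (x : Pauli n) (f : ι → ℚ) : C.res (C.R x f) = rho ℚ x (C.res f) := by
  funext e
  exact C.R_ql x f e

/-- The commutant of the Pauli group on the qubit part. -/
theorem comm_scalar (t : (ι → ℚ) →ₗ[ℚ] (ι → ℚ)) (hS : ∀ s ∈ C.S, t s ∈ C.S)
    (hc : ∀ x, ∀ s ∈ C.S, t (C.R x s) = C.R x (t s)) : ∃ a : ℚ, ∀ s ∈ C.S, t s = a • s := by
  obtain ⟨a, ha⟩ := commutant (R := ℚ) (n := n) (by norm_num) (C.res ∘ₗ t ∘ₗ C.extL) (by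
    intro x
    apply LinearMap.ext
    intro f
    show C.res (t (C.extL (rho ℚ x f))) = rho ℚ x (C.res (t (C.extL f)))
    rw [← R_extL, ← res_R]
    congr 1
    exact hc x (C.extL f) (C.ext_mem f))
  refine ⟨a, fun s hs => ?_⟩
  have h := LinearMap.congr_fun ha (C.res s)
  simp only [LinearMap.comp_apply, LinearMap.smul_apply, LinearMap.id_apply] at h
  rw [C.extL_res hs] at h
  have h2 := congrArg C.extL h
  rw [C.extL_res (hS s hs), map_smul, C.extL_res hs] at h2
  exact h2

/-- The Pauli group is irreducible on the qubit part. -/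
theorem irred {s : ι → ℚ} (hs : s ∈ C.S) (hs0 : s ≠ 0) {m : ι → ℚ} (hm : m ∈ C.S) :
    m ∈ Submodule.span ℚ {x | ∃ q, x = C.R q s} := by
  classical
  -- the operators span the endomorphisms of `B n → ℚ`
  have hli := linearIndependent_act (R := ℚ) (n := n) (by norm_num)
  have hcard : Fintype.card (B n × B n) =
      Module.finrank ℚ ((B n → ℚ) →ₗ[ℚ] (B n → ℚ)) := by
    rw [Module.finrank_linearMap, Module.finrank_fintype_fun_eq_card, Fintype.card_prod]
  have hne : Nonempty (B n × B n) := ⟨(0, 0)⟩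
  have hspan := hli.span_eq_top_of_card_eq_finrank hcard
  -- a linear map sending `res s` to `res m`
  have hr0 : C.res s ≠ 0 := by
    intro h
    apply hs0
    rw [← C.extL_res hs, h, map_zero]
  obtain ⟨φ, hφ⟩ : ∃ φ : Module.Dual ℚ (B n → ℚ), φ (C.res s) ≠ 0 := by
    by_contra hcon
    push Not at hcon
    exact hr0 ((Module.forall_dual_apply_eq_zero_iff ℚ _).mp hcon)
  set T : (B n → ℚ) →ₗ[ℚ] (B n → ℚ) := ((φ (C.res s))⁻¹ • φ).smulRight (C.res m) with hT
  have hTs : T (C.res s) = C.res m := by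
    rw [hT, LinearMap.smulRight_apply, LinearMap.smul_apply, smul_eq_mul, inv_mul_cancel₀ hφ, one_smul]
  have hmem : T ∈ Submodule.span ℚ (Set.range fun p : B n × B n => PauliRep.act ℚ (⟨0, p.1, p.2⟩ : Pauli n)) := by
    rw [hspan]; trivial
  have key : ∀ A ∈ Submodule.span ℚ (Set.range fun p : B n × B n => PauliRep.act ℚ (⟨0, p.1, p.2⟩ : Pauli n)),
      C.extL (A (C.res s)) ∈ Submodule.span ℚ {x | ∃ q, x = C.R q s} := by
    intro A hA
    induction hA using Submodule.span_induction with
    | mem A hA =>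
      obtain ⟨p, rfl⟩ := hA
      apply Submodule.subset_span
      refine ⟨⟨0, p.1, p.2⟩, ?_⟩
      conv_rhs => rw [← C.extL_res hs, R_extL]
      rfl
    | zero => rw [LinearMap.zero_apply, map_zero]; exact Submodule.zero_mem _
    | add A A' _ _ h h' => rw [LinearMap.add_apply, map_add]; exact Submodule.add_mem _ h h'
    | smul a A _ h => rw [LinearMap.smul_apply, map_smul]; exact Submodule.smul_mem _ _ h
  have h := key T hmem
  rw [hTs, C.extL_res hm] at h
  exact h

end Coord

end Cfsg.Agent.BabyM.QAct
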