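import Cfsg.Agent.BabyM.QAct

/-!
# The spin data of the coordinates (helper235)

From the structure `Coord` and vectors `u i` (`i` an `X`-coordinate) in the `23`-part we get an instance of
`Spin.Data`, and the compatibility of a linear automorphism with an automorphism of the Pauli group from finitely many
facts: its action on the vectors `u i` and on the `X`-coordinates.
-/

set_option autoImplicit false

namespace Cfsg.Agent.BabyM.QData

open Cfsg.Agent.Monster Cfsg.Agent.Monster.PauliBasic Cfsg.Agent.Monster.PauliRep Cfsg.Agent.Monster.PauliClif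
open Cfsg.Agent.BabyM.QAct

variable {n : ℕ} {ι : Type}

/-- The conditions on the classes and the vectors. -/
structure Good (C : Coord n ι) [DecidableEq ι] (u : ι → ι → ℚ) : Prop where
  c_inj : ∀ i j, C.isX i → C.isX j → ab (C.c i) = ab (C.c j) → i = j
  c_s : ∀ i, (C.c i).s = 0
  gen : Subgroup.closure {x : Pauli n | ∃ i, C.isX i ∧ ab x = ab (C.c i)} = ⊤
  u_supp : ∀ i j, C.isX i → ¬ C.isU j → u i j = 0
  u_ne : ∀ i, C.isX i → u i ≠ 0
  u_span : ∀ j, C.isU j → (Pi.single j 1 : ι → ℚ) ∈ Submodule.span ℚ {x | ∃ i, C.isX i ∧ x = u i}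
  u_inj : ∀ i j, C.isX i → C.isX j → (u j = u i ∨ u j = - u i) → i = j

namespace Good

variable {C : Coord n ι} [DecidableEq ι] {u : ι → ι → ℚ}

/-- The set `P`: the elements of the Pauli group over the classes of the `X`-coordinates. -/
def P (C : Coord n ι) : Set (Pauli n) := {x | ∃ i, C.isX i ∧ ab x = ab (C.c i)}

open Classical in
/-- The coordinate of a class. -/
noncomputable def laneA (C : Coord n ι) (p : B n × B n) : ι :=
  if h : ∃ i, C.isX i ∧ p = ab (C.c i) then h.choose else C.ql 0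

/-- The coordinate of an element of `P`. -/
noncomputable def lane (C : Coord n ι) (x : Pauli n) : ι := laneA C (ab x)

variable (h : Good C u)

include h in
theorem lane_eq {x : Pauli n} {i : ι} (hi : C.isX i) (hx : ab x = ab (C.c i)) : lane C x = i := by
  have hex : ∃ i, C.isX i ∧ ab x = ab (C.c i) := ⟨i, hi, hx⟩
  have h1 := hex.choose_spec
  have h2 : lane C x = hex.choose := by unfold lane laneA; rw [dif_pos hex]
  rw [h2]
  exact h.c_inj _ _ h1.1 hi (h1.2.symm.trans hx)

/-- The vector of an element of `P` in the `23`-part. -/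
noncomputable def vv (C : Coord n ι) (u : ι → ι → ℚ) (x : Pauli n) : ι → ℚ := u (lane C x)

/-- The vector of an element of `P` in the `X`-part. -/
noncomputable def YY (C : Coord n ι) (x : Pauli n) : ι → ℚ := sg ℚ x.s • Pi.single (lane C x) 1

omit [DecidableEq ι] in
theorem lane_congr {x y : Pauli n} (hxy : ab x = ab y) : lane C x = lane C y := by
  unfold lane
  rw [hxy]

theorem ab_conj (y x : Pauli n) : ab (y * x * y⁻¹) = ab x := by
  rw [Pauli.conj_eq]; rfl

theorem R_single (x : Pauli n) {i : ι} (hi : ¬ C.isq i) (a : ℚ) :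
    C.R x (Pi.single i a) = sg ℚ (Pauli.form x (C.c i)) • Pi.single i a := by
  funext j
  by_cases hj : C.isq j
  · have hji : j ≠ i := fun h => hi (h ▸ hj)
    rw [C.R_q x _ hj, Pi.smul_apply, Pi.single_eq_of_ne hji, smul_zero]
    have h0 : (fun e => (Pi.single i a : ι → ℚ) (C.ql e)) = 0 := by
      funext e
      have : C.ql e ≠ i := fun h => hi (h ▸ C.isq_ql e)
      rw [Pi.single_eq_of_ne this]; rfl
    rw [h0, map_zero]; rfl
  · rw [C.R_nq x _ hj, Pi.smul_apply, smul_eq_mul]
    by_cases hji : j = i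
    · subst hji; rfl
    · rw [Pi.single_eq_of_ne hji, mul_zero, mul_zero]

omit [DecidableEq ι] in
/-- A vector supported on the `U`-coordinates is fixed by `R x`. -/
theorem R_fix (x : Pauli n) {f : ι → ℚ} (hf : ∀ j, ¬ C.isU j → f j = 0) : C.R x f = f := by
  funext j
  by_cases hj : C.isU j
  · exact C.R_isU x f hj
  · rcases C.cases j with hq | hX | hU
    · rw [C.R_q x _ hq, hf j hj]
      have h0 : (fun e => f (C.ql e)) = 0 := by
        funext e
        exact hf _ (fun h => h.1 (C.isq_ql e))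
      rw [h0, map_zero]; rfl
    · rw [C.R_nq x _ hX.1, hf j hj, mul_zero]
    · exact absurd hU hj

include h in
theorem gen' : Subgroup.closure (P C) = ⊤ := h.gen

theorem z_ab (x : Pauli n) : ab (Pauli.z n * x) = ab x := by
  rw [Pauli.z_mul]; rfl

/-- The spin data. -/
noncomputable def data [Fintype ι] (h : Good C u) : Spin.Data (Pauli n) (ι → ℚ) where
  z := Pauli.z n
  P := P C
  R := C.R
  Y := YY C
  v := vv C u
  S := C.S
  z_sq := Pauli.z_sq
  z_comm x := by rw [Pauli.z_mul, Pauli.mul_z]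
  R_S x s hs := C.R_mem_S x hs
  Rz_S s hs := C.mem_S_iff.mp hs
  R_v y x hx := by
    obtain ⟨i, hi, hxi⟩ := hx
    unfold vv
    rw [h.lane_eq hi hxi]
    exact R_fix y (fun j hj => h.u_supp i j hi hj)
  R_Y y x hx := by
    obtain ⟨i, hi, hxi⟩ := hx
    unfold YY
    rw [lane_congr (C := C) (ab_conj y x), h.lane_eq hi hxi, map_smul, R_single y hi.1, Pauli.conj_eq,
      smul_smul, ← sg_add, form_congr y hxi]
  v_conj x _ y := by
    unfold vv
    rw [lane_congr (C := C) (ab_conj y x)]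
  v_ne x hx := by
    obtain ⟨i, hi, hxi⟩ := hx
    unfold vv
    rw [h.lane_eq hi hxi]
    exact h.u_ne i hi
  P_conj x hx y := by
    obtain ⟨i, hi, hxi⟩ := hx
    exact ⟨i, hi, by rw [ab_conj, hxi]⟩
  P_gen := h.gen
  span := by
    rw [eq_top_iff]
    intro f _
    have hf : f = ∑ i, f i • (Pi.single i 1 : ι → ℚ) := by
      funext j
      simp [Finset.sum_apply, Pi.single_apply]
    rw [hf]
    apply Submodule.sum_mem
    intro i _
    apply Submodule.smul_mem
    rcases C.cases i with hq | hX | hU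
    · apply Submodule.mem_sup_right
      intro j hj
      have : j ≠ i := fun h => hj (h ▸ hq)
      rw [Pi.single_eq_of_ne this]
    · apply Submodule.mem_sup_left
      apply Submodule.mem_sup_right
      apply Submodule.subset_span
      refine ⟨C.c i, ⟨i, hX, rfl⟩, ?_⟩
      unfold YY
      rw [h.lane_eq hX rfl, h.c_s, sg_zero, one_smul]
    · apply Submodule.mem_sup_left
      apply Submodule.mem_sup_left
      refine Submodule.span_mono ?_ (h.u_span i hU)
      rintro _ ⟨j, hj, rfl⟩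
      exact ⟨C.c j, ⟨j, hj, rfl⟩, by unfold vv; rw [h.lane_eq hj rfl]⟩
  v_inj x hx y hy := by
    obtain ⟨i, hi, hxi⟩ := hx
    obtain ⟨j, hj, hyj⟩ := hy
    intro hv
    unfold vv at hv
    rw [h.lane_eq hi hxi, h.lane_eq hj hyj] at hv
    have hij := h.u_inj i j hi hj hv
    subst hij
    exact (ab_eq_iff y x).mp (hyj.trans hxi.symm)
  comm_scalar t h1 h2 := C.comm_scalar t.toLinearMap h1 h2
  inner α hα := by
    obtain ⟨y, hy⟩ := exists_conj α (fun x => by
      rcases hα x with h1 | h1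
      · rw [h1]; exact ⟨rfl, rfl⟩
      · rw [h1, Pauli.z_mul]; exact ⟨rfl, rfl⟩)
    exact ⟨y, fun x => by rw [hy]; rfl⟩

/-! ### Compatibility from finitely many facts -/

/-- The facts on the action of `g` on the `X`-coordinates and the vectors `u i`. -/
def XFact (C : Coord n ι) (u : ι → ι → ℚ) (g : (ι → ℚ) ≃ₗ[ℚ] (ι → ℚ)) (α : MulAut (Pauli n)) : Prop :=
  ∀ i, C.isX i → ∃ j, C.isX j ∧ ∃ s t : ZMod 2, α (C.c i) = ⟨s, 0, 0⟩ * C.c j ∧ g (u i) = sg ℚ t • u j ∧
    g (Pi.single i 1) = sg ℚ (s + t) • Pi.single j 1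

omit [DecidableEq ι] in
theorem mem_P_of_X [DecidableEq ι] {g : (ι → ℚ) ≃ₗ[ℚ] (ι → ℚ)} {α : MulAut (Pauli n)} (hX : XFact C u g α) :
    ∀ x ∈ P C, α x ∈ P C := by
  rintro x ⟨i, hi, hxi⟩
  obtain ⟨j, hj, s, t, h1, -, -⟩ := hX i hi
  refine ⟨j, hj, ?_⟩
  rw [ab_aut_congr α hxi, h1, ab_mul]
  show (0 : B n × B n) + ab (C.c j) = ab (C.c j)
  rw [zero_add]

omit [DecidableEq ι] in
theorem mem_P_of_X' {α : MulAut (Pauli n)} (hP : ∀ x ∈ P C, α x ∈ P C) : ∀ x ∈ P C, α.symm x ∈ P C := by
  intro x hx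
  have h1 : (fun x => α x) '' (P C) = P C :=
    Set.eq_of_subset_of_ncard_le (by rintro _ ⟨y, hy, rfl⟩; exact hP y hy)
      (by rw [Set.ncard_image_of_injective _ α.injective]) (Set.toFinite _)
  have h2 : x ∈ (fun x => α x) '' (P C) := by rw [h1]; exact hx
  obtain ⟨y, hy, rfl⟩ := h2
  have : α.symm (α y) = y := α.symm_apply_apply y
  rw [this]
  exact hy

/-- **Compatibility.** -/
theorem compat [Fintype ι] {g : (ι → ℚ) ≃ₗ[ℚ] (ι → ℚ)} {α : MulAut (Pauli n)}
    (hg : ∀ x, g * C.R x = C.R (α x) * g) (hX : XFact C u g α) : h.data.Compat g α where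
  mem := mem_P_of_X hX
  mem' := mem_P_of_X' (mem_P_of_X hX)
  S_mem s hs := by
    have h1 := LinearEquiv.congr_fun (hg (Pauli.z n)) s
    rw [aut_z] at h1
    apply C.mem_S_iff.mpr
    have h2 : g (C.R (Pauli.z n) s) = C.R (Pauli.z n) (g s) := h1
    rw [← h2, C.mem_S_iff.mp hs, map_neg]
  S_mem' s hs := by
    have h1 := LinearEquiv.congr_fun (hg (Pauli.z n)) (g.symm s)
    rw [aut_z] at h1
    apply C.mem_S_iff.mpr
    have h2 : g (C.R (Pauli.z n) (g.symm s)) = C.R (Pauli.z n) (g (g.symm s)) := h1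
    rw [g.apply_symm_apply, C.mem_S_iff.mp hs] at h2
    rw [← g.symm_apply_apply (C.R (Pauli.z n) (g.symm s)), h2, map_neg]
  t_eq x s _ := LinearEquiv.congr_fun (hg x) s
  uw_eq x hx := by
    obtain ⟨i, hi, hxi⟩ := hx
    obtain ⟨j, hj, s, t, h1, h2, h3⟩ := hX i hi
    have hαx : ab (α x) = ab (C.c j) := by
      rw [ab_aut_congr α hxi, h1, ab_mul]
      show (0 : B n × B n) + ab (C.c j) = ab (C.c j)
      rw [zero_add]
    have hs : (α x).s = x.s + s := by
      have h4 : x = ⟨x.s, 0, 0⟩ * C.c i := by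
        have ha : x.a = (C.c i).a := congrArg Prod.fst hxi
        have hb : x.b = (C.c i).b := congrArg Prod.snd hxi
        refine Pauli.ext ?_ ?_ ?_
        · rw [Pauli.mul_s, h.c_s]; simp
        · rw [Pauli.mul_a, ha]; simp
        · rw [Pauli.mul_b, hb]; simp
      have h5 : α (⟨x.s, 0, 0⟩ : Pauli n) = ⟨x.s, 0, 0⟩ := by
        rcases zmod2_cases x.s with h0 | h0
        · rw [h0]; exact map_one α
        · rw [h0]; exact aut_z α
      have h6 : α x = ⟨x.s, 0, 0⟩ * (⟨s, 0, 0⟩ * C.c j) := by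
        conv_lhs => rw [h4]
        rw [map_mul, h5, h1]
      rw [h6, Pauli.mul_s, Pauli.mul_s, h.c_s]
      simp
    refine ⟨sg ℚ t, sg_eq_or ℚ t, ?_, ?_⟩
    · show g (vv C u x) = sg ℚ t • vv C u (α x)
      unfold vv
      rw [h.lane_eq hi hxi, h.lane_eq hj hαx, h2]
    · show g (YY C x) = sg ℚ t • YY C (α x)
      unfold YY
      rw [h.lane_eq hi hxi, h.lane_eq hj hαx, map_smul, h3, hs, smul_smul, smul_smul, ← sg_add, ← sg_add]
      congr 2
      ring

end Good

end Cfsg.Agent.BabyM.QData
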