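import Cfsg.Agent.BabyM.RepOf

/-!
# The fields on the signed axes, from `Hyp23` and elementary fields of `BRep`

`Aux M` collects elementary facts on `C`, `Q`, `e₀` (all of them fields of `BGroup`, `BRep`); together
with `Hyp23` they give the fields `S_card`, `e_card`, `design`; with the pairing also `t₀_e`.
-/

set_option autoImplicit false

namespace Cfsg.Agent.BabyM.RepE

open Cfsg Cfsg.Agent.Leech.Basic Cfsg.Agent.Leech.Co0Elts
open Cfsg.Agent.BabyM.Model Cfsg.Agent.BabyM.Rigid23Thm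
  Cfsg.Agent.BabyM.RigidField Cfsg.Agent.BabyM.Design Cfsg.Agent.BabyM.SpanNeg Cfsg.Agent.BabyM.RepOf

variable {W : Type} [AddCommGroup W] [Module ℚ W]

/-- Elementary facts. -/
structure Aux (M : BData W) : Prop where
  C_isom : ∀ g ∈ M.C, ∀ x y, M.F (g x) (g y) = M.F x y
  F_symm : ∀ x y, M.F x y = M.F y x
  e₀_norm : M.F M.e₀ M.e₀ = 4
  stab_u₀ : ∀ g ∈ M.C, (g M.u₀ = M.u₀ ∨ g M.u₀ = - M.u₀) → g M.e₀ = M.e₀ ∨ g M.e₀ = - M.e₀
  stab_e₀ : ∀ g ∈ M.C, (g M.e₀ = M.e₀ ∨ g M.e₀ = - M.e₀) → g M.u₀ = M.u₀ ∨ g M.u₀ = - M.u₀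
  sep : ∀ g ∈ M.C, g M.e₀ ≠ M.e₀ → g M.e₀ ≠ - M.e₀ →
    ∃ q ∈ M.Q, q M.e₀ = M.e₀ ∧ q (g M.e₀) = - g M.e₀
  Q_le : M.Q ≤ M.C
  Q_normal : ∀ g ∈ M.C, ∀ q ∈ M.Q, g⁻¹ * q * g ∈ M.Q
  Q_u₀ : ∀ q ∈ M.Q, q M.u₀ = M.u₀
  flip : ∃ q ∈ M.Q, q M.e₀ = - M.e₀

section

variable {M : BData W} {l r₀ : leechLattice} {ω : leechLattice →+ W}

theorem inv_apply_self' (g : W ≃ₗ[ℚ] W) (x : W) : g⁻¹ (g x) = x := g.symm_apply_apply x

theorem apply_inv_self' (g : W ≃ₗ[ℚ] W) (x : W) : g (g⁻¹ x) = x := g.apply_symm_apply x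

/-- two elements with the same action on `±u₀` have the same action on `±e₀` -/
theorem Aux.e_of_u (a : Aux M) {g h : W ≃ₗ[ℚ] W} (hg : g ∈ M.C) (hh : h ∈ M.C)
    (hgh : g M.u₀ = h M.u₀ ∨ g M.u₀ = - h M.u₀) : g M.e₀ = h M.e₀ ∨ g M.e₀ = - h M.e₀ := by
  have h1 := a.stab_u₀ (h⁻¹ * g) (mul_mem (inv_mem hh) hg) (by
    rw [LinearEquiv.mul_apply]
    rcases hgh with h2 | h2
    · left; rw [h2, inv_apply_self']
    · right; rw [h2, map_neg, inv_apply_self'])
  rw [LinearEquiv.mul_apply] at h1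
  rcases h1 with h2 | h2
  · left
    have h3 := congrArg h h2
    rw [apply_inv_self'] at h3
    exact h3
  · right
    have h3 := congrArg h h2
    rw [apply_inv_self', map_neg] at h3
    exact h3

theorem Aux.u_of_e (a : Aux M) {g h : W ≃ₗ[ℚ] W} (hg : g ∈ M.C) (hh : h ∈ M.C)
    (hgh : g M.e₀ = h M.e₀ ∨ g M.e₀ = - h M.e₀) : g M.u₀ = h M.u₀ ∨ g M.u₀ = - h M.u₀ := by
  have h1 := a.stab_e₀ (h⁻¹ * g) (mul_mem (inv_mem hh) hg) (by
    rw [LinearEquiv.mul_apply]
    rcases hgh with h2 | h2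
    · left; rw [h2, inv_apply_self']
    · right; rw [h2, map_neg, inv_apply_self'])
  rw [LinearEquiv.mul_apply] at h1
  rcases h1 with h2 | h2
  · left
    have h3 := congrArg h h2
    rw [apply_inv_self'] at h3
    exact h3
  · right
    have h3 := congrArg h h2
    rw [apply_inv_self', map_neg] at h3
    exact h3

/-- `Q` is trivial on the `23`-part. -/
theorem Aux.Q_ω (h : Hyp23 M l r₀ ω) (a : Aux M) {q : W ≃ₗ[ℚ] W} (hq : q ∈ M.Q) (x : leechLattice) :
    q (ω x) = ω x := by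
  refine Submodule.span_induction (p := fun v _ => q v = v) ?_ (map_zero _)
    (fun v w _ _ hv hw => by rw [map_add, hv, hw]) (fun c v _ hv => by rw [map_smul, hv])
    (h.ω_mem_span x)
  rintro v ⟨g, hg, -, rfl⟩
  have h2 := a.Q_u₀ _ (a.Q_normal g hg q hq)
  rw [LinearEquiv.mul_apply, LinearEquiv.mul_apply] at h2
  have h3 := congrArg g h2
  rwa [apply_inv_self'] at h3

/-- There is a choice of the vectors `e r`. -/
theorem exists_hypE (h : Hyp23 M l r₀ ω) (a : Aux M) : ∃ e : leechLattice → W, HypE M l r₀ ω e ∧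
    ∀ r : leechLattice, (r : GolayPt → ℤ) ∈ RR l → ∃ g ∈ M.C, g M.u₀ = ω (vv l r) ∧ g M.e₀ = e r := by
  classical
  have hex : ∀ r : leechLattice, (r : GolayPt → ℤ) ∈ RR l → ∃ g, g ∈ M.C ∧ g M.u₀ = ω (vv l r) := by
    intro r hr
    obtain ⟨g, hg, hgr⟩ := (h.orbit _).2 ⟨r, hr, rfl⟩
    exact ⟨g, hg, hgr.symm⟩
  choose G hGC hGu using hex
  let e : leechLattice → W := fun r => if r = r₀ then M.e₀ else
    if hr : (r : GolayPt → ℤ) ∈ RR l then G r hr M.e₀ else 0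
  have he₀ : e r₀ = M.e₀ := if_pos rfl
  have he : ∀ r : leechLattice, (r : GolayPt → ℤ) ∈ RR l →
      ∃ g ∈ M.C, g M.u₀ = ω (vv l r) ∧ g M.e₀ = e r := by
    intro r hr
    by_cases h1 : r = r₀
    · subst h1
      exact ⟨1, one_mem _, h.u₀_eq, he₀.symm⟩
    · refine ⟨G r hr, hGC r hr, hGu r hr, ?_⟩
      show _ = (if r = r₀ then M.e₀ else if hr : (r : GolayPt → ℤ) ∈ RR l then G r hr M.e₀ else 0)
      rw [if_neg h1, dif_pos hr]
  have horth : ∀ x r : leechLattice, (r : GolayPt → ℤ) ∈ RR l → M.F (ω x) (e r) = 0 := by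
    intro x r hr
    obtain ⟨g, hg, -, hge⟩ := he r hr
    obtain ⟨q, hq, hqe⟩ := a.flip
    have hq' : g * q * g⁻¹ ∈ M.Q := by
      have := a.Q_normal g⁻¹ (inv_mem hg) q hq
      rwa [inv_inv] at this
    have h2 : (g * q * g⁻¹) (e r) = - e r := by
      rw [← hge, LinearEquiv.mul_apply, LinearEquiv.mul_apply, inv_apply_self', hqe, map_neg]
    have h3 := a.C_isom _ (a.Q_le hq') (ω x) (e r)
    rw [a.Q_ω h hq', h2, map_neg] at h3
    linarith
  refine ⟨e, ⟨h, he₀.symm, ?_, ?_, ?_, ?_, horth, fun x r hr => ?_, ?_⟩, he⟩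
  · intro r hr
    obtain ⟨g, hg, hgu, hge⟩ := he r hr
    obtain ⟨k, hk, hku, hke⟩ := he (l - r) (sub_RR h.norm_l hr)
    rw [← hge, ← hke]
    refine a.e_of_u hk hg (Or.inr ?_)
    rw [hku, hgu, vv_sub, map_neg]
  · intro g hg c hc hgc r hr
    obtain ⟨k, hk, hku, hke⟩ := he r hr
    obtain ⟨m, hm, hmu, hme⟩ := he (c • r) (smul_RR hc hr)
    rw [← hke, ← hme, ← LinearEquiv.mul_apply]
    refine a.e_of_u (mul_mem hg hk) hm (Or.inl ?_)
    rw [LinearEquiv.mul_apply, hku, hmu, hgc, smul_vv, hc]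
  · intro r hr
    obtain ⟨g, hg, -, hge⟩ := he r hr
    rw [← hge, a.C_isom g hg, a.e₀_norm]
  · intro r s hr hs hsr hsl
    obtain ⟨g, hg, hgu, hge⟩ := he r hr
    obtain ⟨k, hk, hku, hke⟩ := he s hs
    have hne : ∀ b : W, (b = M.e₀ ∨ b = - M.e₀) → (g⁻¹ * k) M.e₀ ≠ b := by
      rintro b hb h1
      have h2 : k M.e₀ = g M.e₀ ∨ k M.e₀ = - g M.e₀ := by
        have h3 := congrArg g h1
        rw [LinearEquiv.mul_apply, apply_inv_self'] at h3
        rcases hb with rfl | rfl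
        · exact Or.inl h3
        · rw [map_neg] at h3; exact Or.inr h3
      have h4 := a.u_of_e hk hg h2
      rw [hku, hgu, ← map_neg, ← vv_sub] at h4
      rcases h4 with h4 | h4
      · exact hsr (h.inj hs hr h4)
      · exact hsl (h.inj hs (sub_RR h.norm_l hr) h4)
    obtain ⟨q, hq, hq1, hq2⟩ := a.sep (g⁻¹ * k) (mul_mem (inv_mem hg) hk)
      (hne _ (Or.inl rfl)) (hne _ (Or.inr rfl))
    have h5 := a.C_isom q (a.Q_le hq) M.e₀ ((g⁻¹ * k) M.e₀)
    rw [hq1, hq2, map_neg] at h5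
    have h6 : M.F M.e₀ ((g⁻¹ * k) M.e₀) = 0 := by linarith
    have h7 := a.C_isom g hg M.e₀ ((g⁻¹ * k) M.e₀)
    rw [LinearEquiv.mul_apply, apply_inv_self', hge, hke] at h7
    rw [LinearEquiv.mul_apply, hke] at h6
    rw [h7, h6]
  · rw [a.F_symm, horth x r hr]
  · obtain ⟨q, hq, hqe⟩ := a.flip
    exact ⟨q, a.Q_le hq, a.Q_u₀ q hq, hqe⟩

/-- Field `S_card`. -/
theorem S_card (h : Hyp23 M l r₀ ω) (a : Aux M) : M.S.ncard = 9200 := by
  obtain ⟨e, he, -⟩ := exists_hypE h a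
  exact he.S_card

/-- Field `design`. -/
theorem design (h : Hyp23 M l r₀ ω) (a : Aux M) : ∀ g ∈ M.C,
    ∑ᶠ c ∈ M.S, M.F c (g M.u₀) • c = (1200 : ℚ) • g M.u₀ := by
  obtain ⟨e, he, -⟩ := exists_hypE h a
  exact he.design

/-- Field `neg`. -/
theorem neg (h : Hyp23 M l r₀ ω) (a : Aux M) : ∃ g ∈ M.C, g M.d₀ = - M.d₀ := by
  obtain ⟨e, he, -⟩ := exists_hypE h a
  exact he.neg

/-- the map parametrising the vectors `± e r` -/
def pe (e : leechLattice → W) (p : leechLattice × Bool) : W := if p.2 then e p.1 else - e p.1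

theorem ne_sub {r : leechLattice} (h : Hyp23 M l r₀ ω) (hr : (r : GolayPt → ℤ) ∈ RR l) : l - r ≠ r := by
  intro h1
  have h2 := h.form_vv hr hr
  have h3 : ω (vv l r) = 0 := by
    have h4 := vv_sub l r
    rw [h1] at h4
    have h5 := congrArg ω h4
    rw [map_neg] at h5
    have h6 : (2 : ℚ) • ω (vv l r) = 0 := by
      rw [two_smul]
      nth_rewrite 2 [h5]
      exact add_neg_cancel _
    exact (smul_eq_zero.1 h6).resolve_left (by norm_num)
  rw [h3, map_zero, dotInt_self, hr.2.1] at h2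
  norm_num at h2

/-- Field `e_card`. -/
theorem e_card (h : Hyp23 M l r₀ ω) (a : Aux M) : {x | ∃ g ∈ M.C, x = g M.e₀}.ncard = 4600 := by
  classical
  obtain ⟨e, he, heg⟩ := exists_hypE h a
  have hset : {x | ∃ g ∈ M.C, x = g M.e₀} =
      ((RF l h.norm_l ×ˢ (Finset.univ : Finset Bool)).image (pe e) : Finset W) := by
    ext x
    rw [Finset.mem_coe, Finset.mem_image]
    constructor
    · rintro ⟨g, hg, rfl⟩
      obtain ⟨c, hc, hgc⟩ := h.act g hg
      have h1 := he.e_act g hg c hc hgc r₀ h.r₀_mem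
      rw [← he.e₀_eq] at h1
      rcases h1 with h1 | h1
      · exact ⟨(c • r₀, true), Finset.mem_product.2 ⟨mem_RF.2 (smul_RR hc h.r₀_mem),
          Finset.mem_univ _⟩, h1.symm⟩
      · exact ⟨(c • r₀, false), Finset.mem_product.2 ⟨mem_RF.2 (smul_RR hc h.r₀_mem),
          Finset.mem_univ _⟩, h1.symm⟩
    · rintro ⟨⟨r, b⟩, hp, rfl⟩
      have hr := mem_RF.1 (Finset.mem_product.1 hp).1
      obtain ⟨g, hg, -, hge⟩ := heg r hr
      obtain ⟨q, hq, hqe⟩ := a.flip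
      cases b
      · refine ⟨g * q, mul_mem hg (a.Q_le hq), ?_⟩
        rw [LinearEquiv.mul_apply, hqe, map_neg, hge]; rfl
      · exact ⟨g, hg, hge.symm⟩
  rw [hset, Set.ncard_coe_finset]
  have hfib : ∀ y ∈ (RF l h.norm_l ×ˢ (Finset.univ : Finset Bool)).image (pe e),
      ((RF l h.norm_l ×ˢ (Finset.univ : Finset Bool)).filter fun p => pe e p = y).card = 2 := by
    intro y hy
    obtain ⟨⟨r, b⟩, hp, rfl⟩ := Finset.mem_image.1 hy
    have hr := mem_RF.1 (Finset.mem_product.1 hp).1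
    have hs := sub_RR h.norm_l hr
    set b' : Bool := if e (l - r) = e r then b else !b with hb'
    have h1 : pe e (l - r, b') = pe e (r, b) := by
      by_cases h2 : e (l - r) = e r
      · have h3 : b' = b := if_pos h2
        rw [h3]
        unfold pe
        simp only [h2]
      · have h3 : b' = !b := if_neg h2
        have h4 := (he.e_neg r hr).resolve_left h2
        rw [h3]
        unfold pe
        cases b <;> simp [h4]
    have h2 : (RF l h.norm_l ×ˢ (Finset.univ : Finset Bool)).filter (fun p => pe e p = pe e (r, b)) =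
        {(r, b), (l - r, b')} := by
      ext ⟨s, d⟩
      rw [Finset.mem_filter, Finset.mem_product, mem_RF, Finset.mem_insert, Finset.mem_singleton]
      constructor
      · rintro ⟨⟨hs', -⟩, hsd⟩
        have h3 : e s = e r ∨ e s = - e r := by
          unfold pe at hsd
          cases d <;> cases b
          · exact Or.inl (neg_injective hsd)
          · have h4 : - e s = e r := hsd
            right; rw [← h4, neg_neg]
          · have h4 : e s = - e r := hsd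
            exact Or.inr h4
          · exact Or.inl hsd
        have key : ∀ (t : leechLattice), (t : GolayPt → ℤ) ∈ RR l → ∀ c c' : Bool,
            pe e (t, c) = pe e (t, c') → c = c' := by
          intro t ht c c' hcc
          have h5 := he.e_ne ht
          unfold pe at hcc
          cases c <;> cases c'
          · rfl
          · exact absurd (show - e t = e t from hcc).symm h5
          · exact absurd (show e t = - e t from hcc) h5
          · rfl
        rcases he.eq_or hr hs' h3 with rfl | rfl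
        · left; rw [key s hs' d b hsd]
        · right; rw [key (l - r) hs d b' (hsd.trans h1.symm)]
      · rintro (h3 | h3)
        · rw [Prod.mk.injEq] at h3
          obtain ⟨rfl, rfl⟩ := h3
          exact ⟨⟨hr, Finset.mem_univ _⟩, rfl⟩
        · rw [Prod.mk.injEq] at h3
          obtain ⟨rfl, rfl⟩ := h3
          exact ⟨⟨hs, Finset.mem_univ _⟩, h1⟩
    rw [h2, Finset.card_pair]
    intro h3
    rw [Prod.mk.injEq] at h3
    exact ne_sub h hr h3.1.symm
  have h3 := Finset.card_eq_sum_card_image (pe e) (RF l h.norm_l ×ˢ (Finset.univ : Finset Bool))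
  rw [Finset.sum_congr rfl hfib, Finset.sum_const, Finset.card_product, card_RF] at h3
  have h4 : (Finset.univ : Finset Bool).card = 2 := rfl
  rw [h4, smul_eq_mul] at h3
  omega

/-! ### The field `t₀_e` -/

/-- inner products of two of the `4600` vectors divisible by 16 -/
theorem dot_cases {r s : leechLattice} (hl : sqNorm (l : GolayPt → ℤ) = 32)
    (hr : (r : GolayPt → ℤ) ∈ RR l) (hs : (s : GolayPt → ℤ) ∈ RR l)
    (h16 : (16 : ℤ) ∣ dotInt (r : GolayPt → ℤ) s) :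
    s = r ∨ s = l - r ∨ dotInt (r : GolayPt → ℤ) s = 16 ∨ dotInt (r : GolayPt → ℤ) s = 0 := by
  have h1 := sqNorm_nonneg ((r : GolayPt → ℤ) - (s : GolayPt → ℤ))
  rw [sqNorm_sub, hr.2.1, hs.2.1] at h1
  have hs' := sub_RR hl hs
  have h2 := sqNorm_nonneg ((r : GolayPt → ℤ) - ((l - s : leechLattice) : GolayPt → ℤ))
  have h3 : dotInt (r : GolayPt → ℤ) ((l - s : leechLattice) : GolayPt → ℤ) =
      16 - dotInt (r : GolayPt → ℤ) s := by
    rw [AddSubgroup.coe_sub, dotInt_sub_right, hr.2.2]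
  rw [sqNorm_sub, hr.2.1, hs'.2.1, h3] at h2
  obtain ⟨k, hk⟩ := h16
  have h4 : k = 2 ∨ k = 1 ∨ k = 0 ∨ k = -1 := by omega
  rcases h4 with rfl | rfl | rfl | rfl
  · left
    apply Subtype.ext
    have h5 : sqNorm ((s : GolayPt → ℤ) - (r : GolayPt → ℤ)) = 0 := by
      rw [sqNorm_sub, hr.2.1, hs.2.1, dotInt_comm, hk]; norm_num
    exact sub_eq_zero.1 (sqNorm_eq_zero h5)
  · right; right; left; omega
  · right; right; right; omega
  · right; left
    have h5 : sqNorm (((l - s : leechLattice) : GolayPt → ℤ) - (r : GolayPt → ℤ)) = 0 := by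
      rw [sqNorm_sub, hr.2.1, hs'.2.1, dotInt_comm, h3, hk]; norm_num
    have h6 : l - s = r := Subtype.ext (sub_eq_zero.1 (sqNorm_eq_zero h5))
    rw [← h6]; abel

/-- Field `t₀_e`, from the pairing: `t₀` fixes `g e₀` only if `(r₀, c r₀)` is divisible by `16`. -/
theorem t₀_e (h : Hyp23 M l r₀ ω) (a : Aux M)
    (hp : ∀ g ∈ M.C, ∀ c : ↥Co0, c • l = l → (∀ x : leechLattice, g (ω x) = ω (c • x)) →
      M.t₀ (g M.e₀) = g M.e₀ →
      (16 : ℤ) ∣ dotInt (r₀ : GolayPt → ℤ) ((c • r₀ : leechLattice) : GolayPt → ℤ)) :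
    ∀ g ∈ M.C, M.t₀ (g M.e₀) = g M.e₀ → g M.e₀ = M.e₀ ∨ g M.e₀ = - M.e₀ ∨
      M.F (g M.u₀) M.u₀ = 1 ∨ M.F (g M.u₀) M.u₀ = -1 := by
  intro g hg ht
  obtain ⟨c, hc, hgc⟩ := h.act g hg
  have h16 := hp g hg c hc hgc ht
  have hcr := smul_RR hc h.r₀_mem
  have hgu : g M.u₀ = ω (vv l (c • r₀)) := by rw [h.u₀_eq, hgc, smul_vv, hc]
  have hF : M.F (g M.u₀) M.u₀ =
      (dotInt (r₀ : GolayPt → ℤ) ((c • r₀ : leechLattice) : GolayPt → ℤ) : ℚ) / 8 - 1 := by
    rw [hgu]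
    conv_lhs => rw [h.u₀_eq]
    rw [h.form_vv hcr h.r₀_mem, dotInt_comm]
  have hor : (g M.u₀ = M.u₀ ∨ g M.u₀ = - M.u₀) → g M.e₀ = M.e₀ ∨ g M.e₀ = - M.e₀ := a.stab_u₀ g hg
  rcases dot_cases h.norm_l h.r₀_mem hcr h16 with h1 | h1 | h1 | h1
  · have h2 : g M.u₀ = M.u₀ := by rw [hgu, h1, ← h.u₀_eq]
    rcases hor (Or.inl h2) with h3 | h3
    · exact Or.inl h3
    · exact Or.inr (Or.inl h3)
  · have h2 : g M.u₀ = - M.u₀ := by rw [hgu, h1, vv_sub, map_neg, ← h.u₀_eq]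
    rcases hor (Or.inr h2) with h3 | h3
    · exact Or.inl h3
    · exact Or.inr (Or.inl h3)
  · right; right; left; rw [hF, h1]; norm_num
  · right; right; right; rw [hF, h1]; norm_num

end

end Cfsg.Agent.BabyM.RepE
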