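import Cfsg.Agent.BabyM.RepLink

/-!
# All fields of `BRep` for the concrete model, from `KCore.Link`
-/

set_option autoImplicit false

namespace Cfsg.Agent.BabyM.RepInst

open Cfsg.Agent.Monster Cfsg.Agent.Monster.VecEngine Cfsg.Agent.Monster.VecSpace
open Cfsg.Agent.Monster.PauliBasic Cfsg.Agent.Monster.PauliRep Cfsg.Agent.Monster.PauliClif
open Cfsg.Agent.BabyM.Model Cfsg.Agent.BabyM.Conc Cfsg.Agent.BabyM.KTab

/-- All fields of `BRep`. -/
theorem bRep {wt' : Lane U → ℚ} (L : KCore.Link Cd u wt' Inst.M Inst.laneB) : BRep Inst.M where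
  finrank_eq := finrank_eq
  F_symm := L.F_symm
  F_nondeg := L.F_nondeg
  C_isom := L.C_isom
  fix_z := L.fix_z
  u₀_norm := Inst.u₀_norm
  e₀_norm := Inst.e₀_norm
  Q_u₀ := L.Q_u₀
  z_e₀ := L.z_e₀
  t₀_mem := L.t₀_mem
  t₀_ne := L.t₀_ne
  t₀_ne_z := L.t₀_ne_z
  t₀_sq := L.t₀_sq
  Q_e₀_pos := L.Q_e₀_pos
  Q_e₀_neg := L.Q_e₀_neg
  stab_u₀ := L.stab_u₀
  stab_e₀ := L.stab_e₀
  t₀_comm := L.t₀_comm
  neg := RepE.neg HeadHyp.hyp23 (RepLink.aux' L)
  sep := L.sep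
  t₀_e := RepLink.t₀_e L
  U_span := HeadHyp.U_span
  S_card := RepLink.S_card L
  e_card := RepLink.e_card L
  design := RepLink.design L
  scalar := L.scalar
  irred := L.irred
  rigid := HeadHyp.rigid

end Cfsg.Agent.BabyM.RepInst
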