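import Cfsg.Agent.BabyM.RepE
import Cfsg.Agent.BabyM.LinkX

/-!
# The fields on the signed axes, from `KCore.Link` and `Hyp23`
-/

set_option autoImplicit false

namespace Cfsg.Agent.BabyM.RepLink

open Cfsg Cfsg.Agent.Leech.Basic Cfsg.Agent.Monster Cfsg.Agent.Monster.PauliBasic
  Cfsg.Agent.Monster.PauliRep Cfsg.Agent.Monster.PauliClif
open Cfsg.Agent.BabyM.Model Cfsg.Agent.BabyM.QAct Cfsg.Agent.BabyM.QData Cfsg.Agent.BabyM.QData.Good Cfsg.Agent.BabyM.RepOf
open Cfsg.Agent.Monster.VecEngine Cfsg.Agent.Monster.VecSpace Cfsg.Agent.BabyM.Conc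
  Cfsg.Agent.BabyM.KTab

section

variable {n : ℕ} {ι : Type} [Fintype ι] [DecidableEq ι] {C : Coord n ι} {u : ι → ι → ℚ}
  {wt : ι → ℚ} {M : BData (ι → ℚ)} {i₀ : ι}

/-- `Q` is normal in `C`. -/
theorem Q_normal (h : KCore.Link C u wt M i₀) : ∀ g ∈ M.C, ∀ q ∈ M.Q, g⁻¹ * q * g ∈ M.Q := by
  intro g hg q hq
  obtain ⟨y, rfl⟩ := h.mem_Q.mp hq
  obtain ⟨α, h1, -⟩ := h.hyp.fact g hg
  refine h.mem_Q.mpr ⟨α.symm y, ?_⟩
  have h2 := h1 (α.symm y)
  rw [MulEquiv.apply_symm_apply] at h2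
  rw [mul_assoc, ← h2, inv_mul_cancel_left]

/-- some element of `Q` negates `e₀` -/
theorem flip (h : KCore.Link C u wt M i₀) : ∃ q ∈ M.Q, q M.e₀ = - M.e₀ := by
  obtain ⟨y, hy⟩ := exists_form_eq_one h.i₀_X.2
  refine ⟨C.R y, h.mem_Q.mpr ⟨y, rfl⟩, ?_⟩
  rw [h.R_e₀, hy, sg_one, neg_smul, one_smul]

theorem aux (h : KCore.Link C u wt M i₀) (he : M.F M.e₀ M.e₀ = 4) : RepE.Aux M where
  C_isom := h.C_isom
  F_symm := h.F_symm
  e₀_norm := he
  stab_u₀ := h.stab_u₀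
  stab_e₀ := h.stab_e₀
  sep := h.sep
  Q_le := h.Q_le
  Q_normal := Q_normal h
  Q_u₀ := h.Q_u₀
  flip := flip h

end

/-! ### The pairing with the base lane -/

/-- five bits of the code -/
noncomputable def xor5 (x : ℕ) : Bool :=
  xor (Nat.testBit x 11) (xor (Nat.testBit x 13) (xor (Nat.testBit x 15) (xor (Nat.testBit x 16) (Nat.testBit x 17))))

/-- the check of a lane -/
noncomputable def pairOK (i : ℕ) : Bool :=
  or (Nat.beq i 1281) (or (xor5 (cd i))
    (or (decide (val (uPl i) 1344 = 2 * val (uPl i) 1345 + 4))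
      (decide (val (uPl i) 1344 = 2 * val (uPl i) 1345 - 4))))

theorem pair_check : allN 12 (fun i => Bool.rec true (Bool.rec (pairOK i) true (Nat.beq (cd i) 0))
    (Nat.testBit U i)) 0 = true := by
  decide +kernel

theorem cd_base : cd 1281 = 117 := by decide +kernel

open PauliBits in
theorem form_base (x : ℕ) : Pauli.form (dec 11 117) (dec 11 x) =
    bit x 11 + (bit x 13 + (bit x 15 + (bit x 16 + bit x 17))) := by
  have ha : (dec 11 117).a = 0 := by decide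
  have hb : (dec 11 117).b = ![1, 0, 1, 0, 1, 1, 1, 0, 0, 0, 0] := by decide
  unfold Pauli.form
  rw [ha, hb, dotProduct_zero, add_zero]
  simp only [dotProduct, Fin.sum_univ_succ, Finset.univ_unique, Finset.sum_singleton, dec]
  simp

open PauliBits in
theorem form_base_eq_one {x : ℕ} : xor5 x = true → Pauli.form (dec 11 117) (dec 11 x) = 1 := by
  intro h
  rw [form_base]
  unfold xor5 at h
  unfold bit
  revert h
  generalize Nat.testBit x 11 = a
  generalize Nat.testBit x 13 = b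
  generalize Nat.testBit x 15 = c
  generalize Nat.testBit x 16 = d
  generalize Nat.testBit x 17 = e
  revert a b c d e
  decide

theorem F_u₀ (i : Lane U) : Inst.M.F (u i) Inst.M.u₀ =
    (((val (uPl i.1) 1344 : ℤ) : ℚ) - 2 * ((val (uPl i.1) 1345 : ℤ) : ℚ)) / 4 := by
  show F (u i) Inst.u₀ = _
  rw [Inst.u₀_eq, map_add, Inst.F_single, Inst.F_single]
  have hI : u i Inst.laneI = ((val (uPl i.1) 1344 : ℤ) : ℚ) := rfl
  have hA : u i Inst.laneA = ((val (uPl i.1) 1345 : ℤ) : ℚ) := rfl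
  rw [hI, hA]
  show 1 / 16 * ((2 : ℚ) ^ (-(val Cfsg.Agent.BabyM.Conc.wt 1344)) * _ * 4) +
    1 / 16 * ((2 : ℚ) ^ (-(val Cfsg.Agent.BabyM.Conc.wt 1345)) * _ * -4) = _
  rw [Inst.wt_I, Inst.wt_A]
  norm_num
  ring

/-- The pairing with the base lane. -/
theorem pair {i : Lane U} (hi : Cd.isX i) (hne : i ≠ Inst.laneB)
    (hf : Pauli.form (Cd.c Inst.laneB) (Cd.c i) = 0) :
    Inst.M.F (u i) Inst.M.u₀ = 1 ∨ Inst.M.F (u i) Inst.M.u₀ = -1 := by
  have hi' := isX_iff.mp hi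
  have h1 := allN_spec pair_check (Nat.zero_le i.1) (by rw [zero_add]; exact hi'.1)
  simp only [i.2] at h1
  have h0 : Nat.beq (cd i.1) 0 = false := by
    rw [Bool.eq_false_iff]
    intro hh
    exact hi'.2 (Nat.eq_of_beq_eq_true hh)
  rw [h0] at h1
  have h2 : pairOK i.1 = true := h1
  have h3 : (Nat.beq i.1 1281 || (xor5 (cd i.1) || (decide (val (uPl i.1) 1344 = 2 * val (uPl i.1) 1345 + 4) ||
    decide (val (uPl i.1) 1344 = 2 * val (uPl i.1) 1345 - 4)))) = true := h2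
  rw [Bool.or_eq_true, Bool.or_eq_true, Bool.or_eq_true, decide_eq_true_eq, decide_eq_true_eq] at h3
  rcases h3 with h3 | h3 | h3 | h3
  · exact absurd (Subtype.ext (Nat.eq_of_beq_eq_true h3)) hne
  · have h4 := form_base_eq_one h3
    rw [← cd_base] at h4
    have h5 : Pauli.form (Cd.c Inst.laneB) (Cd.c i) = 1 := h4
    rw [h5] at hf
    exact absurd hf (by decide)
  · left
    rw [F_u₀, h3]
    push_cast
    ring
  · right
    rw [F_u₀, h3]
    push_cast
    ring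

/-! ### The fields -/

section

variable {wt' : Lane U → ℚ} (L : KCore.Link Cd u wt' Inst.M Inst.laneB)

include L

/-- Field `t₀_e`. -/
theorem t₀_e : ∀ g ∈ Inst.M.C, Inst.M.t₀ (g Inst.M.e₀) = g Inst.M.e₀ →
    g Inst.M.e₀ = Inst.M.e₀ ∨ g Inst.M.e₀ = - Inst.M.e₀ ∨
      Inst.M.F (g Inst.M.u₀) Inst.M.u₀ = 1 ∨ Inst.M.F (g Inst.M.u₀) Inst.M.u₀ = -1 := by
  intro g hg ht
  obtain ⟨j, hj, s, t, -, h2, h3⟩ := L.base hg L.i₀_X
  by_cases hj0 : j = Inst.laneB
  · subst hj0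
    rw [L.e₀_eq, h3]
    rcases sg_eq_or ℚ (s + t) with h4 | h4
    · left; rw [h4, one_smul]
    · right; left; rw [h4, neg_smul, one_smul]
  · right; right
    have hform : Pauli.form (Cd.c Inst.laneB) (Cd.c j) = 0 := by
      rcases zmod2_cases (Pauli.form (Cd.c Inst.laneB) (Cd.c j)) with h0 | h0
      · exact h0
      · exfalso
        rw [L.e₀_eq, h3, L.t₀_eq, map_smul, R_single _ hj.1, h0, sg_one, neg_smul, one_smul] at ht
        have h4 := congrFun ht j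
        rw [Pi.smul_apply, Pi.smul_apply, Pi.neg_apply, Pi.single_eq_same] at h4
        rcases sg_eq_or ℚ (s + t) with h5 | h5 <;> rw [h5] at h4 <;> norm_num at h4
    have h4 := pair hj hj0 hform
    have h5 : g Inst.M.u₀ = sg ℚ t • u j := by
      rw [← h2]
      congr 1
      exact L.u₀_eq
    rw [h5, map_smul, LinearMap.smul_apply, smul_eq_mul]
    rcases sg_eq_or ℚ t with h6 | h6 <;> rw [h6]
    · rw [one_mul]; exact h4
    · rcases h4 with h4 | h4 <;> rw [h4] <;> norm_num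

theorem aux' : RepE.Aux Inst.M := aux L Inst.e₀_norm

/-- Field `S_card`. -/
theorem S_card : Inst.M.S.ncard = 9200 := RepE.S_card HeadHyp.hyp23 (aux' L)

/-- Field `e_card`. -/
theorem e_card : {x | ∃ g ∈ Inst.M.C, x = g Inst.M.e₀}.ncard = 4600 := RepE.e_card HeadHyp.hyp23 (aux' L)

/-- Field `design`. -/
theorem design : ∀ g ∈ Inst.M.C,
    ∑ᶠ c ∈ Inst.M.S, Inst.M.F c (g Inst.M.u₀) • c = (1200 : ℚ) • g Inst.M.u₀ :=
  RepE.design HeadHyp.hyp23 (aux' L)

end

end Cfsg.Agent.BabyM.RepLink
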