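import Cfsg.Agent.BabyM.Rigid23

set_option autoImplicit false

namespace Cfsg.Agent.BabyM.Rigid23Main

open Cfsg.Agent.BabyM.Rigid23

open Cfsg Cfsg.Agent.Leech.Code Cfsg.Agent.Leech.Basic Cfsg.Agent.Leech.Min
open Cfsg.Agent.SporadicA

/-! ### The generation lemma -/

theorem word_ok : GolayBase.isCode 1302533 = true ∧ (1302533 : ℕ).testBit 23 = false ∧
    (1302533 : ℕ).testBit 0 = true := by decide +kernel

/-- A code word containing `0` but not `∞`. -/
theorem exists_word : ∃ A ∈ Words, none ∉ A ∧ some 0 ∈ A := by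
  obtain ⟨h1, h2, h3⟩ := word_ok
  refine ⟨GolayBase.fin 1302533, (GolayBase.fin_mem_supports_iff (by norm_num)).2 h1, ?_, ?_⟩
  · rw [GolayBase.mem_fin]
    change ¬ (1302533 : ℕ).testBit 23 = true
    rw [h2]; decide
  · rw [GolayBase.mem_fin]
    exact h3

/-- An odd vector in `R`. -/
theorem exists_odd : ∃ r ∈ R, IsLeech 1 r := by
  obtain ⟨A, hA, hn, h0⟩ := exists_word
  set x : GolayPt → ℤ := fun i => if i = none then 3 else if i ∈ A then 1 else -1 with hx
  have hxn : x none = 3 := if_pos rfl
  have hxA : ∀ i, i ∈ A → x i = 1 := fun i hi => by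
    have : i ≠ none := by rintro rfl; exact hn hi
    rw [hx]
    show (if i = none then (3 : ℤ) else if i ∈ A then 1 else -1) = 1
    rw [if_neg this, if_pos hi]
  have hxB : ∀ i, i ≠ none → i ∉ A → x i = -1 := fun i hi hi' => by
    rw [hx]
    show (if i = none then (3 : ℤ) else if i ∈ A then 1 else -1) = -1
    rw [if_neg hi, if_neg hi']
  have hcls : cls x 1 = A := by
    ext i
    rw [mem_cls]
    unfold Int.ModEq
    constructor
    · intro h
      by_contra hi
      by_cases hin : i = none
      · subst hin; rw [hxn] at h; norm_num at h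
      · rw [hxB i hin hi] at h; norm_num at h
    · intro h; rw [hxA i h]
  have hT : Type3 x := by
    refine ⟨none, Or.inl hxn, fun i hi => ?_, by rw [hcls]; exact hA⟩
    by_cases h : i ∈ A
    · exact Or.inl (hxA i h)
    · exact Or.inr (hxB i hi h)
  refine ⟨x, ⟨(isLeech_of_type3 hT).mem, sqNorm_of_type3 hT, ?_⟩, isLeech_of_type3 hT⟩
  rw [dotInt_u, hxn, hxA _ h0]
  norm_num

theorem mem_L_even {x : GolayPt → ℤ} (hx : IsLeech 0 x) (h16 : (16 : ℤ) ∣ dotInt x u) : x ∈ L := by
  obtain ⟨A, hA, a, ha, hsa⟩ := exists_form hx (Or.inl rfl)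
  have hiff : none ∈ A ↔ some 0 ∈ A := by
    rw [dotInt_u, ha none, ha (some 0)] at h16
    obtain ⟨k, hk⟩ := h16
    by_cases h1 : none ∈ A <;> by_cases h2 : some 0 ∈ A
    · tauto
    · rw [chi_mem h1, chi_not_mem h2] at hk; omega
    · rw [chi_not_mem h1, chi_mem h2] at hk; omega
    · tauto
  have h1 := two_chi_mem hA hiff
  have h2 : (fun i => 4 * a i) ∈ L := by
    apply four_mem_L
    exact (Int.even_iff.2 hsa)
  have h3 : x = (fun i => 2 * chi A i) + (fun i => 4 * a i) := by
    funext i
    rw [Pi.add_apply, ha i]; ring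
  rw [h3]
  exact L.add_mem h1 h2

/-- The lattice generated by `R` consists of all vectors of even customary inner product with `u`. -/
theorem mem_L {x : GolayPt → ℤ} (hx : x ∈ leechLattice) (h16 : (16 : ℤ) ∣ dotInt x u) : x ∈ L := by
  rcases isLeech_zero_or_one hx with h | h
  · exact mem_L_even h h16
  · obtain ⟨r, hr, hr1⟩ := exists_odd
    have h1 : IsLeech 0 (x - r) := by
      have := h.add hr1.neg
      rw [show (1 : ℤ) + -1 = 0 by norm_num, ← sub_eq_add_neg] at this
      exact this
    have h2 : (16 : ℤ) ∣ dotInt (x - r) u := by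
      rw [dotInt_sub_left, hr.2.2]
      exact dvd_sub h16 (dvd_refl _)
    have h3 := L.add_mem (mem_L_even h1 h2) (R_sub_L hr)
    rwa [sub_add_cancel] at h3

theorem L_le {x : GolayPt → ℤ} (hx : x ∈ L) : x ∈ leechLattice ∧ (16 : ℤ) ∣ dotInt x u := by
  refine AddSubgroup.closure_induction (p := fun x _ => x ∈ leechLattice ∧ (16 : ℤ) ∣ dotInt x u)
    (fun x hx => ⟨hx.1, by rw [hx.2.2]⟩) ⟨leechLattice.zero_mem, ?_⟩ (fun x y _ _ h1 h2 => ?_)
    (fun x _ h => ?_) hx
  · rw [dotInt_u]; simp
  · rw [dotInt_add_left]; exact ⟨leechLattice.add_mem h1.1 h2.1, dvd_add h1.2 h2.2⟩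
  · rw [dotInt_neg_left]; exact ⟨leechLattice.neg_mem h.1, h.2.neg_right⟩

theorem mem_L_iff {x : GolayPt → ℤ} : x ∈ L ↔ x ∈ leechLattice ∧ (16 : ℤ) ∣ dotInt x u :=
  ⟨L_le, fun h => mem_L h.1 h.2⟩

theorem u_mem_L : u ∈ L := mem_L u_mem (by rw [dotInt_self, sqNorm_u]; norm_num)

/-! ### Self-duality -/

theorem two_chi_leech {A : Finset GolayPt} (hA : A ∈ Words) :
    (fun i => 2 * chi A i) ∈ leechLattice := by
  have h : IsLeech 0 (fun i => 2 * chi A i) := by
    refine isLeech_of_cls (fun i => ?_) ?_ ?_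
    · show 2 * chi A i ≡ 0 [ZMOD 2]
      unfold Int.ModEq; omega
    · rw [← Finset.mul_sum, sum_chi]
      obtain ⟨k, hk⟩ := four_dvd_card hA
      rw [hk]; unfold Int.ModEq; push_cast; omega
    · have : cls (fun i => 2 * chi A i) 0 = Aᶜ := by
        ext i
        rw [mem_cls, Finset.mem_compl]
        unfold Int.ModEq
        by_cases hi : i ∈ A
        · rw [chi_mem hi]; simp [hi]
        · rw [chi_not_mem hi]; simp [hi]
      rw [this]; exact compl_mem hA
  exact h.mem

theorem four_leech {i j : GolayPt} (hij : i ≠ j) : e i 4 + e j 4 ∈ leechLattice :=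
  (isLeech_of_type4 (type4_e hij (Or.inl rfl) (Or.inl rfl))).mem

theorem dotInt_e (x : GolayPt → ℤ) (i : GolayPt) (a : ℤ) : dotInt x (e i a) = x i * a := by
  unfold dotInt
  rw [Finset.sum_eq_single i (fun k _ hk => by rw [e_apply, if_neg hk, mul_zero])
    (fun h => absurd (Finset.mem_univ _) h), e_apply, if_pos rfl]

/-- The vector `(-3, 1^23)`. -/
def w0 : GolayPt → ℤ := fun i => if i = none then -3 else 1

theorem w0_apply (i : GolayPt) : w0 i = if i = none then -3 else 1 := rfl

theorem w0_mem : w0 ∈ leechLattice := by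
  have hcls : cls w0 1 = Finset.univ := by
    ext i
    rw [mem_cls, w0_apply]
    unfold Int.ModEq
    by_cases h : i = none
    · simp [h]
    · simp [h]
  have hT : Type3 w0 := by
    refine ⟨none, Or.inr ?_, fun i hi => Or.inl ?_, by rw [hcls]; exact univ_mem⟩
    · rw [w0_apply, if_pos rfl]
    · rw [w0_apply, if_neg hi]
  exact (isLeech_of_type3 hT).mem

theorem dotInt_w0 (x : GolayPt → ℤ) : dotInt x w0 = ∑ i, x i - 4 * x none := by
  have h : ∀ i, x i * w0 i = x i - (if i = none then 4 * x none else 0) := by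
    intro i
    rw [w0_apply]
    split_ifs with h
    · subst h; ring
    · ring
  unfold dotInt
  rw [Finset.sum_congr rfl fun i _ => h i, Finset.sum_sub_distrib, Finset.sum_ite_eq' ]
  simp

/-- The Leech lattice is its own dual (for the form divided by 8). -/
theorem mem_of_dual {w : GolayPt → ℤ} (h : ∀ y ∈ leechLattice, (8 : ℤ) ∣ dotInt w y) :
    w ∈ leechLattice := by
  have hpar : ∀ i, w i ≡ w none [ZMOD 2] := by
    intro i
    by_cases hi : i = none
    · subst hi; rfl
    · have h1 := h _ (four_leech hi)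
      rw [dotInt_add_right, dotInt_e, dotInt_e] at h1
      unfold Int.ModEq; omega
  have hW : IsLeech (w none) w := by
    refine ⟨hpar, ?_, fun c hc => ?_⟩
    · have h1 := h _ w0_mem
      rw [dotInt_w0] at h1
      unfold Int.ModEq; omega
    · have h1 := h _ (two_chi_leech hc)
      have h2 : dotInt w (fun i => 2 * chi c i) = 2 * ∑ i ∈ c, w i := by
        unfold dotInt
        rw [(sum_chi_mul c w).symm, Finset.mul_sum]
        exact Finset.sum_congr rfl fun i _ => by ring
      rw [h2] at h1
      unfold Int.ModEq; omega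
  exact hW.mem

/-- A vector of the lattice having inner product divisible by 16 with the whole lattice is twice a
vector of the lattice. -/
theorem exists_half_of_dual {w : GolayPt → ℤ} (h : ∀ y ∈ leechLattice, (16 : ℤ) ∣ dotInt w y)
    (hw : w ∈ leechLattice) : ∃ z ∈ leechLattice, w = z + z := by
  have h2 : ∀ i, w i % 2 = 0 := by
    rcases isLeech_zero_or_one hw with h1 | h1
    · intro i; have := h1.par i; unfold Int.ModEq at this; omega
    · exfalso
      have h3 : (some 0 : GolayPt) ≠ none := by decide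
      have h4 : (some 1 : GolayPt) ≠ none := by decide
      have h5 : (some 0 : GolayPt) ≠ some 1 := by decide
      have e1 := h _ (four_leech h3)
      have e2 := h _ (four_leech h4)
      have e3 := h _ (four_leech h5)
      rw [dotInt_add_right, dotInt_e, dotInt_e] at e1 e2 e3
      have p1 := h1.par none
      unfold Int.ModEq at p1
      omega
  set z : GolayPt → ℤ := fun i => w i / 2 with hz
  have hzz : w = z + z := by
    funext i
    have := h2 i
    rw [Pi.add_apply]
    show w i = w i / 2 + w i / 2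
    omega
  refine ⟨z, mem_of_dual fun y hy => ?_, hzz⟩
  have h3 := h y hy
  rw [hzz, dotInt_add_left] at h3
  omega

end Cfsg.Agent.BabyM.Rigid23Main
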