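import Cfsg.Agent.BabyM.Rigid23Main
import Cfsg.Agent.Leech.Trans

set_option autoImplicit false
set_option linter.unusedVariables false

namespace Cfsg.Agent.BabyM.Rigid23Thm

open Cfsg.Agent.BabyM.Rigid23 Cfsg.Agent.BabyM.Rigid23Main

open Cfsg Cfsg.Agent.Leech.Code Cfsg.Agent.Leech.Basic Cfsg.Agent.Leech.Min
open Cfsg.Agent.SporadicA Cfsg.Agent.Leech.Co0Elts

/-! ### Isometries of the lattice `L` as graphs -/

theorem sqNorm_eq_zero {x : GolayPt → ℤ} (h : sqNorm x = 0) : x = 0 := by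
  unfold sqNorm at h
  funext i
  have h1 := (Finset.sum_eq_zero_iff_of_nonneg (fun i _ => sq_nonneg (x i))).1 h i (Finset.mem_univ i)
  simpa using h1

/-- `Γ` is the graph of an isometry of `L`. -/
structure IsoRel (Γ : AddSubgroup ((GolayPt → ℤ) × (GolayPt → ℤ))) : Prop where
  fst_mem : ∀ p ∈ Γ, p.1 ∈ L
  snd_mem : ∀ p ∈ Γ, p.2 ∈ L
  dot : ∀ p ∈ Γ, ∀ q ∈ Γ, dotInt p.1 q.1 = dotInt p.2 q.2
  fst_surj : ∀ x ∈ L, ∃ y, (x, y) ∈ Γ
  snd_surj : ∀ y ∈ L, ∃ x, (x, y) ∈ Γ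

theorem IsoRel.snd_unique {Γ : AddSubgroup ((GolayPt → ℤ) × (GolayPt → ℤ))} (h : IsoRel Γ)
    {a b b' : GolayPt → ℤ} (h1 : (a, b) ∈ Γ) (h2 : (a, b') ∈ Γ) : b = b' := by
  have h3 := Γ.sub_mem h1 h2
  have h4 := h.dot _ h3 _ h3
  have h5 : dotInt (a - a) (a - a) = dotInt (b - b') (b - b') := h4
  rw [sub_self, dotInt_self, dotInt_self] at h5
  have h6 : sqNorm (0 : GolayPt → ℤ) = 0 := by unfold sqNorm; simp
  rw [h6] at h5
  exact sub_eq_zero.1 (sqNorm_eq_zero h5.symm)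

theorem IsoRel.fst_unique {Γ : AddSubgroup ((GolayPt → ℤ) × (GolayPt → ℤ))} (h : IsoRel Γ)
    {a a' b : GolayPt → ℤ} (h1 : (a, b) ∈ Γ) (h2 : (a', b) ∈ Γ) : a = a' := by
  have h3 := Γ.sub_mem h1 h2
  have h4 := h.dot _ h3 _ h3
  have h5 : dotInt (a - a') (a - a') = dotInt (b - b) (b - b) := h4
  rw [sub_self, dotInt_self, dotInt_self] at h5
  have h6 : sqNorm (0 : GolayPt → ℤ) = 0 := by unfold sqNorm; simp
  rw [h6] at h5
  exact sub_eq_zero.1 (sqNorm_eq_zero h5)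

/-- the inverse relation -/
def inv (Γ : AddSubgroup ((GolayPt → ℤ) × (GolayPt → ℤ))) :
    AddSubgroup ((GolayPt → ℤ) × (GolayPt → ℤ)) where
  carrier := {p | (p.2, p.1) ∈ Γ}
  add_mem' := fun {p q} hp hq => Γ.add_mem hp hq
  zero_mem' := Γ.zero_mem
  neg_mem' := fun {p} hp => Γ.neg_mem hp

theorem mem_inv {Γ : AddSubgroup ((GolayPt → ℤ) × (GolayPt → ℤ))} {x y : GolayPt → ℤ} :
    (x, y) ∈ inv Γ ↔ (y, x) ∈ Γ := Iff.rfl

theorem IsoRel.inv {Γ : AddSubgroup ((GolayPt → ℤ) × (GolayPt → ℤ))} (h : IsoRel Γ) :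
    IsoRel (inv Γ) where
  fst_mem := fun p hp => h.snd_mem _ hp
  snd_mem := fun p hp => h.fst_mem _ hp
  dot := fun p hp q hq => (h.dot _ hp _ hq).symm
  fst_surj := h.snd_surj
  snd_surj := h.fst_surj

theorem dvd_dot_u {x : GolayPt → ℤ} (hx : x ∈ leechLattice) : (8 : ℤ) ∣ dotInt x u :=
  eight_dvd_dotInt hx u_mem

theorem add_self_mem_L {x : GolayPt → ℤ} (hx : x ∈ leechLattice) : x + x ∈ L := by
  refine mem_L (leechLattice.add_mem hx hx) ?_
  rw [dotInt_add_left]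
  have := dvd_dot_u hx
  omega

theorem w0_dot_u : dotInt w0 u = -8 := by
  rw [dotInt_u, w0_apply, w0_apply, if_pos rfl, if_neg (by decide)]
  norm_num

/-- every vector of the lattice is in `L` or differs from `w0` by a vector of `L` -/
theorem L_or {x : GolayPt → ℤ} (hx : x ∈ leechLattice) : x ∈ L ∨ x - w0 ∈ L := by
  have h1 := dvd_dot_u hx
  by_cases h : (16 : ℤ) ∣ dotInt x u
  · exact Or.inl (mem_L hx h)
  · refine Or.inr (mem_L (leechLattice.sub_mem hx w0_mem) ?_)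
    rw [dotInt_sub_left, w0_dot_u]
    omega

/-- Case A: the isometry maps twice the lattice into twice the lattice. -/
def CaseA (Γ : AddSubgroup ((GolayPt → ℤ) × (GolayPt → ℤ))) : Prop :=
  ∃ y, (w0 + w0, y) ∈ Γ ∧ (16 : ℤ) ∣ dotInt y w0

theorem CaseA.inv {Γ : AddSubgroup ((GolayPt → ℤ) × (GolayPt → ℤ))} (h : IsoRel Γ)
    (hA : CaseA Γ) : CaseA (inv Γ) := by
  obtain ⟨y, hy, h16⟩ := hA
  obtain ⟨x, hx⟩ := h.snd_surj _ (add_self_mem_L w0_mem)
  refine ⟨x, hx, ?_⟩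
  have h1 := h.dot _ hy _ hx
  have h2 : dotInt (w0 + w0) x = dotInt y (w0 + w0) := h1
  rw [dotInt_add_left, dotInt_add_right, dotInt_comm w0 x] at h2
  omega

theorem exists_half {Γ : AddSubgroup ((GolayPt → ℤ) × (GolayPt → ℤ))} (h : IsoRel Γ)
    (hA : CaseA Γ) {x : GolayPt → ℤ} (hx : x ∈ leechLattice) :
    ∃ z ∈ leechLattice, (x + x, z + z) ∈ Γ := by
  obtain ⟨y0, hy0, h16⟩ := hA
  obtain ⟨y, hy⟩ := h.fst_surj _ (add_self_mem_L hx)
  have hyL := h.snd_mem _ hy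
  -- divisibility on `L`
  have h1 : ∀ z ∈ L, (16 : ℤ) ∣ dotInt y z := by
    intro z hz
    obtain ⟨z', hz'⟩ := h.snd_surj z hz
    have h2 : dotInt (x + x) z' = dotInt y z := h.dot _ hy _ hz'
    rw [← h2, dotInt_add_left]
    have h3 : (8 : ℤ) ∣ dotInt x z' := eight_dvd_dotInt hx (L_le (h.fst_mem _ hz')).1
    omega
  have h2 : (16 : ℤ) ∣ dotInt y w0 := by
    rcases L_or hx with hL | hL
    · obtain ⟨y1, hy1⟩ := h.fst_surj _ hL
      have h3 := h.snd_unique hy (Γ.add_mem hy1 hy1)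
      have h4 : y = y1 + y1 := h3
      rw [h4, dotInt_add_left]
      have h6 : (8 : ℤ) ∣ dotInt y1 w0 := eight_dvd_dotInt (L_le (h.snd_mem _ hy1)).1 w0_mem
      omega
    · obtain ⟨y1, hy1⟩ := h.fst_surj _ hL
      have h3 : (x + x, y1 + y1 + y0) ∈ Γ := by
        have := Γ.add_mem (Γ.add_mem hy1 hy1) hy0
        have h5 : x + x = x - w0 + (x - w0) + (w0 + w0) := by abel
        rw [h5]
        exact this
      have h4 := h.snd_unique hy h3
      rw [h4, dotInt_add_left, dotInt_add_left]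
      have h6 : (8 : ℤ) ∣ dotInt y1 w0 := eight_dvd_dotInt (L_le (h.snd_mem _ hy1)).1 w0_mem
      omega
  have h3 : ∀ z ∈ leechLattice, (16 : ℤ) ∣ dotInt y z := by
    intro z hz
    rcases L_or hz with hL | hL
    · exact h1 z hL
    · have := h1 _ hL
      rw [dotInt_sub_right] at this
      omega
  obtain ⟨z, hz, hzz⟩ := exists_half_of_dual h3 (L_le hyL).1
  exact ⟨z, hz, by rw [← hzz]; exact hy⟩

open Classical in
/-- the isometry of the Leech lattice -/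
noncomputable def ext (Γ : AddSubgroup ((GolayPt → ℤ) × (GolayPt → ℤ))) (x : GolayPt → ℤ) :
    GolayPt → ℤ :=
  if h : ∃ z ∈ leechLattice, (x + x, z + z) ∈ Γ then h.choose else x

theorem ext_spec {Γ : AddSubgroup ((GolayPt → ℤ) × (GolayPt → ℤ))} (h : IsoRel Γ)
    (hA : CaseA Γ) {x : GolayPt → ℤ} (hx : x ∈ leechLattice) :
    ext Γ x ∈ leechLattice ∧ (x + x, ext Γ x + ext Γ x) ∈ Γ := by
  have h1 := exists_half h hA hx
  unfold ext
  rw [dif_pos h1]
  exact h1.choose_spec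

theorem add_self_inj {x y : GolayPt → ℤ} (h : x + x = y + y) : x = y := by
  funext i
  have := congrFun h i
  rw [Pi.add_apply, Pi.add_apply] at this
  omega

theorem ext_unique {Γ : AddSubgroup ((GolayPt → ℤ) × (GolayPt → ℤ))} (h : IsoRel Γ)
    (hA : CaseA Γ) {x z : GolayPt → ℤ} (hx : x ∈ leechLattice) (hz : (x + x, z + z) ∈ Γ) :
    ext Γ x = z :=
  add_self_inj (h.snd_unique (ext_spec h hA hx).2 hz)

theorem ext_inv {Γ : AddSubgroup ((GolayPt → ℤ) × (GolayPt → ℤ))} (h : IsoRel Γ)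
    (hA : CaseA Γ) {x : GolayPt → ℤ} (hx : x ∈ leechLattice) : ext (inv Γ) (ext Γ x) = x :=
  ext_unique h.inv (hA.inv h) (ext_spec h hA hx).1 (ext_spec h hA hx).2

theorem ext_inv' {Γ : AddSubgroup ((GolayPt → ℤ) × (GolayPt → ℤ))} (h : IsoRel Γ)
    (hA : CaseA Γ) {x : GolayPt → ℤ} (hx : x ∈ leechLattice) : ext Γ (ext (inv Γ) x) = x :=
  ext_inv h.inv (hA.inv h) hx

/-- In case A the isometry extends to an element of `Co0`. -/
theorem exists_co0 {Γ : AddSubgroup ((GolayPt → ℤ) × (GolayPt → ℤ))} (h : IsoRel Γ)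
    (hA : CaseA Γ) : ∃ c : ↥Co0, ∀ v : leechLattice,
      ((v : GolayPt → ℤ) + v, ((c • v : leechLattice) : GolayPt → ℤ) +
        ((c • v : leechLattice) : GolayPt → ℤ)) ∈ Γ := by
  refine ⟨mkCo0 (ext Γ) (ext (inv Γ)) (fun x hx => (ext_spec h hA hx).1)
    (fun x hx => (ext_spec h.inv (hA.inv h) hx).1) (fun x hx => ext_inv h hA hx)
    (fun x hx => ext_inv' h hA hx) (fun x hx y hy => ?_) (fun x hx => ?_), fun v => ?_⟩
  · refine ext_unique h hA (leechLattice.add_mem hx hy) ?_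
    have := Γ.add_mem (ext_spec h hA hx).2 (ext_spec h hA hy).2
    rw [show x + y + (x + y) = x + x + (y + y) by abel,
      show ext Γ x + ext Γ y + (ext Γ x + ext Γ y) = ext Γ x + ext Γ x + (ext Γ y + ext Γ y) by abel]
    exact this
  · have h1 := (ext_spec h hA hx).2
    have h2 : dotInt (x + x) (x + x) = dotInt (ext Γ x + ext Γ x) (ext Γ x + ext Γ x) :=
      h.dot _ h1 _ h1
    rw [dotInt_self, dotInt_self, sqNorm_add, sqNorm_add, dotInt_self, dotInt_self] at h2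
    omega
  · rw [mkCo0_coe]
    exact (ext_spec h hA v.2).2

/-! ### The graph of a permutation of `R` -/

theorem R_finite : R.Finite := by
  have h : R ⊆ ↑(Fintype.piFinset (fun _ : GolayPt => Finset.Icc (-6 : ℤ) 6)) := by
    intro x hx
    rw [Finset.mem_coe, Fintype.mem_piFinset]
    intro i
    rw [Finset.mem_Icc]
    have h1 : (x i) ^ 2 ≤ sqNorm x := by
      unfold sqNorm
      exact Finset.single_le_sum (f := fun i => (x i) ^ 2) (fun i _ => sq_nonneg _) (Finset.mem_univ i)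
    rw [hx.2.1] at h1
    constructor <;> nlinarith
  exact (Finset.finite_toSet _).subset h

/-- `u - r` is in `R` -/
theorem u_sub_mem_R {r : GolayPt → ℤ} (hr : r ∈ R) : u - r ∈ R := by
  refine ⟨leechLattice.sub_mem u_mem hr.1, ?_, ?_⟩
  · rw [sqNorm_sub, sqNorm_u, hr.2.1, dotInt_comm, hr.2.2]; norm_num
  · rw [dotInt_sub_left, hr.2.2, dotInt_self, sqNorm_u]; norm_num

variable {σ : (GolayPt → ℤ) → (GolayPt → ℤ)}

/-- the graph of the additive extension -/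
def graph (σ : (GolayPt → ℤ) → (GolayPt → ℤ)) : AddSubgroup ((GolayPt → ℤ) × (GolayPt → ℤ)) :=
  AddSubgroup.closure {p | p.1 ∈ R ∧ p.2 = σ p.1}

theorem mem_graph {r : GolayPt → ℤ} (hr : r ∈ R) : (r, σ r) ∈ graph σ :=
  AddSubgroup.subset_closure ⟨hr, rfl⟩

theorem surj_R (hR : ∀ r ∈ R, σ r ∈ R)
    (hσ : ∀ r ∈ R, ∀ s ∈ R, dotInt (σ r) (σ s) = dotInt r s) {s : GolayPt → ℤ} (hs : s ∈ R) :
    ∃ r ∈ R, σ r = s := by
  have hinj : Set.InjOn σ R := by
    intro a ha b hb hab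
    have h1 := hσ a ha b hb
    rw [hab, dotInt_self, (hR b hb).2.1] at h1
    have h2 : sqNorm (a - b) = 0 := by
      rw [sqNorm_sub, ha.2.1, hb.2.1]; omega
    exact sub_eq_zero.1 (sqNorm_eq_zero h2)
  have h3 : Set.SurjOn σ R R := by
    exact ((Set.Finite.injOn_iff_bijOn_of_mapsTo R_finite (fun r hr => hR r hr)).1 hinj).surjOn
  obtain ⟨r, hr, h⟩ := h3 hs
  exact ⟨r, hr, h⟩

theorem isoRel_graph (hR : ∀ r ∈ R, σ r ∈ R)
    (hσ : ∀ r ∈ R, ∀ s ∈ R, dotInt (σ r) (σ s) = dotInt r s) : IsoRel (graph σ) where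
  fst_mem := fun p hp => by
    refine AddSubgroup.closure_induction (p := fun p _ => p.1 ∈ L) (fun p hp => R_sub_L hp.1)
      L.zero_mem (fun x y _ _ h1 h2 => L.add_mem h1 h2) (fun x _ h => L.neg_mem h) hp
  snd_mem := fun p hp => by
    refine AddSubgroup.closure_induction (p := fun p _ => p.2 ∈ L)
      (fun p hp => by rw [hp.2]; exact R_sub_L (hR _ hp.1))
      L.zero_mem (fun x y _ _ h1 h2 => L.add_mem h1 h2) (fun x _ h => L.neg_mem h) hp
  dot := fun p hp q hq => by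
    refine AddSubgroup.closure_induction
      (p := fun p _ => dotInt p.1 q.1 = dotInt p.2 q.2) (fun p hp => ?_) ?_
      (fun x y _ _ h1 h2 => ?_) (fun x _ h => ?_) hp
    · refine AddSubgroup.closure_induction
        (p := fun q _ => dotInt p.1 q.1 = dotInt p.2 q.2) (fun q hq => ?_) ?_
        (fun x y _ _ h1 h2 => ?_) (fun x _ h => ?_) hq
      · rw [hp.2, hq.2, hσ _ hp.1 _ hq.1]
      · unfold dotInt; simp
      · rw [Prod.fst_add, Prod.snd_add, dotInt_add_right, dotInt_add_right, h1, h2]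
      · rw [Prod.fst_neg, Prod.snd_neg, dotInt_neg_right, dotInt_neg_right, h]
    · unfold dotInt; simp
    · rw [Prod.fst_add, Prod.snd_add, dotInt_add_left, dotInt_add_left, h1, h2]
    · rw [Prod.fst_neg, Prod.snd_neg, dotInt_neg_left, dotInt_neg_left, h]
  fst_surj := fun x hx => by
    refine AddSubgroup.closure_induction (p := fun x _ => ∃ y, (x, y) ∈ graph σ)
      (fun r hr => ⟨_, mem_graph hr⟩) ⟨0, (graph σ).zero_mem⟩
      (fun x y _ _ ⟨a, ha⟩ ⟨b, hb⟩ => ⟨a + b, (graph σ).add_mem ha hb⟩)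
      (fun x _ ⟨a, ha⟩ => ⟨-a, (graph σ).neg_mem ha⟩) hx
  snd_surj := fun x hx => by
    refine AddSubgroup.closure_induction (p := fun x _ => ∃ y, (y, x) ∈ graph σ)
      (fun s hs => ?_) ⟨0, (graph σ).zero_mem⟩
      (fun x y _ _ ⟨a, ha⟩ ⟨b, hb⟩ => ⟨a + b, (graph σ).add_mem ha hb⟩)
      (fun x _ ⟨a, ha⟩ => ⟨-a, (graph σ).neg_mem ha⟩) hx
    obtain ⟨r, hr, h⟩ := surj_R hR hσ hs
    exact ⟨r, by rw [← h]; exact mem_graph hr⟩

/-- a vector of `L` is determined by its inner products with `R` -/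
theorem eq_of_dot_R {x y : GolayPt → ℤ} (hx : x ∈ L) (hy : y ∈ L)
    (h : ∀ r ∈ R, dotInt x r = dotInt y r) : x = y := by
  have h1 : ∀ z ∈ L, dotInt (x - y) z = 0 := by
    intro z hz
    refine AddSubgroup.closure_induction (p := fun z _ => dotInt (x - y) z = 0)
      (fun r hr => by rw [dotInt_sub_left, h r hr, sub_self]) (by unfold dotInt; simp)
      (fun a b _ _ h1 h2 => by rw [dotInt_add_right, h1, h2, add_zero])
      (fun a _ h => by rw [dotInt_neg_right, h, neg_zero]) hz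
  have h2 := h1 _ (L.sub_mem hx hy)
  rw [dotInt_self] at h2
  exact sub_eq_zero.1 (sqNorm_eq_zero h2)

theorem u_graph (hR : ∀ r ∈ R, σ r ∈ R)
    (hσ : ∀ r ∈ R, ∀ s ∈ R, dotInt (σ r) (σ s) = dotInt r s) : (u, u) ∈ graph σ := by
  have h := isoRel_graph hR hσ
  obtain ⟨y, hy⟩ := h.fst_surj _ u_mem_L
  have h1 : y = u := by
    refine eq_of_dot_R (h.snd_mem _ hy) u_mem_L fun s hs => ?_
    obtain ⟨r, hr, hrs⟩ := surj_R hR hσ hs
    have h2 : dotInt u r = dotInt y (σ r) := h.dot _ hy _ (mem_graph hr)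
    rw [← hrs, ← h2, dotInt_comm u r, hr.2.2, dotInt_comm, (hR r hr).2.2]
  rwa [h1] at hy

/-- Case A of the theorem. -/
theorem rigid_caseA (hR : ∀ r ∈ R, σ r ∈ R)
    (hσ : ∀ r ∈ R, ∀ s ∈ R, dotInt (σ r) (σ s) = dotInt r s) (hA : CaseA (graph σ)) :
    ∃ c : ↥Co0, c • Spor.leechU = Spor.leechU ∧
      ∀ r : leechLattice, (r : GolayPt → ℤ) ∈ R → ((c • r : leechLattice) : GolayPt → ℤ) = σ r := by
  have h := isoRel_graph hR hσ
  obtain ⟨c, hc⟩ := exists_co0 h hA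
  refine ⟨c, ?_, fun r hr => ?_⟩
  · apply Subtype.ext
    have h1 := hc Spor.leechU
    have h2 := (graph σ).add_mem (u_graph hR hσ) (u_graph hR hσ)
    exact add_self_inj (h.snd_unique h1 h2)
  · exact add_self_inj (h.snd_unique (hc r) ((graph σ).add_mem (mem_graph hr) (mem_graph hr)))

/-- The graph of `u - σ`. -/
theorem graph_sub {p : (GolayPt → ℤ) × (GolayPt → ℤ)} (hp : p ∈ graph σ) :
    ∃ k : ℤ, 16 * k = dotInt p.1 u ∧ (p.1, k • u - p.2) ∈ graph (fun r => u - σ r) := by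
  refine AddSubgroup.closure_induction
    (p := fun p _ => ∃ k : ℤ, 16 * k = dotInt p.1 u ∧
      (p.1, k • u - p.2) ∈ graph (fun r => u - σ r)) (fun p hp => ?_) ?_
    (fun x y _ _ h1 h2 => ?_) (fun x _ h => ?_) hp
  · refine ⟨1, by rw [hp.1.2.2]; norm_num, ?_⟩
    rw [one_smul, hp.2]
    exact mem_graph (σ := fun r => u - σ r) hp.1
  · refine ⟨0, by unfold dotInt; simp, ?_⟩
    have h0 : ((0 : (GolayPt → ℤ) × (GolayPt → ℤ)).1,
        (0 : ℤ) • u - (0 : (GolayPt → ℤ) × (GolayPt → ℤ)).2) = 0 := by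
      rw [zero_smul, Prod.snd_zero, sub_zero]; rfl
    rw [h0]
    exact (graph (fun r => u - σ r)).zero_mem
  · obtain ⟨k, hk, hk'⟩ := h1
    obtain ⟨l, hl, hl'⟩ := h2
    refine ⟨k + l, by rw [Prod.fst_add, dotInt_add_left, ← hk, ← hl]; ring, ?_⟩
    have := (graph (fun r => u - σ r)).add_mem hk' hl'
    have h3 : (k + l) • u - (x + y).2 = k • u - x.2 + (l • u - y.2) := by
      rw [add_smul, Prod.snd_add]; abel
    rw [h3]
    exact this
  · obtain ⟨k, hk, hk'⟩ := h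
    refine ⟨-k, by rw [Prod.fst_neg, dotInt_neg_left, ← hk]; ring, ?_⟩
    have := (graph (fun r => u - σ r)).neg_mem hk'
    have h3 : (-k) • u - (-x).2 = -(k • u - x.2) := by
      rw [neg_smul, Prod.snd_neg]; abel
    rw [h3]
    exact this

theorem dotInt_zsmul_left (k : ℤ) (x y : GolayPt → ℤ) : dotInt (k • x) y = k * dotInt x y := by
  unfold dotInt
  rw [Finset.mul_sum]
  exact Finset.sum_congr rfl fun i _ => by rw [Pi.smul_apply, smul_eq_mul]; ring

/-- **Rigidity of the 4600 vectors.** Every isometric self-map of the set `R` of the `4600` minimal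
vectors of inner product `16` with `u = (4, 4, 0, …, 0)` is induced by an element of `Co2`, or is
such an element followed by `r ↦ u - r`. -/
theorem rigid (hR : ∀ r ∈ R, σ r ∈ R)
    (hσ : ∀ r ∈ R, ∀ s ∈ R, dotInt (σ r) (σ s) = dotInt r s) :
    ∃ c : ↥Co0, c • Spor.leechU = Spor.leechU ∧
      ((∀ r : leechLattice, (r : GolayPt → ℤ) ∈ R → ((c • r : leechLattice) : GolayPt → ℤ) = σ r) ∨
       (∀ r : leechLattice, (r : GolayPt → ℤ) ∈ R →
          u - ((c • r : leechLattice) : GolayPt → ℤ) = σ r)) := by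
  have h := isoRel_graph hR hσ
  obtain ⟨y, hy⟩ := h.fst_surj _ (add_self_mem_L w0_mem)
  by_cases hA : (16 : ℤ) ∣ dotInt y w0
  · obtain ⟨c, hc, hc'⟩ := rigid_caseA hR hσ ⟨y, hy, hA⟩
    exact ⟨c, hc, Or.inl hc'⟩
  · have hR' : ∀ r ∈ R, (fun r => u - σ r) r ∈ R := fun r hr => u_sub_mem_R (hR r hr)
    have hσ' : ∀ r ∈ R, ∀ s ∈ R,
        dotInt ((fun r => u - σ r) r) ((fun r => u - σ r) s) = dotInt r s := by
      intro r hr s hs
      show dotInt (u - σ r) (u - σ s) = dotInt r s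
      rw [dotInt_sub_left, dotInt_sub_right, dotInt_sub_right, dotInt_self, sqNorm_u,
        (hR r hr).2.2, dotInt_comm u (σ s), (hR s hs).2.2, hσ r hr s hs]
      ring
    obtain ⟨k, hk, hk'⟩ := graph_sub hy
    have hk1 : k = -1 := by
      have : dotInt (w0 + w0) u = -16 := by rw [dotInt_add_left, w0_dot_u]; norm_num
      have h2 : 16 * k = dotInt (w0 + w0) u := hk
      omega
    have hA' : CaseA (graph fun r => u - σ r) := by
      refine ⟨_, hk', ?_⟩
      show (16 : ℤ) ∣ dotInt (k • u - y) w0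
      rw [dotInt_sub_left, dotInt_zsmul_left, hk1, dotInt_comm u w0, w0_dot_u]
      have h8 := eight_dvd_dotInt (L_le (h.snd_mem _ hy)).1 w0_mem
      have h9 : (8 : ℤ) ∣ dotInt y w0 := h8
      omega
    obtain ⟨c, hc, hc'⟩ := rigid_caseA hR' hσ' hA'
    refine ⟨c, hc, Or.inr fun r hr => ?_⟩
    rw [hc' r hr]
    abel

/-! ### Arbitrary minimal vectors in place of `u` -/

/-- The set of the `4600` minimal vectors of inner product `16` with `l`. -/
def RR (l : GolayPt → ℤ) : Set (GolayPt → ℤ) :=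
  {x | x ∈ leechLattice ∧ sqNorm x = 32 ∧ dotInt x l = 16}

theorem RR_u : RR u = R := rfl

/-- **Rigidity of the 4600 vectors**, for an arbitrary minimal vector `l`. -/
theorem rigid' (l : leechLattice) (hl : sqNorm (l : GolayPt → ℤ) = 32)
    {σ : (GolayPt → ℤ) → (GolayPt → ℤ)} (hR : ∀ r ∈ RR l, σ r ∈ RR l)
    (hσ : ∀ r ∈ RR l, ∀ s ∈ RR l, dotInt (σ r) (σ s) = dotInt r s) :
    ∃ c : ↥Co0, c • l = l ∧
      ((∀ r : leechLattice, (r : GolayPt → ℤ) ∈ RR l →
          ((c • r : leechLattice) : GolayPt → ℤ) = σ r) ∨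
       (∀ r : leechLattice, (r : GolayPt → ℤ) ∈ RR l →
          (l : GolayPt → ℤ) - ((c • r : leechLattice) : GolayPt → ℤ) = σ r)) := by
  classical
  obtain ⟨g, hg⟩ := Cfsg.Agent.Leech.Trans.co0_transitive_min l Spor.leechU hl sqNorm_u
  have hg' : g⁻¹ • Spor.leechU = l := by rw [← hg, inv_smul_smul]
  -- transport of `R`
  have h1 : ∀ x : leechLattice, ((x : GolayPt → ℤ) ∈ RR l ↔
      ((g • x : leechLattice) : GolayPt → ℤ) ∈ R) := by
    intro x
    have h2 := dotInt_smul g x l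
    rw [hg] at h2
    have h3 := sqNorm_smul g x
    constructor
    · intro h
      exact ⟨(g • x).2, by rw [h3]; exact h.2.1, by rw [← h.2.2]; exact h2⟩
    · intro h
      exact ⟨x.2, by rw [← h3]; exact h.2.1, by rw [← h.2.2]; exact h2.symm⟩
  have h1' : ∀ x : leechLattice, ((x : GolayPt → ℤ) ∈ R ↔
      ((g⁻¹ • x : leechLattice) : GolayPt → ℤ) ∈ RR l) := by
    intro x
    rw [h1, smul_inv_smul]
  -- the transported map
  set τ : (GolayPt → ℤ) → (GolayPt → ℤ) := fun x =>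
    if hx : x ∈ R then
      ((g • (⟨σ ((g⁻¹ • (⟨x, hx.1⟩ : leechLattice) : leechLattice) : GolayPt → ℤ),
        (hR _ ((h1' ⟨x, hx.1⟩).1 hx)).1⟩ : leechLattice) : leechLattice) : GolayPt → ℤ)
    else x with hτ
  have hτx : ∀ x : leechLattice, ∀ hx : (x : GolayPt → ℤ) ∈ R, τ x =
      ((g • (⟨σ ((g⁻¹ • x : leechLattice) : GolayPt → ℤ),
        (hR _ ((h1' x).1 hx)).1⟩ : leechLattice) : leechLattice) : GolayPt → ℤ) := by
    intro x hx
    rw [hτ]
    exact dif_pos hx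
  have hτR : ∀ x ∈ R, τ x ∈ R := by
    intro x hx
    have h2 := hτx ⟨x, hx.1⟩ hx
    have h3 : τ x = _ := h2
    rw [h3]
    refine (h1 _).1 ?_
    exact hR _ ((h1' ⟨x, hx.1⟩).1 hx)
  have hτd : ∀ x ∈ R, ∀ y ∈ R, dotInt (τ x) (τ y) = dotInt x y := by
    intro x hx y hy
    have h2 : τ x = _ := hτx ⟨x, hx.1⟩ hx
    have h3 : τ y = _ := hτx ⟨y, hy.1⟩ hy
    rw [h2, h3, dotInt_smul]
    have h4 := hσ _ ((h1' ⟨x, hx.1⟩).1 hx) _ ((h1' ⟨y, hy.1⟩).1 hy)
    have h5 := dotInt_smul g⁻¹ ⟨x, hx.1⟩ ⟨y, hy.1⟩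
    exact h4.trans h5
  obtain ⟨c, hc, hcc⟩ := rigid hτR hτd
  have hkey : ∀ r : leechLattice, ∀ hr : (r : GolayPt → ℤ) ∈ RR l,
      τ ((g • r : leechLattice) : GolayPt → ℤ) =
        ((g • (⟨σ r, (hR _ hr).1⟩ : leechLattice) : leechLattice) : GolayPt → ℤ) := by
    intro r hr
    rw [hτx (g • r) ((h1 r).1 hr)]
    congr 2
    apply Subtype.ext
    show σ ((g⁻¹ • g • r : leechLattice) : GolayPt → ℤ) = σ r
    rw [inv_smul_smul]
  refine ⟨g⁻¹ * c * g, by rw [mul_smul, mul_smul, hg, hc, hg'], ?_⟩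
  rcases hcc with h2 | h2
  · left
    intro r hr
    have h3 := h2 (g • r) ((h1 r).1 hr)
    rw [hkey r hr] at h3
    have h4 : c • g • r = g • (⟨σ r, (hR _ hr).1⟩ : leechLattice) := Subtype.ext h3
    rw [mul_smul, mul_smul, h4, inv_smul_smul]
  · right
    intro r hr
    have h3 := h2 (g • r) ((h1 r).1 hr)
    rw [hkey r hr] at h3
    have h4 : Spor.leechU + -(c • g • r) = g • (⟨σ r, (hR _ hr).1⟩ : leechLattice) := by
      apply Subtype.ext
      rw [← h3, AddSubgroup.coe_add, AddSubgroup.coe_neg, ← sub_eq_add_neg]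
      rfl
    have h5 := congrArg (fun x : leechLattice => g⁻¹ • x) h4
    simp only [smul_add_co0, smul_neg_co0, hg', inv_smul_smul] at h5
    have h6 := congrArg (fun x : leechLattice => (x : GolayPt → ℤ)) h5
    simp only [AddSubgroup.coe_add, AddSubgroup.coe_neg] at h6
    rw [mul_smul, mul_smul, sub_eq_add_neg, h6]

/-- **Rigidity in a representation.** `w r` (`r` in the set of the `4600` vectors) is a family of
vectors with inner products `F (w r) (w s) = (r, s) / 8 - 1` (the projections `2 r - l`, norm `3`).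
Any map permuting the vectors `w r` and preserving their inner products is `±` an element
of `Co2`. -/
theorem rigid_rep (l : leechLattice) (hl : sqNorm (l : GolayPt → ℤ) = 32) {U : Type*}
    (F : U → U → ℚ) (w : leechLattice → U)
    (hF : ∀ r s : leechLattice, (r : GolayPt → ℤ) ∈ RR l → (s : GolayPt → ℤ) ∈ RR l →
      F (w r) (w s) = (dotInt (r : GolayPt → ℤ) (s : GolayPt → ℤ) : ℚ) / 8 - 1)
    (k : U → U)
    (hk : ∀ r s : leechLattice, (r : GolayPt → ℤ) ∈ RR l → (s : GolayPt → ℤ) ∈ RR l →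
      F (k (w r)) (k (w s)) = F (w r) (w s))
    (hk' : ∀ r : leechLattice, (r : GolayPt → ℤ) ∈ RR l →
      ∃ s : leechLattice, (s : GolayPt → ℤ) ∈ RR l ∧ k (w r) = w s) :
    ∃ c : ↥Co0, c • l = l ∧
      ((∀ r : leechLattice, (r : GolayPt → ℤ) ∈ RR l → k (w r) = w (c • r)) ∨
       (∀ r : leechLattice, (r : GolayPt → ℤ) ∈ RR l → k (w r) = w (l - c • r))) := by
  classical
  choose f hf hkf using hk'
  set σ : (GolayPt → ℤ) → (GolayPt → ℤ) := fun x =>
    if hx : x ∈ RR l then (f ⟨x, hx.1⟩ hx : GolayPt → ℤ) else x with hσ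
  have h1 : ∀ r : leechLattice, ∀ hr : (r : GolayPt → ℤ) ∈ RR l, σ r = (f r hr : GolayPt → ℤ) := by
    intro r hr
    rw [hσ]
    exact dif_pos hr
  obtain ⟨c, hc, hcc⟩ := rigid' l hl (σ := σ)
    (fun r hr => by
      have h2 : σ r = _ := h1 ⟨r, hr.1⟩ hr
      rw [h2]; exact hf _ _)
    (fun r hr s hs => by
      have h2 : σ r = _ := h1 ⟨r, hr.1⟩ hr
      have h3 : σ s = _ := h1 ⟨s, hs.1⟩ hs
      rw [h2, h3]
      have h4 := hk ⟨r, hr.1⟩ ⟨s, hs.1⟩ hr hs
      rw [hkf _ hr, hkf _ hs, hF _ _ (hf _ _) (hf _ _), hF _ _ hr hs] at h4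
      have h5 : (dotInt (f ⟨r, hr.1⟩ hr : GolayPt → ℤ) (f ⟨s, hs.1⟩ hs : GolayPt → ℤ) : ℚ) =
          (dotInt r s : ℚ) := by
        have h6 : ∀ a b : ℚ, a / 8 - 1 = b / 8 - 1 → a = b := fun a b h => by linarith
        exact h6 _ _ h4
      exact_mod_cast h5)
  refine ⟨c, hc, ?_⟩
  rcases hcc with h2 | h2
  · left
    intro r hr
    rw [hkf r hr]
    congr 1
    apply Subtype.ext
    rw [h2 r hr, h1 r hr]
  · right
    intro r hr
    rw [hkf r hr]
    congr 1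
    apply Subtype.ext
    rw [AddSubgroup.coe_sub, h2 r hr, h1 r hr]

end Cfsg.Agent.BabyM.Rigid23Thm
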