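import Cfsg.Agent.BabyM.Rigid23Thm
import Cfsg.Agent.Leech.TransPair
import Cfsg.Agent.Leech.CensusPair

/-!
The field `rigid` of the interface `BRep`, and elementary facts on the orbit of `u₀`, derived from
a short list of hypotheses on the action of `C` on the vectors `w r` of the `23`-dimensional part.
-/

set_option autoImplicit false

namespace Cfsg.Agent.BabyM.RigidField

open Cfsg Cfsg.Agent.Leech.Basic Cfsg.Agent.BabyM.Rigid23Thm Cfsg.Agent.Leech.Co0Elts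

/-- The stabiliser of `l` is transitive on the `4600` vectors. -/
theorem trans_RR (l : leechLattice) (hl : sqNorm (l : GolayPt → ℤ) = 32) {r s : leechLattice}
    (hr : (r : GolayPt → ℤ) ∈ RR l) (hs : (s : GolayPt → ℤ) ∈ RR l) :
    ∃ c : ↥Co0, c • l = l ∧ c • r = s := by
  have h1 : ∀ x : leechLattice, (x : GolayPt → ℤ) ∈ RR l →
      sqNorm ((-x : leechLattice) : GolayPt → ℤ) = 32 ∧
      dotInt (l : GolayPt → ℤ) ((-x : leechLattice) : GolayPt → ℤ) = -16 := by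
    intro x hx
    rw [AddSubgroup.coe_neg, sqNorm_neg, dotInt_neg_right, dotInt_comm, hx.2.2]
    exact ⟨hx.2.1, rfl⟩
  obtain ⟨c, hc, h⟩ := Cfsg.Agent.Leech.TransPair.co0_transitive_pairs l (-r) (-s) hl
    (h1 r hr).1 (h1 s hs).1 (h1 r hr).2 (h1 s hs).2
  refine ⟨c, hc, ?_⟩
  rw [smul_neg_co0] at h
  exact neg_injective h

/-- `c r` belongs to the `4600` vectors. -/
theorem smul_RR {l : leechLattice} {c : ↥Co0} (hc : c • l = l) {r : leechLattice}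
    (hr : (r : GolayPt → ℤ) ∈ RR l) : ((c • r : leechLattice) : GolayPt → ℤ) ∈ RR l := by
  refine ⟨(c • r).2, ?_, ?_⟩
  · rw [sqNorm_smul]; exact hr.2.1
  · have := dotInt_smul c r l
    rw [hc] at this
    rw [this]; exact hr.2.2

/-- `l - r` belongs to the `4600` vectors. -/
theorem sub_RR {l : leechLattice} (hl : sqNorm (l : GolayPt → ℤ) = 32) {r : leechLattice}
    (hr : (r : GolayPt → ℤ) ∈ RR l) : ((l - r : leechLattice) : GolayPt → ℤ) ∈ RR l := by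
  refine ⟨(l - r).2, ?_, ?_⟩
  · rw [AddSubgroup.coe_sub, sqNorm_sub, hl, hr.2.1, dotInt_comm, hr.2.2]; norm_num
  · rw [AddSubgroup.coe_sub, dotInt_sub_left, hr.2.2, dotInt_self, hl]; norm_num

/-- there are `4600` vectors -/
theorem card_RR (l : leechLattice) (hl : sqNorm (l : GolayPt → ℤ) = 32) :
    (RR (l : GolayPt → ℤ)).ncard = 4600 := by
  have h := (Cfsg.Agent.Leech.CensusPair.census (l : GolayPt → ℤ) l.2 hl).1
  rw [← h]
  have h2 : RR (l : GolayPt → ℤ) = (fun x => -x) ''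
      {w : GolayPt → ℤ | w ∈ leechLattice ∧ sqNorm w = 32 ∧ dotInt (l : GolayPt → ℤ) w = -16} := by
    ext x
    constructor
    · intro hx
      refine ⟨-x, ⟨leechLattice.neg_mem hx.1, ?_, ?_⟩, neg_neg x⟩
      · rw [sqNorm_neg]; exact hx.2.1
      · rw [dotInt_neg_right, dotInt_comm, hx.2.2]
    · rintro ⟨y, hy, rfl⟩
      refine ⟨leechLattice.neg_mem hy.1, ?_, ?_⟩
      · show sqNorm (-y) = 32
        rw [sqNorm_neg]; exact hy.2.1
      · show dotInt (-y) l = 16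
        rw [dotInt_neg_left, dotInt_comm, hy.2.2]; norm_num
  rw [h2, Set.ncard_image_of_injective _ neg_injective]

section

variable {W : Type*} [AddCommGroup W] [Module ℚ W] (F : W → W → ℚ)
  (C : Subgroup (W ≃ₗ[ℚ] W)) (u₀ : W) (l r₀ : leechLattice) (w : leechLattice → W)

/-- The hypotheses: `w r = (2 r - l)` in the `23`-dimensional part (norm `3`), `C` acts on the
vectors `w r` through the full stabiliser of `l` in `Co0`. -/
structure Hyp : Prop where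
  norm_l : sqNorm (l : GolayPt → ℤ) = 32
  r₀_mem : (r₀ : GolayPt → ℤ) ∈ RR l
  u₀_eq : u₀ = w r₀
  form : ∀ r s : leechLattice, (r : GolayPt → ℤ) ∈ RR l → (s : GolayPt → ℤ) ∈ RR l →
      F (w r) (w s) = (dotInt (r : GolayPt → ℤ) (s : GolayPt → ℤ) : ℚ) / 8 - 1
  neg : ∀ r : leechLattice, (r : GolayPt → ℤ) ∈ RR l → w (l - r) = - w r
  act : ∀ g ∈ C, ∃ c : ↥Co0, c • l = l ∧
    ∀ r : leechLattice, (r : GolayPt → ℤ) ∈ RR l → g (w r) = w (c • r)
  onto : ∀ c : ↥Co0, c • l = l → ∃ g ∈ C,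
    ∀ r : leechLattice, (r : GolayPt → ℤ) ∈ RR l → g (w r) = w (c • r)

variable {F C u₀ l r₀ w}

/-- the orbit of `u₀` under `C` -/
theorem Hyp.orbit (h : Hyp F C u₀ l r₀ w) (x : W) :
    (∃ g ∈ C, x = g u₀) ↔ ∃ r : leechLattice, (r : GolayPt → ℤ) ∈ RR l ∧ x = w r := by
  constructor
  · rintro ⟨g, hg, rfl⟩
    obtain ⟨c, hc, hgc⟩ := h.act g hg
    exact ⟨c • r₀, smul_RR hc h.r₀_mem, by rw [h.u₀_eq, hgc r₀ h.r₀_mem]⟩
  · rintro ⟨r, hr, rfl⟩
    obtain ⟨c, hc, hcr⟩ := trans_RR l h.norm_l h.r₀_mem hr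
    obtain ⟨g, hg, hgc⟩ := h.onto c hc
    exact ⟨g, hg, by rw [h.u₀_eq, hgc r₀ h.r₀_mem, hcr]⟩

/-- `w` is injective on the `4600` vectors -/
theorem Hyp.inj (h : Hyp F C u₀ l r₀ w) {r s : leechLattice} (hr : (r : GolayPt → ℤ) ∈ RR l)
    (hs : (s : GolayPt → ℤ) ∈ RR l) (hrs : w r = w s) : r = s := by
  have h1 := h.form r s hr hs
  have h2 := h.form s s hs hs
  rw [hrs, h2] at h1
  have h3 : dotInt (s : GolayPt → ℤ) (s : GolayPt → ℤ) = dotInt (r : GolayPt → ℤ) (s : GolayPt → ℤ) := by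
    have h6 : ∀ a b : ℚ, a / 8 - 1 = b / 8 - 1 → a = b := fun a b h => by linarith
    exact_mod_cast h6 _ _ h1
  rw [dotInt_self, hs.2.1] at h3
  apply Subtype.ext
  have h4 : sqNorm ((r : GolayPt → ℤ) - (s : GolayPt → ℤ)) = 0 := by
    rw [sqNorm_sub, hr.2.1, hs.2.1]; omega
  exact sub_eq_zero.1 (sqNorm_eq_zero h4)

/-- the norm of `u₀` is `3` -/
theorem Hyp.u₀_norm (h : Hyp F C u₀ l r₀ w) : F u₀ u₀ = 3 := by
  rw [h.u₀_eq, h.form r₀ r₀ h.r₀_mem h.r₀_mem, dotInt_self, h.r₀_mem.2.1]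
  norm_num

/-- the orbit of `u₀` has `4600` elements -/
theorem Hyp.card_orbit (h : Hyp F C u₀ l r₀ w) : {x | ∃ g ∈ C, x = g u₀}.ncard = 4600 := by
  have h1 : {x | ∃ g ∈ C, x = g u₀} = (fun r : RR (l : GolayPt → ℤ) => w ⟨r, r.2.1⟩) '' Set.univ := by
    ext x
    rw [Set.mem_ofPred_eq, h.orbit]
    constructor
    · rintro ⟨r, hr, rfl⟩
      exact ⟨⟨r, hr⟩, Set.mem_univ _, rfl⟩
    · rintro ⟨r, -, rfl⟩
      exact ⟨⟨r, r.2.1⟩, r.2, rfl⟩
  rw [h1, Set.ncard_image_of_injective, Set.ncard_univ, Nat.card_coe_set_eq,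
    card_RR l h.norm_l]
  intro r s hrs
  have := h.inj (r := ⟨r, r.2.1⟩) (s := ⟨s, s.2.1⟩) r.2 s.2 hrs
  exact Subtype.ext (congrArg (fun x : leechLattice => (x : GolayPt → ℤ)) this)

/-- **The field `rigid`.** -/
theorem Hyp.rigid (h : Hyp F C u₀ l r₀ w) (U : Submodule ℚ W)
    (hU : ∀ g ∈ C, g u₀ ∈ U) (k : W → W)
    (hk : ∀ x ∈ U, ∀ y ∈ U, F (k x) (k y) = F x y)
    (hk' : ∀ g ∈ C, ∃ h ∈ C, k (g u₀) = h u₀) :
    ∃ c ∈ C, (∀ g ∈ C, k (g u₀) = c (g u₀)) ∨ (∀ g ∈ C, k (g u₀) = - c (g u₀)) := by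
  have hwU : ∀ r : leechLattice, (r : GolayPt → ℤ) ∈ RR l → w r ∈ U := by
    intro r hr
    obtain ⟨g, hg, hgr⟩ := (h.orbit (w r)).2 ⟨r, hr, rfl⟩
    rw [hgr]; exact hU g hg
  obtain ⟨c, hc, hcc⟩ := rigid_rep l h.norm_l F w h.form k
    (fun r s hr hs => hk _ (hwU r hr) _ (hwU s hs))
    (fun r hr => by
      obtain ⟨g, hg, hgr⟩ := (h.orbit (w r)).2 ⟨r, hr, rfl⟩
      obtain ⟨g', hg', hg''⟩ := hk' g hg
      obtain ⟨s, hs, hss⟩ := (h.orbit (k (w r))).1 ⟨g', hg', by rw [hgr]; exact hg''⟩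
      exact ⟨s, hs, hss⟩)
  obtain ⟨g, hg, hgc⟩ := h.onto c hc
  refine ⟨g, hg, ?_⟩
  rcases hcc with h1 | h1
  · left
    intro a ha
    obtain ⟨r, hr, hrr⟩ := (h.orbit (a u₀)).1 ⟨a, ha, rfl⟩
    rw [hrr, h1 r hr, hgc r hr]
  · right
    intro a ha
    obtain ⟨r, hr, hrr⟩ := (h.orbit (a u₀)).1 ⟨a, ha, rfl⟩
    rw [hrr, h1 r hr, hgc r hr]
    have h2 : (l - c • r : leechLattice) = c • (l - r) := by
      rw [sub_eq_add_neg, sub_eq_add_neg, smul_add_co0, smul_neg_co0, hc]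
    rw [h2, ← hgc _ (sub_RR h.norm_l hr), h.neg r hr, map_neg, hgc r hr]

end

end Cfsg.Agent.BabyM.RigidField
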