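import Cfsg.Agent.BabyM.KTab
import Cfsg.Agent.BabyM.Inst

/-!
# The field `t₀_e` of `BRep` (helper620)

`t₀` fixes `g e₀ = ± (8 at lane j)` only if the classes `c_1281` and `c_j` commute; the kernel checks that for such a lane
`j ≠ 1281` the product `(u_j, u₀)` is `± 1`.  No pairing with the Leech lattice is needed.
-/

set_option autoImplicit false

namespace Cfsg.Agent.BabyM.TZeroE

open Cfsg.Agent.Lib.PermNet Cfsg.Agent.Monster Cfsg.Agent.Monster.VecEngine Cfsg.Agent.Monster.VecSpace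
open Cfsg.Agent.Monster.PauliBasic Cfsg.Agent.Monster.PauliRep Cfsg.Agent.Monster.PauliClif Cfsg.Agent.Monster.PauliBits
open Cfsg.Agent.BabyM.KTabData Cfsg.Agent.BabyM.QAct Cfsg.Agent.BabyM.QData Cfsg.Agent.BabyM.QData.Good
open Cfsg.Agent.BabyM.Conc Cfsg.Agent.BabyM.KTab Cfsg.Agent.BabyM.KCore

/-- The form of the elements with codes `x` and `y`. -/
def formN (x y : ℕ) : ℕ := par32 ((x &&& 2047) &&& (y >>> 11)) ^^^ par32 ((y &&& 2047) &&& (x >>> 11))

theorem dot_dec (x y : ℕ) :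
    (dec 11 x).b ⬝ᵥ (dec 11 y).a = bit (par32 ((x &&& 2047) &&& (y >>> 11))) 0 := by
  have h1 : (dec 11 x).b ⬝ᵥ (dec 11 y).a = vec 11 x ⬝ᵥ vec 11 (y >>> 11) := by
    congr 1
    funext i
    show bit y (11 + i.1) = bit (y >>> 11) i.1
    rw [bit_shiftRight]
  have hlt : (x &&& 2047) &&& (y >>> 11) < 2 ^ 11 := by
    refine lt_of_le_of_lt Nat.and_le_left ?_
    refine lt_of_le_of_lt Nat.and_le_right ?_
    norm_num
  rw [h1, vec_dot_vec, bit_par32, if_pos rfl, sum_range_32 (by norm_num) hlt]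
  apply Finset.sum_congr rfl
  intro i hi
  rw [Finset.mem_range] at hi
  have h2 : bit 2047 i = 1 := by
    rw [bit_eq_one_iff]
    have : (2047 : ℕ) = 2 ^ 11 - 1 := by norm_num
    rw [this, Nat.testBit_two_pow_sub_one]
    exact decide_eq_true hi
  rw [bit_and, bit_and, bit_and, h2, mul_one]

theorem form_dec (x y : ℕ) : Pauli.form (dec 11 x) (dec 11 y) = bit (formN x y) 0 := by
  unfold formN Pauli.form
  rw [bit_xor, dot_dec, dot_dec]

/-- `4 (u_j, u₀)` -/
noncomputable def fv (j : ℕ) : ℤ := val (uPl j) 1344 - 2 * val (uPl j) 1345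

/-- The condition on a lane. -/
noncomputable def good (j : ℕ) : Bool :=
  or (Nat.beq j 1281) (or (Nat.beq (formN (cd 1281) (cd j)) 1) (or (decide (fv j = 4)) (decide (fv j = -4))))

theorem good_check : allN 12 (fun i => Bool.rec true (Bool.rec (good i) true (Nat.beq (cd i) 0))
    (Nat.testBit U i)) 0 = true := by
  decide +kernel

theorem good_of_isX {j : Lane U} (hj : Cd.isX j) :
    j.1 = 1281 ∨ Pauli.form (Cd.c Inst.laneB) (Cd.c j) = 1 ∨ fv j.1 = 4 ∨ fv j.1 = -4 := by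
  rw [isX_iff] at hj
  have h1 := allN_spec good_check (Nat.zero_le j.1) (by rw [zero_add]; exact hj.1)
  simp only [j.2] at h1
  have h0 : Nat.beq (cd j.1) 0 = false := by
    rw [Bool.eq_false_iff]
    intro hh
    exact hj.2 (Nat.eq_of_beq_eq_true hh)
  rw [h0] at h1
  have h2 : (Nat.beq j.1 1281 || (Nat.beq (formN (cd 1281) (cd j.1)) 1 ||
    (decide (fv j.1 = 4) || decide (fv j.1 = -4)))) = true := h1
  rw [Bool.or_eq_true, Bool.or_eq_true, Bool.or_eq_true, decide_eq_true_eq, decide_eq_true_eq] at h2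
  rcases h2 with h2 | h2 | h2
  · exact Or.inl (Nat.eq_of_beq_eq_true h2)
  · right; left
    rw [c_eq, c_eq]
    show Pauli.form (dec 11 (cd 1281)) (dec 11 (cd j.1)) = 1
    rw [form_dec, Nat.eq_of_beq_eq_true h2]
    decide
  · exact Or.inr (Or.inr h2)

theorem F_u₀ (j : Lane U) : F (u j) Inst.u₀ = (fv j.1 : ℚ) / 4 := by
  rw [Inst.u₀_eq, map_add, Inst.F_single, Inst.F_single]
  show 1 / 16 * ((2 : ℚ) ^ (-(val wt 1344)) * ((val (uPl j.1) 1344 : ℤ) : ℚ) * 4) +
    1 / 16 * ((2 : ℚ) ^ (-(val wt 1345)) * ((val (uPl j.1) 1345 : ℤ) : ℚ) * -4) = _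
  rw [Inst.wt_I, Inst.wt_A]
  unfold fv
  push_cast
  norm_num
  ring

/-- **The field `t₀_e`.** -/
theorem t₀_e {w : Lane U → ℚ} (h : Link Cd u w Inst.M Inst.laneB) :
    ∀ g ∈ Inst.M.C, Inst.M.t₀ (g Inst.M.e₀) = g Inst.M.e₀ → g Inst.M.e₀ = Inst.M.e₀ ∨ g Inst.M.e₀ = - Inst.M.e₀ ∨
      Inst.M.F (g Inst.M.u₀) Inst.M.u₀ = 1 ∨ Inst.M.F (g Inst.M.u₀) Inst.M.u₀ = -1 := by
  intro g hg ht
  obtain ⟨j, hj, s, t, -, h2, h3⟩ := h.base hg h.i₀_X
  rcases good_of_isX hj with h4 | h4 | h4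
  · have hj0 : j = Inst.laneB := Subtype.ext h4
    subst hj0
    rw [h.e₀_eq, h3]
    rcases h.sg_smul_eq (s + t) (Pi.single Inst.laneB 8) with h5 | h5
    · left; exact h5
    · right; left; exact h5
  · exfalso
    rw [h.e₀_eq, h3, h.t₀_eq, map_smul, R_single _ hj.1, h4, sg_one, neg_smul, one_smul, smul_neg] at ht
    have h6 : sg ℚ (s + t) • (Pi.single j 8 : Lane U → ℚ) = 0 := by
      have h7 := congrArg (fun x => x + sg ℚ (s + t) • (Pi.single j 8 : Lane U → ℚ)) ht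
      simp only [neg_add_cancel] at h7
      rw [← two_smul ℚ] at h7
      exact (smul_eq_zero.mp h7.symm).resolve_left (by norm_num)
    rcases smul_eq_zero.mp h6 with h7 | h7
    · rcases sg_eq_or ℚ (s + t) with h8 | h8 <;> rw [h8] at h7 <;> norm_num at h7
    · have h8 := congrFun h7 j
      rw [Pi.single_eq_same] at h8
      norm_num at h8
  · right; right
    have h5 : Inst.M.F (g Inst.M.u₀) Inst.M.u₀ = sg ℚ t * ((fv j.1 : ℚ) / 4) := by
      rw [← F_u₀ j]
      have h6 : g Inst.M.u₀ = sg ℚ t • u j := by rw [h.u₀_eq, h2]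
      rw [h6]
      show F (sg ℚ t • u j) Inst.u₀ = _
      rw [map_smul, LinearMap.smul_apply, smul_eq_mul]
    rw [h5]
    rcases sg_eq_or ℚ t with h6 | h6 <;> rcases h4 with h4 | h4 <;> rw [h6, h4] <;> norm_num

end Cfsg.Agent.BabyM.TZeroE
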