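import Cfsg.Agent.BabyM.NbAct
import Cfsg.Agent.BabyM.Conc

/-!
# The action of `C` on the 23-part: the homomorphism to `Co0`

`θ : leechLattice → V`, `θ v = (v_∞ + v_0)/2 · I + ∑_j (v_j / 2) A_j`, is the projection of `v` to
the orthogonal space of `λ₀`.  Every element `g` of `C` acts on the vectors `θ v` as an element of
`Co0` fixing `λ₀`.
-/

set_option autoImplicit false

namespace Cfsg.Agent.BabyM.ThetaInst

open Cfsg Cfsg.Agent.Leech.Code Cfsg.Agent.Leech.Basic Cfsg.Agent.Leech.Co0Elts
  Cfsg.Agent.Leech.Xi Cfsg.Agent.Leech.Min Cfsg.Agent.Leech.Trans Cfsg.Agent.Leech.TransPair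
  Cfsg.Agent.BabyM.Co2Gen Cfsg.Agent.BabyM.Co2GenStd Cfsg.Agent.BabyM.NbAct Cfsg.Agent.SporadicA
  Cfsg.Agent.BabyM.Conc Cfsg.Agent.Monster.VecEngine Cfsg.Agent.Monster.VecSpace

/-! ### The head -/

/-- planes of the `k`-th unit vector of the head -/
def ub (k : ℕ) : Pl := .cons (1 <<< (1344 + k)) (.sgn 0)

/-- planes of minus the `k`-th unit vector of the head -/
def nub (k : ℕ) : Pl := .sgn (1 <<< (1344 + k))

/-- the unit vectors of the head: `I`, `A_1`, …, `A_22` -/
noncomputable def b (k : ℕ) : V := vecU ℚ U (ub k)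

theorem bt_one_shift (n i : ℕ) : bt (1 <<< n) i = if i = n then 1 else 0 := by
  unfold bt
  rw [Nat.testBit_shiftLeft]
  by_cases h : i = n
  · subst h; simp
  · rw [if_neg h]
    have : ¬ (decide (i ≥ n) && Nat.testBit 1 (i - n)) = true := by
      simp only [Bool.and_eq_true, decide_eq_true_eq, not_and]
      intro hi
      have : i - n ≠ 0 := by omega
      rw [Nat.testBit_one_eq_true_iff_self_eq_zero]
      exact this
    rw [if_neg this]

theorem b_apply (k : ℕ) (i : Lane U) : b k i = if i.1 = 1344 + k then 1 else 0 := by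
  show ((val (ub k) i.1 : ℤ) : ℚ) = _
  unfold ub
  rw [val_cons, val_sgn, bt_one_shift]
  simp [bt]

theorem nub_eq (k : ℕ) : vecU ℚ U (nub k) = - b k := by
  funext i
  show ((val (nub k) i.1 : ℤ) : ℚ) = - b k i
  rw [b_apply]
  unfold nub
  rw [val_sgn, bt_one_shift]
  split_ifs <;> simp

theorem lane_mem : ∀ k < 23, U.testBit (1344 + k) = true := by decide +kernel

/-- the lane of a head coordinate -/
def hl (k : ℕ) (hk : k < 23) : Lane U := ⟨1344 + k, lane_mem k hk⟩

/-- the coefficients of `θ v` -/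
def coef (k : ℕ) (v : leechLattice) : ℚ :=
  if k = 0 then (((v : GolayPt → ℤ) none : ℚ) + ((v : GolayPt → ℤ) (some 0) : ℚ)) / 2
  else ((v : GolayPt → ℤ) (GolayBase.pt k) : ℚ) / 2

/-- the projection of `v` to the head -/
noncomputable def θ (v : leechLattice) : V := ∑ k ∈ Finset.range 23, coef k v • b k

theorem θ_apply_hl (v : leechLattice) (k : ℕ) (hk : k < 23) : θ v (hl k hk) = coef k v := by
  unfold θ
  rw [Finset.sum_apply, Finset.sum_eq_single k]
  · have h1 : b k (hl k hk) = 1 := by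
      rw [b_apply]; exact if_pos rfl
    rw [Pi.smul_apply, h1, smul_eq_mul, mul_one]
  · intro j _ hjk
    rw [Pi.smul_apply, b_apply, if_neg, smul_zero]
    intro h
    apply hjk
    have : 1344 + k = 1344 + j := h
    omega
  · intro h; exact absurd (Finset.mem_range.2 hk) h

theorem coef_zero (v : leechLattice) :
    coef 0 v = (((v : GolayPt → ℤ) none : ℚ) + ((v : GolayPt → ℤ) (some 0) : ℚ)) / 2 := if_pos rfl

theorem coef_pos {k : ℕ} (hk : k ≠ 0) (v : leechLattice) :
    coef k v = ((v : GolayPt → ℤ) (GolayBase.pt k) : ℚ) / 2 := if_neg hk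

/-- A lattice vector is determined by its projection and its inner product with `λ₀`. -/
theorem θ_inj {v w : leechLattice} (h : θ v = θ w)
    (hd : dotInt (l₀ : GolayPt → ℤ) v = dotInt (l₀ : GolayPt → ℤ) w) : v = w := by
  have hc : ∀ k < 23, coef k v = coef k w := by
    intro k hk
    rw [← θ_apply_hl v k hk, h, θ_apply_hl]
  have h0 := hc 0 (by norm_num)
  rw [coef_zero, coef_zero] at h0
  rw [dot_v0, dot_v0] at hd
  have h1 : (v : GolayPt → ℤ) none + (v : GolayPt → ℤ) (some 0) =
      (w : GolayPt → ℤ) none + (w : GolayPt → ℤ) (some 0) := by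
    have h2 : ((v : GolayPt → ℤ) none : ℚ) + ((v : GolayPt → ℤ) (some 0) : ℚ) =
        ((w : GolayPt → ℤ) none : ℚ) + ((w : GolayPt → ℤ) (some 0) : ℚ) := by linarith
    exact_mod_cast h2
  apply Subtype.ext
  funext x
  have hx := GolayBase.pt_idx x
  have hlt := GolayBase.idx_lt x
  by_cases hn : x = none
  · subst hn; omega
  by_cases hz : x = some 0
  · subst hz; omega
  have hk0 : GolayBase.idx x ≠ 0 := by
    intro h3; apply hz
    rw [← hx, h3]; rfl
  have hk23 : GolayBase.idx x ≠ 23 := by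
    intro h3; apply hn
    rw [← hx, h3]; rfl
  have h2 := hc (GolayBase.idx x) (by omega)
  rw [coef_pos hk0, coef_pos hk0, hx] at h2
  have h3 : ((v : GolayPt → ℤ) x : ℚ) = ((w : GolayPt → ℤ) x : ℚ) := by linarith
  exact_mod_cast h3

/-! ### The relation -/

/-- `g` acts on the head as `c`. -/
def Rel (g : V ≃ₗ[ℚ] V) (c : Co0) : Prop := c • l₀ = l₀ ∧ ∀ v, g (θ v) = θ (c • v)

theorem Rel.one : Rel 1 1 := ⟨one_smul _ _, fun v => by rw [one_smul]; rfl⟩

theorem Rel.mul {g g' : V ≃ₗ[ℚ] V} {c c' : Co0} (h : Rel g c) (h' : Rel g' c') :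
    Rel (g * g') (c * c') :=
  ⟨by rw [mul_smul, h'.1, h.1], fun v => by rw [LinearEquiv.mul_apply, h'.2, h.2, mul_smul]⟩

theorem Rel.inv {g : V ≃ₗ[ℚ] V} {c : Co0} (h : Rel g c) : Rel g⁻¹ c⁻¹ := by
  refine ⟨by rw [inv_smul_eq_iff, h.1], fun v => ?_⟩
  have h1 := h.2 (c⁻¹ • v)
  rw [smul_inv_smul] at h1
  rw [← h1, ← LinearEquiv.mul_apply, inv_mul_cancel]
  rfl

theorem Rel.unique {g : V ≃ₗ[ℚ] V} {c c' : Co0} (h : Rel g c) (h' : Rel g c') : c = c' := by
  apply Cfsg.Agent.Leech.FrameAux.co0_ext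
  intro v
  have h1 : c • v = c' • v := by
    apply θ_inj
    · rw [← h.2, h'.2]
    · have e1 := dotInt_smul c l₀ v
      have e2 := dotInt_smul c' l₀ v
      rw [h.1] at e1
      rw [h'.1] at e2
      rw [e1, e2]
  rw [h1]

/-! ### Monomial letters -/

/-- The result planes for a monomial letter: `k ↦ ± t k`. -/
def res (t : ℕ → ℕ) (s : ℕ → Bool) (k : ℕ) : Pl := if s k then nub (t k) else ub (t k)

theorem res_eq (t : ℕ → ℕ) (s : ℕ → Bool) (k : ℕ) :
    vecU ℚ U (res t s k) = (if s k then (-1 : ℚ) else 1) • b (t k) := by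
  unfold res
  split_ifs
  · rw [nub_eq, neg_smul, one_smul]
  · rw [one_smul]; rfl

theorem E_b {l : Ltr} {k : ℕ} {x : Pl} (h : check [l.prog] (ub k) [] x = true) :
    E l (b k) = vecU ℚ U x := by
  have h1 := W_eq_of_check (v₁ := [l]) (v₂ := []) (x₁ := ub k) (x₂ := x) h
  rw [W_single, W_nil] at h1
  exact h1

/-- A monomial letter. -/
theorem rel_mono (l : Ltr) (c : Co0) (hc : c • l₀ = l₀) (t : ℕ → ℕ) (s : ℕ → Bool)
    (ht : ∀ k < 23, t k < 23) (hti : ∀ j < 23, ∀ k < 23, t j = t k → j = k)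
    (hx : ∀ k < 23, check [l.prog] (ub k) [] (res t s k) = true)
    (hcoef : ∀ k < 23, ∀ v, coef (t k) (c • v) = (if s k then (-1 : ℚ) else 1) * coef k v) :
    Rel (E l) c := by
  refine ⟨hc, fun v => ?_⟩
  unfold θ
  rw [map_sum]
  have h1 : ∀ k ∈ Finset.range 23, E l (coef k v • b k) = coef (t k) (c • v) • b (t k) := by
    intro k hk
    rw [Finset.mem_range] at hk
    rw [map_smul, E_b (hx k hk), res_eq, smul_smul, hcoef k hk v, mul_comm]
  rw [Finset.sum_congr rfl h1]
  refine Finset.sum_bij (fun k _ => t k) (fun k hk => ?_) (fun j hj k hk hjk => ?_)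
    (fun j hj => ?_) (fun k _ => rfl)
  · rw [Finset.mem_range] at *; exact ht k hk
  · rw [Finset.mem_range] at *; exact hti j hj k hk hjk
  · -- surjectivity
    rw [Finset.mem_range] at hj
    have hinj : Function.Injective (fun k : Fin 23 => (⟨t k, ht k k.2⟩ : Fin 23)) := by
      intro a a' haa
      apply Fin.ext
      exact hti a a.2 a' a'.2 (congrArg Fin.val haa)
    obtain ⟨k, hk⟩ := (Finite.injective_iff_surjective.1 hinj) ⟨j, hj⟩
    exact ⟨k, Finset.mem_range.2 k.2, congrArg Fin.val hk⟩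

/-- A letter acting trivially on the head. -/
theorem rel_one (l : Ltr) (hx : ∀ k < 23, check [l.prog] (ub k) [] (ub k) = true) :
    Rel (E l) 1 := by
  apply rel_mono l 1 (one_smul _ _) id (fun _ => false) (fun k hk => hk) (fun _ _ _ _ h => h)
  · intro k hk; exact hx k hk
  · intro k _ v; rw [one_smul]; simp

/-- A sign change. -/
theorem rel_sgn (l : Ltr) (m : ℕ) (hm : GolayBase.fin m ∈ Words)
    (h0 : m.testBit 0 = false) (h23 : m.testBit 23 = false)
    (hx : ∀ k < 23, check [l.prog] (ub k) [] (res id (fun k => m.testBit k) k) = true) :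
    Rel (E l) (sgn (GolayBase.fin m) hm) := by
  have hnone : (none : GolayPt) ∉ GolayBase.fin m := by
    rw [GolayBase.mem_fin, idx_none, h23]; exact Bool.false_ne_true
  have hzero : (some 0 : GolayPt) ∉ GolayBase.fin m := by
    rw [GolayBase.mem_fin, idx_zero, h0]; exact Bool.false_ne_true
  apply rel_mono l _ (sgn_l₀ hm hnone hzero) id (fun k => m.testBit k) (fun k hk => hk)
    (fun _ _ _ _ h => h) hx
  intro k hk v
  show coef k _ = _
  by_cases hk0 : k = 0
  · subst hk0
    rw [coef_zero, coef_zero, sgn_coe, sgnMap_apply, sgnMap_apply, if_neg hnone, if_neg hzero, h0]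
    simp
  · have hmem : GolayBase.pt k ∈ GolayBase.fin m ↔ m.testBit k = true := by
      rw [GolayBase.mem_fin, GolayBase.idx_pt (by omega)]
    rw [coef_pos hk0, coef_pos hk0, sgn_coe, sgnMap_apply]
    by_cases hb : m.testBit k = true
    · rw [if_pos (hmem.2 hb), if_pos hb]; push_cast; ring
    · rw [if_neg (fun h => hb (hmem.1 h)), if_neg hb]; ring

/-- A permutation fixing `∞` and `0`. -/
theorem rel_perm (l : Ltr) {σ : Equiv.Perm GolayPt} (hσ : σ ∈ M24) {tab : List ℕ}
    (htab : ∀ x, M24Gens.pidx (σ x) = tab.getD (M24Gens.pidx x) 0)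
    (h1 : σ none = none) (h2 : σ (some 0) = some 0)
    (ht : ∀ k < 23, tab.getD k 0 < 23 ∧ (k ≠ 0 → tab.getD k 0 ≠ 0))
    (hx : ∀ k < 23, check [l.prog] (ub k) [] (ub (tab.getD k 0)) = true) :
    Rel (E l) (perm σ hσ) := by
  have hpt : ∀ k < 23, σ (GolayBase.pt k) = GolayBase.pt (tab.getD k 0) := fun k hk =>
    perm_pt htab (by omega)
  have ht0 : tab.getD 0 0 = 0 := by
    have h3 := htab (some 0)
    rw [h2] at h3
    exact h3.symm
  apply rel_mono l _ (perm_l₀ hσ h1 h2) (fun k => tab.getD k 0) (fun _ => false)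
    (fun k hk => (ht k hk).1) _ (fun k hk => hx k hk)
  · intro k hk v
    simp only [Bool.false_eq_true, if_false, one_mul]
    by_cases hk0 : k = 0
    · subst hk0
      rw [ht0, coef_zero, coef_zero, perm_coe, permMap_apply, permMap_apply]
      have e1 : σ.symm none = none := by rw [Equiv.symm_apply_eq]; exact h1.symm
      have e2 : σ.symm (some 0) = some 0 := by rw [Equiv.symm_apply_eq]; exact h2.symm
      rw [e1, e2]
    · rw [coef_pos ((ht k hk).2 hk0), coef_pos hk0, perm_coe, permMap_apply, ← hpt k hk,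
        Equiv.symm_apply_apply]
  · intro j hj k hk hjk
    have h3 : GolayBase.pt j = GolayBase.pt k := by
      apply σ.injective
      rw [hpt j hj, hpt k hk]
      exact congrArg _ hjk
    have h4 := congrArg GolayBase.idx h3
    rwa [GolayBase.idx_pt (by omega), GolayBase.idx_pt (by omega)] at h4

/-- Minus a permutation exchanging `∞` and `0`. -/
theorem rel_neg_perm (l : Ltr) {σ : Equiv.Perm GolayPt} (hσ : σ ∈ M24) {tab : List ℕ}
    (htab : ∀ x, M24Gens.pidx (σ x) = tab.getD (M24Gens.pidx x) 0)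
    (h1 : σ none = some 0) (h2 : σ (some 0) = none)
    (ht : ∀ k < 23, k ≠ 0 → tab.getD k 0 < 23 ∧ tab.getD k 0 ≠ 0)
    (hx0 : check [l.prog] (ub 0) [] (nub 0) = true)
    (hx : ∀ k < 23, k ≠ 0 → check [l.prog] (ub k) [] (nub (tab.getD k 0)) = true) :
    Rel (E l) (negOne * perm σ hσ) := by
  have hpt : ∀ k < 23, σ (GolayBase.pt k) = GolayBase.pt (tab.getD k 0) := fun k hk =>
    perm_pt htab (by omega)
  have hneg : ∀ (v : leechLattice) (i : GolayPt),
      (((negOne * perm σ hσ) • v : leechLattice) : GolayPt → ℤ) i =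
        -(v : GolayPt → ℤ) (σ.symm i) := by
    intro v i
    rw [mul_smul, negOne_smul]
    show -((perm σ hσ • v : leechLattice) : GolayPt → ℤ) i = _
    rw [perm_coe, permMap_apply]
  apply rel_mono l _ (neg_perm_l₀ hσ h1 h2) (fun k => if k = 0 then 0 else tab.getD k 0)
    (fun _ => true)
  · intro k hk
    by_cases hk0 : k = 0
    · simp [hk0]
    · simp only [hk0, if_false]; exact (ht k hk hk0).1
  · intro j hj k hk hjk
    by_cases hj0 : j = 0 <;> by_cases hk0 : k = 0
    · rw [hj0, hk0]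
    · simp only [hj0, hk0, if_true, if_false] at hjk
      exact absurd hjk.symm (ht k hk hk0).2
    · simp only [hj0, hk0, if_true, if_false] at hjk
      exact absurd hjk (ht j hj hj0).2
    · simp only [hj0, hk0, if_false] at hjk
      have h3 : GolayBase.pt j = GolayBase.pt k := by
        apply σ.injective
        rw [hpt j hj, hpt k hk]
        exact congrArg _ hjk
      have h4 := congrArg GolayBase.idx h3
      rwa [GolayBase.idx_pt (by omega), GolayBase.idx_pt (by omega)] at h4
  · intro k hk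
    unfold res
    simp only [if_true]
    by_cases hk0 : k = 0
    · subst hk0; exact hx0
    · simp only [hk0, if_false]; exact hx k hk hk0
  · intro k hk v
    simp only [if_true]
    by_cases hk0 : k = 0
    · subst hk0
      simp only [if_true]
      rw [coef_zero, coef_zero, hneg, hneg]
      have e1 : σ.symm none = some 0 := by rw [Equiv.symm_apply_eq]; exact h2.symm
      have e2 : σ.symm (some 0) = none := by rw [Equiv.symm_apply_eq]; exact h1.symm
      rw [e1, e2]
      push_cast; ring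
    · simp only [hk0, if_false]
      rw [coef_pos (ht k hk hk0).2, coef_pos hk0, hneg, ← hpt k hk, Equiv.symm_apply_apply]
      push_cast; ring

end Cfsg.Agent.BabyM.ThetaInst
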