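import Cfsg.Agent.BabyM.ThetaInst

/-!
# The action of `ξ` on the 23-part
-/

set_option autoImplicit false

namespace Cfsg.Agent.BabyM.ThetaXi

open Cfsg Cfsg.Agent.Leech.Code Cfsg.Agent.Leech.Basic Cfsg.Agent.Leech.Co0Elts
  Cfsg.Agent.Leech.Xi Cfsg.Agent.Leech.Min Cfsg.Agent.Leech.Trans Cfsg.Agent.Leech.TransPair
  Cfsg.Agent.BabyM.Co2Gen Cfsg.Agent.BabyM.Co2GenStd Cfsg.Agent.BabyM.NbAct Cfsg.Agent.SporadicA
  Cfsg.Agent.BabyM.Conc Cfsg.Agent.Monster.VecEngine Cfsg.Agent.Monster.VecSpace
  Cfsg.Agent.BabyM.ThetaInst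

/-! ### Planes supported on the head -/

/-- planes `a + 2 b - 4 c` on the head -/
def head (a b c : ℕ) : Pl := .cons (a <<< 1344) (.cons (b <<< 1344) (.sgn (c <<< 1344)))

/-- the value of `head a b c` at the `j`-th head coordinate -/
def hv (a b c j : ℕ) : ℤ := bt a j + 2 * (bt b j + 2 * (- bt c j))

theorem bt_shift (a i : ℕ) : bt (a <<< 1344) i = if 1344 ≤ i then bt a (i - 1344) else 0 := by
  unfold bt
  rw [Nat.testBit_shiftLeft]
  by_cases h : 1344 ≤ i
  · simp [h]
  · simp [h]

theorem bt_high {a j : ℕ} (ha : a < 2 ^ 23) (hj : 23 ≤ j) : bt a j = 0 := by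
  unfold bt
  rw [Nat.testBit_lt_two_pow (lt_of_lt_of_le ha (Nat.pow_le_pow_right (by norm_num) hj))]
  simp

theorem head_eq {a b' c : ℕ} (ha : a < 2 ^ 23) (hb : b' < 2 ^ 23) (hc : c < 2 ^ 23) :
    vecU ℚ U (head a b' c) = ∑ j ∈ Finset.range 23, (hv a b' c j : ℚ) • b j := by
  funext i
  rw [Finset.sum_apply]
  show ((val (head a b' c) i.1 : ℤ) : ℚ) = _
  have hval : val (head a b' c) i.1 = if 1344 ≤ i.1 then hv a b' c (i.1 - 1344) else 0 := by
    unfold head hv
    rw [val_cons, val_cons, val_sgn, bt_shift, bt_shift, bt_shift]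
    split_ifs <;> simp
  rw [hval]
  by_cases h1 : 1344 ≤ i.1 ∧ i.1 < 1344 + 23
  · rw [if_pos h1.1, Finset.sum_eq_single (i.1 - 1344)]
    · have h2 : b (i.1 - 1344) i = 1 := by
        rw [b_apply, if_pos]
        omega
      rw [Pi.smul_apply, h2, smul_eq_mul, mul_one]
    · intro j _ hj
      have h2 : b j i = 0 := by
        rw [b_apply, if_neg]
        omega
      rw [Pi.smul_apply, h2, smul_zero]
    · intro h; exact absurd (Finset.mem_range.2 (by omega)) h
  · rw [Finset.sum_eq_zero]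
    · split_ifs with h2
      · unfold hv
        rw [bt_high ha (by omega), bt_high hb (by omega), bt_high hc (by omega)]
        simp
      · simp
    · intro j hj
      rw [Finset.mem_range] at hj
      have h2 : b j i = 0 := by
        rw [b_apply, if_neg]
        omega
      rw [Pi.smul_apply, h2, smul_zero]

/-- planes of twice a unit vector -/
def dub (k : ℕ) : Pl := .cons 0 (.cons (1 <<< (1344 + k)) (.sgn 0))

theorem dub_eq (k : ℕ) : vecU ℚ U (dub k) = (2 : ℚ) • b k := by
  funext i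
  rw [Pi.smul_apply, b_apply]
  show ((val (dub k) i.1 : ℤ) : ℚ) = _
  unfold dub
  rw [val_cons, val_cons, val_sgn, bt_one_shift]
  split_ifs <;> simp [bt]

/-! ### The matrix of `ξ` -/

def cA : List ℕ := [6, 6, 6, 147496, 4268048, 147496, 2621632, 2621632, 268544, 1082880, 1082880,
  268544, 268544, 4268048, 147496, 1082880, 4268048, 147496, 268544, 2621632, 1082880, 2621632,
  4268048]

def cB : List ℕ := [6, 5, 3, 147488, 16, 147464, 2621568, 2621504, 268288, 1082368, 1081856,
  266496, 264448, 8192, 131112, 1050112, 65536, 16424, 6400, 2097344, 34304, 524480, 4194304]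

theorem ξ_check : ∀ k < 23, check [Ltr.prog .xi] (dub k) []
    (head (cA.getD k 0) (cB.getD k 0) (cB.getD k 0)) = true := by
  decide +kernel

theorem c_lt : ∀ k < 23, cA.getD k 0 < 2 ^ 23 ∧ cB.getD k 0 < 2 ^ 23 := by decide +kernel

/-- tetrad number of a head coordinate -/
def tn (j : ℕ) : ℕ :=
  [0, 0, 0, 1, 2, 1, 3, 3, 4, 5, 5, 4, 4, 2, 1, 5, 2, 1, 4, 3, 5, 3, 2].getD j 0

/-- twice the matrix of `ξ` -/
def M2 (j k : ℕ) : ℤ :=
  if j = 0 then (if k = 1 ∨ k = 2 then -2 else 0)
  else if k = 0 then (if j = 1 ∨ j = 2 then -1 else 0)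
  else if tn j = tn k then (if tn j = 2 then -1 else 1) * (if j = k then 1 else -1) else 0

theorem M2_eq : ∀ k < 23, ∀ j < 23, hv (cA.getD k 0) (cB.getD k 0) (cB.getD k 0) j = M2 j k := by
  decide +kernel

theorem ξ_b (k : ℕ) (hk : k < 23) :
    E .xi (b k) = ∑ j ∈ Finset.range 23, ((M2 j k : ℚ) / 2) • b j := by
  have h1 := W_eq_of_check (v₁ := [.xi]) (v₂ := []) (ξ_check k hk)
  rw [W_single, W_nil, dub_eq, map_smul] at h1
  have h2 : E .xi (b k) = (1 / 2 : ℚ) • vecU ℚ U (head (cA.getD k 0) (cB.getD k 0) (cB.getD k 0)) := by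
    rw [show vecU ℚ U (head (cA.getD k 0) (cB.getD k 0) (cB.getD k 0)) =
      (1 : V ≃ₗ[ℚ] V) (vecU ℚ U (head (cA.getD k 0) (cB.getD k 0) (cB.getD k 0))) from rfl, ← h1,
      smul_smul]
    norm_num
  rw [h2, head_eq (c_lt k hk).1 (c_lt k hk).2 (c_lt k hk).2, Finset.smul_sum]
  refine Finset.sum_congr rfl fun j hj => ?_
  rw [Finset.mem_range] at hj
  rw [M2_eq k hk j hj, smul_smul]
  congr 1
  ring

/-! ### The coefficients -/

/-- sums over a tetrad given by its mask -/
theorem fin_sum {m a b' c d : ℕ} (h : GolayBase.fin m = {GolayBase.pt a, GolayBase.pt b',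
      GolayBase.pt c, GolayBase.pt d})
    (h1 : GolayBase.pt a ≠ GolayBase.pt b') (h2 : GolayBase.pt a ≠ GolayBase.pt c)
    (h3 : GolayBase.pt a ≠ GolayBase.pt d) (h4 : GolayBase.pt b' ≠ GolayBase.pt c)
    (h5 : GolayBase.pt b' ≠ GolayBase.pt d) (h6 : GolayBase.pt c ≠ GolayBase.pt d)
    (f : GolayPt → ℤ) : ∑ i ∈ GolayBase.fin m, f i =
      f (GolayBase.pt a) + f (GolayBase.pt b') + f (GolayBase.pt c) + f (GolayBase.pt d) := by
  rw [h, sum_four h1 h2 h3 h4 h5 h6]

/-- The value of `ξ v` at a point, as a rational number. -/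
theorem ξ_val (v : leechLattice) {m a b' c d : ℕ} (hm : m ∈ masks)
    (h : GolayBase.fin m = {GolayBase.pt a, GolayBase.pt b', GolayBase.pt c, GolayBase.pt d})
    (h1 : GolayBase.pt a ≠ GolayBase.pt b') (h2 : GolayBase.pt a ≠ GolayBase.pt c)
    (h3 : GolayBase.pt a ≠ GolayBase.pt d) (h4 : GolayBase.pt b' ≠ GolayBase.pt c)
    (h5 : GolayBase.pt b' ≠ GolayBase.pt d) (h6 : GolayBase.pt c ≠ GolayBase.pt d)
    {i : GolayPt} (hi : i ∈ GolayBase.fin m) :
    (((ξ • v : leechLattice) : GolayPt → ℤ) i : ℚ) =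
      (if m = 4268048 then -1 else 1) * ((v : GolayPt → ℤ) i -
        ((v : GolayPt → ℤ) (GolayBase.pt a) + (v : GolayPt → ℤ) (GolayBase.pt b') +
          (v : GolayPt → ℤ) (GolayBase.pt c) + (v : GolayPt → ℤ) (GolayBase.pt d)) / 2) := by
  have hmem : GolayBase.fin m ∈ S₀ := mem_S₀.2 ⟨m, hm, rfl⟩
  have hs := two_mul_hsum S₀_mem v.2 i
  rw [tet_eq S₀_mem hmem hi, fin_sum h h1 h2 h3 h4 h5 h6] at hs
  have hT : i ∈ T₁ ↔ m = 4268048 := by
    constructor
    · intro h7
      exact GolayBase.fin_injective (masks_lt m hm) (by norm_num)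
        (sextet_unique S₀_mem hmem T₁_mem hi h7)
    · rintro rfl; exact hi
  have hsq : (((v : GolayPt → ℤ) (GolayBase.pt a) + (v : GolayPt → ℤ) (GolayBase.pt b') +
          (v : GolayPt → ℤ) (GolayBase.pt c) + (v : GolayPt → ℤ) (GolayBase.pt d) : ℤ) : ℚ) =
      ((2 * hsum S₀ (v : GolayPt → ℤ) i : ℤ) : ℚ) := by rw [hs]
  push_cast at hsq
  unfold ξ
  rw [xi_coe, xiMap_apply]
  by_cases h7 : m = 4268048
  · rw [if_pos (hT.2 h7), if_pos h7, hsq]
    push_cast; ring
  · rw [if_neg (fun h => h7 (hT.1 h)), if_neg h7, hsq]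
    push_cast; ring

theorem pt_ne_of {a b' : ℕ} (ha : a < 24) (hb : b' < 24) (h : a ≠ b') :
    GolayBase.pt a ≠ GolayBase.pt b' := by
  intro h1
  have := congrArg GolayBase.idx h1
  rw [GolayBase.idx_pt ha, GolayBase.idx_pt hb] at this
  exact h this

/-- The coefficient identity for a coordinate in a tetrad `{a, b, c, d}` of points `3, …, 22`. -/
theorem cf_gen (v : leechLattice) (j m a b' c d : ℕ) (hm : m ∈ masks)
    (hfin : GolayBase.fin m = {GolayBase.pt a, GolayBase.pt b', GolayBase.pt c, GolayBase.pt d})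
    (hlt : 3 ≤ a ∧ a < b' ∧ b' < c ∧ c < d ∧ d < 23)
    (hj : j = a ∨ j = b' ∨ j = c ∨ j = d)
    (hz : ∀ k < 23, k ∉ ({a, b', c, d} : Finset ℕ) → M2 j k = 0)
    (hv : ∀ k ∈ ({a, b', c, d} : Finset ℕ), M2 j k =
      (if m = 4268048 then -1 else 1) * (if j = k then 1 else -1)) :
    coef j (ξ • v) = ∑ k ∈ Finset.range 23, ((M2 j k : ℚ) / 2) * coef k v := by
  obtain ⟨l1, l2, l3, l4, l5⟩ := hlt
  have hi : GolayBase.pt j ∈ GolayBase.fin m := by
    rw [hfin]
    rcases hj with rfl | rfl | rfl | rfl <;> simp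
  have h0 := ξ_val v hm hfin (pt_ne_of (by omega) (by omega) (by omega))
    (pt_ne_of (by omega) (by omega) (by omega)) (pt_ne_of (by omega) (by omega) (by omega))
    (pt_ne_of (by omega) (by omega) (by omega)) (pt_ne_of (by omega) (by omega) (by omega))
    (pt_ne_of (by omega) (by omega) (by omega)) hi
  have hsub : ({a, b', c, d} : Finset ℕ) ⊆ Finset.range 23 := by
    intro k hk
    simp only [Finset.mem_insert, Finset.mem_singleton] at hk
    rw [Finset.mem_range]
    omega
  rw [← Finset.sum_subset hsub (fun k hk hk' => by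
    rw [hz k (Finset.mem_range.1 hk) hk']; simp)]
  have hcast : ∀ k ∈ ({a, b', c, d} : Finset ℕ), ((M2 j k : ℚ) / 2) * coef k v =
      (if m = 4268048 then -1 else 1) * (if j = k then 1 else -1) *
        ((v : GolayPt → ℤ) (GolayBase.pt k) : ℚ) / 4 := by
    intro k hk
    have hk0 : k ≠ 0 := by
      simp only [Finset.mem_insert, Finset.mem_singleton] at hk
      omega
    rw [hv k hk, coef_pos hk0]
    push_cast
    ring
  rw [Finset.sum_congr rfl hcast, Finset.sum_insert, Finset.sum_insert, Finset.sum_insert,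
    Finset.sum_singleton, coef_pos (by omega), h0]
  · generalize (if m = 4268048 then (-1 : ℚ) else 1) = ε
    rcases hj with rfl | rfl | rfl | rfl
    · rw [if_pos rfl, if_neg (by omega), if_neg (by omega), if_neg (by omega)]; ring
    · rw [if_neg (by omega), if_pos rfl, if_neg (by omega), if_neg (by omega)]; ring
    · rw [if_neg (by omega), if_neg (by omega), if_pos rfl, if_neg (by omega)]; ring
    · rw [if_neg (by omega), if_neg (by omega), if_neg (by omega), if_pos rfl]; ring
  · simp only [Finset.mem_singleton]; omega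
  · simp only [Finset.mem_insert, Finset.mem_singleton]; omega
  · simp only [Finset.mem_insert, Finset.mem_singleton]; omega

/-- The table of tetrads. -/
def tetT (j : ℕ) : ℕ × ℕ × ℕ × ℕ × ℕ :=
  match tn j with
  | 1 => (147496, 3, 5, 14, 17)
  | 2 => (4268048, 4, 13, 16, 22)
  | 3 => (2621632, 6, 7, 19, 21)
  | 4 => (268544, 8, 11, 12, 18)
  | _ => (1082880, 9, 10, 15, 20)

theorem fin1 : GolayBase.fin 147496 = {GolayBase.pt 3, GolayBase.pt 5, GolayBase.pt 14,
    GolayBase.pt 17} := by decide +kernel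

theorem fin2 : GolayBase.fin 4268048 = {GolayBase.pt 4, GolayBase.pt 13, GolayBase.pt 16,
    GolayBase.pt 22} := by decide +kernel

theorem fin3 : GolayBase.fin 2621632 = {GolayBase.pt 6, GolayBase.pt 7, GolayBase.pt 19,
    GolayBase.pt 21} := by decide +kernel

theorem fin4 : GolayBase.fin 268544 = {GolayBase.pt 8, GolayBase.pt 11, GolayBase.pt 12,
    GolayBase.pt 18} := by decide +kernel

theorem fin5 : GolayBase.fin 1082880 = {GolayBase.pt 9, GolayBase.pt 10, GolayBase.pt 15,
    GolayBase.pt 20} := by decide +kernel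

theorem fin0 : GolayBase.fin 8388615 = {GolayBase.pt 23, GolayBase.pt 0, GolayBase.pt 1,
    GolayBase.pt 2} := by decide +kernel

theorem cf_ge (v : leechLattice) (j : ℕ) (h3 : 3 ≤ j) (hj : j < 23) :
    coef j (ξ • v) = ∑ k ∈ Finset.range 23, ((M2 j k : ℚ) / 2) * coef k v := by
  interval_cases j
  · exact cf_gen v 3 _ _ _ _ _ (by decide) fin1 (by decide) (by decide) (by decide) (by decide)
  · exact cf_gen v 4 _ _ _ _ _ (by decide) fin2 (by decide) (by decide) (by decide) (by decide)
  · exact cf_gen v 5 _ _ _ _ _ (by decide) fin1 (by decide) (by decide) (by decide) (by decide)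
  · exact cf_gen v 6 _ _ _ _ _ (by decide) fin3 (by decide) (by decide) (by decide) (by decide)
  · exact cf_gen v 7 _ _ _ _ _ (by decide) fin3 (by decide) (by decide) (by decide) (by decide)
  · exact cf_gen v 8 _ _ _ _ _ (by decide) fin4 (by decide) (by decide) (by decide) (by decide)
  · exact cf_gen v 9 _ _ _ _ _ (by decide) fin5 (by decide) (by decide) (by decide) (by decide)
  · exact cf_gen v 10 _ _ _ _ _ (by decide) fin5 (by decide) (by decide) (by decide) (by decide)
  · exact cf_gen v 11 _ _ _ _ _ (by decide) fin4 (by decide) (by decide) (by decide) (by decide)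
  · exact cf_gen v 12 _ _ _ _ _ (by decide) fin4 (by decide) (by decide) (by decide) (by decide)
  · exact cf_gen v 13 _ _ _ _ _ (by decide) fin2 (by decide) (by decide) (by decide) (by decide)
  · exact cf_gen v 14 _ _ _ _ _ (by decide) fin1 (by decide) (by decide) (by decide) (by decide)
  · exact cf_gen v 15 _ _ _ _ _ (by decide) fin5 (by decide) (by decide) (by decide) (by decide)
  · exact cf_gen v 16 _ _ _ _ _ (by decide) fin2 (by decide) (by decide) (by decide) (by decide)
  · exact cf_gen v 17 _ _ _ _ _ (by decide) fin1 (by decide) (by decide) (by decide) (by decide)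
  · exact cf_gen v 18 _ _ _ _ _ (by decide) fin4 (by decide) (by decide) (by decide) (by decide)
  · exact cf_gen v 19 _ _ _ _ _ (by decide) fin3 (by decide) (by decide) (by decide) (by decide)
  · exact cf_gen v 20 _ _ _ _ _ (by decide) fin5 (by decide) (by decide) (by decide) (by decide)
  · exact cf_gen v 21 _ _ _ _ _ (by decide) fin3 (by decide) (by decide) (by decide) (by decide)
  · exact cf_gen v 22 _ _ _ _ _ (by decide) fin2 (by decide) (by decide) (by decide) (by decide)

/-- The values of `ξ v` on the tetrad `{∞, 0, 1, 2}`. -/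
theorem ξ_val0 (v : leechLattice) {i : GolayPt} (hi : i ∈ GolayBase.fin 8388615) :
    (((ξ • v : leechLattice) : GolayPt → ℤ) i : ℚ) = (v : GolayPt → ℤ) i -
        ((v : GolayPt → ℤ) none + (v : GolayPt → ℤ) (some 0) +
          (v : GolayPt → ℤ) (GolayBase.pt 1) + (v : GolayPt → ℤ) (GolayBase.pt 2)) / 2 := by
  have h := ξ_val v (m := 8388615) (a := 23) (b' := 0) (c := 1) (d := 2) (by decide) fin0
    (pt_ne_of (by omega) (by omega) (by omega))
    (pt_ne_of (by omega) (by omega) (by omega)) (pt_ne_of (by omega) (by omega) (by omega))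
    (pt_ne_of (by omega) (by omega) (by omega)) (pt_ne_of (by omega) (by omega) (by omega))
    (pt_ne_of (by omega) (by omega) (by omega)) hi
  rw [if_neg (by norm_num), one_mul] at h
  exact h

theorem cf_lt (v : leechLattice) (j : ℕ) (hj : j < 3) :
    coef j (ξ • v) = ∑ k ∈ Finset.range 23, ((M2 j k : ℚ) / 2) * coef k v := by
  have hsub : ({0, 1, 2} : Finset ℕ) ⊆ Finset.range 23 := by decide
  have hz : ∀ j < 3, ∀ k < 23, k ∉ ({0, 1, 2} : Finset ℕ) → M2 j k = 0 := by decide
  rw [← Finset.sum_subset hsub (fun k hk hk' => by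
    rw [hz j hj k (Finset.mem_range.1 hk) hk']; simp)]
  rw [Finset.sum_insert (by decide), Finset.sum_insert (by decide), Finset.sum_singleton,
    coef_zero v, coef_pos (by norm_num) v, coef_pos (by norm_num) v]
  have e0 := ξ_val0 v (i := none) (by rw [fin0]; decide)
  have e1 := ξ_val0 v (i := some 0) (by rw [fin0]; decide)
  have e2 := ξ_val0 v (i := GolayBase.pt 1) (by rw [fin0]; simp)
  have e3 := ξ_val0 v (i := GolayBase.pt 2) (by rw [fin0]; simp)
  interval_cases j
  · rw [coef_zero, e0, e1, show M2 0 0 = 0 from by decide, show M2 0 1 = -2 from by decide,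
      show M2 0 2 = -2 from by decide]
    push_cast; ring
  · rw [coef_pos (by norm_num), e2, show M2 1 0 = -1 from by decide,
      show M2 1 1 = 1 from by decide, show M2 1 2 = -1 from by decide]
    push_cast; ring
  · rw [coef_pos (by norm_num), e3, show M2 2 0 = -1 from by decide,
      show M2 2 1 = -1 from by decide, show M2 2 2 = 1 from by decide]
    push_cast; ring

/-- **`ξ` acts on the head as Conway's map.** -/
theorem rel_xi : Rel (E .xi) ξ := by
  refine ⟨ξ_l₀, fun v => ?_⟩
  unfold θ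
  rw [map_sum]
  have h1 : ∀ k ∈ Finset.range 23, E .xi (coef k v • b k) =
      ∑ j ∈ Finset.range 23, (((M2 j k : ℚ) / 2) * coef k v) • b j := by
    intro k hk
    rw [map_smul, ξ_b k (Finset.mem_range.1 hk), Finset.smul_sum]
    refine Finset.sum_congr rfl fun j _ => ?_
    rw [smul_smul, mul_comm]
  rw [Finset.sum_congr rfl h1, Finset.sum_comm]
  refine Finset.sum_congr rfl fun j hj => ?_
  rw [← Finset.sum_smul]
  congr 1
  rw [Finset.mem_range] at hj
  by_cases h3 : 3 ≤ j
  · exact (cf_ge v j h3 hj).symm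
  · exact (cf_lt v j (by omega)).symm

end Cfsg.Agent.BabyM.ThetaXi
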