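import Cfsg.Agent.BabyM.WordsInst
import Cfsg.Agent.BabyM.InstMem
import Cfsg.Agent.MonsterX.WordRels

/-!
# Relators in the concrete model, from kernel checks on the vector of the base

`Sys α`: for every generator a word and an inverse word; `ev_eq` : the value of a reflected word `w : Wd α` is `W` of the word
`S.word (flat w false)`, which is trivial as soon as it fixes `vB`.
-/

set_option autoImplicit false

namespace Cfsg.Agent.BabyM.WordsRel

open Cfsg.Agent.Monster.VecEngine Cfsg.Agent.Monster.VecSpace
  Cfsg.Agent.BabyM.Conc Cfsg.Agent.BabyM.Model Cfsg.Agent.BabyM.Inst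
  Cfsg.Agent.BabyM.InstMem Cfsg.Agent.BabyM.WordsInst Cfsg.Agent.MonsterX.WordSub

/-- Words for the generators and their inverses. -/
structure Sys (α : Type) where
  /-- the word of a generator -/
  w : α → List Ltr
  /-- the word of the inverse of a generator -/
  wi : α → List Ltr

namespace Sys

variable {α : Type} (S : Sys α)

/-- the word of a letter -/
def lw (p : α × Bool) : List Ltr := bif p.2 then S.wi p.1 else S.w p.1

/-- The word (application order) of a product of letters. -/
def word : List (α × Bool) → List Ltr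
  | [] => []
  | p :: l => word l ++ S.lw p

theorem W_word (hi : ∀ x, W (S.w x ++ S.wi x) = 1) (l : List (α × Bool)) :
    W (S.word l) = (l.map (letter fun x => W (S.w x))).prod := by
  induction l with
  | nil => rfl
  | cons p l ih =>
    show W (S.word l ++ S.lw p) = _
    rw [W_append, List.map_cons, List.prod_cons, ih]
    congr 1
    obtain ⟨x, b⟩ := p
    cases b
    · rfl
    · show W (S.wi x) = (W (S.w x))⁻¹
      have h := hi x
      rw [W_append] at h
      exact eq_inv_of_mul_eq_one_left h

theorem ev_eq (hi : ∀ x, W (S.w x ++ S.wi x) = 1) (w : Wd α) :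
    ev (fun x => W (S.w x)) w = W (S.word (flat w false)) := by
  rw [S.W_word hi, (flat_prod _ w).1]

/-- The kernel check of a relator. -/
noncomputable def chk (w : Wd α) : Bool := checkFix ((S.word (flat w false)).map Ltr.prog) vB

/-- The kernel check of the inverse words. -/
noncomputable def chkI (x : α) : Bool := checkFix ((S.w x ++ S.wi x).map Ltr.prog) vB

section

variable {K₀ : Type} [Group K₀] (A : BAll M K₀) (O : base.Ok)

include A O

theorem inv_of_chk {x : α} (h : S.chkI x = true) : W (S.w x ++ S.wi x) = 1 :=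
  eq_one A O (W_mem_G _) h

theorem ev_of_chk (hi : ∀ x, W (S.w x ++ S.wi x) = 1) {w : Wd α} (h : S.chk w = true) :
    ev (fun x => W (S.w x)) w = 1 := by
  rw [S.ev_eq hi]
  exact eq_one A O (W_mem_G _) h

end

/-- the generators as elements of `G` -/
noncomputable def gen (x : α) : M.G := ⟨W (S.w x), W_mem_G _⟩

theorem ev_coe (w : Wd α) : ((ev S.gen w : M.G) : V ≃ₗ[ℚ] V) = ev (fun x => W (S.w x)) w := by
  induction w with
  | one => rfl
  | g x => rfl
  | mul a b ha hb =>
    show ((ev S.gen a * ev S.gen b : M.G) : V ≃ₗ[ℚ] V) = _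
    rw [Subgroup.coe_mul, ha, hb]
    rfl
  | inv a ha =>
    show (((ev S.gen a)⁻¹ : M.G) : V ≃ₗ[ℚ] V) = _
    rw [Subgroup.coe_inv, ha]
    rfl
  | pow a n ha =>
    show ((ev S.gen a ^ n : M.G) : V ≃ₗ[ℚ] V) = _
    rw [Subgroup.coe_pow, ha]
    rfl

theorem ev_gen_of {w : Wd α} (h : ev (fun x => W (S.w x)) w = 1) : ev S.gen w = 1 := by
  apply Subtype.ext
  rw [S.ev_coe, h]
  rfl

/-- a generator that moves a vector is not trivial -/
theorem gen_ne {x : α} {y : Pl} {i : ℕ} (hi : U.testBit i = true)
    (h : check ((S.w x).map Ltr.prog) vB [] y = true) (hv : val vB i ≠ val y i) : S.gen x ≠ 1 := by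
  intro h1
  have h2 : W (S.w x) = 1 := congrArg Subtype.val h1
  have h3 : W (S.w x) (vecU ℚ U vB) = W [] (vecU ℚ U y) := W_eq_of_check h
  rw [h2, W_nil] at h3
  have h4 := congrFun h3 (⟨i, hi⟩ : Lane U)
  have h5 : ((val vB i : ℤ) : ℚ) = (val y i : ℚ) := h4
  exact hv (by exact_mod_cast h5)

end Sys

end Cfsg.Agent.BabyM.WordsRel
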