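/-
Relators in the concrete model of the Baby Monster by TWO-SIDED kernel checks (helper537): `ivw v` is the word of the
inverse of `v`; a relator `l₁ ++ l₂` holds as soon as `l₂` and the inverse of `l₁` agree on the vector of the base.
-/
import Cfsg.Agent.BabyM.WordsRel

set_option autoImplicit false

namespace Cfsg.Agent.BabyM.WordsHalf

open Cfsg.Agent.Monster.VecEngine Cfsg.Agent.Monster.VecSpace
  Cfsg.Agent.BabyM.Conc Cfsg.Agent.BabyM.Model Cfsg.Agent.BabyM.Inst
  Cfsg.Agent.BabyM.InstMem Cfsg.Agent.BabyM.WordsInst Cfsg.Agent.MonsterX.WordSub Cfsg.Agent.BabyM.ConcEq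

/-- The inverse letter. -/
def ivl : Ltr → Ltr
  | .p => .p10
  | .p2 => .p9
  | .p3 => .p8
  | .p4 => .p7
  | .p5 => .p6
  | .p6 => .p5
  | .p7 => .p4
  | .p8 => .p3
  | .p9 => .p2
  | .p10 => .p
  | .h => .hi
  | .hi => .h
  | .xi => .xii
  | .xii => .xi
  | .tau => .taui
  | .taui => .tau
  | l => l

theorem w2 {a b : Ltr} (h : W [a, b] = W []) : E b * E a = 1 := by
  rwa [W_two, W_nil] at h

theorem w1 {a b c : Ltr} (h : W [a, b] = W [c]) : E b * E a = E c := by
  rwa [W_two, W_single] at h

theorem p2 : E .p2 = E .p ^ 2 := by rw [← w1 w_p2, pow_two]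
theorem p3 : E .p3 = E .p ^ 3 := by rw [← w1 w_p3, p2, ← pow_succ']
theorem p4 : E .p4 = E .p ^ 4 := by rw [← w1 w_p4, p3, ← pow_succ']
theorem p5 : E .p5 = E .p ^ 5 := by rw [← w1 w_p5, p4, ← pow_succ']
theorem p6 : E .p6 = E .p ^ 6 := by rw [← w1 w_p6, p5, ← pow_succ']
theorem p7 : E .p7 = E .p ^ 7 := by rw [← w1 w_p7, p6, ← pow_succ']
theorem p8 : E .p8 = E .p ^ 8 := by rw [← w1 w_p8, p7, ← pow_succ']
theorem p9 : E .p9 = E .p ^ 9 := by rw [← w1 w_p9, p8, ← pow_succ']
theorem p10 : E .p10 = E .p ^ 10 := by rw [← w1 w_p10, p9, ← pow_succ']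
theorem p11 : E .p ^ 11 = 1 := by rw [← w2 w_p11, p10, ← pow_succ']

theorem pmul {a b : ℕ} (h : a + b = 11) : E .p ^ a * E .p ^ b = 1 := by rw [← pow_add, h, p11]

theorem E_ivl_mul (l : Ltr) : E (ivl l) * E l = 1 := by
  cases l <;> simp only [ivl, p2, p3, p4, p5, p6, p7, p8, p9, p10]
  case p => simpa using pmul (a := 10) (b := 1) rfl
  case p2 => exact pmul rfl
  case p3 => exact pmul rfl
  case p4 => exact pmul rfl
  case p5 => exact pmul rfl
  case p6 => exact pmul rfl
  case p7 => exact pmul rfl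
  case p8 => exact pmul rfl
  case p9 => exact pmul rfl
  case p10 => simpa using pmul (a := 1) (b := 10) rfl
  case h => exact w2 w_hi
  case hi => rw [hi_eq, mul_inv_cancel]
  case xi => exact w2 w_xii
  case xii => rw [xii_eq, mul_inv_cancel]
  case tau => exact w2 w_taui
  case taui => rw [taui_eq, mul_inv_cancel]
  case z => exact w2 w_zz
  case X0 => exact w2 w_X0
  case X1 => exact w2 w_X1
  case X2 => exact w2 w_X2
  case X3 => exact w2 w_X3
  case X4 => exact w2 w_X4
  case X5 => exact w2 w_X5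
  case X6 => exact w2 w_X6
  case X7 => exact w2 w_X7
  case X8 => exact w2 w_X8
  case X9 => exact w2 w_X9
  case X10 => exact w2 w_X10
  case Z0 => exact w2 w_Z0
  case Z1 => exact w2 w_Z1
  case Z2 => exact w2 w_Z2
  case Z3 => exact w2 w_Z3
  case Z4 => exact w2 w_Z4
  case Z5 => exact w2 w_Z5
  case Z6 => exact w2 w_Z6
  case Z7 => exact w2 w_Z7
  case Z8 => exact w2 w_Z8
  case Z9 => exact w2 w_Z9
  case Z10 => exact w2 w_Z10
  case y1 => exact w2 w_y1
  case y2 => exact w2 w_y2
  case y3 => exact w2 w_y3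
  case y4 => exact w2 w_y4
  case y5 => exact w2 w_y5
  case y6 => exact w2 w_y6
  case y7 => exact w2 w_y7
  case y8 => exact w2 w_y8
  case y9 => exact w2 w_y9
  case y10 => exact w2 w_y10

theorem E_ivl (l : Ltr) : E (ivl l) = (E l)⁻¹ := eq_inv_of_mul_eq_one_left (E_ivl_mul l)

/-- The word of the inverse, with an accumulator. -/
def ivA : List Ltr → List Ltr → List Ltr
  | [], acc => acc
  | l :: v, acc => ivA v (ivl l :: acc)

/-- The word of the inverse. -/
def ivw (v : List Ltr) : List Ltr := ivA v []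

theorem W_ivA (v acc : List Ltr) : W (ivA v acc) = W acc * (W v)⁻¹ := by
  induction v generalizing acc with
  | nil => simp [ivA]
  | cons l v ih => rw [ivA, ih, W_cons, W_cons, E_ivl, mul_inv_rev, mul_assoc]

theorem W_ivw (v : List Ltr) : W (ivw v) = (W v)⁻¹ := by
  rw [ivw, W_ivA, W_nil, one_mul]

open WordsRel

/-- The system of words with formal inverses. -/
def sys {α : Type} (w : α → List Ltr) : Sys α := ⟨w, fun x => ivw (w x)⟩

variable {α : Type} (w : α → List Ltr)

theorem sys_hi (x : α) : W ((sys w).w x ++ (sys w).wi x) = 1 := by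
  rw [W_append]
  show W (ivw (w x)) * W (w x) = 1
  rw [W_ivw, inv_mul_cancel]

/-- Formal inverse of a product of letters, with an accumulator. -/
def fl : List (α × Bool) → List (α × Bool) → List (α × Bool)
  | [], acc => acc
  | p :: l, acc => fl l ((p.1, !p.2) :: acc)

theorem fl_prod {G : Type} [Group G] (f : α → G) (l acc : List (α × Bool)) :
    ((fl l acc).map (letter f)).prod = (l.map (letter f)).prod⁻¹ * (acc.map (letter f)).prod := by
  induction l generalizing acc with
  | nil => simp [fl]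
  | cons p l ih =>
    rw [fl, ih, List.map_cons, List.map_cons, List.prod_cons, List.prod_cons, mul_inv_rev]
    have : letter f (p.1, !p.2) = (letter f p)⁻¹ := by
      obtain ⟨x, b⟩ := p
      cases b <;> simp [letter]
    rw [this]
    group

/-- The two-sided check, cut after `k` letters. -/
noncomputable def half (r : Wd α) (k : ℕ) : Bool :=
  check (((sys w).word ((flat r false).drop k)).map Ltr.prog) vB
    (((sys w).word (fl ((flat r false).take k) [])).map Ltr.prog) vB

variable {K₀ : Type} [Group K₀] (A : BAll M K₀) (O : base.Ok)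

include A O

theorem ev_of_half {r : Wd α} {k : ℕ} (h : half w r k = true) : ev (fun x => W (w x)) r = 1 := by
  have h1 := eq_of_check A O (W_mem_G _) (W_mem_G _) h
  rw [(sys w).W_word (sys_hi w), (sys w).W_word (sys_hi w), fl_prod, List.map_nil, List.prod_nil, mul_one] at h1
  show ev (fun x => W ((sys w).w x)) r = 1
  rw [← (flat_prod _ r).1, ← List.take_append_drop k (flat r false), List.map_append, List.prod_append, h1,
    mul_inv_cancel]

end Cfsg.Agent.BabyM.WordsHalf
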