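import Cfsg.Agent.BabyM.WordsRel

/-!
# Long relators: kernel checks in several steps
-/

set_option autoImplicit false

namespace Cfsg.Agent.BabyM.WordsRun

open Cfsg.Agent.Monster.VecEngine Cfsg.Agent.Monster.VecSpace
  Cfsg.Agent.BabyM.Conc Cfsg.Agent.BabyM.Model Cfsg.Agent.BabyM.Inst
  Cfsg.Agent.BabyM.InstMem Cfsg.Agent.BabyM.WordsInst Cfsg.Agent.BabyM.WordsRel
  Cfsg.Agent.MonsterX.WordSub

/-- the word `l` maps the vector `x` to `y` -/
def Runs (l : List Ltr) (x y : Pl) : Prop := W l (vecU ℚ U x) = vecU ℚ U y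

theorem runs_of_check {l : List Ltr} {x y : Pl} (h : check (l.map Ltr.prog) x [] y = true) : Runs l x y := by
  have h1 : W l (vecU ℚ U x) = W [] (vecU ℚ U y) := W_eq_of_check h
  rw [W_nil] at h1
  exact h1

theorem Runs.append {l l' : List Ltr} {x y z : Pl} (h : Runs l x y) (h' : Runs l' y z) :
    Runs (l ++ l') x z := by
  unfold Runs at *
  rw [W_append, LinearEquiv.mul_apply, h, h']

theorem Runs.cut {l : List Ltr} {x y z : Pl} (n : ℕ) (h : Runs (l.take n) x y) (h' : Runs (l.drop n) y z) :
    Runs l x z := by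
  rw [← List.take_append_drop n l]
  exact h.append h'

section

variable {K₀ : Type} [Group K₀] (A : BAll M K₀) (O : base.Ok)

include A O

/-- **A word fixing the vector of the base is trivial.** -/
theorem Runs.eq_one {w : List Ltr} (h : Runs w vB vB) : W w = 1 := by
  apply base.eq_one A O _ (W_mem_G w)
  have h1 : W w (vecU ℚ U vB) = vecU ℚ U vB := h
  rw [v_eq, map_smul] at h1
  exact smul_right_injective V (show (16 : ℚ) ≠ 0 by norm_num) h1

/-- a relator from its run on the vector of the base -/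
theorem ev_of_runs {α : Type} (S : Sys α) (hi : ∀ x, S.chkI x = true) {w : Wd α}
    (h : Runs (S.word (flat w false)) vB vB) : ev S.gen w = 1 := by
  apply S.ev_gen_of
  rw [S.ev_eq fun x => S.inv_of_chk A O (hi x)]
  exact h.eq_one A O

end

/-- a generator that negates a unit vector is not trivial -/
theorem gen_ne {α : Type} (S : Sys α) {x : α} {l : ℕ} (hl : U.testBit l = true)
    (h : check ((S.w x).map Ltr.prog) (posP l) [] (negP l) = true) : S.gen x ≠ 1 := by
  intro h1
  have h2 : W (S.w x) = 1 := congrArg Subtype.val h1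
  have h3 : W (S.w x) (vecU ℚ U (posP l)) = W [] (vecU ℚ U (negP l)) := W_eq_of_check h
  rw [h2, W_nil] at h3
  have h4 := congrFun h3 (⟨l, hl⟩ : Lane U)
  have h5 : ((val (posP l) l : ℤ) : ℚ) = (val (negP l) l : ℚ) := h4
  rw [val_posP, val_negP, if_pos rfl, if_pos rfl] at h5
  norm_num at h5

end Cfsg.Agent.BabyM.WordsRun
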