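import Cfsg.Agent.BabyM.WordsTh1
import Cfsg.Agent.BabyM.WordsTh2
import Cfsg.Agent.BabyM.WordsTh3
import Cfsg.Agent.BabyM.WordsTh4
import Cfsg.Agent.BabyM.WordsTh5
import Cfsg.Agent.BabyM.WordsTh6
import Cfsg.Agent.BabyM.WordsTh7
import Cfsg.Agent.BabyM.WordsTh8
import Cfsg.Agent.BabyM.WordsTh9
import Cfsg.Agent.BabyM.WordsTh10

/-!
# The Thompson group is a subgroup of the Baby Monster model

`exists_th` : from `BAll` of the concrete model, `base.Ok` and `IsTh Cfsg.Spor.Th` (S1700).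
-/

set_option autoImplicit false

namespace Cfsg.Agent.BabyM.WordsTh

open Cfsg.Agent.Monster.VecEngine Cfsg.Agent.BabyM.Conc Cfsg.Agent.BabyM.Model Cfsg.Agent.BabyM.Inst
  Cfsg.Agent.BabyM.WordsRel Cfsg.Agent.BabyM.WordsRun Cfsg.Agent.BabyM.WordsInst
  Cfsg.Agent.MonsterX.WordSub Cfsg.Agent.MonsterX.WordRels Cfsg.Agent.BabyM.WordsTh0

theorem runs (i : Fin 39) : Runs (rw' i.1) vB vB := by
  fin_cases i
  · exact Cfsg.Agent.BabyM.WordsTh1.r0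
  · exact Cfsg.Agent.BabyM.WordsTh1.r1
  · exact Cfsg.Agent.BabyM.WordsTh1.r2
  · exact Cfsg.Agent.BabyM.WordsTh1.r3
  · exact Cfsg.Agent.BabyM.WordsTh1.r4
  · exact Cfsg.Agent.BabyM.WordsTh1.r5
  · exact Cfsg.Agent.BabyM.WordsTh1.r6
  · exact Cfsg.Agent.BabyM.WordsTh1.r7
  · exact Cfsg.Agent.BabyM.WordsTh1.r8
  · exact Cfsg.Agent.BabyM.WordsTh1.r9
  · exact Cfsg.Agent.BabyM.WordsTh2.r10
  · exact Cfsg.Agent.BabyM.WordsTh2.r11
  · exact Cfsg.Agent.BabyM.WordsTh2.r12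
  · exact Cfsg.Agent.BabyM.WordsTh3.r13
  · exact Cfsg.Agent.BabyM.WordsTh4.r14
  · exact Cfsg.Agent.BabyM.WordsTh4.r15
  · exact Cfsg.Agent.BabyM.WordsTh4.r16
  · exact Cfsg.Agent.BabyM.WordsTh4.r17
  · exact Cfsg.Agent.BabyM.WordsTh4.r18
  · exact Cfsg.Agent.BabyM.WordsTh5.r19
  · exact Cfsg.Agent.BabyM.WordsTh5.r20
  · exact Cfsg.Agent.BabyM.WordsTh5.r21
  · exact Cfsg.Agent.BabyM.WordsTh5.r22
  · exact Cfsg.Agent.BabyM.WordsTh5.r23
  · exact Cfsg.Agent.BabyM.WordsTh5.r24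
  · exact Cfsg.Agent.BabyM.WordsTh5.r25
  · exact Cfsg.Agent.BabyM.WordsTh6.r26
  · exact Cfsg.Agent.BabyM.WordsTh6.r27
  · exact Cfsg.Agent.BabyM.WordsTh6.r28
  · exact Cfsg.Agent.BabyM.WordsTh6.r29
  · exact Cfsg.Agent.BabyM.WordsTh6.r30
  · exact Cfsg.Agent.BabyM.WordsTh6.r31
  · exact Cfsg.Agent.BabyM.WordsTh6.r32
  · exact Cfsg.Agent.BabyM.WordsTh7.r33
  · exact Cfsg.Agent.BabyM.WordsTh7.r34
  · exact Cfsg.Agent.BabyM.WordsTh8.r35
  · exact Cfsg.Agent.BabyM.WordsTh8.r36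
  · exact Cfsg.Agent.BabyM.WordsTh9.r37
  · exact Cfsg.Agent.BabyM.WordsTh10.r38

theorem lane_mem : U.testBit 2302 = true := by decide +kernel

theorem gen_a : S.gen .a ≠ 1 :=
  WordsRun.gen_ne S lane_mem (by decide +kernel)

section

variable {K₀ : Type} [Group K₀] (A : BAll M K₀) (O : base.Ok)

include A O

theorem rel (w : Wd Cfsg.Spor.Th.Gen) (hw : w ∈ thWs) : ev S.gen w = 1 := by
  apply ev_of_runs A O S chkI
  obtain ⟨i, hi, rfl⟩ := List.mem_iff_getElem.mp hw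
  have hi' : i < 39 := hi
  have h := runs ⟨i, hi'⟩
  have e : thWs.getD i .one = thWs[i] := List.getD_eq_getElem _ _ hi
  unfold rw' at h
  rw [show (⟨i, hi'⟩ : Fin 39).1 = i from rfl, e] at h
  exact h

/-- **The Thompson group is a subgroup of the Baby Monster.** -/
theorem exists_th (hs : IsTh Cfsg.Spor.Th) : ∃ K : Subgroup M.G, IsTh K ∧ K = Subgroup.closure (Set.range S.gen) :=
  th_of hs S.gen (rel A O) ⟨.a, gen_a⟩

end

end Cfsg.Agent.BabyM.WordsTh
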