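import Cfsg.Agent.BabyM.WordsRun

/-!
# The Thompson group in the Baby Monster model: words of helper604 (blueprints/R19/Th/B/th_B_words.txt)
-/

set_option autoImplicit false
set_option Elab.async false

namespace Cfsg.Agent.BabyM.WordsTh0

open Cfsg.Agent.Monster.VecEngine Cfsg.Agent.BabyM.Conc Cfsg.Agent.BabyM.InstVec
  Cfsg.Agent.BabyM.WordsRel Cfsg.Agent.BabyM.WordsRun Cfsg.Agent.BabyM.WordsInst Cfsg.Agent.MonsterX.WordSub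
  Cfsg.Agent.MonsterX.WordRels

/-- The words of the generators. -/
def w : Cfsg.Spor.Th.Gen → List Ltr
  | .a => [.Z1, .Z2, .Z3, .Z4, .Z5, .Z7, .Z9, .Z10, .z]
  | .b => [.p4, .h, .p10, .h, .p5, .h, .p8, .h, .p8, .y1, .y3, .y4, .y5, .y7, .y8, .Z0, .Z3, .Z6, .Z7, .Z9, .X1, .X3, .X6, .X7, .X8, .X10, .z, .xi, .p, .Z1, .Z3, .Z4, .Z6, .Z8, .X2, .X4, .X5, .z, .xi, .p9, .y1, .Z1, .Z3, .Z5, .Z6, .Z8, .X1, .X2, .X7, .X8, .z, .xi, .y10, .Z1, .Z7, .Z8, .X0, .X1, .X3, .X4, .X5, .X6, .X8, .X9, .z, .tau, .Z2, .Z3, .Z5, .Z6, .Z7, .Z8, .Z10, .X0, .X1, .X3, .X4, .X5, .X6, .X8, .X9, .xi, .p8, .h, .p3, .h, .p8, .Z0, .Z3, .Z6, .Z9, .X2, .X4, .X7, .z, .xi, .p2, .h, .p3, .h, .p2, .h, .p2, .h, .p6, .h, .p2, .h, .y1, .y2, .y3, .y5, .y6, .y8, .y10, .Z0, .Z1, .Z2, .Z3,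 .Z5, .Z7, .Z8, .Z10, .X2, .X3, .z, .xi, .Z2, .Z3, .Z5, .Z6, .Z7, .Z8, .Z10, .X0, .X1, .X3, .X4, .X5, .X6, .X8, .X9, .tau, .p10, .Z2, .Z3, .Z5, .Z6, .Z7, .Z8, .Z10, .X0, .X1, .X3, .X4, .X5, .X6, .X8, .X9, .xi, .Z2, .Z3, .Z5, .Z6, .Z7, .Z8, .Z10, .X0, .X1, .X3, .X4, .X5, .X6, .X8, .X9, .tau, .p3, .Z2, .Z3, .Z5, .Z6, .Z7, .Z8, .Z10, .X0, .X1, .X3, .X4, .X5, .X6, .X8, .X9, .xi, .p8, .h, .p6, .h, .p2, .h, .p2, .y1, .y2, .y4, .y5, .y8, .y9, .Z6, .Z10, .X0, .X1, .X2, .X5, .X8, .X9, .X10]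
  | .c => [.p, .h, .p3, .h, .p3, .h, .p7, .h, .p7, .h, .p8, .h, .p8, .y2, .y4, .y6, .y10, .Z1, .Z8, .Z10, .X1, .X3, .X5, .X6, .X9, .z]
  | .d => [.p, .h, .p, .h, .p6, .h, .p10, .h, .p7, .y1, .y2, .y3, .y4, .y6, .y7, .y10, .Z0, .Z1, .Z3, .Z5, .Z6, .X0, .X1, .X2, .X4, .X5, .X7, .X8, .X10, .z, .tau, .p6, .h, .p3, .h, .p, .h, .p8, .h, .p3, .y1, .y3, .y4, .y5, .y6, .y7, .y10, .Z0, .Z6, .Z7, .Z8, .Z9, .Z10, .X0, .X1, .X3, .X4, .X5, .X6, .X8, .X9, .xi, .Z2, .Z3, .Z5, .Z6, .Z7, .Z8, .Z10, .X0, .X1, .X3, .X4, .X5, .X6, .X8, .X9, .tau, .p10, .Z2, .Z3, .Z5, .Z6, .Z7, .Z8, .Z10, .X0, .X1, .X3, .X4, .X5, .X6, .X8, .X9, .xi, .Z2, .Z3, .Z5, .Z6, .Z7, .Z8, .Z10, .X0, .X1, .X3, .X4, .X5, .X6, .X8, .X9, .tau, .p, .Z2, .Z3, .Z5, .Z6, .Z7, .Z8, .Z10, .X0, .X1,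 .X3, .X4, .X5, .X6, .X8, .X9, .xi, .p5, .h, .p8, .h, .p7, .h, .p4, .h, .p4, .h, .p8, .h, .y1, .y2, .y3, .y4, .y7, .y10, .Z0, .Z1, .Z2, .Z6, .Z7, .Z8, .X0, .X2, .X4, .X6, .X7, .X8]
  | .e => [.p4, .h, .p8, .h, .p4, .h, .p10, .h, .p6, .h, .p3, .h, .y2, .y3, .y5, .y8, .y9, .Z1, .Z8, .X0, .X1, .X2, .X5, .X6, .X8, .X9, .tau, .p, .h, .p10, .h, .p4, .h, .p2, .h, .p8, .h, .p4, .h, .y1, .y2, .y4, .y7, .y9, .Z5, .Z8, .Z9, .Z10, .X0, .X1, .X3, .X4, .X5, .X6, .X8, .X9, .xi, .Z2, .Z3, .Z5, .Z6, .Z7, .Z8, .Z10, .X0, .X1, .X3, .X4, .X5, .X6, .X8, .X9, .tau, .p10, .Z2, .Z3, .Z5, .Z6, .Z7, .Z8, .Z10, .X0, .X1, .X3, .X4, .X5, .X6, .X8, .X9, .xi, .Z2, .Z3, .Z5, .Z6, .Z7, .Z8, .Z10, .X0, .X1, .X3, .X4, .X5, .X6, .X8, .X9, .tau, .p, .Z2, .Z3, .Z5, .Z6, .Z7, .Z8,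 .Z10, .X0, .X1, .X3, .X4, .X5, .X6, .X8, .X9, .xi, .h, .p, .h, .p9, .h, .p8, .h, .p5, .h, .p4, .h, .p8, .y4, .y6, .y9, .Z0, .Z3, .Z5, .Z7, .Z8, .X0, .X1, .X7, .X8, .X9, .X10, .z]
  | .s => [.h, .p7, .h, .p7, .h, .p5, .h, .p6, .h, .p5, .h, .y1, .y2, .y3, .y8, .y9, .y10, .Z4, .Z5, .Z6, .Z7, .Z9, .X1, .X3, .X5, .X6, .X7, .X8, .X9, .X10, .tau, .Z2, .Z3, .Z5, .Z6, .Z7, .Z8, .Z10, .X0, .X1, .X3, .X4, .X5, .X6, .X8, .X9, .xi, .p8, .h, .p3, .h, .p8, .Z0, .Z3, .Z6, .Z9, .X2, .X4, .X7, .z, .xi, .p6, .h, .p4, .h, .p4, .h, .p6, .h, .p2, .h, .p2, .h, .y3, .y4, .y5, .y9, .Z0, .Z2, .Z3, .Z5, .Z7, .Z9, .Z10, .X1, .X2, .X3, .X4, .X5, .X7, .X9, .z, .xi, .Z2, .Z3, .Z5, .Z6, .Z7, .Z8, .Z10, .X0, .X1, .X3, .X4, .X5, .X6, .X8, .X9, .tau, .p10, .Z2, .Z3, .Z5, .Z6,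 .Z7, .Z8, .Z10, .X0, .X1, .X3, .X4, .X5, .X6, .X8, .X9, .xi, .Z2, .Z3, .Z5, .Z6, .Z7, .Z8, .Z10, .X0, .X1, .X3, .X4, .X5, .X6, .X8, .X9, .tau, .h, .p2, .h, .p, .h, .p, .h, .p4, .h, .p2, .h, .p10, .y7, .y10, .Z3, .Z7, .Z9, .Z10, .X0, .X1, .X3, .X4, .X5, .X6, .X7, .X8, .X9, .X10, .z]
  | .t => [.h, .p2, .h, .p, .h, .p7, .h, .p2, .h, .p8, .h, .p7, .y2, .y6, .y7, .y9, .Z0, .Z6, .Z8, .Z9, .Z10, .X0, .X4, .X5, .X6, .X9, .xi, .Z2, .Z3, .Z5, .Z6, .Z7, .Z8, .Z10, .X0, .X1, .X3, .X4, .X5, .X6, .X8, .X9, .tau, .p10, .Z2, .Z3, .Z5, .Z6, .Z7, .Z8, .Z10, .X0, .X1, .X3, .X4, .X5, .X6, .X8, .X9, .xi, .Z2, .Z3, .Z5, .Z6, .Z7, .Z8, .Z10, .X0, .X1, .X3, .X4, .X5, .X6, .X8, .X9, .tau, .p, .Z2, .Z3, .Z5, .Z6, .Z7, .Z8, .Z10, .X0, .X1, .X3, .X4, .X5, .X6, .X8, .X9,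 .xi, .p2, .h, .p4, .h, .p2, .h, .p, .h, .p10, .h, .p5, .y2, .y3, .y4, .y5, .y7, .y10, .Z1, .Z2, .Z5, .Z6, .Z7, .Z9, .Z10, .X0, .X1, .X2, .X3, .X4, .X5, .X6, .X8]
  | .u => [.h, .p6, .h, .p6, .h, .p4, .h, .p10, .h, .p6, .h, .y1, .y2, .y4, .y5, .y8, .y9, .y10, .Z0, .Z7, .Z8, .Z10, .X1, .X2, .X3, .X8, .X9, .xi, .Z2, .Z3, .Z5, .Z6, .Z7, .Z8, .Z10, .X0, .X1, .X3, .X4, .X5, .X6, .X8, .X9, .tau, .p10, .Z2, .Z3, .Z5, .Z6, .Z7, .Z8, .Z10, .X0, .X1, .X3, .X4, .X5, .X6, .X8, .X9, .xi, .Z2, .Z3, .Z5, .Z6, .Z7, .Z8, .Z10, .X0, .X1, .X3, .X4, .X5, .X6, .X8, .X9, .tau, .p, .Z2, .Z3, .Z5, .Z6, .Z7, .Z8, .Z10, .X0, .X1, .X3, .X4, .X5, .X6, .X8, .X9, .xi, .h, .p6, .h, .p7, .h, .p5, .h, .p8, .h, .p3, .y1, .y3, .y5, .y6, .y7, .y8, .y9, .Z0, .Z2, .Z9, .X1, .X3,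 .X4, .X7, .X9, .z]

/-- The words of the inverses. -/
def wi : Cfsg.Spor.Th.Gen → List Ltr
  | .a => [.z, .Z10, .Z9, .Z7, .Z5, .Z4, .Z3, .Z2, .Z1]
  | .b => [.X10, .X9, .X8, .X5, .X2, .X1, .X0, .Z10, .Z6, .y9, .y8, .y5, .y4, .y2, .y1, .p9, .hi, .p9, .hi, .p5, .hi, .p3, .xii, .X9, .X8, .X6, .X5, .X4, .X3, .X1, .X0, .Z10, .Z8, .Z7, .Z6, .Z5, .Z3, .Z2, .p8, .taui, .X9, .X8, .X6, .X5, .X4, .X3, .X1, .X0, .Z10, .Z8, .Z7, .Z6, .Z5, .Z3, .Z2, .xii, .X9, .X8, .X6, .X5, .X4, .X3, .X1, .X0, .Z10, .Z8, .Z7, .Z6, .Z5, .Z3, .Z2, .p, .taui, .X9, .X8, .X6, .X5, .X4, .X3, .X1, .X0, .Z10, .Z8, .Z7, .Z6, .Z5, .Z3, .Z2, .xii, .z, .X3, .X2, .Z10, .Z8, .Z7, .Z5, .Z3, .Z2, .Z1, .Z0, .y10, .y8, .y6, .y5, .y3, .y2, .y1, .hi, .p9, .hi, .p5, .hi, .p9, .hi, .p9, .hi,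 .p8, .hi, .p9, .xii, .z, .X7, .X4, .X2, .Z9, .Z6, .Z3, .Z0, .p3, .hi, .p8, .hi, .p3, .xii, .X9, .X8, .X6, .X5, .X4, .X3, .X1, .X0, .Z10, .Z8, .Z7, .Z6, .Z5, .Z3, .Z2, .taui, .z, .X9, .X8, .X6, .X5, .X4, .X3, .X1, .X0, .Z8, .Z7, .Z1, .y10, .xii, .z, .X8, .X7, .X2, .X1, .Z8, .Z6, .Z5, .Z3, .Z1, .y1, .p2, .xii, .z, .X5, .X4, .X2, .Z8, .Z6, .Z4, .Z3, .Z1, .p10, .xii, .z, .X10, .X8, .X7, .X6, .X3, .X1, .Z9, .Z7, .Z6, .Z3, .Z0, .y8, .y7, .y5, .y4, .y3, .y1, .p3, .hi, .p3, .hi, .p6, .hi, .p, .hi, .p7]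
  | .c => [.z, .X9, .X6, .X5, .X3, .X1, .Z10, .Z8, .Z1, .y10, .y6, .y4, .y2, .p3, .hi, .p3, .hi, .p4, .hi, .p4, .hi, .p8, .hi, .p8, .hi, .p10]
  | .d => [.X8, .X7, .X6, .X4, .X2, .X0, .Z8, .Z7, .Z6, .Z2, .Z1, .Z0, .y10, .y7, .y4, .y3, .y2, .y1, .hi, .p3, .hi, .p7, .hi, .p7, .hi, .p4, .hi, .p3, .hi, .p6, .xii, .X9, .X8, .X6, .X5, .X4, .X3, .X1, .X0, .Z10, .Z8, .Z7, .Z6, .Z5, .Z3, .Z2, .p10, .taui, .X9, .X8, .X6, .X5, .X4, .X3, .X1, .X0, .Z10, .Z8, .Z7, .Z6, .Z5, .Z3, .Z2, .xii, .X9, .X8, .X6, .X5, .X4, .X3, .X1, .X0, .Z10, .Z8, .Z7, .Z6, .Z5, .Z3, .Z2, .p, .taui, .X9, .X8, .X6, .X5, .X4, .X3, .X1, .X0, .Z10, .Z8, .Z7, .Z6, .Z5, .Z3, .Z2, .xii, .X9, .X8, .X6, .X5, .X4, .X3, .X1, .X0, .Z10, .Z9, .Z8, .Z7, .Z6, .Z0, .y10, .y7, .y6, .y5, .y4, .y3,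 .y1, .p8, .hi, .p3, .hi, .p10, .hi, .p8, .hi, .p5, .taui, .z, .X10, .X8, .X7, .X5, .X4, .X2, .X1, .X0, .Z6, .Z5, .Z3, .Z1, .Z0, .y10, .y7, .y6, .y4, .y3, .y2, .y1, .p4, .hi, .p, .hi, .p5, .hi, .p10, .hi, .p10]
  | .e => [.z, .X10, .X9, .X8, .X7, .X1, .X0, .Z8, .Z7, .Z5, .Z3, .Z0, .y9, .y6, .y4, .p3, .hi, .p7, .hi, .p6, .hi, .p3, .hi, .p2, .hi, .p10, .hi, .xii, .X9, .X8, .X6, .X5, .X4, .X3, .X1, .X0, .Z10, .Z8, .Z7, .Z6, .Z5, .Z3, .Z2, .p10, .taui, .X9, .X8, .X6, .X5, .X4, .X3, .X1, .X0, .Z10, .Z8, .Z7, .Z6, .Z5, .Z3, .Z2, .xii, .X9, .X8, .X6, .X5, .X4, .X3, .X1, .X0, .Z10, .Z8, .Z7, .Z6, .Z5, .Z3, .Z2, .p, .taui, .X9, .X8, .X6, .X5, .X4, .X3, .X1, .X0, .Z10, .Z8, .Z7, .Z6, .Z5, .Z3, .Z2, .xii, .X9, .X8, .X6, .X5, .X4, .X3, .X1, .X0, .Z10, .Z9,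 .Z8, .Z5, .y9, .y7, .y4, .y2, .y1, .hi, .p7, .hi, .p3, .hi, .p9, .hi, .p7, .hi, .p, .hi, .p10, .taui, .X9, .X8, .X6, .X5, .X2, .X1, .X0, .Z8, .Z1, .y9, .y8, .y5, .y3, .y2, .hi, .p8, .hi, .p5, .hi, .p, .hi, .p7, .hi, .p3, .hi, .p7]
  | .s => [.z, .X10, .X9, .X8, .X7, .X6, .X5, .X4, .X3, .X1, .X0, .Z10, .Z9, .Z7, .Z3, .y10, .y7, .p, .hi, .p9, .hi, .p7, .hi, .p10, .hi, .p10, .hi, .p9, .hi, .taui, .X9, .X8, .X6, .X5, .X4, .X3, .X1, .X0, .Z10, .Z8, .Z7, .Z6, .Z5, .Z3, .Z2, .xii, .X9, .X8, .X6, .X5, .X4, .X3, .X1, .X0, .Z10, .Z8, .Z7, .Z6, .Z5, .Z3, .Z2, .p, .taui, .X9, .X8, .X6, .X5, .X4, .X3, .X1, .X0, .Z10, .Z8, .Z7, .Z6, .Z5, .Z3, .Z2, .xii, .z, .X9, .X7, .X5, .X4, .X3, .X2, .X1, .Z10, .Z9, .Z7, .Z5, .Z3, .Z2, .Z0, .y9, .y5, .y4, .y3, .hi, .p9,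 .hi, .p9, .hi, .p5, .hi, .p7, .hi, .p7, .hi, .p5, .xii, .z, .X7, .X4, .X2, .Z9, .Z6, .Z3, .Z0, .p3, .hi, .p8, .hi, .p3, .xii, .X9, .X8, .X6, .X5, .X4, .X3, .X1, .X0, .Z10, .Z8, .Z7, .Z6, .Z5, .Z3, .Z2, .taui, .X10, .X9, .X8, .X7, .X6, .X5, .X3, .X1, .Z9, .Z7, .Z6, .Z5, .Z4, .y10, .y9, .y8, .y3, .y2, .y1, .hi, .p6, .hi, .p5, .hi, .p6, .hi, .p4, .hi, .p4, .hi]
  | .t => [.X8, .X6, .X5, .X4, .X3, .X2, .X1, .X0, .Z10, .Z9, .Z7, .Z6, .Z5, .Z2, .Z1, .y10, .y7, .y5, .y4, .y3, .y2, .p6, .hi, .p, .hi, .p10, .hi, .p9, .hi, .p7, .hi, .p9, .xii, .X9, .X8, .X6, .X5, .X4, .X3, .X1, .X0, .Z10, .Z8, .Z7, .Z6, .Z5, .Z3, .Z2, .p10, .taui, .X9, .X8, .X6, .X5, .X4, .X3, .X1, .X0, .Z10, .Z8, .Z7, .Z6, .Z5, .Z3, .Z2, .xii, .X9, .X8, .X6, .X5, .X4, .X3, .X1, .X0,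 .Z10, .Z8, .Z7, .Z6, .Z5, .Z3, .Z2, .p, .taui, .X9, .X8, .X6, .X5, .X4, .X3, .X1, .X0, .Z10, .Z8, .Z7, .Z6, .Z5, .Z3, .Z2, .xii, .X9, .X6, .X5, .X4, .X0, .Z10, .Z9, .Z8, .Z6, .Z0, .y9, .y7, .y6, .y2, .p4, .hi, .p3, .hi, .p9, .hi, .p4, .hi, .p10, .hi, .p9, .hi]
  | .u => [.z, .X9, .X7, .X4, .X3, .X1, .Z9, .Z2, .Z0, .y9, .y8, .y7, .y6, .y5, .y3, .y1, .p8, .hi, .p3, .hi, .p6, .hi, .p4, .hi, .p5, .hi, .xii, .X9, .X8, .X6, .X5, .X4, .X3, .X1, .X0, .Z10, .Z8, .Z7, .Z6, .Z5, .Z3, .Z2, .p10, .taui, .X9, .X8, .X6, .X5, .X4, .X3, .X1, .X0, .Z10, .Z8, .Z7, .Z6, .Z5, .Z3, .Z2, .xii, .X9, .X8, .X6, .X5, .X4, .X3, .X1, .X0, .Z10, .Z8, .Z7, .Z6, .Z5, .Z3, .Z2, .p, .taui, .X9, .X8, .X6, .X5, .X4, .X3, .X1, .X0, .Z10, .Z8, .Z7, .Z6, .Z5, .Z3, .Z2, .xii, .X9,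 .X8, .X3, .X2, .X1, .Z10, .Z8, .Z7, .Z0, .y10, .y9, .y8, .y5, .y4, .y2, .y1, .hi, .p5, .hi, .p, .hi, .p7, .hi, .p5, .hi, .p5, .hi]

/-- The system of words. -/
def S : Sys Cfsg.Spor.Th.Gen := ⟨w, wi⟩

theorem chkI_a : S.chkI .a = true := by decide +kernel

theorem chkI_b : S.chkI .b = true := by decide +kernel

theorem chkI_c : S.chkI .c = true := by decide +kernel

theorem chkI_d : S.chkI .d = true := by decide +kernel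

theorem chkI_e : S.chkI .e = true := by decide +kernel

theorem chkI_s : S.chkI .s = true := by decide +kernel

theorem chkI_t : S.chkI .t = true := by decide +kernel

theorem chkI_u : S.chkI .u = true := by decide +kernel

theorem chkI (x : Cfsg.Spor.Th.Gen) : S.chkI x = true := by
  cases x
  · exact chkI_a
  · exact chkI_b
  · exact chkI_c
  · exact chkI_d
  · exact chkI_e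
  · exact chkI_s
  · exact chkI_t
  · exact chkI_u

/-- The word of the relator number `i`. -/
def rw' (i : ℕ) : List Ltr := S.word (flat (thWs.getD i .one) false)

end Cfsg.Agent.BabyM.WordsTh0
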